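import Mathlib.RingTheory.IntegralDomain
import Mathlib.Algebra.Ring.Subring.Basic
import Mathlib.FieldTheory.Finite.Basic

set_option autoImplicit false

/-! A commuting irreducible family of endomorphisms of a finite abelian group generates a field. -/

namespace Cfsg.Agent.PF

universe u v

section F

variable {A : Type u} {ι : Type v} [AddCommGroup A] [Finite A] [Nontrivial A]
  (c : ι → AddMonoid.End A)

/-- the ring generated by the family -/
abbrev genRing : Subring (AddMonoid.End A) := Subring.closure (Set.range c)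

variable (hcomm : ∀ i j, c i * c j = c j * c i)
  (hirr : ∀ X : AddSubgroup A, (∀ i, ∀ x ∈ X, c i x ∈ X) → X = ⊥ ∨ X = ⊤)

include hcomm in
theorem genRing_comm {s t : AddMonoid.End A} (hs : s ∈ genRing c) (ht : t ∈ genRing c) :
    s * t = t * s := by
  induction hs, ht using Subring.closure_induction₂ with
  | mem_mem x y hx hy =>
    obtain ⟨i, rfl⟩ := hx
    obtain ⟨j, rfl⟩ := hy
    exact hcomm i j
  | zero_left x _ => rw [zero_mul, mul_zero]
  | zero_right x _ => rw [zero_mul, mul_zero]
  | one_left x _ => rw [one_mul, mul_one]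
  | one_right x _ => rw [one_mul, mul_one]
  | neg_left x y _ _ h => rw [neg_mul, mul_neg, h]
  | neg_right x y _ _ h => rw [neg_mul, mul_neg, h]
  | add_left x y z _ _ _ h1 h2 => rw [add_mul, mul_add, h1, h2]
  | add_right x y z _ _ _ h1 h2 => rw [add_mul, mul_add, h1, h2]
  | mul_left x y z _ _ _ h1 h2 => rw [mul_assoc, h2, ← mul_assoc, h1, mul_assoc]
  | mul_right x y z _ _ _ h1 h2 => rw [← mul_assoc, h1, mul_assoc, h2, mul_assoc]

include hcomm hirr in
theorem genRing_inj {s : AddMonoid.End A} (hs : s ∈ genRing c) (h0 : s ≠ 0) {v : A}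
    (hv : s v = 0) : v = 0 := by
  have h1 : ∀ i, ∀ x ∈ s.ker, c i x ∈ s.ker := by
    intro i x hx
    have hc : c i ∈ genRing c := Subring.subset_closure ⟨i, rfl⟩
    have := genRing_comm c hcomm hs hc
    have h2 := congrArg (fun f : AddMonoid.End A => f x) this
    show s (c i x) = 0
    have h3 : s (c i x) = c i (s x) := h2
    rw [h3, (show s x = 0 from hx), map_zero]
  rcases hirr s.ker h1 with h | h
  · have : v ∈ s.ker := hv
    rw [h] at this
    exact this
  · exfalso
    apply h0
    ext x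
    have : x ∈ s.ker := by rw [h]; trivial
    exact this

include hirr in
theorem genRing_surj {v : A} (hv : v ≠ 0) (a : A) : ∃ s ∈ genRing c, s v = a := by
  let X : AddSubgroup A :=
    { carrier := {a | ∃ s ∈ genRing c, s v = a}
      zero_mem' := ⟨0, zero_mem _, rfl⟩
      add_mem' := by
        rintro _ _ ⟨s, hs, rfl⟩ ⟨t, ht, rfl⟩
        exact ⟨s + t, add_mem hs ht, rfl⟩
      neg_mem' := by
        rintro _ ⟨s, hs, rfl⟩
        exact ⟨-s, neg_mem hs, rfl⟩ }
  have h1 : ∀ i, ∀ x ∈ X, c i x ∈ X := by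
    rintro i _ ⟨s, hs, rfl⟩
    exact ⟨c i * s, mul_mem (Subring.subset_closure ⟨i, rfl⟩) hs, rfl⟩
  have h2 : v ∈ X := ⟨1, one_mem _, rfl⟩
  rcases hirr X h1 with h | h
  · rw [h] at h2
    exact absurd h2 hv
  · have : a ∈ X := by rw [h]; trivial
    exact this

include hcomm hirr in
theorem genRing_isField : IsField (genRing c) := by
  obtain ⟨v, hv⟩ := exists_ne (0 : A)
  refine ⟨⟨0, 1, ?_⟩, ?_, ?_⟩
  · intro h
    apply hv
    have := congrArg (fun f : genRing c => f.1 v) h
    exact this.symm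
  · rintro ⟨f, hf⟩ ⟨g, hg⟩
    exact Subtype.ext (genRing_comm c hcomm hf hg)
  · rintro ⟨s, hs⟩ h0
    have h0' : s ≠ 0 := fun h => h0 (Subtype.ext h)
    have hsv : s v ≠ 0 := fun h => hv (genRing_inj c hcomm hirr hs h0' h)
    obtain ⟨t, ht, hts⟩ := genRing_surj c hirr hsv v
    refine ⟨⟨t, ht⟩, Subtype.ext ?_⟩
    show s * t = 1
    rw [genRing_comm c hcomm hs ht]
    by_contra h
    have h1 : t * s - 1 ∈ genRing c := sub_mem (mul_mem ht hs) (one_mem _)
    refine hv (genRing_inj c hcomm hirr h1 (sub_ne_zero.2 h) ?_)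
    show t (s v) - v = 0
    rw [hts, sub_self]

include hcomm hirr in
theorem genRing_card : Nat.card (genRing c) = Nat.card A := by
  obtain ⟨v, hv⟩ := exists_ne (0 : A)
  refine Nat.card_congr (Equiv.ofBijective (fun s : genRing c => s.1 v) ⟨?_, ?_⟩)
  · intro s t hst
    by_contra hne
    have h1 : (s : AddMonoid.End A) - t ∈ genRing c := sub_mem s.2 t.2
    refine hv (genRing_inj c hcomm hirr h1 (sub_ne_zero.2 fun h => hne (Subtype.ext h)) ?_)
    show (s : AddMonoid.End A) v - (t : AddMonoid.End A) v = 0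
    exact sub_eq_zero.2 hst
  · intro a
    obtain ⟨s, hs, h⟩ := genRing_surj c hirr hv a
    exact ⟨⟨s, hs⟩, h⟩

end F

end Cfsg.Agent.PF
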