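import Cfsg.Agent.PF.Data

set_option autoImplicit false

/-! `IsOfTypeF ↥D` read in the ambient group, for any complement of `D_F`. -/

namespace Cfsg.Agent.PF

open Subgroup
open Cfsg.Agent.L (cj nz SylIn)
open Cfsg.Agent.H14 (IsPiSub)
open Cfsg.Agent.OOT
open Cfsg.Agent.H21
open scoped Pointwise

universe u
variable {G : Type u} [Group G]

theorem exponent_map_subtype {D : Subgroup G} (U : Subgroup ↥D) :
    Monoid.exponent (U.map D.subtype : Subgroup G) = Monoid.exponent U :=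
  (Monoid.exponent_eq_of_mulEquiv (U.equivMapOfInjective _ D.subtype_injective)).symm

theorem exponent_cj (g : G) (U : Subgroup G) : Monoid.exponent (cj g U) = Monoid.exponent U :=
  (Monoid.exponent_eq_of_mulEquiv (U.equivMapOfInjective _ (MulAut.conj g).injective)).symm

theorem isComplIn_of_isComplement' {D : Subgroup G} {A B : Subgroup ↥D}
    (h : Subgroup.IsComplement' A B) :
    IsComplIn (A.map D.subtype) (B.map D.subtype) D := by
  refine ⟨Subgroup.map_subtype_le _, Subgroup.map_subtype_le _, ?_, fun m hm => ?_⟩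
  · rw [← Subgroup.map_inf _ _ _ D.subtype_injective, h.disjoint.eq_bot, Subgroup.map_bot]
  · obtain ⟨⟨a, b⟩, e⟩ := h.2 ⟨m, hm⟩
    refine ⟨a, Subgroup.mem_map_of_mem _ a.2, b, Subgroup.mem_map_of_mem _ b.2, ?_⟩
    exact (congrArg Subtype.val e).symm

/-- the conditions in "Frobenius type" for the pair `(H, U)` -/
def IsFPair (H U : Subgroup G) : Prop :=
  (∃ U₁ : Subgroup G, U₁ ≤ U ∧ U ≤ nz U₁ ∧ IsMulCommutative U₁ ∧
      ∀ x ∈ H, x ≠ 1 → U ⊓ centralizer ({x} : Set G) ≤ U₁) ∧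
    (∃ U₀ : Subgroup G, U₀ ≤ U ∧ Monoid.exponent U₀ = Monoid.exponent U ∧
      ∀ u ∈ U₀, u ≠ 1 → ∀ x ∈ H, u * x = x * u → x = 1)

theorem typeF_exists {D : Subgroup G} (hF : IsOfTypeF ↥D) :
    ∃ V : Subgroup G, V ≠ ⊥ ∧ IsComplIn (fittingHallOf D) V D ∧ IsFPair (fittingHallOf D) V := by
  obtain ⟨-, -, -, -, V, h1, h2, ⟨V₁, a1, a2, a3, a4⟩, ⟨V₀, b1, b2, b3⟩⟩ := hF
  refine ⟨V.map D.subtype, ?_, isComplIn_of_isComplement' h2, ⟨V₁.map D.subtype,
    Subgroup.map_mono a1, ?_, ?_, ?_⟩, ⟨V₀.map D.subtype, Subgroup.map_mono b1, ?_, ?_⟩⟩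
  · intro e
    exact h1 ((Subgroup.map_eq_bot_iff_of_injective _ D.subtype_injective).1 e)
  · rintro _ ⟨x, hx, rfl⟩
    exact Subgroup.le_normalizer_map _ (Subgroup.mem_map_of_mem _ (a2 hx))
  · rw [mulComm_iff] at a3 ⊢
    rintro _ ⟨x, hx, rfl⟩ _ ⟨y, hy, rfl⟩
    rw [← map_mul, a3 x hx y hy, map_mul]
  · rintro _ ⟨x, hx, rfl⟩ hx1 _ ⟨⟨y, hy, rfl⟩, hy2⟩
    refine Subgroup.mem_map_of_mem _ (a4 x hx (fun e => hx1 (by rw [e]; rfl)) ⟨hy, ?_⟩)
    exact mem_cent_singleton.2 (Subtype.ext (mem_cent_singleton.1 hy2))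
  · rw [exponent_map_subtype, exponent_map_subtype, b2]
  · rintro _ ⟨u, hu, rfl⟩ hu1 _ ⟨x, hx, rfl⟩ e
    rw [b3 u hu (fun e => hu1 (by rw [e]; rfl)) x hx (Subtype.ext e)]; rfl

theorem isFPair_cj {H U : Subgroup G} (g : G) (h : IsFPair H U) : IsFPair (cj g H) (cj g U) := by
  obtain ⟨⟨V₁, a1, a2, a3, a4⟩, ⟨V₀, b1, b2, b3⟩⟩ := h
  refine ⟨⟨cj g V₁, L.cj_mono a1, le_nz_cj a2, isMulComm_cj.2 a3, ?_⟩,
    ⟨cj g V₀, L.cj_mono b1, by rw [exponent_cj, exponent_cj, b2], ?_⟩⟩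
  · intro x hx hx1
    have := a4 (g⁻¹ * x * g) (mem_cj.1 hx) (fun e => hx1 (by
      have h2 : g * (g⁻¹ * x * g) * g⁻¹ = g * 1 * g⁻¹ := by rw [e]
      simpa [mul_assoc] using h2))
    have h2 := L.cj_mono (g := g) this
    rw [cj_inf, cj_centralizer_singleton] at h2
    simpa [mul_assoc] using h2
  · intro u hu hu1 x hx e
    have := b3 (g⁻¹ * u * g) (mem_cj.1 hu) (fun e => hu1 (by
      have h2 : g * (g⁻¹ * u * g) * g⁻¹ = g * 1 * g⁻¹ := by rw [e]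
      simpa [mul_assoc] using h2)) (g⁻¹ * x * g) (mem_cj.1 hx) (by
        have h2 : g⁻¹ * (u * x) * g = g⁻¹ * (x * u) * g := by rw [e]
        simpa [mul_assoc] using h2)
    have h2 : g * (g⁻¹ * x * g) * g⁻¹ = g * 1 * g⁻¹ := by rw [this]
    simpa [mul_assoc] using h2

variable [Finite G]

/-- complements of `M_F` in a solvable `D ≥ M_F` are conjugate -/
theorem compl_conj {D H U V : Subgroup G} (hs : Group.IsSolvable D)
    (hc : (Nat.card H).Coprime (H.relIndex D)) (hU : IsComplIn H U D) (hV : IsComplIn H V D) :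
    ∃ d ∈ D, V = cj d U := by
  have key : ∀ V : Subgroup G, IsComplIn H V D → IsPiHallOf {p | ¬ p ∣ Nat.card H} V D := by
    intro V hV
    have hH : IsPiHallOf {p | p ∣ Nat.card H} H D := by
      refine ⟨hV.1, fun p _ hd => hd, fun p hp hd hi => ?_⟩
      exact hp.one_lt.ne' (Nat.eq_one_of_dvd_coprimes hc hd hi)
    exact complIn_hall (fun p hp => Iff.rfl) hV hH
  obtain ⟨d, hd, e⟩ := IsPiHallOf.conj hs (key V hV) (key U hU)
  exact ⟨d, hd, e.symm⟩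

theorem typeF_compl {D U : Subgroup G} (hF : IsOfTypeF ↥D) (hU : IsComplIn (fittingHallOf D) U D) :
    U ≠ ⊥ ∧ IsFPair (fittingHallOf D) U := by
  obtain ⟨V, h1, h2, h3⟩ := typeF_exists hF
  obtain ⟨d, hd, rfl⟩ := compl_conj hF.1 (fhOf_coprime D) h2 hU
  refine ⟨fun e => h1 (cj_eq_bot.1 e), ?_⟩
  have := isFPair_cj d h3
  rwa [L.mem_nz_iff.1 (le_normalizer_fhOf D hd)] at this

theorem IsFPair.fix_eq_bot {H U : Subgroup G} (h : IsFPair H U) (hU : U ≠ ⊥) :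
    H ⊓ centralizer (U : Set G) = ⊥ := by
  obtain ⟨-, ⟨V₀, b1, b2, b3⟩⟩ := h
  have hV : V₀ ≠ ⊥ := by
    rintro rfl
    apply hU
    have e : Monoid.exponent (⊥ : Subgroup G) = 1 := Monoid.exp_eq_one_of_subsingleton
    rw [e] at b2
    rw [Subgroup.eq_bot_iff_forall]
    intro x hx
    have := Monoid.pow_exponent_eq_one (⟨x, hx⟩ : U)
    rw [← b2, pow_one] at this
    exact congrArg Subtype.val this
  obtain ⟨u, hu, hu1⟩ := exists_ne_one hV
  rw [Subgroup.eq_bot_iff_forall]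
  rintro x ⟨hx, hx2⟩
  exact b3 u hu hu1 x hx (mem_cent_iff.1 hx2 u (b1 hu)).symm

/-- In type II, `C_H(U) = 1`. -/
theorem typeII_fix_bot {M W₁ U W₂ : Subgroup G} (hs : Group.IsSolvable M)
    (h : IsTypePWith M W₁ U W₂) (hII : IsOfTypeII M) :
    IsFPair (fittingHallOf M) U ∧ fittingHallOf M ⊓ centralizer (U : Set G) = ⊥ := by
  obtain ⟨a1, a2, a3, a4, a5, a6, a7⟩ := typeII_of hs h hII
  have := (typeF_compl a6 (a7 ▸ h.U_compl)).2
  rw [a7] at this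
  exact ⟨this, this.fix_eq_bot a1⟩

end Cfsg.Agent.PF
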