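import Cfsg.Agent.PF.SecD12

set_option autoImplicit false

/-! Part (D) of the blueprint (PF section 11), final statements (helper22). -/

namespace Cfsg.Agent.PF.BBD

open Subgroup
open Cfsg.Agent.L (cj nz)

universe u
variable {G : Type u} [Group G] [Finite G]

/-- PF (11.9) -/
theorem no_typeIV (hG : IsMinSimpleOddOrder G) {M : Subgroup G} (hM : IsCoatom M) :
    ¬ IsOfTypeIV M := Cfsg.Agent.PF.no_typeIV hG hM

/-- PF section 11, type III: `M_F` is elementary abelian of order `p^q`, `C_U(M_F) = 1`, `p < q`,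
and `U` acts irreducibly on `M_F` ("Galois") and freely. -/
theorem typeIII_main (hG : IsMinSimpleOddOrder G) {M W₁ U W₂ : Subgroup G} (hM : IsCoatom M)
    (h : IsTypePWith M W₁ U W₂) (hIII : IsOfTypeIII M) :
    (Nat.card W₂).Prime ∧ Nat.card W₂ < Nat.card W₁ ∧
    IsElementaryAbelian (Nat.card W₂) (fittingHallOf M) ∧
    Nat.card (fittingHallOf M) = Nat.card W₂ ^ Nat.card W₁ ∧
    U ⊓ centralizer (fittingHallOf M : Set G) = ⊥ ∧
    IsCyclic U ∧
    (∀ u ∈ U, u ≠ 1 → ∀ x ∈ fittingHallOf M, u * x = x * u → x = 1) ∧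
    ∀ X : Subgroup G, X ≤ fittingHallOf M → U ≤ nz X → X = ⊥ ∨ X = fittingHallOf M :=
  typeIII_IV_main hG hM h (Or.inl hIII)

end Cfsg.Agent.PF.BBD
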