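import Cfsg.Agent.H21.FHall
import Cfsg.Agent.H21.OBasic
import Cfsg.Agent.H23.CoprimeHall
import Cfsg.Agent.S3745

set_option autoImplicit false

/-! Basic facts about type-P data `(W₁, U, W₂)`: transport under conjugation, uniqueness up to
conjugation, and the types II-V read off from any choice of data. -/

namespace Cfsg.Agent.PF

open Subgroup
open Cfsg.Agent.L (cj nz SylIn)
open Cfsg.Agent.H14 (IsPiSub)
open Cfsg.Agent.OOT
open Cfsg.Agent.H21
open scoped Pointwise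

universe u
variable {G : Type u} [Group G]

theorem cj_commutator (g : G) (A B : Subgroup G) : ⁅cj g A, cj g B⁆ = cj g ⁅A, B⁆ :=
  (Subgroup.map_commutator A B _).symm

theorem mem_cj {g : G} {A : Subgroup G} {x : G} : x ∈ cj g A ↔ g⁻¹ * x * g ∈ A := L.mem_cj

theorem conj_mem_cj {g : G} {A : Subgroup G} {x : G} : g * x * g⁻¹ ∈ cj g A ↔ x ∈ A := by
  rw [mem_cj]; simp [mul_assoc]

theorem cj_centralizer (g : G) (A : Subgroup G) :
    cj g (centralizer (A : Set G)) = centralizer (cj g A : Set G) := by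
  ext x
  rw [mem_cj, mem_cent_iff, mem_cent_iff]
  constructor
  · intro h y hy
    rw [mem_cj] at hy
    have := h _ hy
    have h2 : g * (g⁻¹ * x * g * (g⁻¹ * y * g)) * g⁻¹ = g * (g⁻¹ * y * g * (g⁻¹ * x * g)) * g⁻¹ := by
      rw [this]
    simpa [mul_assoc] using h2
  · intro h y hy
    have := h (g * y * g⁻¹) (conj_mem_cj.2 hy)
    have h2 : g⁻¹ * (x * (g * y * g⁻¹)) * g = g⁻¹ * (g * y * g⁻¹ * x) * g := by rw [this]
    simpa [mul_assoc] using h2

theorem cj_centralizer_singleton (g x : G) :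
    cj g (centralizer ({x} : Set G)) = centralizer ({g * x * g⁻¹} : Set G) := by
  ext y
  rw [mem_cj, mem_cent_singleton, mem_cent_singleton]
  constructor
  · intro h
    have h2 : g * (g⁻¹ * y * g * x) * g⁻¹ = g * (x * (g⁻¹ * y * g)) * g⁻¹ := by rw [h]
    simpa [mul_assoc] using h2
  · intro h
    have h2 : g⁻¹ * (y * (g * x * g⁻¹)) * g = g⁻¹ * (g * x * g⁻¹ * y) * g := by rw [h]
    simpa [mul_assoc] using h2

theorem cj_inf (g : G) (A B : Subgroup G) : cj g (A ⊓ B) = cj g A ⊓ cj g B := by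
  ext x; rw [mem_cj, Subgroup.mem_inf, Subgroup.mem_inf, mem_cj, mem_cj]

theorem cj_sup (g : G) (A B : Subgroup G) : cj g (A ⊔ B) = cj g A ⊔ cj g B :=
  Subgroup.map_sup A B _

theorem cj_bot (g : G) : cj g (⊥ : Subgroup G) = ⊥ := Subgroup.map_bot _

theorem cj_eq_bot {g : G} {A : Subgroup G} : cj g A = ⊥ ↔ A = ⊥ := by
  constructor
  · intro h
    have := congrArg (cj g⁻¹) h
    rwa [L.cj_inv_cj, cj_bot] at this
  · rintro rfl; exact cj_bot g

theorem isComplIn_cj {A B M : Subgroup G} (g : G) (h : IsComplIn A B M) :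
    IsComplIn (cj g A) (cj g B) (cj g M) := by
  refine ⟨L.cj_mono h.1, L.cj_mono h.2.1, by rw [← cj_inf, h.2.2.1, cj_bot], fun m hm => ?_⟩
  rw [mem_cj] at hm
  obtain ⟨a, ha, b, hb, e⟩ := h.2.2.2 _ hm
  refine ⟨g * a * g⁻¹, conj_mem_cj.2 ha, g * b * g⁻¹, conj_mem_cj.2 hb, ?_⟩
  have : g * (g⁻¹ * m * g) * g⁻¹ = g * (a * b) * g⁻¹ := by rw [e]
  simpa [mul_assoc] using this

theorem isCyclic_cj {g : G} {A : Subgroup G} : IsCyclic (cj g A) ↔ IsCyclic A := by
  have e : A ≃* cj g A := (A.equivMapOfInjective _ (MulAut.conj g).injective)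
  exact ⟨fun h => isCyclic_of_surjective e.symm e.symm.surjective,
    fun h => isCyclic_of_surjective e e.surjective⟩

theorem isNilpotent_cj {g : G} {A : Subgroup G} (h : Group.IsNilpotent A) :
    Group.IsNilpotent (cj g A) := H1.isNilpotent_map _ h

theorem le_nz_cj {g : G} {A B : Subgroup G} (h : A ≤ nz B) : cj g A ≤ nz (cj g B) := by
  rw [L.nz_cj]; exact L.cj_mono h

theorem nz_set_conj (g : G) (X : Set G) :
    normalizer ((fun x => g * x * g⁻¹) '' X) = cj g (normalizer X) := by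
  have key : ∀ (y x : G), g⁻¹ * y * g ∈ X ↔ y ∈ (fun x => g * x * g⁻¹) '' X := by
    intro y _
    constructor
    · intro h
      exact ⟨_, h, by simp [mul_assoc]⟩
    · rintro ⟨x, hx, rfl⟩
      simpa [mul_assoc] using hx
  ext x
  rw [mem_cj, Subgroup.mem_set_normalizer_iff, Subgroup.mem_set_normalizer_iff]
  constructor
  · intro h n
    have := h (g * n * g⁻¹)
    rw [← key _ 1, ← key _ 1] at this
    simpa [mul_assoc] using this
  · intro h n
    have := h (g⁻¹ * n * g)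
    rw [← key _ 1, ← key _ 1]
    simpa [mul_assoc] using this

theorem isSelfNormalizingCyclic_cj {W₁ W₂ : Subgroup G} (g : G)
    (h : IsSelfNormalizingCyclic W₁ W₂) : IsSelfNormalizingCyclic (cj g W₁) (cj g W₂) := by
  obtain ⟨h1, h2, h3, h4, h5, h6⟩ := h
  refine ⟨fun h => h1 (cj_eq_bot.1 h), fun h => h2 (cj_eq_bot.1 h), by rw [← cj_inf, h3, cj_bot],
    ?_, by rw [← cj_sup, isCyclic_cj]; exact h5, ?_⟩
  · intro a ha b hb
    rw [mem_cj] at ha hb
    have := h4 _ ha _ hb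
    have h2 : g * (g⁻¹ * a * g * (g⁻¹ * b * g)) * g⁻¹ = g * (g⁻¹ * b * g * (g⁻¹ * a * g)) * g⁻¹ := by
      rw [this]
    simpa [mul_assoc] using h2
  · intro X hX hne
    rw [← cj_sup] at hX ⊢
    have hX' : X = (fun x => g * x * g⁻¹) '' ((fun x => g⁻¹ * x * g) '' X) := by
      rw [Set.image_image]
      simp [mul_assoc]
    have := h6 ((fun x => g⁻¹ * x * g) '' X) ?_ (hne.image _)
    · rw [hX', nz_set_conj, this]
    · rintro _ ⟨x, hx, rfl⟩
      obtain ⟨m1, m2⟩ := hX hx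
      refine ⟨mem_cj.1 m1, ?_⟩
      rintro (h | h)
      · exact m2 (Or.inl (mem_cj.2 h))
      · exact m2 (Or.inr (mem_cj.2 h))

variable [Finite G]
variable {M W₁ U W₂ W₁' U' W₂' : Subgroup G}

theorem isTypePWith_cj (g : G) (h : IsTypePWith M W₁ U W₂) :
    IsTypePWith (cj g M) (cj g W₁) (cj g U) (cj g W₂) := by
  have eF : fittingHallOf (cj g M) = cj g (fittingHallOf M) := (cj_fhOf M g).symm
  have eFi : fittingOf (cj g M) = cj g (fittingOf M) := (cj_fittingOf M g).symm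
  constructor
  · exact fun e => h.W₁_ne (cj_eq_bot.1 e)
  · exact isCyclic_cj.2 h.W₁_cyclic
  · rw [L.card_cj, L.relIndex_cj]; exact h.W₁_hall
  · rw [cj_commutator]; exact isComplIn_cj g h.W₁_compl
  · exact isNilpotent_cj h.U_nilpotent
  · exact le_nz_cj h.U_normal
  · rw [cj_commutator, eF]; exact isComplIn_cj g h.U_compl
  · rw [eF, isCyclic_cj]; exact h.H_not_cyclic
  · rw [cj_commutator, cj_commutator, eF, ← cj_centralizer, ← cj_inf, ← cj_sup]
    exact L.cj_mono h.derived_two_le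
  · rw [eF, ← cj_centralizer, ← cj_inf, ← cj_sup, eFi, h.fitting_eq]
  · rw [eFi, cj_commutator]; exact L.cj_mono h.fitting_le
  · rw [cj_commutator, cj_commutator, eF, ← cj_inf]; exact L.cj_mono h.W₂_le
  · intro x hx hx1
    rw [mem_cj] at hx
    have := h.W₂_centralizer _ hx (fun e => hx1 (by
      have h2 : g * (g⁻¹ * x * g) * g⁻¹ = g * 1 * g⁻¹ := by rw [e]
      simpa [mul_assoc] using h2))
    rw [← this, cj_inf, cj_commutator, cj_centralizer_singleton]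
    simp [mul_assoc]
  · exact isSelfNormalizingCyclic_cj g h.selfNormalizing

omit [Finite G] in
theorem _root_.Cfsg.IsTypePWith.W₁_le (h : IsTypePWith M W₁ U W₂) : W₁ ≤ M := h.W₁_compl.2.1

omit [Finite G] in
theorem _root_.Cfsg.IsTypePWith.U_le' (h : IsTypePWith M W₁ U W₂) : U ≤ ⁅M, M⁆ := h.U_compl.2.1

omit [Finite G] in
theorem commutator_le_self (M : Subgroup G) : ⁅M, M⁆ ≤ M := Subgroup.commutator_le_self M

omit [Finite G] in
theorem _root_.Cfsg.IsTypePWith.U_le (h : IsTypePWith M W₁ U W₂) : U ≤ M :=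
  h.U_le'.trans (commutator_le_self M)

omit [Finite G] in
theorem _root_.Cfsg.IsTypePWith.H_le' (h : IsTypePWith M W₁ U W₂) : fittingHallOf M ≤ ⁅M, M⁆ :=
  h.U_compl.1

omit [Finite G] in
theorem _root_.Cfsg.IsTypePWith.W₂_le_H (h : IsTypePWith M W₁ U W₂) : W₂ ≤ fittingHallOf M :=
  h.W₂_le.trans inf_le_left

omit [Finite G] in
theorem _root_.Cfsg.IsTypePWith.W₂_le' (h : IsTypePWith M W₁ U W₂) : W₂ ≤ ⁅M, M⁆ :=
  h.W₂_le_H.trans h.H_le'

omit [Finite G] in
theorem _root_.Cfsg.IsTypePWith.W₂_le_M (h : IsTypePWith M W₁ U W₂) : W₂ ≤ M :=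
  h.W₂_le'.trans (commutator_le_self M)

theorem _root_.Cfsg.IsTypePWith.card_M (h : IsTypePWith M W₁ U W₂) :
    Nat.card ↥⁅M, M⁆ * Nat.card W₁ = Nat.card M := complIn_card h.W₁_compl

theorem _root_.Cfsg.IsTypePWith.card_M' (h : IsTypePWith M W₁ U W₂) :
    Nat.card (fittingHallOf M) * Nat.card U = Nat.card ↥⁅M, M⁆ := complIn_card h.U_compl

/-- `|W₁|` is prime to `|M'|`. -/
theorem _root_.Cfsg.IsTypePWith.coprime_W₁ (h : IsTypePWith M W₁ U W₂) :
    (Nat.card W₁).Coprime (Nat.card ↥⁅M, M⁆) := by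
  have := h.W₁_hall
  rwa [complIn_relIndex_right h.W₁_compl] at this

theorem _root_.Cfsg.IsTypePWith.coprime_HU (h : IsTypePWith M W₁ U W₂) :
    (Nat.card (fittingHallOf M)).Coprime (Nat.card U) := by
  have h1 := fhOf_coprime M
  have h2 : (fittingHallOf M).relIndex ⁅M, M⁆ ∣ (fittingHallOf M).relIndex M :=
    ⟨_, (Subgroup.relIndex_mul_relIndex _ _ _ h.H_le' (commutator_le_self M)).symm⟩
  rw [complIn_relIndex_left h.U_compl] at h2
  exact Nat.Coprime.coprime_dvd_right h2 h1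

theorem _root_.Cfsg.IsTypePWith.coprime_HW₁ (h : IsTypePWith M W₁ U W₂) :
    (Nat.card (fittingHallOf M)).Coprime (Nat.card W₁) :=
  (Nat.Coprime.coprime_dvd_right (Subgroup.card_dvd_of_le h.H_le') h.coprime_W₁).symm

theorem _root_.Cfsg.IsTypePWith.coprime_UW₁ (h : IsTypePWith M W₁ U W₂) :
    (Nat.card U).Coprime (Nat.card W₁) :=
  (Nat.Coprime.coprime_dvd_right (Subgroup.card_dvd_of_le h.U_le') h.coprime_W₁).symm

/-- `W₁` is a Hall subgroup. -/
theorem _root_.Cfsg.IsTypePWith.W₁_isPiHall (h : IsTypePWith M W₁ U W₂) :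
    IsPiHallOf {p | p ∣ Nat.card W₁} W₁ M := by
  refine ⟨h.W₁_le, fun p _ hd => hd, fun p hp hd hi => ?_⟩
  exact hp.one_lt.ne' (Nat.eq_one_of_dvd_coprimes h.W₁_hall hd hi)

theorem _root_.Cfsg.IsTypePWith.U_isPiHall (h : IsTypePWith M W₁ U W₂) :
    IsPiHallOf {p | p ∣ Nat.card U} U ⁅M, M⁆ := by
  refine ⟨h.U_le', fun p _ hd => hd, fun p hp hd hi => ?_⟩
  rw [complIn_relIndex_right h.U_compl] at hi
  exact hp.one_lt.ne' (Nat.eq_one_of_dvd_coprimes h.coprime_HU hi hd)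

omit [Finite G] in
theorem le_nz_commutator (M : Subgroup G) : M ≤ nz ⁅M, M⁆ := by
  intro x hx
  rw [L.mem_nz_iff, ← cj_commutator, L.cj_eq_self_of_mem hx]

theorem card_W₁_eq (h : IsTypePWith M W₁ U W₂) (h' : IsTypePWith M W₁' U' W₂') :
    Nat.card W₁ = Nat.card W₁' := by
  have := h.card_M.trans h'.card_M.symm
  exact Nat.eq_of_mul_eq_mul_left Nat.card_pos this

theorem card_U_eq (h : IsTypePWith M W₁ U W₂) (h' : IsTypePWith M W₁' U' W₂') :
    Nat.card U = Nat.card U' := by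
  have := h.card_M'.trans h'.card_M'.symm
  exact Nat.eq_of_mul_eq_mul_left Nat.card_pos this

/-- Two choices of type-P data of a solvable group are conjugate. -/
theorem data_conj (hs : Group.IsSolvable M) (h : IsTypePWith M W₁ U W₂)
    (h' : IsTypePWith M W₁' U' W₂') :
    ∃ m ∈ M, W₁' = cj m W₁ ∧ U' = cj m U ∧ W₂' = cj m W₂ := by
  have a2 := h.W₁_isPiHall
  have a1 := h'.W₁_isPiHall
  rw [← card_W₁_eq h h'] at a1
  obtain ⟨m, hm, e1⟩ := IsPiHallOf.conj hs a1 a2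
  have hm' := isTypePWith_cj m h
  rw [L.cj_eq_self_of_mem hm, e1] at hm'
  have b1 := h'.U_isPiHall
  have b2 := hm'.U_isPiHall
  rw [← card_U_eq h' hm'] at b2
  have hs' : Group.IsSolvable ↥⁅M, M⁆ := H1.isSolvable_of_le (commutator_le_self M) hs
  obtain ⟨c, hc, e2⟩ := (S3745.result W₁' ⁅M, M⁆ (h'.W₁_le.trans (le_nz_commutator M))
    h'.coprime_W₁ hs' {p | p ∣ Nat.card U'}).2.1 _ _ b2 hm'.U_normal b1 h'.U_normal
  have hc2 : cj c W₁' = W₁' := by
    rw [← L.mem_nz_iff]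
    exact cent_le_nz W₁' hc.2
  refine ⟨c * m, mul_mem (commutator_le_self M hc.1) hm, ?_, ?_, ?_⟩
  · rw [← L.cj_cj, e1, hc2]
  · rw [← L.cj_cj]; exact e2
  · have hcm := isTypePWith_cj (c * m) h
    rw [L.cj_eq_self_of_mem (mul_mem (commutator_le_self M hc.1) hm), ← L.cj_cj, ← L.cj_cj,
      ← L.cj_cj, e1, hc2] at hcm
    obtain ⟨x, hx, hx1⟩ := exists_ne_one h'.W₁_ne
    rw [← L.cj_cj, ← h'.W₂_centralizer x hx hx1, ← hcm.W₂_centralizer x hx hx1]

omit [Finite G] in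
theorem isMulComm_cj {g : G} {A : Subgroup G} :
    IsMulCommutative (cj g A) ↔ IsMulCommutative A := by
  rw [mulComm_iff, mulComm_iff]
  constructor
  · intro h a ha b hb
    have := h _ (conj_mem_cj (g := g).2 ha) _ (conj_mem_cj (g := g).2 hb)
    have h2 : g⁻¹ * (g * a * g⁻¹ * (g * b * g⁻¹)) * g = g⁻¹ * (g * b * g⁻¹ * (g * a * g⁻¹)) * g := by
      rw [this]
    simpa [mul_assoc] using h2
  · intro h a ha b hb
    rw [mem_cj] at ha hb
    have := h _ ha _ hb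
    have h2 : g * (g⁻¹ * a * g * (g⁻¹ * b * g)) * g⁻¹ = g * (g⁻¹ * b * g * (g⁻¹ * a * g)) * g⁻¹ := by
      rw [this]
    simpa [mul_assoc] using h2

omit [Finite G] in
theorem nz_le_cj_iff {m : G} (hm : m ∈ M) {A : Subgroup G} : nz (cj m A) ≤ M ↔ nz A ≤ M := by
  rw [L.nz_cj]
  constructor
  · intro h
    have := L.cj_mono (g := m⁻¹) h
    rwa [L.cj_inv_cj, L.cj_eq_self_of_mem (inv_mem hm)] at this
  · intro h
    have := L.cj_mono (g := m) h
    rwa [L.cj_eq_self_of_mem hm] at this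

/-- Type II read off from any choice of the data. -/
theorem typeII_of (hs : Group.IsSolvable M) (h : IsTypePWith M W₁ U W₂) (hII : IsOfTypeII M) :
    U ≠ ⊥ ∧ (Nat.card W₁).Prime ∧ IsTISubset (fittingOf M : Set G) ∧ IsMulCommutative U ∧
      ¬ nz U ≤ M ∧ IsOfTypeF ↥⁅M, M⁆ ∧ fittingHallOf ⁅M, M⁆ = fittingHallOf M := by
  obtain ⟨W₁', U', W₂', h', a1, a2, a3, a4, a5, a6, a7⟩ := hII
  obtain ⟨m, hm, rfl, rfl, rfl⟩ := data_conj hs h h'
  exact ⟨fun e => a1 (cj_eq_bot.2 e), by rwa [L.card_cj] at a2, a3, isMulComm_cj.1 a4,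
    fun e => a5 ((nz_le_cj_iff hm).2 e), a6, a7⟩

/-- Type III read off from any choice of the data. -/
theorem typeIII_of (hs : Group.IsSolvable M) (h : IsTypePWith M W₁ U W₂) (hIII : IsOfTypeIII M) :
    U ≠ ⊥ ∧ (Nat.card W₁).Prime ∧ IsTISubset (fittingOf M : Set G) ∧ IsMulCommutative U ∧
      nz U ≤ M := by
  obtain ⟨W₁', U', W₂', h', a1, a2, a3, a4, a5⟩ := hIII
  obtain ⟨m, hm, rfl, rfl, rfl⟩ := data_conj hs h h'
  exact ⟨fun e => a1 (cj_eq_bot.2 e), by rwa [L.card_cj] at a2, a3, isMulComm_cj.1 a4,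
    (nz_le_cj_iff hm).1 a5⟩

/-- Type IV read off from any choice of the data. -/
theorem typeIV_of (hs : Group.IsSolvable M) (h : IsTypePWith M W₁ U W₂) (hIV : IsOfTypeIV M) :
    U ≠ ⊥ ∧ (Nat.card W₁).Prime ∧ IsTISubset (fittingOf M : Set G) ∧ ¬ IsMulCommutative U ∧
      nz U ≤ M := by
  obtain ⟨W₁', U', W₂', h', a1, a2, a3, a4, a5⟩ := hIV
  obtain ⟨m, hm, rfl, rfl, rfl⟩ := data_conj hs h h'
  exact ⟨fun e => a1 (cj_eq_bot.2 e), by rwa [L.card_cj] at a2, a3,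
    fun e => a4 (isMulComm_cj.2 e), (nz_le_cj_iff hm).1 a5⟩

/-- Type V read off from any choice of the data. -/
theorem typeV_of (hs : Group.IsSolvable M) (h : IsTypePWith M W₁ U W₂) (hV : IsOfTypeV M) :
    U = ⊥ ∧
    ( IsTISubset (fittingHallOf M : Set G) ∨
      (∃ p : ℕ, p.Prime ∧ p ∣ Nat.card (fittingHallOf M) ∧ Nat.card W₁ ∣ p - 1 ∧
        IsCyclic (pPrimeCore p (fittingHallOf M))) ∨
      (∃ p : ℕ, p.Prime ∧ p ∣ Nat.card (fittingHallOf M) ∧
        Nat.card (pCore p (fittingHallOf M)) = p ^ 3 ∧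
        Nat.card W₁ ∣ p + 1 ∧ IsCyclic (pPrimeCore p (fittingHallOf M))) ) := by
  obtain ⟨W₁', U', W₂', h', a1, a2⟩ := hV
  obtain ⟨m, hm, rfl, rfl, rfl⟩ := data_conj hs h h'
  rw [L.card_cj] at a2
  exact ⟨cj_eq_bot.1 a1, a2⟩

end Cfsg.Agent.PF
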