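import Cfsg.Agent.PF.SecC19

set_option autoImplicit false

/-! PF (10.10), (10.11) -/

namespace Cfsg.Agent.PF

open Subgroup
open Cfsg.Agent.L (cj nz SylIn)
open Cfsg.Agent.H3 hiding cj
open Cfsg.Agent.H21 (exists_ne_one le_normalizer_fhOf fhOf_nilpotent)

universe u

/-- (10.10) -/
theorem no_typeV' {G : Type u} [Group G] [Finite G] (hG : IsMinSimpleOddOrder G) {M : Subgroup G}
    (hM : IsCoatom M) : ¬ IsOfTypeV M := by
  classical
  intro hV
  have hI := not_wtypeI_of_V hG hM hV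
  obtain ⟨⟨W₁, U, W₂, hP⟩, -⟩ := exists_typeP_data hG hM hI
  haveI := Fintype.ofFinite G
  haveI := Fintype.ofFinite ↥M
  have h : Typ345 M := Or.inr (Or.inr hV)
  have hs := OOT.coatom_sol hG hM
  obtain ⟨η, hη⟩ := Cfsg.Agent.S1502.result W₁ W₂ hP.selfNormalizing
    (Odd.of_dvd_nat hG.1 (Subgroup.card_subgroup_dvd_card _))
  obtain ⟨μ, δ, F⟩ := exists_frame hG hM hP hη
  obtain ⟨d, e, n, T⟩ := exists_ten F h
  have hH := typ345_H hG hM hV hP
  have hnil : Group.IsNilpotent ↥⁅M, M⁆ := by rw [← hH]; exact fhOf_nilpotent M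
  have hnilK : Group.IsNilpotent ↥(commutator ↥M) := by
    rw [commutator_eq_subgroupOf]
    have e := Subgroup.subgroupOfEquivOfLe (commutator_le_self M)
    exact Group.nilpotent_of_mulEquiv e.symm
  have hK := F.card_K
  -- a dichotomy
  have key : ∀ p : ℕ, p.Prime → p ∣ Nat.card ↥⁅M, M⁆ →
      (∃ m : ℕ, Nat.card ↥⁅M, M⁆ = p ^ m) ∨
      (¬ ∃ q m : ℕ, q.Prime ∧ Nat.card ↥(commutator ↥M) = q ^ m) := by
    intro p hp hpd
    by_cases hq : ∃ q m : ℕ, q.Prime ∧ Nat.card ↥(commutator ↥M) = q ^ m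
    · obtain ⟨q, m, hq, hqm⟩ := hq
      rw [hK] at hqm
      rw [hqm] at hpd
      have := (Nat.prime_dvd_prime_iff_eq hp hq).1 (hp.dvd_of_dvd_pow hpd)
      subst this
      exact Or.inl ⟨m, hqm⟩
    · exact Or.inr hq
  have hVd := (typeV_of hs hP hV).2
  rw [hH] at hVd
  rcases hVd with hTI | ⟨p, hp, hpd, hw, -⟩ | ⟨p, hp, hpd, h3, hw, -⟩
  · obtain ⟨τ₁, h₁⟩ := coh_TI F h T.prime hnil hTI
    exact ten8 F h (h₁.isCoherent (SM_nonzero F h))
  · rcases key p hp hpd with ⟨m, hm⟩ | hno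
    · exact ten8 F h (coh_1521 F h hnilK (Or.inr ⟨p, m, hp, by rw [hK, hm], hw⟩))
    · exact ten8 F h (coh_1521 F h hnilK (Or.inl hno))
  · rcases key p hp hpd with ⟨m, hm⟩ | hno
    · have htop : pCore p ↥⁅M, M⁆ = ⊤ := by
        rw [eq_top_iff]
        refine le_sSup ⟨inferInstance, ?_⟩
        haveI : Fact p.Prime := ⟨hp⟩
        exact IsPGroup.of_card (n := m) (by rw [Subgroup.card_top, hm])
      rw [htop, Subgroup.card_top] at h3
      obtain ⟨τ₁, h₁⟩ := pcube_coh T hp h3 hw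
      exact ten8 F h (h₁.isCoherent (SM_nonzero F h))
    · exact ten8 F h (coh_1521 F h hnilK (Or.inl hno))

/-- (10.11) -/
theorem pair_types {G : Type u} [Group G] [Finite G] (hG : IsMinSimpleOddOrder G)
    {M W₁ U W₂ : Subgroup G} (hM : IsCoatom M) (hP : IsTypePWith M W₁ U W₂) :
    (IsOfTypeII M ∨ IsOfTypeIII M ∨ IsOfTypeIV M) ∧ (Nat.card W₁).Prime ∧ (Nat.card W₂).Prime ∧
      Nat.card W₁ ≠ Nat.card W₂ ∧ Nat.card W₁ ≠ 2 ∧ Nat.card W₂ ≠ 2 := by
  have key : ∀ {N A B C : Subgroup G}, IsCoatom N → IsTypePWith N A B C →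
      (IsOfTypeII N ∨ IsOfTypeIII N ∨ IsOfTypeIV N ∨ IsOfTypeV N) →
      (IsOfTypeII N ∨ IsOfTypeIII N ∨ IsOfTypeIV N) ∧ (Nat.card A).Prime ∧ Nat.card A ≠ 2 := by
    intro N A B C hN hNP ht
    have hs := OOT.coatom_sol hG hN
    have h1 : IsOfTypeII N ∨ IsOfTypeIII N ∨ IsOfTypeIV N := by
      rcases ht with h | h | h | h
      · exact Or.inl h
      · exact Or.inr (Or.inl h)
      · exact Or.inr (Or.inr h)
      · exact absurd h (no_typeV' hG hN)
    refine ⟨h1, ?_, ?_⟩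
    · rcases h1 with h | h | h
      · exact (typeII_of hs hNP h).2.1
      · exact (typeIII_of hs hNP h).2.1
      · exact (typeIV_of hs hNP h).2.1
    · intro h2
      have h3 : Odd (Nat.card A) := Odd.of_dvd_nat hG.1 (Subgroup.card_subgroup_dvd_card _)
      rw [h2] at h3
      exact absurd h3 (by decide)
  obtain ⟨T, V, hT, hTP, -, -, hM4, hT4⟩ := exists_partner hG hM hP
  obtain ⟨a1, a2, a3⟩ := key hM hP hM4
  obtain ⟨-, b2, b3⟩ := key hT hTP hT4
  refine ⟨a1, a2, b2, ?_, a3, b3⟩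
  intro h
  have h1 := W_coprime hP
  rw [← h, Nat.coprime_self] at h1
  exact a2.one_lt.ne' h1

end Cfsg.Agent.PF
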