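import Cfsg.Agent.PF.TypesW
import Cfsg.Prelude.Def_OddOrderChar

set_option autoImplicit false

/-! The Dade hypothesis for `A₁(M)`, `A(M)`, `A₀(M)`, all maximal subgroups `M` (S1537), and the
TI-property for type II (S1538), from the weak form of S1391. -/

namespace Cfsg.Agent.PF

open Subgroup
open Cfsg.Agent.L (cj nz SylIn)
open Cfsg.Agent.H14 (IsPiSub)
open Cfsg.Agent.OOT
open Cfsg.Agent.H21
open Cfsg.Agent.H2 (WTypeI wA wA_eq)
open scoped Pointwise

universe u
variable {G : Type u} [Group G]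

/-- if `C_G(x)` lies in a unique maximal subgroup, this is `R(x)` -/
theorem supportR_eq_of_uniq {M L : Subgroup G} {x : G} (hx : ¬ centralizer ({x} : Set G) ≤ M)
    (hL : IsCoatom L) (hxL : centralizer ({x} : Set G) ≤ L)
    (hu : ∃! L : Subgroup G, IsCoatom L ∧ centralizer ({x} : Set G) ≤ L) :
    supportR M x = fittingHallOf L ⊓ centralizer ({x} : Set G) := by
  rw [supportR, dif_pos ⟨hx, hu⟩]
  have h1 := Classical.choose_spec hu.exists
  have h2 := hu.unique h1 ⟨hL, hxL⟩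
  rw [h2]

theorem supportR_eq_bot_of_le {M : Subgroup G} {a : G} (h : centralizer ({a} : Set G) ≤ M) :
    supportR M a = ⊥ := by
  rw [supportR, dif_neg]
  rintro ⟨h1, -⟩
  exact h1 h

variable [Finite G] (hG : IsMinSimpleOddOrder G)
variable {M W₁ U W₂ : Subgroup G} (hM : IsCoatom M)

/-- the largest set with the Dade hypothesis -/
noncomputable def wX (M : Subgroup G) : Set G :=
  haveI := Classical.propDecidable (WTypeI M)
  if WTypeI M then wA M else typeA0 M

include hG hM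

theorem typeA_sub_wX : typeA M ⊆ wX M := by
  classical
  rintro a ha
  by_cases hW : WTypeI M
  · rw [wX, if_pos hW]
    by_cases hI : IsOfTypeI M
    · rwa [wA_eq hI] at ha
    · rw [typeA, if_neg hI] at ha
      obtain ⟨h1, h2, x, h3, h4, h5⟩ := ha
      rw [typeCore, if_neg (fun h => not_wtypeI_of_III hG hM h hW)] at h3
      exact ⟨commutator_le_self M h1, h2, x, h3, h4, h5⟩
  · rw [wX, if_neg hW]
    exact Or.inl ha

theorem typeA0_sub_wX : typeA0 M ⊆ wX M := by
  classical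
  rintro a ha
  by_cases hW : WTypeI M
  · rcases ha with ha | ⟨-, W₁, U, W₂, hP, -⟩
    · exact typeA_sub_wX hG hM ha
    · exact absurd hW (not_wtypeI_of_P hG hM hP)
  · rw [wX, if_neg hW]
    exact ha

theorem wX_cases : (WTypeI M ∧ wX M = wA M) ∨ (¬ WTypeI M ∧ (wX M = typeA M ∨ wX M = typeA0 M)) := by
  classical
  by_cases hW : WTypeI M
  · exact Or.inl ⟨hW, by rw [wX, if_pos hW]⟩
  · exact Or.inr ⟨hW, Or.inr (by rw [wX, if_neg hW])⟩

/-- Dade hypothesis for `M`-invariant subsets -/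
theorem dade_of_sub {A : Set G} (hA : A ⊆ wX M) (hAM : A ⊆ (M : Set G)) (hA1 : (1 : G) ∉ A)
    (hinv : ∀ m ∈ M, ∀ a ∈ A, m * a * m⁻¹ ∈ A) : DadeHypothesis A M (supportR M) := by
  obtain ⟨h1, h2, h3⟩ := row1391w' hG hM (wX_cases hG hM)
  have key : ∀ a ∈ A, centralizer ({a} : Set G) ≤ M ∧ supportR M a = ⊥ ∨
      ¬ centralizer ({a} : Set G) ≤ M ∧ ∃ L : Subgroup G, IsCoatom L ∧
        centralizer ({a} : Set G) ≤ L ∧
        supportR M a = fittingHallOf L ⊓ centralizer ({a} : Set G) := by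
    intro a ha
    by_cases hc : centralizer ({a} : Set G) ≤ M
    · exact Or.inl ⟨hc, supportR_eq_bot_of_le hc⟩
    · obtain ⟨-, hu⟩ := h2 a (hA ha) hc
      obtain ⟨L, hL, hLa⟩ := hu.exists
      exact Or.inr ⟨hc, L, hL, hLa, supportR_eq_of_uniq hc hL hLa hu⟩
  refine ⟨hA1, hAM, fun x hx a ha => hinv x hx a ha, fun a ha g hg => h1 a (hA ha) g (hA hg),
    ?_, ?_, ?_, ?_, ?_⟩
  · intro a ha
    rcases key a ha with ⟨-, h⟩ | ⟨-, L, -, -, h⟩ <;> rw [h]
    · exact bot_le
    · exact inf_le_right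
  · intro a ha c hc u hu
    rcases key a ha with ⟨-, h⟩ | ⟨hc', L, hL, hLa, h⟩ <;> rw [h] at hu ⊢
    · rw [mem_bot] at hu ⊢
      rw [hu]; group
    · have := (h3 a (hA ha) hc' L hL hLa).2.1 hc
      exact (mem_normalizer_iff.1 this u).1 hu
  · intro a ha
    rcases key a ha with ⟨-, h⟩ | ⟨hc', L, hL, hLa, h⟩ <;> rw [h]
    · exact bot_inf_eq _
    · exact (h3 a (hA ha) hc' L hL hLa).2.2.1.2.2.1
  · intro a ha
    rcases key a ha with ⟨hc', h⟩ | ⟨hc', L, hL, hLa, h⟩ <;> rw [h]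
    · rw [bot_sup_eq]; exact inf_eq_right.2 hc'
    · obtain ⟨k1, k2, k3, k4⟩ := (h3 a (hA ha) hc' L hL hLa).2.2.1
      apply le_antisymm
      · exact sup_le inf_le_right inf_le_right
      · intro x hx
        obtain ⟨u, hu, v, hv, rfl⟩ := k4 x hx
        exact mul_mem (mem_sup_left hu) (mem_sup_right hv)
  · intro a ha b hb
    rcases key a ha with ⟨hc', h⟩ | ⟨hc', L, hL, hLa, h⟩ <;> rw [h]
    · rw [card_bot]; exact Nat.coprime_one_left _
    · exact Nat.Coprime.coprime_dvd_left (card_dvd_of_le inf_le_left)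
        ((h3 a (hA ha) hc' L hL hLa).2.2.2.1 b (hA hb))

omit hG hM in
theorem typeCore_nz : M ≤ nz (typeCore M) := by
  rw [typeCore]
  split_ifs
  · exact le_nz_commutator M
  · exact le_normalizer_fhOf M

omit hG hM in
theorem typeCore_le_M : typeCore M ≤ M := by
  rw [typeCore]
  split_ifs
  · exact commutator_le_self M
  · exact fhOf_le M

omit [Finite G] hG hM in
theorem conj_ne_one {m a : G} (h : a ≠ 1) : m * a * m⁻¹ ≠ 1 := by
  intro e
  apply h
  have : m⁻¹ * (m * a * m⁻¹) * m = m⁻¹ * 1 * m := by rw [e]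
  simpa [mul_assoc] using this

omit [Finite G] hG hM in
theorem conj_comm' {m a x : G} (h : a * x = x * a) :
    m * a * m⁻¹ * (m * x * m⁻¹) = m * x * m⁻¹ * (m * a * m⁻¹) := by
  have : m * (a * x) * m⁻¹ = m * (x * a) * m⁻¹ := by rw [h]
  simpa [mul_assoc] using this

omit hG hM in
theorem typeA1_conj {m a : G} (hm : m ∈ M) (ha : a ∈ typeA1 M) : m * a * m⁻¹ ∈ typeA1 M :=
  ⟨(mem_normalizer_iff.1 (typeCore_nz hm) a).1 ha.1, conj_ne_one ha.2⟩

omit hG hM in
theorem typeA_conjW {m a : G} (hm : m ∈ M) (ha : a ∈ typeA M) : m * a * m⁻¹ ∈ typeA M := by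
  classical
  rw [typeA] at ha ⊢
  split_ifs at ha ⊢ with hI
  · obtain ⟨h1, h2, x, h3, h4, h5⟩ := ha
    exact ⟨mul_mem (mul_mem hm h1) (inv_mem hm), conj_ne_one h2, m * x * m⁻¹,
      (mem_normalizer_iff.1 (le_normalizer_fhOf M hm) x).1 h3, conj_ne_one h4, conj_comm' h5⟩
  · obtain ⟨h1, h2, x, h3, h4, h5⟩ := ha
    exact ⟨(mem_normalizer_iff.1 (le_nz_commutator M hm) a).1 h1, conj_ne_one h2, m * x * m⁻¹,
      (mem_normalizer_iff.1 (typeCore_nz hm) x).1 h3, conj_ne_one h4, conj_comm' h5⟩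

omit hG hM in
theorem typeA0_conj {m a : G} (hm : m ∈ M) (ha : a ∈ typeA0 M) : m * a * m⁻¹ ∈ typeA0 M := by
  rcases ha with ha | ⟨hI, W₁, U, W₂, hP, k, hk, w, hw, hw1, hw2, rfl⟩
  · exact Or.inl (typeA_conjW hm ha)
  · exact Or.inr ⟨hI, W₁, U, W₂, hP, m * k, mul_mem hm hk, w, hw, hw1, hw2, by group⟩

omit hG hM in
theorem typeA_sub_M {a : G} (ha : a ∈ typeA M) : a ∈ M ∧ a ≠ 1 := by
  classical
  rw [typeA] at ha
  split_ifs at ha with hI
  · exact ⟨ha.1, ha.2.1⟩
  · exact ⟨commutator_le_self M ha.1, ha.2.1⟩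

omit hG hM in
theorem typeA0_sub_M {a : G} (ha : a ∈ typeA0 M) : a ∈ M ∧ a ≠ 1 := by
  rcases ha with ha | ⟨hI, W₁, U, W₂, hP, k, hk, w, hw, hw1, hw2, rfl⟩
  · exact typeA_sub_M ha
  · have hwM : w ∈ M := by
      have : W₁ ⊔ W₂ ≤ M := sup_le hP.W₁_le hP.W₂_le_M
      exact this hw
    refine ⟨mul_mem (mul_mem hk hwM) (inv_mem hk), conj_ne_one ?_⟩
    rintro rfl
    exact hw1 (one_mem _)

/-- S1537, second part -/
theorem dadeHypW {A : Set G} (hA : A = typeA1 M ∨ A = typeA M ∨ A = typeA0 M) :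
    DadeHypothesis A M (supportR M) := by
  have h1 := A1_sub_A' hG hM
  rcases hA with rfl | rfl | rfl
  · exact dade_of_sub hG hM (h1.trans (typeA_sub_wX hG hM)) (fun a ha => (typeA_sub_M (h1 ha)).1)
      (fun h => h.2 rfl) (fun m hm a ha => typeA1_conj hm ha)
  · exact dade_of_sub hG hM (typeA_sub_wX hG hM) (fun a ha => (typeA_sub_M ha).1)
      (fun h => (typeA_sub_M h).2 rfl) (fun m hm a ha => typeA_conjW hm ha)
  · exact dade_of_sub hG hM (typeA0_sub_wX hG hM) (fun a ha => (typeA0_sub_M ha).1)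
      (fun h => (typeA0_sub_M h).2 rfl) (fun m hm a ha => typeA0_conj hm ha)

/-- normalizers of `M`-invariant subsets -/
theorem normalizer_set_eq {A : Set G} (hne : A.Nonempty) (hAM : A ⊆ (M : Set G))
    (hA1 : (1 : G) ∉ A) (hinv : ∀ m ∈ M, ∀ a ∈ A, m * a * m⁻¹ ∈ A) :
    Subgroup.normalizer A = M := by
  have h1 : M ≤ Subgroup.normalizer A := by
    intro m hm
    rw [mem_set_normalizer_iff]
    intro a
    constructor
    · exact fun ha => hinv m hm a ha
    · intro ha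
      have := hinv m⁻¹ (inv_mem hm) _ ha
      simpa [mul_assoc] using this
  by_contra hne'
  have h2 : Subgroup.normalizer A = ⊤ := hM.2 _ (lt_of_le_of_ne h1 (Ne.symm hne'))
  have h3 : normalizer ((Subgroup.closure A : Subgroup G) : Set G) = ⊤ := by
    rw [eq_top_iff, ← h2]
    intro g hg
    rw [mem_set_normalizer_iff] at hg
    rw [mem_normalizer_iff]
    have key : ∀ g : G, (∀ a, a ∈ A ↔ g * a * g⁻¹ ∈ A) → ∀ x ∈ Subgroup.closure A,
        g * x * g⁻¹ ∈ Subgroup.closure A := by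
      intro g hg x hx
      induction hx using Subgroup.closure_induction with
      | mem y hy => exact Subgroup.subset_closure ((hg y).1 hy)
      | one => simp
      | mul y z _ _ h1 h2 =>
        have : g * (y * z) * g⁻¹ = g * y * g⁻¹ * (g * z * g⁻¹) := by group
        rw [this]; exact mul_mem h1 h2
      | inv y _ h1 =>
        have : g * y⁻¹ * g⁻¹ = (g * y * g⁻¹)⁻¹ := by group
        rw [this]; exact inv_mem h1
    intro x
    refine ⟨key g hg x, fun hx => ?_⟩
    have h4 := key g⁻¹ (fun a => by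
      rw [hg (g⁻¹ * a * g⁻¹⁻¹)]
      simp [mul_assoc]) _ hx
    simpa [mul_assoc] using h4
  rcases eq_bot_or_top_of_normalizer hG h3 with h | h
  · obtain ⟨a, ha⟩ := hne
    have h4 : a ∈ Subgroup.closure A := Subgroup.subset_closure ha
    rw [h, mem_bot] at h4
    exact hA1 (h4 ▸ ha)
  · have h4 : Subgroup.closure A ≤ M := by
      rw [Subgroup.closure_le]; exact hAM
    rw [h] at h4
    exact hM.1 (top_le_iff.1 h4)

theorem typeA1_nonempty : (typeA1 M).Nonempty := by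
  have h1 : typeCore M ≠ ⊥ := by
    rw [H14.TY.typeCore_eq hG hM]
    exact sigmaCore_ne_bot hG hM
  obtain ⟨a, ha, ha1⟩ := exists_ne_one h1
  exact ⟨a, ha, ha1⟩

/-- S1537 -/
theorem row1537 {A : Set G} (hA : A = typeA1 M ∨ A = typeA M ∨ A = typeA0 M) :
    Subgroup.normalizer A = M ∧ DadeHypothesis A M (supportR M) := by
  have hD := dadeHypW hG hM hA
  refine ⟨?_, hD⟩
  have hne : A.Nonempty := by
    obtain ⟨a, ha⟩ := typeA1_nonempty hG hM
    have h1 := A1_sub_A' hG hM ha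
    rcases hA with rfl | rfl | rfl
    · exact ⟨a, ha⟩
    · exact ⟨a, h1⟩
    · exact ⟨a, Or.inl h1⟩
  exact normalizer_set_eq hG hM hne hD.subset hD.one_not_mem hD.conj_mem

/-- for type II all centralizers of elements of `A₀(M)` are in `M` -/
theorem cent_le_of_II (hII : IsOfTypeII M) {x : G} (hx : x ∈ typeA0 M) :
    centralizer ({x} : Set G) ≤ M := by
  have hW := not_wtypeI_of_II hG hM hII
  obtain ⟨-, h2, -⟩ := row1391w' hG hM (Or.inr ⟨hW, Or.inr rfl⟩ : (WTypeI M ∧ typeA0 M = wA M) ∨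
    (¬ WTypeI M ∧ (typeA0 M = typeA M ∨ typeA0 M = typeA0 M)))
  by_contra hc
  obtain ⟨h3, -⟩ := h2 x hx hc
  have h4 : x ∈ fittingHallOf M := by
    have := h3.1
    rwa [typeCore_II hG hM hII] at this
  have hx1 : x ≠ 1 := h3.2
  obtain ⟨W₁, U, W₂, hP, -, -, hTI, -⟩ := hII
  have h5 : x ∈ fittingOf M := fhOf_le_fittingOf M h4
  have hne : fittingOf M ≠ ⊥ := by
    intro h
    rw [h, mem_bot] at h5
    exact hx1 h5
  have h6 := coatom_normalizer_eq hG hM hne (fittingOf_le M) (le_normalizer_fittingOf M)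
  apply hc
  intro g hg
  rw [← h6]
  by_contra hn
  apply hx1
  refine hTI g hn x h5 ?_
  rw [mem_cent_singleton.1 hg, mul_inv_cancel_right]
  exact h5

/-- S1538, each set -/
theorem tiII {A : Set G} (hII : IsOfTypeII M) (hA : A = typeA1 M ∨ A = typeA M ∨ A = typeA0 M) :
    IsTISubset A ∧ Subgroup.normalizer A = M := by
  obtain ⟨h1, h2⟩ := row1537 hG hM hA
  have hsub : A ⊆ typeA0 M := by
    rcases hA with rfl | rfl | rfl
    · exact (A1_sub_A' hG hM).trans Set.subset_union_left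
    · exact Set.subset_union_left
    · exact subset_rfl
  refine ⟨fun g hg x hx hgx => ?_, h1⟩
  exfalso
  apply hg
  rw [h1]
  obtain ⟨m, hm, hmx⟩ := h2.fusion x hx g hgx
  have h3 : m⁻¹ * g ∈ centralizer ({x} : Set G) := by
    rw [mem_cent_singleton]
    have h4 : m⁻¹ * (m * x * m⁻¹) * g = m⁻¹ * (g * x * g⁻¹) * g := by rw [hmx]
    have h5 : x * (m⁻¹ * g) = m⁻¹ * g * x := by simpa [mul_assoc] using h4
    exact h5.symm
  have h4 := mul_mem hm (cent_le_of_II hG hM hII (hsub hx) h3)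
  simpa using h4

/-- S1538 -/
theorem row1538 (hII : IsOfTypeII M) : (IsTISubset (typeA0 M) ∧ normalizer (typeA0 M) = M) ∧
    (IsTISubset (typeA M) ∧ normalizer (typeA M) = M) ∧
    (IsTISubset (typeA1 M) ∧ normalizer (typeA1 M) = M) :=
  ⟨tiII hG hM hII (Or.inr (Or.inr rfl)), tiII hG hM hII (Or.inr (Or.inl rfl)),
    tiII hG hM hII (Or.inl rfl)⟩

omit hG hM in
/-- an element commuting with an element of coprime order is a power of the product -/
theorem mem_zpowers_mul {a r : G} (hc : a * r = r * a) (hcop : (orderOf a).Coprime (orderOf r)) :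
    a ∈ zpowers (a * r) := by
  have hcomm : Commute a r := hc
  have h1 : (a * r) ^ orderOf r = a ^ orderOf r := by
    rw [hcomm.mul_pow, pow_orderOf_eq_one, mul_one]
  obtain ⟨m, hm⟩ := exists_pow_eq_self_of_coprime (x := a) hcop.symm
  have h2 : ((a * r) ^ orderOf r) ^ m = a := by rw [h1, hm]
  have h3 : ((a * r) ^ orderOf r) ^ m ∈ zpowers (a * r) :=
    (zpowers (a * r)).pow_mem ((zpowers (a * r)).pow_mem (mem_zpowers (a * r)) _) _
  rwa [h2] at h3

omit hM in
/-- for `T` of type II and `x ∈ A(T)` of order prime to `|T_F|`, `T` is the only maximal subgroup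
containing `C_G(x)` -/
theorem uniq_of_A_II {T : Subgroup G} (hT : IsCoatom T) (hII : IsOfTypeII T) {x : G}
    (hx : x ∈ typeA T) (hc : (orderOf x).Coprime (Nat.card (fittingHallOf T))) {N : Subgroup G}
    (hN : IsCoatom N) (hxN : centralizer ({x} : Set G) ≤ N) : N = T := by
  classical
  have hs := coatom_sol hG hT
  obtain ⟨W₁, V, W₂, hP, -⟩ := id hII
  obtain ⟨-, h2, -⟩ := row1390 hG hT (Or.inr ⟨hII, hP.U_compl⟩)
  rw [typeA, if_neg (not_typeI_of_II hG hT hII)] at hx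
  obtain ⟨hx1, hx2, t, ht, ht1, hxt⟩ := hx
  rw [typeCore_II hG hT hII] at ht
  have hQ' : ⁅T, T⁆ ≤ T := commutator_le_self T
  have hpi : IsPiSub {p | p ∣ Nat.card V} (zpowers x) := by
    intro p hp hd
    rw [Nat.card_zpowers] at hd
    have h3 : p ∣ Nat.card ↥⁅T, T⁆ := hd.trans (Subgroup.orderOf_dvd_natCard _ hx1)
    rw [← hP.card_M'] at h3
    rcases (hp.dvd_mul).1 h3 with h4 | h4
    · exact absurd (Nat.eq_one_of_dvd_coprimes hc hd h4) hp.one_lt.ne'
    · exact h4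
  obtain ⟨h, hh, hle⟩ := OOT.IsPiHallOf.exists_conj_le (H1.isSolvable_of_le hQ' hs)
    hP.U_isPiHall (K := zpowers x) (by rwa [zpowers_le]) hpi
  have hu : h * x * h⁻¹ ∈ V := hle (conj_mem_cj.2 (mem_zpowers x))
  have htF : h * t * h⁻¹ ∈ fittingHallOf T :=
    (Subgroup.mem_normalizer_iff.1 (le_normalizer_fhOf T (hQ' hh)) t).1 ht
  obtain ⟨-, h3⟩ := h2 {h * x * h⁻¹} (by
      rintro _ rfl
      exact ⟨hu, conj_ne_one hx2⟩) ⟨_, rfl⟩ (by
      intro h4
      have h5 : h * t * h⁻¹ ∈ fittingHallOf T ⊓ centralizer ({h * x * h⁻¹} : Set G) :=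
        ⟨htF, mem_cent_singleton.2 (conj_comm' hxt).symm⟩
      rw [h4, mem_bot] at h5
      exact conj_ne_one ht1 h5)
  have h4 := h3 (cj h N) (coatom_cj hN h) (by
    rw [← cj_centralizer_singleton]
    exact L.cj_mono hxN)
  have hhT : h ∈ T := hQ' hh
  rw [← L.cj_inv_cj h N, h4]
  exact L.cj_eq_self_of_mem (inv_mem hhT)

/-- S1539 for `M` a maximal subgroup not supported by a conjugate of `T`, `T` of type II -/
theorem tilde_disj_II {T : Subgroup G} (hT : IsCoatom T) (hII : IsOfTypeII T)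
    (hnc : ∀ g : G, cj g T ≠ M) (hns : ∀ g : G, ¬ Supports (cj g T) M) :
    tildeOf M (typeA1 M) ∩ tildeOf T (typeA T) = ∅ := by
  classical
  have hD := dadeHypW hG hM (A := typeA1 M) (Or.inl rfl)
  rw [← Set.not_nonempty_iff_eq_empty]
  rintro ⟨g, ⟨a, ha, r, hr, y, e1⟩, ⟨b, hb, s, hs, z, e2⟩⟩
  rw [supportR_eq_bot_of_le (cent_le_of_II hG hT hII (Or.inl hb)), mem_bot] at hs
  rw [hs, mul_one] at e2
  have haM : a ∈ M := hD.subset ha
  have hac : a ∈ M ⊓ centralizer ({a} : Set G) := ⟨haM, mem_cent_singleton.2 rfl⟩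
  have hrc : r * a = a * r := mem_cent_singleton.1 (hD.le_centralizer a ha hr)
  have hcop : (orderOf a).Coprime (orderOf r) :=
    (Nat.Coprime.coprime_dvd_left (Subgroup.orderOf_dvd_natCard _ hr)
      (Nat.Coprime.coprime_dvd_right (Subgroup.orderOf_dvd_natCard _ hac)
        (hD.coprime a ha a ha))).symm
  obtain ⟨k, hk⟩ := mem_zpowers_iff.1 (mem_zpowers_mul hrc.symm hcop)
  -- `a' = w⁻¹ a w` is a power of `b`
  set w := y⁻¹ * z with hw
  have e3 : w⁻¹ * (a * r) * w = b := by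
    rw [e2] at e1
    have : b = z⁻¹ * (z * b * z⁻¹) * z := by group
    rw [this, e1, hw]; group
  have e4 : w⁻¹ * a * w = b ^ k := by
    rw [← hk, ← e3]
    have := conj_zpow (i := k) (a := w⁻¹) (b := a * r)
    rw [inv_inv] at this
    rw [this]
  have hb' := hb
  rw [typeA, if_neg (not_typeI_of_II hG hT hII)] at hb
  obtain ⟨hb1, hb2, t, ht, ht1, hbt⟩ := hb
  have ha1 : a ≠ 1 := ha.2
  have ha' : w⁻¹ * a * w ≠ 1 := by
    have := conj_ne_one (m := w⁻¹) ha1
    rwa [inv_inv] at this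
  have haA : w⁻¹ * a * w ∈ typeA T := by
    rw [typeA, if_neg (not_typeI_of_II hG hT hII)]
    refine ⟨?_, ha', t, ht, ht1, ?_⟩
    · rw [e4]; exact Subgroup.zpow_mem _ hb1 k
    · rw [e4]
      exact ((show Commute b t from hbt).zpow_left k).eq
  -- the order of `a` is prime to `|T_F|`
  have hocop : (orderOf (w⁻¹ * a * w)).Coprime (Nat.card (fittingHallOf T)) := by
    have e5 : orderOf (w⁻¹ * a * w) = orderOf a := by
      have : w⁻¹ * a * w = MulAut.conj w⁻¹ a := by rw [MulAut.conj_apply, inv_inv]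
      rw [this, MulEquiv.orderOf_eq]
    rw [e5, Nat.coprime_iff_gcd_eq_one]
    by_contra hne
    obtain ⟨p, hp, hpd⟩ := Nat.exists_prime_and_dvd hne
    have h1 : p ∈ sigma M := by
      have h2 : a ∈ sigmaCore M := by
        rw [← H14.TY.typeCore_eq hG hM]; exact ha.1
      exact (ms_hall hG hM).2.1 p hp ((hpd.trans (Nat.gcd_dvd_left _ _)).trans
        (Subgroup.orderOf_dvd_natCard _ h2))
    have h3 : p ∈ sigma T := by
      have h4 : p ∣ Nat.card (sigmaCore T) := by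
        rw [← H14.TY.typeCore_eq hG hT, typeCore_II hG hT hII]
        exact hpd.trans (Nat.gcd_dvd_right _ _)
      exact (ms_hall hG hT).2.1 p hp h4
    obtain ⟨c, hc⟩ := sigma_conj hG hT hM h3 h1
    exact hnc c hc.symm
  have hCT : centralizer ({a} : Set G) ≤ cj w T := by
    have h1 := cent_le_of_II hG hT hII (Or.inl haA)
    have h2 := L.cj_mono (g := w) h1
    rw [cj_centralizer_singleton] at h2
    have e5 : w * (w⁻¹ * a * w) * w⁻¹ = a := by group
    rwa [e5] at h2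
  refine hns w ⟨coatom_cj hT w, a, Or.inl (A1_sub_A' hG hM ha), ?_, hCT⟩
  intro hCM
  have h1 : centralizer ({w⁻¹ * a * w} : Set G) ≤ cj w⁻¹ M := by
    have h2 := L.cj_mono (g := w⁻¹) hCM
    rw [cj_centralizer_singleton, inv_inv] at h2
    exact h2
  have h2 := uniq_of_A_II hG hT hII haA hocop (coatom_cj hM _) h1
  apply hnc w
  rw [← h2]
  have := L.cj_inv_cj w⁻¹ M
  rwa [inv_inv] at this

end Cfsg.Agent.PF
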