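import Cfsg.Agent.PF.Frame
import Cfsg.Agent.PF.SuppW
import Cfsg.Agent.S1525

set_option autoImplicit false

/-! Part (A), proofs 1: index sets, exchange of `W₁, W₂`, linearity of the Dade map (helper11). -/

namespace Cfsg.Agent.PF

open Subgroup ComplexConjugate
open Cfsg.Agent.H3 Cfsg.Agent.H11

universe u v w

/-! ### The index sets -/

section Index

variable {G : Type u} [Group G] {W₁ W₂ : Subgroup G}

theorem IsI.one : IsI W₁ W₂ 1 := fun _ _ => rfl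
theorem IsJ.one : IsJ W₁ W₂ 1 := fun _ _ => rfl
theorem IsI.mul {a b : Lin W₁ W₂} (ha : IsI W₁ W₂ a) (hb : IsI W₁ W₂ b) : IsI W₁ W₂ (a * b) :=
  fun w hw => by rw [MonoidHom.mul_apply, ha w hw, hb w hw, one_mul]
theorem IsJ.mul {a b : Lin W₁ W₂} (ha : IsJ W₁ W₂ a) (hb : IsJ W₁ W₂ b) : IsJ W₁ W₂ (a * b) :=
  fun w hw => by rw [MonoidHom.mul_apply, ha w hw, hb w hw, one_mul]
theorem IsI.inv {a : Lin W₁ W₂} (ha : IsI W₁ W₂ a) : IsI W₁ W₂ a⁻¹ :=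
  fun w hw => by rw [MonoidHom.inv_apply, ha w hw, inv_one]
theorem IsJ.inv {a : Lin W₁ W₂} (ha : IsJ W₁ W₂ a) : IsJ W₁ W₂ a⁻¹ :=
  fun w hw => by rw [MonoidHom.inv_apply, ha w hw, inv_one]

theorem a_isI_iff_ann {φ : Lin W₁ W₂} : IsI W₁ W₂ φ ↔ PF.IsAnn (W₂.subgroupOf (W₁ ⊔ W₂)) φ :=
  PF.isAnn_iff.symm
theorem a_isJ_iff_ann {φ : Lin W₁ W₂} : IsJ W₁ W₂ φ ↔ PF.IsAnn (W₁.subgroupOf (W₁ ⊔ W₂)) φ :=
  PF.isAnn_iff.symm

variable [Finite G]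

/-- every `ω` is `φ * ψ` -/
theorem lin_factor (hW : IsSelfNormalizingCyclic W₁ W₂) (ω : Lin W₁ W₂) :
    ∃ φ ψ, IsI W₁ W₂ φ ∧ IsJ W₁ W₂ ψ ∧ ω = φ * ψ := by
  have := Fintype.ofFinite G
  obtain ⟨φ, ψ, h1, h2, h3⟩ := PF.dual_factor (PF.comm_of_selfnorm hW) (PF.sub_inf hW.2.2.1)
    PF.sub_top ω
  exact ⟨φ, ψ, a_isI_iff_ann.2 h1, a_isJ_iff_ann.2 h2, h3⟩

theorem lin_unique (hW : IsSelfNormalizingCyclic W₁ W₂) {φ φ' ψ ψ' : Lin W₁ W₂}
    (hφ : IsI W₁ W₂ φ) (hφ' : IsI W₁ W₂ φ') (hψ : IsJ W₁ W₂ ψ) (hψ' : IsJ W₁ W₂ ψ')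
    (h : φ * ψ = φ' * ψ') : φ = φ' ∧ ψ = ψ' := by
  have := Fintype.ofFinite G
  exact PF.dual_unique (PF.comm_of_selfnorm hW) (PF.sub_inf hW.2.2.1) PF.sub_top
    (a_isI_iff_ann.1 hφ) (a_isI_iff_ann.1 hφ') (a_isJ_iff_ann.1 hψ) (a_isJ_iff_ann.1 hψ') h

theorem card_idxI (hW : IsSelfNormalizingCyclic W₁ W₂) : (idxI W₁ W₂).card = Nat.card W₁ := by
  have := Fintype.ofFinite G
  have h1 := PF.card_ann (PF.comm_of_selfnorm hW) (W₂.subgroupOf (W₁ ⊔ W₂))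
  rw [PF.index_eq_card (PF.comm_of_selfnorm hW) (PF.sub_inf hW.2.2.1) PF.sub_top] at h1
  rw [← Nat.card_congr (Subgroup.subgroupOfEquivOfLe (le_sup_left : W₁ ≤ W₁ ⊔ W₂)).toEquiv, ← h1]
  exact (Nat.subtype_card (idxI W₁ W₂) fun x => by rw [mem_idxI, a_isI_iff_ann]).symm

theorem card_idxJ (hW : IsSelfNormalizingCyclic W₁ W₂) : (idxJ W₁ W₂).card = Nat.card W₂ := by
  have := Fintype.ofFinite G
  have h1 := PF.card_ann (PF.comm_of_selfnorm hW) (W₁.subgroupOf (W₁ ⊔ W₂))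
  rw [PF.index_eq_card (PF.comm_of_selfnorm hW) (by rw [inf_comm]; exact PF.sub_inf hW.2.2.1)
    (by rw [sup_comm]; exact PF.sub_top)] at h1
  rw [← Nat.card_congr (Subgroup.subgroupOfEquivOfLe (le_sup_right : W₂ ≤ W₁ ⊔ W₂)).toEquiv, ← h1]
  exact (Nat.subtype_card (idxJ W₁ W₂) fun x => by rw [mem_idxJ, a_isJ_iff_ann]).symm

theorem inv_ne_self_lin (hodd : Odd (Nat.card ↥(W₁ ⊔ W₂))) {ω : Lin W₁ W₂} (h : ω ≠ 1) :
    ω⁻¹ ≠ ω := Cfsg.Agent.H11.PF.inv_ne_self hodd h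

/-- sum over all `ω` as a double sum -/
theorem sum_lin {A : Type v} [AddCommMonoid A] (hW : IsSelfNormalizingCyclic W₁ W₂)
    [Fintype (Lin W₁ W₂)] (f : Lin W₁ W₂ → A) :
    ∑ ω, f ω = ∑ φ ∈ idxI W₁ W₂, ∑ ψ ∈ idxJ W₁ W₂, f (φ * ψ) := by
  classical
  rw [← Finset.sum_product']
  symm
  refine Finset.sum_nbij (fun p => p.1 * p.2) (fun _ _ => Finset.mem_univ _) ?_ ?_ (fun _ _ => rfl)
  · rintro ⟨φ, ψ⟩ h1 ⟨φ', ψ'⟩ h2 h
    simp only [Finset.coe_product, Set.mem_prod, Finset.mem_coe, mem_idxI, mem_idxJ] at h1 h2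
    obtain ⟨h3, h4⟩ := lin_unique hW h1.1 h2.1 h1.2 h2.2 h
    rw [h3, h4]
  · intro ω _
    obtain ⟨φ, ψ, h1, h2, h3⟩ := lin_factor hW ω
    exact ⟨(φ, ψ), by simp [h1, h2], h3.symm⟩

end Index

/-! ### Exchange of `W₁` and `W₂` -/

section Swap

variable {G : Type u} [Group G] {W₁ W₂ : Subgroup G}

theorem swL_swL (ω : Lin W₁ W₂) : swL (swL ω : Lin W₂ W₁) = ω := by
  ext w; rfl
theorem swL_mul (a b : Lin W₂ W₁) : (swL (a * b) : Lin W₁ W₂) = swL a * swL b := by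
  ext w; rfl
theorem swL_one : (swL (1 : Lin W₂ W₁) : Lin W₁ W₂) = 1 := by
  ext w; rfl
theorem swL_inv (a : Lin W₂ W₁) : (swL a⁻¹ : Lin W₁ W₂) = (swL a)⁻¹ := by
  ext w; rfl

theorem a_swL_apply (ω : Lin W₂ W₁) (w : G) (hw : w ∈ W₁ ⊔ W₂) (hw' : w ∈ W₂ ⊔ W₁) :
    (swL ω : Lin W₁ W₂) ⟨w, hw⟩ = ω ⟨w, hw'⟩ := rfl

theorem isI_swL {ω : Lin W₂ W₁} : IsI W₁ W₂ (swL ω) ↔ IsJ W₂ W₁ ω := by
  constructor
  · rintro h ⟨w, hw⟩ h2
    exact h ⟨w, by rw [sup_comm]; exact hw⟩ h2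
  · rintro h ⟨w, hw⟩ h2
    exact h ⟨w, by rw [sup_comm]; exact hw⟩ h2

theorem isJ_swL {ω : Lin W₂ W₁} : IsJ W₁ W₂ (swL ω) ↔ IsI W₂ W₁ ω := by
  constructor
  · rintro h ⟨w, hw⟩ h2
    exact h ⟨w, by rw [sup_comm]; exact hw⟩ h2
  · rintro h ⟨w, hw⟩ h2
    exact h ⟨w, by rw [sup_comm]; exact hw⟩ h2

theorem selfNorm_swap (hW : IsSelfNormalizingCyclic W₁ W₂) : IsSelfNormalizingCyclic W₂ W₁ := by
  obtain ⟨h1, h2, h3, h4, h5, h6⟩ := hW
  refine ⟨h2, h1, by rw [inf_comm, h3], fun a ha b hb => (h4 b hb a ha).symm,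
    by rw [sup_comm]; exact h5, ?_⟩
  intro X hX hne
  rw [sup_comm W₂ W₁] at hX ⊢
  refine h6 X (fun x hx => ?_) hne
  obtain ⟨m1, m2⟩ := hX hx
  exact ⟨m1, fun h => m2 (h.symm)⟩

theorem a_swL_inj {a b : Lin W₂ W₁} : (swL a : Lin W₁ W₂) = swL b ↔ a = b := by
  constructor
  · intro h
    rw [← swL_swL a, h, swL_swL]
  · rintro rfl; rfl

theorem a_indFun_congr_sub {G : Type u} [Group G] [Fintype G] {A B : Subgroup G} (h : A = B)
    (f : ↥A → ℂ) (g : ↥B → ℂ) (hfg : ∀ (x : G) (hA : x ∈ A) (hB : x ∈ B), f ⟨x, hA⟩ = g ⟨x, hB⟩) :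
    indFun A f = indFun B g := by
  subst h
  have : f = g := by
    funext x
    exact hfg x x.2 x.2
  rw [this]

theorem fam_swap [Fintype G] {η : Lin W₁ W₂ → G → ℂ} (h : IsCyclicTIFamily W₁ W₂ η) :
    IsCyclicTIFamily W₂ W₁ (swF η) := by
  classical
  constructor
  · intro ω
    exact h.irr_or_neg _
  · intro ω ω'
    have := h.orthonormal (swL ω) (swL ω')
    unfold swF
    rw [this]
    by_cases h1 : ω = ω'
    · rw [if_pos h1, if_pos (by rw [h1])]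
    · rw [if_neg h1, if_neg (fun h2 => h1 (a_swL_inj.1 h2))]
  · unfold swF
    rw [swL_one]; exact h.map_one
  · rintro ω ⟨w, hw⟩ h1 h2
    exact h.eq_on (swL ω) ⟨w, by rw [sup_comm]; exact hw⟩ h2 h1
  · intro φ ψ hφ hψ h1 h2
    have e := h.induced_eq (swL ψ) (swL φ) (fun h3 => hψ (a_swL_inj.1 (h3.trans swL_one.symm)))
      (fun h3 => hφ (a_swL_inj.1 (h3.trans swL_one.symm))) (isI_swL.2 h2) (isJ_swL.2 h1)
    have e2 : indFun (W₂ ⊔ W₁) (fun w => 1 - (φ w : ℂ) - (ψ w : ℂ) + (φ w : ℂ) * (ψ w : ℂ)) =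
        indFun (W₁ ⊔ W₂) (fun w => 1 - ((swL ψ : Lin W₁ W₂) w : ℂ) - ((swL φ : Lin W₁ W₂) w : ℂ) +
          ((swL ψ : Lin W₁ W₂) w : ℂ) * ((swL φ : Lin W₁ W₂) w : ℂ)) := by
      refine a_indFun_congr_sub (sup_comm _ _) _ _ fun x hA hB => ?_
      rw [a_swL_apply ψ x hB hA, a_swL_apply φ x hB hA]
      ring
    rw [e2, e]
    funext g
    unfold swF
    rw [← swL_mul]
    have : ψ * φ = φ * ψ := by
      ext w; rw [MonoidHom.mul_apply, MonoidHom.mul_apply, mul_comm]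
    rw [this]
    ring

theorem colI_swF [Finite G] {X : Type v} (η : Lin W₁ W₂ → X → ℂ) (ω : Lin W₂ W₁) :
    colI (swF η) ω = rowJ η (swL ω) := by
  unfold colI rowJ
  refine Finset.sum_nbij (fun φ => swL φ) ?_ ?_ ?_ ?_
  · intro φ hφ
    rw [mem_idxI] at hφ
    rw [mem_idxJ, isJ_swL]; exact hφ
  · intro a _ b _ hab
    exact a_swL_inj.1 hab
  · intro a ha
    rw [Finset.mem_coe, mem_idxJ] at ha
    exact ⟨swL a, by rw [Finset.mem_coe, mem_idxI, ← isJ_swL, swL_swL]; exact ha, swL_swL a⟩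
  · intro φ _
    unfold swF
    rw [← swL_mul]
    congr 2
    ext w; rw [MonoidHom.mul_apply, MonoidHom.mul_apply, mul_comm]

theorem rowJ_swF [Finite G] {X : Type v} (η : Lin W₁ W₂ → X → ℂ) (ω : Lin W₂ W₁) :
    rowJ (swF η) ω = colI η (swL ω) := by
  have h := colI_swF (swF η) (swL ω : Lin W₁ W₂)
  rw [swL_swL] at h
  rw [← h]
  congr 1

end Swap

/-! ### The Dade map -/

section Tau

variable {G : Type u} [Group G] {A : Set G} {L : Subgroup G} {H : G → Subgroup G}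

theorem dade_add (α β : ↥L → ℂ) :
    dadeIsometry A L H (α + β) = dadeIsometry A L H α + dadeIsometry A L H β := by
  funext g
  simp only [dadeIsometry, Pi.add_apply]
  split_ifs <;> simp
theorem dade_neg (α : ↥L → ℂ) : dadeIsometry A L H (-α) = - dadeIsometry A L H α := by
  funext g
  simp only [dadeIsometry, Pi.neg_apply]
  split_ifs <;> simp
theorem dade_sub (α β : ↥L → ℂ) :
    dadeIsometry A L H (α - β) = dadeIsometry A L H α - dadeIsometry A L H β := by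
  rw [sub_eq_add_neg, dade_add, dade_neg, sub_eq_add_neg]
theorem dade_smul (c : ℂ) (α : ↥L → ℂ) :
    dadeIsometry A L H (c • α) = c • dadeIsometry A L H α := by
  funext g
  simp only [dadeIsometry, Pi.smul_apply]
  split_ifs <;> simp
theorem dade_zsmul (n : ℤ) (α : ↥L → ℂ) :
    dadeIsometry A L H (n • α) = n • dadeIsometry A L H α := by
  rw [zsmul_eq_smul, zsmul_eq_smul, dade_smul]
theorem a_dade_zero' : dadeIsometry A L H (0 : ↥L → ℂ) = 0 := by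
  funext g
  simp only [dadeIsometry, Pi.zero_apply]
  split_ifs <;> rfl
theorem dade_sum' {ι : Type v} (s : Finset ι) (f : ι → ↥L → ℂ) :
    dadeIsometry A L H (∑ i ∈ s, f i) = ∑ i ∈ s, dadeIsometry A L H (f i) := by
  classical
  induction s using Finset.induction_on with
  | empty => simp [a_dade_zero']
  | insert a s ha ih => rw [Finset.sum_insert ha, Finset.sum_insert ha, dade_add, ih]
theorem dade_conj (α : ↥L → ℂ) :
    dadeIsometry A L H (conjFun α) = conjFun (dadeIsometry A L H α) := by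
  funext g
  simp only [dadeIsometry, conjFun]
  split_ifs <;> simp

end Tau

end Cfsg.Agent.PF
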