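import Cfsg.Agent.PF.A1
import Cfsg.Agent.PF.TypeF
import Cfsg.Agent.OOT.TenB
import Cfsg.Agent.H11.PF4

set_option autoImplicit false

/-! Part (A), proofs 2: group theory of type P data (helper11). -/

namespace Cfsg.Agent.PF

open Subgroup ComplexConjugate
open Cfsg.Agent.H3 Cfsg.Agent.H11
open Cfsg.Agent.L (cj nz)
open Cfsg.Agent.OOT
open Cfsg.Agent.H21

universe u v w

variable {G : Type u} [Group G]

theorem a_mem_comm_iff {M : Subgroup G} {x : ↥M} : x ∈ _root_.commutator ↥M ↔ (x : G) ∈ ⁅M, M⁆ := by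
  rw [← map_subtype_commutator]
  constructor
  · intro h
    exact Subgroup.mem_map_of_mem M.subtype h
  · rintro ⟨y, hy, e⟩
    have : y = x := Subtype.ext e
    rwa [← this]

theorem a_sup_mem_iff_comm {W₁ W₂ : Subgroup G} (h : ∀ a ∈ W₁, ∀ b ∈ W₂, a * b = b * a) {x : G} :
    x ∈ W₁ ⊔ W₂ ↔ ∃ w₁ ∈ W₁, ∃ w₂ ∈ W₂, x = w₂ * w₁ := by
  constructor
  · intro hx
    refine Subgroup.closure_induction (p := fun x _ => ∃ w₁ ∈ W₁, ∃ w₂ ∈ W₂, x = w₂ * w₁)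
      (k := (W₁ : Set G) ∪ W₂) ?_ ?_ ?_ ?_ (by rwa [Subgroup.closure_union, closure_eq, closure_eq])
    · rintro y (hy | hy)
      · exact ⟨y, hy, 1, one_mem _, (one_mul _).symm⟩
      · exact ⟨1, one_mem _, y, hy, (mul_one _).symm⟩
    · exact ⟨1, one_mem _, 1, one_mem _, (mul_one _).symm⟩
    · rintro y z - - ⟨a, ha, b, hb, rfl⟩ ⟨c, hc, d, hd, rfl⟩
      refine ⟨a * c, mul_mem ha hc, b * d, mul_mem hb hd, ?_⟩
      rw [mul_assoc, ← mul_assoc a, h a ha d hd]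
      simp only [mul_assoc]
    · rintro y - ⟨a, ha, b, hb, rfl⟩
      refine ⟨a⁻¹, inv_mem ha, b⁻¹, inv_mem hb, ?_⟩
      rw [mul_inv_rev, h _ (inv_mem ha) _ (inv_mem hb)]
  · rintro ⟨w₁, h1, w₂, h2, rfl⟩
    exact mul_mem (Subgroup.mem_sup_right h2) (Subgroup.mem_sup_left h1)

variable [Finite G] {M W₁ U W₂ : Subgroup G}

omit [Finite G] in
theorem a_W₁_inf' (h : IsTypePWith M W₁ U W₂) {x : G} (h1 : x ∈ W₁) (h2 : x ∈ ⁅M, M⁆) : x = 1 := by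
  have : x ∈ ⁅M, M⁆ ⊓ W₁ := ⟨h2, h1⟩
  rw [h.W₁_compl.2.2.1] at this
  exact this

omit [Finite G] in
theorem a_W_le_M (h : IsTypePWith M W₁ U W₂) : W₁ ⊔ W₂ ≤ M := sup_le h.W₁_le h.W₂_le_M

omit [Finite G] in
theorem a_mem_W₂_iff (h : IsTypePWith M W₁ U W₂) {x : G} (hx : x ∈ W₁ ⊔ W₂) :
    x ∈ W₂ ↔ x ∈ ⁅M, M⁆ := by
  refine ⟨fun h2 => h.W₂_le' h2, fun h2 => ?_⟩
  obtain ⟨a, ha, b, hb, rfl⟩ := (a_sup_mem_iff_comm h.selfNormalizing.2.2.2.1).1 hx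
  have : a ∈ ⁅M, M⁆ := (Subgroup.mul_mem_cancel_left _ (h.W₂_le' hb)).1 h2
  rw [a_W₁_inf' h ha this, mul_one]
  exact hb

theorem a_conj_W_G (h : IsTypePWith M W₁ U W₂) {x : G} (hx : x ∈ M) (hx' : x ∉ ⁅M, M⁆) :
    ∃ y ∈ ⁅M, M⁆, ∃ w₁ ∈ W₁, w₁ ≠ 1 ∧ ∃ w₂ ∈ W₂, y * x * y⁻¹ = w₂ * w₁ := by
  obtain ⟨k, hk, w, hw, rfl⟩ := h.W₁_compl.2.2.2 x hx
  have hw1 : w ≠ 1 := by
    rintro rfl
    exact hx' (by rwa [mul_one])
  have hn : w ∈ nz ⁅M, M⁆ := le_nz_commutator M (h.W₁_le hw)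
  have hc : Nat.Coprime (orderOf w) (Nat.card ↥⁅M, M⁆) :=
    Nat.Coprime.coprime_dvd_left (Subgroup.orderOf_dvd_natCard W₁ hw) h.coprime_W₁
  obtain ⟨y, hy, c, hc1, hc2, hc3⟩ := PF.conj_coset ⁅M, M⁆ w hn hc k hk
  refine ⟨y, hy, w, hw, hw1, c, ?_, hc3⟩
  rw [← h.W₂_centralizer w hw hw1]
  exact ⟨hc1, mem_cent_singleton.2 hc2⟩

omit [Finite G] in
/-- `V` is made of the products `w₂ w₁`. -/
theorem a_mem_V_iff (h : IsTypePWith M W₁ U W₂) {x : G} :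
    x ∈ Vset W₁ W₂ ↔ ∃ w₁ ∈ W₁, w₁ ≠ 1 ∧ ∃ w₂ ∈ W₂, w₂ ≠ 1 ∧ x = w₂ * w₁ := by
  constructor
  · rintro ⟨h1, h2, h3⟩
    obtain ⟨a, ha, b, hb, rfl⟩ := (a_sup_mem_iff_comm h.selfNormalizing.2.2.2.1).1 h1
    refine ⟨a, ha, ?_, b, hb, ?_, rfl⟩
    · rintro rfl
      exact h3 (by rwa [mul_one])
    · rintro rfl
      exact h2 (by rwa [one_mul])
  · rintro ⟨a, ha, ha1, b, hb, hb1, rfl⟩
    have hinf := h.selfNormalizing.2.2.1
    refine ⟨(a_sup_mem_iff_comm h.selfNormalizing.2.2.2.1).2 ⟨a, ha, b, hb, rfl⟩, ?_, ?_⟩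
    · intro h2
      have : b ∈ W₁ ⊓ W₂ := ⟨(Subgroup.mul_mem_cancel_right _ ha).1 h2, hb⟩
      rw [hinf] at this
      exact hb1 this
    · intro h2
      have : a ∈ W₁ ⊓ W₂ := ⟨ha, (Subgroup.mul_mem_cancel_left _ hb).1 h2⟩
      rw [hinf] at this
      exact ha1 this

omit [Finite G] in
theorem a_V_not_comm (h : IsTypePWith M W₁ U W₂) {x : G} (hx : x ∈ Vset W₁ W₂) : x ∉ ⁅M, M⁆ := by
  intro h2
  exact hx.2.2 ((a_mem_W₂_iff h hx.1).2 h2)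

omit [Finite G] in
theorem a_cent_V (h : IsTypePWith M W₁ U W₂) {x : G} (hx : x ∈ Vset W₁ W₂) :
    centralizer ({x} : Set G) ≤ W₁ ⊔ W₂ := by
  have h1 := h.selfNormalizing.2.2.2.2.2 {x} (by
    rintro _ rfl
    exact ⟨hx.1, fun h2 => h2.elim hx.2.1 hx.2.2⟩) ⟨x, rfl⟩
  intro y hy
  rw [← h1, Subgroup.mem_set_normalizer_iff]
  rw [mem_cent_singleton] at hy
  intro z
  simp only [Set.mem_singleton_iff]
  constructor
  · rintro rfl
    rw [hy, mul_assoc, mul_inv_cancel, mul_one]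
  · intro hz
    have : y * z = x * y := by rw [← hz]; simp
    rw [← hy] at this
    exact mul_left_cancel this

/-! types -/

theorem a_prime_dvd_exponent {X : Type u} [Group X] [Finite X] {p : ℕ} (hp : p.Prime)
    (h : p ∣ Monoid.exponent X) : ∃ x : X, orderOf x = p := by
  have := Fact.mk hp
  exact exists_prime_orderOf_dvd_card' p (h.trans Group.exponent_dvd_nat_card)

variable (hG : IsMinSimpleOddOrder G) (hM : IsCoatom M)

omit [Finite G] in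
theorem a_fh_compl (h : IsTypePWith M W₁ U W₂) :
    IsComplIn (fittingHallOf M) (U ⊔ W₁) M := by
  refine ⟨h.H_le'.trans (commutator_le_self M), sup_le h.U_le h.W₁_le, ?_, ?_⟩
  · rw [eq_bot_iff]
    rintro x ⟨h1, h2⟩
    obtain ⟨u, hu, w, hw, rfl⟩ := (H1.mem_sup_iff_of_le_normalizer h.U_normal).1 h2
    have h3 : w ∈ ⁅M, M⁆ := (Subgroup.mul_mem_cancel_left _ (h.U_le' hu)).1 (h.H_le' h1)
    have h4 := a_W₁_inf' h hw h3
    rw [h4, mul_one] at h1 ⊢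
    have : u ∈ fittingHallOf M ⊓ U := ⟨h1, hu⟩
    rwa [h.U_compl.2.2.1] at this
  · intro m hm
    obtain ⟨d, hd, w, hw, rfl⟩ := h.W₁_compl.2.2.2 m hm
    obtain ⟨x, hx, u, hu, rfl⟩ := h.U_compl.2.2.2 d hd
    exact ⟨x, hx, u * w, mul_mem (Subgroup.mem_sup_left hu) (Subgroup.mem_sup_right hw),
      mul_assoc _ _ _⟩

include hG hM

theorem a_not_typeI_of_P (h : IsTypePWith M W₁ U W₂) : ¬ IsOfTypeI M := by
  rintro ⟨hF, -⟩
  obtain ⟨-, -, V₀, h1, h2, h3⟩ := typeF_compl hF (a_fh_compl h)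
  obtain ⟨w, hw, hw1⟩ := exists_ne_one h.W₁_ne
  obtain ⟨p, hp, hpw⟩ := Nat.exists_prime_and_dvd (n := orderOf w) (fun e => hw1 (orderOf_eq_one_iff.1 e))
  have hpW : p ∣ Nat.card W₁ := hpw.trans (Subgroup.orderOf_dvd_natCard W₁ hw)
  have hpM' : ¬ p ∣ Nat.card ↥⁅M, M⁆ := fun h4 =>
    hp.one_lt.ne' (Nat.eq_one_of_dvd_coprimes h.coprime_W₁ hpW h4)
  have hpe : p ∣ Monoid.exponent V₀ := by
    rw [h2]
    refine (hpw.trans ?_)
    have : orderOf (⟨w, Subgroup.mem_sup_right hw⟩ : ↥(U ⊔ W₁)) ∣ Monoid.exponent ↥(U ⊔ W₁) :=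
      Monoid.order_dvd_exponent _
    rwa [Subgroup.orderOf_mk] at this
  obtain ⟨x, hx⟩ := a_prime_dvd_exponent hp hpe
  have hxo : orderOf (x : G) = p := by rw [Subgroup.orderOf_coe]; exact hx
  have hx1 : (x : G) ≠ 1 := by
    intro e
    rw [e, orderOf_one] at hxo
    exact hp.one_lt.ne hxo
  have hxM : (x : G) ∈ M := (a_fh_compl h).2.1 (h1 x.2)
  have hxM' : (x : G) ∉ ⁅M, M⁆ := fun h4 => hpM' (hxo ▸ Subgroup.orderOf_dvd_natCard _ h4)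
  obtain ⟨y, hy, w₁, hw₁, hw₁1, w₂, hw₂, e⟩ := a_conj_W_G h hxM hxM'
  have comm := h.selfNormalizing.2.2.2.1
  -- `w₂ = 1`
  have e2 : (w₂ * w₁) ^ p = 1 := by
    rw [← e, conj_pow, ← hxo, pow_orderOf_eq_one, mul_one, mul_inv_cancel]
  have e3 : w₂ ^ p * w₁ ^ p = 1 := by
    rw [← (show Commute w₂ w₁ from (comm w₁ hw₁ w₂ hw₂).symm).mul_pow]; exact e2
  have e4 : w₂ ^ p = 1 := by
    have h6 : w₂ ^ p ∈ W₁ := by
      rw [eq_inv_of_mul_eq_one_left e3]; exact W₁.inv_mem (W₁.pow_mem hw₁ p)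
    have h5 : w₂ ^ p ∈ W₁ ⊓ W₂ := ⟨h6, W₂.pow_mem hw₂ p⟩
    rw [h.selfNormalizing.2.2.1] at h5
    exact h5
  have e5 : w₂ = 1 := by
    have h6 : orderOf w₂ ∣ p := orderOf_dvd_of_pow_eq_one e4
    rcases (Nat.dvd_prime hp).1 h6 with h7 | h7
    · exact orderOf_eq_one_iff.1 h7
    · exact absurd (h7 ▸ Subgroup.orderOf_dvd_natCard _ (h.W₂_le' hw₂)) hpM'
  rw [e5, one_mul] at e
  obtain ⟨b, hb, hb1⟩ := exists_ne_one h.selfNormalizing.2.1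
  have h8 := comm w₁ hw₁ b hb
  have hyM : y ∈ M := commutator_le_self M hy
  have h9 : y⁻¹ * b * y ∈ fittingHallOf M := by
    have := (Subgroup.mem_normalizer_iff.1 (le_normalizer_fhOf M (inv_mem hyM)) b).1 (h.W₂_le_H hb)
    simpa using this
  have h10 := h3 x x.2 (fun e6 => hx1 e6) _ h9 (by
    have h11 : (x : G) = y⁻¹ * w₁ * y := by rw [← e]; simp [mul_assoc]
    rw [h11]
    have : y⁻¹ * w₁ * y * (y⁻¹ * b * y) = y⁻¹ * (w₁ * b) * y := by simp [mul_assoc]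
    rw [this, h8]
    simp [mul_assoc])
  apply hb1
  have : y * (y⁻¹ * b * y) * y⁻¹ = y * 1 * y⁻¹ := by rw [h10]
  simpa [mul_assoc] using this

theorem a_types_of_P (h : IsTypePWith M W₁ U W₂) :
    IsOfTypeII M ∨ IsOfTypeIII M ∨ IsOfTypeIV M ∨ IsOfTypeV M := types_of_P hG hM h

omit [Finite G] hG hM in
theorem a_typeCore_cases : typeCore M = ⁅M, M⁆ ∨ typeCore M = fittingHallOf M := by
  unfold typeCore
  split_ifs
  · exact Or.inl rfl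
  · exact Or.inr rfl

omit [Finite G] hG hM in
theorem a_typeCore_le' (h : IsTypePWith M W₁ U W₂) : typeCore M ≤ ⁅M, M⁆ := by
  rcases a_typeCore_cases (M := M) with e | e <;> rw [e]
  exact h.H_le'

omit [Finite G] hG hM in
theorem a_W₂_le_core (h : IsTypePWith M W₁ U W₂) : W₂ ≤ typeCore M := by
  rcases a_typeCore_cases (M := M) with e | e <;> rw [e]
  · exact h.W₂_le'
  · exact h.W₂_le_H

omit [Finite G] hG hM in
theorem a_fh_le_core (h : IsTypePWith M W₁ U W₂) : fittingHallOf M ≤ typeCore M := by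
  rcases a_typeCore_cases (M := M) with e | e <;> rw [e]
  exact h.H_le'

omit hG hM in
theorem a_le_nz_core : M ≤ nz (typeCore M) := by
  rcases a_typeCore_cases (M := M) with e | e <;> rw [e]
  · exact le_nz_commutator M
  · exact le_normalizer_fhOf M

theorem a_typeA_eq (h : IsTypePWith M W₁ U W₂) :
    typeA M = {a | a ∈ ⁅M, M⁆ ∧ a ≠ 1 ∧ ∃ x ∈ typeCore M, x ≠ 1 ∧ a * x = x * a} := by
  rw [typeA, if_neg (a_not_typeI_of_P hG hM h)]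

theorem a_A1_sub_A_P (h : IsTypePWith M W₁ U W₂) : typeA1 M ⊆ typeA M := by
  rw [a_typeA_eq hG hM h]
  rintro x ⟨h1, h2⟩
  exact ⟨a_typeCore_le' h h1, h2, x, h1, h2, rfl⟩

theorem a_V_sub_A0_P (h : IsTypePWith M W₁ U W₂) : Vset W₁ W₂ ⊆ typeA0 M := by
  intro v hv
  refine Or.inr ⟨a_not_typeI_of_P hG hM h, W₁, U, W₂, h, 1, one_mem _, v, hv.1, hv.2.1, hv.2.2, ?_⟩
  simp

/-- `A₀(M) = A(M) ∪ V^M` -/
theorem a_A0_cases (h : IsTypePWith M W₁ U W₂) {x : G} (hx : x ∈ typeA0 M) :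
    x ∈ typeA M ∨ ∃ m ∈ M, m * x * m⁻¹ ∈ Vset W₁ W₂ := by
  rcases hx with hx | ⟨-, W₁', U', W₂', h', m, hm, w, hw, hw1, hw2, rfl⟩
  · exact Or.inl hx
  · right
    obtain ⟨m', hm', e1, -, e2⟩ := data_conj (coatom_sol hG hM) h h'
    have h1 : m'⁻¹ * w * m' ∈ Vset W₁ W₂ := by
      refine ⟨?_, ?_, ?_⟩
      · rw [e1, e2, ← cj_sup] at hw
        exact mem_cj.1 hw
      · intro h3
        exact hw1 (by rw [e1]; exact mem_cj.2 h3)
      · intro h3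
        exact hw2 (by rw [e2]; exact mem_cj.2 h3)
    refine ⟨m'⁻¹ * m⁻¹, mul_mem (inv_mem hm') (inv_mem hm), ?_⟩
    have : m'⁻¹ * m⁻¹ * (m * w * m⁻¹) * (m'⁻¹ * m⁻¹)⁻¹ = m'⁻¹ * w * m' := by simp [mul_assoc]
    rw [this]; exact h1

omit hG hM in
theorem a_supportR_V (h : IsTypePWith M W₁ U W₂) {v : G} (hv : v ∈ Vset W₁ W₂) :
    supportR M v = ⊥ := by
  unfold supportR
  rw [dif_neg]
  rintro ⟨h1, -⟩
  exact h1 ((a_cent_V h hv).trans (a_W_le_M h))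

/-- criterion for being supported on `A₀(M)` -/
theorem a_supp_A0_P (h : IsTypePWith M W₁ U W₂) {α : ↥M → ℂ} (hα : IsClassFunction ↥M α)
    (h1 : ∀ w : ↥M, (w : G) ∈ W₁ → w ≠ 1 → α w = 0)
    (h2 : ∀ x : ↥M, x ∈ _root_.commutator ↥M → (x : G) ∉ typeA M → α x = 0) :
    SuppOn (typeA0 M) α := by
  intro x hx
  by_cases hxc : x ∈ _root_.commutator ↥M
  · exact h2 x hxc fun h3 => hx (Or.inl h3)
  · rw [a_mem_comm_iff] at hxc
    obtain ⟨y, hy, w₁, hw₁, hw₁1, w₂, hw₂, e⟩ := a_conj_W_G h x.2 hxc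
    have hyM : y ∈ M := commutator_le_self M hy
    have e2 : α x = α ⟨w₂ * w₁, mul_mem (h.W₂_le_M hw₂) (h.W₁_le hw₁)⟩ := by
      rw [← hα x ⟨y, hyM⟩]
      congr 1
      exact Subtype.ext e
    rw [e2]
    by_cases hw₂1 : w₂ = 1
    · refine h1 _ (by simpa [hw₂1] using hw₁) ?_
      intro e3
      apply hw₁1
      have := congrArg Subtype.val e3
      simpa [hw₂1] using this
    · exfalso
      apply hx
      refine Or.inr ⟨a_not_typeI_of_P hG hM h, W₁, U, W₂, h, y⁻¹, inv_mem hyM, w₂ * w₁, ?_⟩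
      obtain ⟨k1, k2, k3⟩ := (a_mem_V_iff h).2 ⟨w₁, hw₁, hw₁1, w₂, hw₂, hw₂1, rfl⟩
      refine ⟨k1, k2, k3, ?_⟩
      rw [← e]; simp [mul_assoc]

theorem a_A_eq_P (h : IsTypePWith M W₁ U W₂) (ht : IsOfTypeIII M ∨ IsOfTypeIV M ∨ IsOfTypeV M) :
    typeCore M = ⁅M, M⁆ ∧ typeA M = ((⁅M, M⁆ : Subgroup G) : Set G) \ {1} := by
  have hc : typeCore M = ⁅M, M⁆ := by
    rcases ht with k | k | k
    · exact typeCore_III (Or.inl k)
    · exact typeCore_III (Or.inr k)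
    · rcases a_typeCore_cases (M := M) with e | e
      · exact e
      · rw [e]
        refine le_antisymm h.H_le' fun x hx => ?_
        obtain ⟨a, ha, b, hb, rfl⟩ := h.U_compl.2.2.2 x hx
        have hU := (typeV_of (coatom_sol hG hM) h k).1
        rw [hU, Subgroup.mem_bot] at hb
        rw [hb, mul_one]; exact ha
  refine ⟨hc, ?_⟩
  rw [a_typeA_eq hG hM h, hc]
  ext x
  constructor
  · rintro ⟨h1, h2, -⟩
    exact ⟨h1, h2⟩
  · rintro ⟨h1, h2⟩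
    exact ⟨h1, h2, x, h1, h2, rfl⟩

end Cfsg.Agent.PF
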