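import Cfsg.Agent.PF.A2
import Cfsg.Agent.S1500
import Cfsg.Agent.S1501

set_option autoImplicit false

/-! Part (A), proofs 3: the Dade map of a maximal subgroup (helper11). -/

namespace Cfsg.Agent.PF

open Subgroup ComplexConjugate
open Cfsg.Agent.H3 Cfsg.Agent.H11
open Cfsg.Agent.L (cj nz)
open Cfsg.Agent.OOT
open Cfsg.Agent.H21

universe u v w

section General

variable {G : Type u} [Group G] [Finite G] {A A' : Set G} {L : Subgroup G} {H : G → Subgroup G}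

/-- the Dade maps from `A` and `A' ⊆ A` agree on functions supported on `A'`. -/
theorem a_dade_sub_eq (hD : DadeHypothesis A L H) (hD' : DadeHypothesis A' L H) (hAA : A' ⊆ A)
    {α : ↥L → ℂ} (hα : IsClassFunction ↥L α) (hs : SuppOn A' α) :
    dadeIsometry A L H α = dadeIsometry A' L H α := by
  funext g
  by_cases h : ∃ a : ↥L, (a : G) ∈ A' ∧ ∃ x : G, ∃ u ∈ H (a : G), x * g * x⁻¹ = (a : G) * u
  · obtain ⟨a, ha, x, u, hu, e⟩ := h
    rw [PF.dade_apply hD hα (hAA ha) hu e, PF.dade_apply hD' hα ha hu e]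
  · rw [PF.dade_zero hD' h]
    by_cases h2 : ∃ a : ↥L, (a : G) ∈ A ∧ ∃ x : G, ∃ u ∈ H (a : G), x * g * x⁻¹ = (a : G) * u
    · obtain ⟨a, ha, x, u, hu, e⟩ := h2
      rw [PF.dade_apply hD hα ha hu e]
      refine hs a fun ha' => h ⟨a, ha', x, u, hu, e⟩
    · rw [PF.dade_zero hD h2]

theorem a_dade_at_one (hD : DadeHypothesis A L H) (α : ↥L → ℂ) : dadeIsometry A L H α 1 = 0 := by
  apply PF.dade_zero hD
  rintro ⟨a, ha, x, u, hu, e⟩
  rw [mul_one, mul_inv_cancel] at e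
  have h1 : u = (a : G)⁻¹ := (eq_inv_of_mul_eq_one_right e.symm)
  have h2 : u ∈ H (a : G) ⊓ (L ⊓ Subgroup.centralizer ({(a : G)} : Set G)) := by
    refine ⟨hu, ?_, hD.le_centralizer a ha hu⟩
    rw [h1]; exact L.inv_mem a.2
  rw [hD.inf_eq_bot a ha, Subgroup.mem_bot] at h2
  rw [h2] at h1
  have : (a : G) = 1 := by rw [← inv_inv (a : G), ← h1, inv_one]
  rw [this] at ha
  exact hD.one_not_mem ha

end General

variable {G : Type u} [Group G] [Fintype G] (hG : IsMinSimpleOddOrder G) {M : Subgroup G}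
  [Fintype ↥M] (hM : IsCoatom M)

include hG hM

omit [Fintype ↥M] in
/-- Dade hypothesis -/
theorem dadeHyp {A : Set G} (hA : A = typeA1 M ∨ A = typeA M ∨ A = typeA0 M) :
    DadeHypothesis A M (supportR M) := dadeHypW hG hM hA

omit [Fintype ↥M] in
theorem A1_sub_A : typeA1 M ⊆ typeA M := A1_sub_A' hG hM

omit hG hM [Fintype G] [Fintype ↥M] in
theorem A_sub_A0 : typeA M ⊆ typeA0 M := Set.subset_union_left

theorem tau_inner {α β : ↥M → ℂ} (hα : IsClassFunction ↥M α) (hαA : SuppOn (typeA0 M) α)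
    (hβ : IsClassFunction ↥M β) (hβA : SuppOn (typeA0 M) β) :
    classInner (tauM M α) (tauM M β) = classInner α β :=
  (Cfsg.Agent.S1500.result (typeA0 M) M (supportR M) (dadeHyp hG hM (Or.inr (Or.inr rfl))) α hα
    hαA).1 β hβ hβA

theorem tau_classFun {α : ↥M → ℂ} (hα : IsClassFunction ↥M α) :
    IsClassFunction G (tauM M α) :=
  PF.dade_classFun (dadeHyp hG hM (Or.inr (Or.inr rfl))) hα

theorem tau_gen {α : ↥M → ℂ} (hα : IsGeneralizedCharacter ↥M α) (hαA : SuppOn (typeA0 M) α) :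
    IsGeneralizedCharacter G (tauM M α) :=
  Cfsg.Agent.S1501.result (typeA0 M) M (supportR M) (dadeHyp hG hM (Or.inr (Or.inr rfl))) α hα hαA

theorem tau_inner_rho {α : ↥M → ℂ} (hα : IsClassFunction ↥M α) (hαA : SuppOn (typeA0 M) α)
    {χ : G → ℂ} (hχ : IsClassFunction G χ) :
    classInner (tauM M α) χ = classInner α (rhoM M χ) :=
  (Cfsg.Agent.S1500.result (typeA0 M) M (supportR M) (dadeHyp hG hM (Or.inr (Or.inr rfl))) α hα
    hαA).2 χ _ hχ (fun _ _ => rfl)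

omit hG hM [Fintype G] [Fintype ↥M] in
theorem a_rho_const [Finite G] (c : ℂ) : rhoM M (fun _ : G => c) = fun _ => c := by
  classical
  funext a
  unfold rhoM
  have h0 : (Nat.card (supportR M (a : G)) : ℂ) ≠ 0 := Nat.cast_ne_zero.mpr Nat.card_pos.ne'
  rw [finsum_mem_eq_finite_toFinset_sum _ (Set.toFinite _), Finset.sum_const, nsmul_eq_mul]
  rw [← Nat.card_eq_card_finite_toFinset (Set.toFinite ((supportR M (a : G) : Subgroup G) : Set G))]
  rw [← mul_assoc]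
  have : Nat.card ((supportR M (a : G) : Subgroup G) : Set G) = Nat.card (supportR M (a : G)) := rfl
  rw [this, inv_mul_cancel₀ h0, one_mul]

theorem tau_inner_one {α : ↥M → ℂ} (hα : IsClassFunction ↥M α) (hαA : SuppOn (typeA0 M) α) :
    classInner (tauM M α) (fun _ => 1) = classInner α (fun _ => 1) := by
  rw [tau_inner_rho hG hM hα hαA (classFun_const 1), a_rho_const]

omit [Fintype ↥M] in
theorem tau_at_one (α : ↥M → ℂ) : tauM M α 1 = 0 :=
  a_dade_at_one (dadeHypW hG hM (A := typeA0 M) (Or.inr (Or.inr rfl))) α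

/-- `τ α` vanishes outside `Ã` if `α` vanishes outside `A` -/
theorem tau_supp {A : Set G} (_hA : A ⊆ typeA0 M) {α : ↥M → ℂ} (hα : IsClassFunction ↥M α)
    (hαA : SuppOn A α) {g : G} (hg : g ∉ tildeOf M A) : tauM M α g = 0 := by
  by_cases h2 : ∃ a : ↥M, (a : G) ∈ typeA0 M ∧ ∃ x : G, ∃ u ∈ supportR M (a : G),
      x * g * x⁻¹ = (a : G) * u
  · obtain ⟨a, ha, x, u, hu, e⟩ := h2
    have e1 := PF.dade_apply (dadeHyp hG hM (Or.inr (Or.inr rfl))) hα ha hu e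
    unfold tauM
    rw [e1]
    refine hαA a fun ha' => hg ⟨a, ha', u, hu, x⁻¹, ?_⟩
    rw [← e]; simp [mul_assoc]
  · exact PF.dade_zero (dadeHyp hG hM (Or.inr (Or.inr rfl))) h2

theorem tau_apply {α : ↥M → ℂ} (hα : IsClassFunction ↥M α) {a : ↥M} (ha : (a : G) ∈ typeA0 M)
    {u y : G} (hu : u ∈ supportR M (a : G)) : tauM M α (y * (a * u) * y⁻¹) = α a :=
  PF.dade_apply (dadeHyp hG hM (Or.inr (Or.inr rfl))) hα ha hu (x := y⁻¹) (by simp [mul_assoc])

theorem tau_eq_A {α : ↥M → ℂ} (hα : IsClassFunction ↥M α) (hαA : SuppOn (typeA M) α) :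
    tauM M α = dadeIsometry (typeA M) M (supportR M) α :=
  a_dade_sub_eq (dadeHyp hG hM (Or.inr (Or.inr rfl))) (dadeHyp hG hM (Or.inr (Or.inl rfl)))
    A_sub_A0 hα hαA

theorem tau_eq_A1 {α : ↥M → ℂ} (hα : IsClassFunction ↥M α) (hαA : SuppOn (typeA1 M) α) :
    tauM M α = dadeIsometry (typeA1 M) M (supportR M) α :=
  a_dade_sub_eq (dadeHyp hG hM (Or.inr (Or.inr rfl))) (dadeHyp hG hM (Or.inl rfl))
    ((A1_sub_A hG hM).trans A_sub_A0) hα hαA

theorem rho_classFun {χ : G → ℂ} (hχ : IsClassFunction G χ) (a b : ↥M)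
    (ha : (a : G) ∈ typeA0 M) : rhoM M χ (b * a * b⁻¹) = rhoM M χ a := by
  classical
  have hD := dadeHyp hG hM (M := M) (A := typeA0 M) (Or.inr (Or.inr rfl))
  have hb : (b : G) * a * (b : G)⁻¹ ∈ typeA0 M := hD.conj_mem b b.2 a ha
  unfold rhoM
  have e0 : ((b * a * b⁻¹ : ↥M) : G) = (b : G) * a * (b : G)⁻¹ := rfl
  rw [e0, PF.card_H_conj hD ha hb]
  congr 1
  symm
  refine finsum_mem_eq_of_bijOn (fun u : G => (b : G) * u * (b : G)⁻¹) ⟨?_, ?_, ?_⟩ ?_
  · intro u hu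
    exact PF.H_conj_mem hD ha hb hu
  · intro u _ v _ huv
    simpa using huv
  · intro v hv
    refine ⟨(b : G)⁻¹ * v * b, ?_, by simp [mul_assoc]⟩
    have := (PF.H_conj_iff hD ha hb (u := (b : G)⁻¹ * v * b)).1 (by
      have : (b : G) * ((b : G)⁻¹ * v * b) * (b : G)⁻¹ = v := by simp [mul_assoc]
      rw [this]; exact hv)
    exact this
  · intro u _
    have : (b : G) * a * (b : G)⁻¹ * ((b : G) * u * (b : G)⁻¹) = b * (a * u) * (b : G)⁻¹ := by
      simp [mul_assoc]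
    show χ ((a : G) * u) = χ ((b : G) * a * (b : G)⁻¹ * ((b : G) * u * (b : G)⁻¹))
    rw [this, hχ]

theorem rho_norm_le {χ : G → ℂ} (hχ : IsClassFunction G χ) {A : Set G}
    (hA : A = typeA1 M ∨ A = typeA M ∨ A = typeA0 M) :
    (Nat.card M : ℝ)⁻¹ * ∑ᶠ a ∈ {a : ↥M | (a : G) ∈ A}, ‖rhoM M χ a‖ ^ 2 ≤
      (Nat.card G : ℝ)⁻¹ * ∑ᶠ g ∈ tildeOf M A, ‖χ g‖ ^ 2 := by
  have h := Cfsg.Agent.S1525.result A M (supportR M) (dadeHyp hG hM hA) χ hχ (rhoM M χ)
    (fun _ _ => rfl)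
  have e : {g : G | ∃ a ∈ A, ∃ u ∈ supportR M a, ∃ x : G, x * g * x⁻¹ = a * u} = tildeOf M A := by
    ext g
    constructor
    · rintro ⟨a, ha, u, hu, x, e⟩
      exact ⟨a, ha, u, hu, x⁻¹, by rw [← e]; simp [mul_assoc]⟩
    · rintro ⟨a, ha, u, hu, x, e⟩
      exact ⟨a, ha, u, hu, x⁻¹, by rw [e]; simp [mul_assoc]⟩
  rwa [e] at h

end Cfsg.Agent.PF
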