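import Cfsg.Agent.PF.A3
import Cfsg.Agent.H3.CohB

set_option autoImplicit false

/-! Part (A), proofs 4: the family `η` (helper11). -/

namespace Cfsg.Agent.PF

open Subgroup ComplexConjugate
open Cfsg.Agent.H3 Cfsg.Agent.H11

universe u v w

section Lin2

variable {G : Type u} [Group G] {W₁ W₂ : Subgroup G}

theorem a_lin_mul_comm (a b : Lin W₁ W₂) : a * b = b * a := by
  ext w; rw [MonoidHom.mul_apply, MonoidHom.mul_apply, mul_comm]

theorem a_lin_one_mul (a : Lin W₁ W₂) : (1 : Lin W₁ W₂) * a = a := by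
  ext w; rw [MonoidHom.mul_apply, MonoidHom.one_apply, one_mul]

theorem a_lin_mul_one (a : Lin W₁ W₂) : a * (1 : Lin W₁ W₂) = a := by
  ext w; rw [MonoidHom.mul_apply, MonoidHom.one_apply, mul_one]

theorem a_lin_inv_mul (a : Lin W₁ W₂) : a⁻¹ * a = 1 := by
  ext w; rw [MonoidHom.mul_apply, MonoidHom.inv_apply, MonoidHom.one_apply, inv_mul_cancel]

theorem a_lin_mul_inv (a : Lin W₁ W₂) : a * a⁻¹ = 1 := by
  ext w; rw [MonoidHom.mul_apply, MonoidHom.inv_apply, MonoidHom.one_apply, mul_inv_cancel]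

theorem a_lin_inv_inv (a : Lin W₁ W₂) : a⁻¹⁻¹ = a := by
  ext w; rw [MonoidHom.inv_apply, MonoidHom.inv_apply, inv_inv]

theorem a_lin_mul_assoc (a b c : Lin W₁ W₂) : a * b * c = a * (b * c) := by
  ext w; simp only [MonoidHom.mul_apply, mul_assoc]

theorem a_lin_inv_one : (1 : Lin W₁ W₂)⁻¹ = 1 := by
  ext w; rw [MonoidHom.inv_apply, MonoidHom.one_apply, inv_one]

theorem a_lin_mul_inv_rev (a b : Lin W₁ W₂) : (a * b)⁻¹ = a⁻¹ * b⁻¹ := by
  ext w; rw [MonoidHom.inv_apply, MonoidHom.mul_apply, MonoidHom.mul_apply, MonoidHom.inv_apply,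
    MonoidHom.inv_apply, mul_inv]

theorem a_lin_inv_inj {a b : Lin W₁ W₂} : a⁻¹ = b⁻¹ ↔ a = b := by
  refine ⟨fun h => ?_, fun h => by rw [h]⟩
  rw [← a_lin_inv_inv a, h, a_lin_inv_inv]

/-- two index-`j` characters agreeing on `W₂` are equal -/
theorem a_lin_ext {a b : Lin W₁ W₂} (h1 : ∀ w : ↥(W₁ ⊔ W₂), (w : G) ∈ W₁ → a w = b w)
    (h2 : ∀ w : ↥(W₁ ⊔ W₂), (w : G) ∈ W₂ → a w = b w) : a = b := by
  have key : ∀ (x : G) (hx : x ∈ W₁ ⊔ W₂), a ⟨x, hx⟩ = b ⟨x, hx⟩ := by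
    intro x hx
    have hx' : x ∈ Subgroup.closure ((W₁ : Set G) ∪ W₂) := by
      rwa [Subgroup.closure_union, Subgroup.closure_eq, Subgroup.closure_eq]
    have : ∀ hx : x ∈ W₁ ⊔ W₂, a ⟨x, hx⟩ = b ⟨x, hx⟩ := by
      refine Subgroup.closure_induction
        (p := fun x _ => ∀ hx : x ∈ W₁ ⊔ W₂, a ⟨x, hx⟩ = b ⟨x, hx⟩) ?_ ?_ ?_ ?_ hx'
      · rintro y (hy | hy) hyW
        · exact h1 ⟨y, hyW⟩ hy
        · exact h2 ⟨y, hyW⟩ hy
      · intro h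
        exact h1 ⟨1, h⟩ (one_mem _)
      · intro y z hy hz ihy ihz hyz
        have hyW : y ∈ W₁ ⊔ W₂ := by
          rwa [Subgroup.closure_union, Subgroup.closure_eq, Subgroup.closure_eq] at hy
        have hzW : z ∈ W₁ ⊔ W₂ := by
          rwa [Subgroup.closure_union, Subgroup.closure_eq, Subgroup.closure_eq] at hz
        have e : (⟨y * z, hyz⟩ : ↥(W₁ ⊔ W₂)) = ⟨y, hyW⟩ * ⟨z, hzW⟩ := rfl
        rw [e, map_mul, map_mul, ihy, ihz]
      · intro y hy ihy hyi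
        have hyW : y ∈ W₁ ⊔ W₂ := by
          rwa [Subgroup.closure_union, Subgroup.closure_eq, Subgroup.closure_eq] at hy
        have e : (⟨y⁻¹, hyi⟩ : ↥(W₁ ⊔ W₂)) = ⟨y, hyW⟩⁻¹ := rfl
        rw [e, map_inv, map_inv, ihy]
    exact this hx
  ext w
  rw [key w w.2]

theorem a_coprime_of_selfNorm [Finite G] (hW : IsSelfNormalizingCyclic W₁ W₂) :
    (Nat.card W₁).Coprime (Nat.card W₂) := by
  have : IsCyclic ↥(W₁ ⊔ W₂) := hW.2.2.2.2.1
  by_contra hcon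
  obtain ⟨p, hp, h1, h2⟩ := Nat.Prime.not_coprime_iff_dvd.1 hcon
  have := Fact.mk hp
  obtain ⟨a, ha⟩ := exists_prime_orderOf_dvd_card' p h1
  have haW : (a : G) ∈ W₁ ⊔ W₂ := Subgroup.mem_sup_left a.2
  have hpow : (⟨(a : G), haW⟩ : ↥(W₁ ⊔ W₂)) ^ Nat.card (W₂.subgroupOf (W₁ ⊔ W₂)) = 1 := by
    have e : Nat.card (W₂.subgroupOf (W₁ ⊔ W₂)) = Nat.card W₂ :=
      Nat.card_congr (Subgroup.subgroupOfEquivOfLe (le_sup_right : W₂ ≤ W₁ ⊔ W₂)).toEquiv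
    rw [e]
    obtain ⟨c, hc⟩ := h2
    apply Subtype.ext
    have h3 : a ^ p = 1 := by rw [← ha]; exact pow_orderOf_eq_one a
    have h4 := congrArg (fun z : W₁ => (z : G)) h3
    simp only [Subgroup.coe_pow, Subgroup.coe_one] at h4 ⊢
    rw [hc, pow_mul, h4, one_pow]
  have h5 := PF.mem_of_pow_cyclic _ hpow
  rw [Subgroup.mem_subgroupOf] at h5
  have h6 : (a : G) ∈ W₁ ⊓ W₂ := ⟨a.2, h5⟩
  rw [hW.2.2.1, Subgroup.mem_bot] at h6
  have h7 : a = 1 := Subtype.ext h6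
  rw [h7, orderOf_one] at ha
  exact hp.one_lt.ne ha

variable [Finite G]

theorem a_J_pow (hp : (Nat.card W₂).Prime) {ψ ψ' : Lin W₁ W₂} (hψ : IsJ W₁ W₂ ψ)
    (hψ' : IsJ W₁ W₂ ψ') (h1 : ψ ≠ 1) (h1' : ψ' ≠ 1) :
    ∃ k : ℕ, k.Coprime (Nat.card W₂) ∧ ψ' = ψ ^ k := by
  have hex : ∃ w : ↥(W₁ ⊔ W₂), (w : G) ∈ W₂ ∧ ψ w ≠ 1 := by
    by_contra hcon
    push Not at hcon
    exact h1 (a_lin_ext hψ hcon)
  obtain ⟨w, hw, hne⟩ := hex
  have hwp : w ^ Nat.card W₂ = 1 := by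
    apply Subtype.ext
    have := congrArg (fun z : W₂ => (z : G)) (pow_card_eq_one' (x := (⟨(w : G), hw⟩ : W₂)))
    simp only [Subgroup.coe_pow, Subgroup.coe_one] at this ⊢
    exact this
  have hprim : IsPrimitiveRoot (ψ w : ℂ) (Nat.card W₂) := by
    rw [IsPrimitiveRoot.iff_orderOf]
    have := Fact.mk hp
    refine orderOf_eq_prime ?_ (fun h => hne (Units.ext h))
    rw [← Units.val_pow_eq_pow_val, ← map_pow, hwp, map_one]; rfl
  have hroot : (ψ' w : ℂ) ^ Nat.card W₂ = 1 := by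
    rw [← Units.val_pow_eq_pow_val, ← map_pow, hwp, map_one]; rfl
  have : NeZero (Nat.card W₂) := ⟨hp.ne_zero⟩
  obtain ⟨k, -, hk⟩ := hprim.eq_pow_of_pow_eq_one hroot
  have hgen : ∀ x : ↥(W₁ ⊔ W₂), (x : G) ∈ W₂ → ∃ m : ℕ, x = w ^ m := by
    intro x hx
    have hw1 : (⟨(w : G), hw⟩ : W₂) ≠ 1 := by
      intro e
      apply hne
      have : w = 1 := Subtype.ext (by simpa using congrArg (fun z : W₂ => (z : G)) e)
      rw [this, map_one]
    have := Fact.mk hp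
    have hmem : (⟨(x : G), hx⟩ : W₂) ∈ Subgroup.zpowers (⟨(w : G), hw⟩ : W₂) :=
      mem_zpowers_of_prime_card rfl hw1
    rw [← mem_powers_iff_mem_zpowers] at hmem
    obtain ⟨m, hm⟩ := hmem
    exact ⟨m, Subtype.ext (by simpa using (congrArg (fun z : W₂ => (z : G)) hm).symm)⟩
  have heq : ψ' = ψ ^ k := by
    apply a_lin_ext
    · intro x hx
      rw [hψ' x hx, MonoidHom.pow_apply, hψ x hx, one_pow]
    · intro x hx
      obtain ⟨m, rfl⟩ := hgen x hx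
      rw [map_pow, MonoidHom.pow_apply, map_pow, ← pow_mul, mul_comm m k, pow_mul]
      congr 1
      exact Units.ext (by rw [← hk]; rfl)
  refine ⟨k, ?_, heq⟩
  rw [Nat.coprime_comm, hp.coprime_iff_not_dvd]
  intro hd
  apply h1'
  rw [heq]
  apply a_lin_ext
  · intro x hx
    rw [MonoidHom.pow_apply, hψ x hx, one_pow]; rfl
  · intro x hx
    obtain ⟨m, rfl⟩ := hgen x hx
    obtain ⟨c, rfl⟩ := hd
    rw [MonoidHom.pow_apply, map_pow, ← pow_mul, mul_comm m, mul_assoc, pow_mul, ← map_pow, hwp,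
      map_one, one_pow]
    rfl

end Lin2

section Eta

variable {G : Type u} [Group G] [Fintype G] {W₁ W₂ : Subgroup G}
  (hW : IsSelfNormalizingCyclic W₁ W₂) {η : Lin W₁ W₂ → G → ℂ} (hη : IsCyclicTIFamily W₁ W₂ η)

include hη

theorem eta_sirr (ω : Lin W₁ W₂) : SIrr (η ω) := hη.irr_or_neg ω

/-- (A4) the grid relation -/
theorem grid_add {θ : G → ℂ} (hθ : IsClassFunction G θ) (hV : ∀ v ∈ Vset W₁ W₂, θ v = 0)
    {φ ψ : Lin W₁ W₂} (hφ : IsI W₁ W₂ φ) (hψ : IsJ W₁ W₂ ψ) :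
    classInner θ (η (φ * ψ)) + classInner θ (η 1) = classInner θ (η φ) + classInner θ (η ψ) := by
  rw [PF.additive_of_vanish hη hθ (fun w h1 h2 => hV w ⟨w.2, h1, h2⟩) (a_isI_iff_ann.1 hφ)
    (a_isJ_iff_ann.1 hψ)]
  ring

/-- four point form of the grid relation -/
theorem grid_add4 {θ : G → ℂ} (hθ : IsClassFunction G θ) (hV : ∀ v ∈ Vset W₁ W₂, θ v = 0)
    {φ φ' ψ ψ' : Lin W₁ W₂} (hφ : IsI W₁ W₂ φ) (hφ' : IsI W₁ W₂ φ') (hψ : IsJ W₁ W₂ ψ)
    (hψ' : IsJ W₁ W₂ ψ') :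
    classInner θ (η (φ * ψ)) + classInner θ (η (φ' * ψ')) =
      classInner θ (η (φ * ψ')) + classInner θ (η (φ' * ψ)) := by
  have h1 := grid_add hη hθ hV hφ hψ
  have h2 := grid_add hη hθ hV hφ' hψ'
  have h3 := grid_add hη hθ hV hφ hψ'
  have h4 := grid_add hη hθ hV hφ' hψ
  linear_combination h1 + h2 - h3 - h4

/-- if the coefficients in some column vanish, then they are constant in each column -/
theorem grid_col {θ : G → ℂ} (hθ : IsClassFunction G θ) (hV : ∀ v ∈ Vset W₁ W₂, θ v = 0)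
    {ψ₀ : Lin W₁ W₂} (hψ₀ : IsJ W₁ W₂ ψ₀)
    (h0 : ∀ φ, IsI W₁ W₂ φ → classInner θ (η (φ * ψ₀)) = 0)
    {φ ψ : Lin W₁ W₂} (hφ : IsI W₁ W₂ φ) (hψ : IsJ W₁ W₂ ψ) :
    classInner θ (η (φ * ψ)) = classInner θ (η ψ) := by
  have h := grid_add4 hη hθ hV hφ IsI.one hψ hψ₀
  rw [h0 φ hφ, h0 1 IsI.one, a_lin_one_mul] at h
  linear_combination h

/-- a grid with a zero row and a zero column is zero -/
theorem a_grid_zero (hW : IsSelfNormalizingCyclic W₁ W₂) {θ : G → ℂ} (hθ : IsClassFunction G θ)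
    (hV : ∀ v ∈ Vset W₁ W₂, θ v = 0) {φ₀ ψ₀ : Lin W₁ W₂} (hφ₀ : IsI W₁ W₂ φ₀)
    (hψ₀ : IsJ W₁ W₂ ψ₀) (h0 : ∀ φ, IsI W₁ W₂ φ → classInner θ (η (φ * ψ₀)) = 0)
    (h0' : ∀ ψ, IsJ W₁ W₂ ψ → classInner θ (η (φ₀ * ψ)) = 0) (ω : Lin W₁ W₂) :
    classInner θ (η ω) = 0 := by
  obtain ⟨φ, ψ, h1, h2, rfl⟩ := lin_factor hW ω
  have h := grid_add4 hη hθ hV h1 hφ₀ h2 hψ₀
  rw [h0 φ h1, h0 φ₀ hφ₀, h0' ψ h2] at h
  linear_combination h

omit hη [Fintype G] in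
theorem a_three_le [Finite G] (hW : IsSelfNormalizingCyclic W₁ W₂) (hodd : Odd (Nat.card ↥(W₁ ⊔ W₂))) :
    3 ≤ Nat.card W₁ ∧ 3 ≤ Nat.card W₂ := by
  have key : ∀ A : Subgroup G, A ≤ W₁ ⊔ W₂ → A ≠ ⊥ → 3 ≤ Nat.card A := by
    intro A hA hne
    have h1 : Nat.card A ∣ Nat.card ↥(W₁ ⊔ W₂) := Subgroup.card_dvd_of_le hA
    have h2 : Odd (Nat.card A) := hodd.of_dvd_nat h1
    have h3 : Nat.card A ≠ 1 := fun h => hne (Subgroup.card_eq_one.1 h)
    obtain ⟨k, hk⟩ := h2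
    omega
  exact ⟨key W₁ le_sup_left hW.1, key W₂ le_sup_right hW.2.1⟩

/-- a generalized character vanishing on `V` with at most 2 nonzero coefficients -/
theorem a_grid_few (hodd : Odd (Nat.card ↥(W₁ ⊔ W₂))) (hW : IsSelfNormalizingCyclic W₁ W₂)
    {θ : G → ℂ} (hθ : IsClassFunction G θ) (hV : ∀ v ∈ Vset W₁ W₂, θ v = 0)
    (N : Finset (Lin W₁ W₂)) (hN : N.card ≤ 2) (h : ∀ ω, ω ∉ N → classInner θ (η ω) = 0)
    (ω : Lin W₁ W₂) : classInner θ (η ω) = 0 := by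
  classical
  choose f g hf hg hfg using lin_factor hW
  obtain ⟨t1, t2⟩ := a_three_le hW hodd
  have e1 : ∃ φ₀ ∈ idxI W₁ W₂, φ₀ ∉ N.image f := by
    by_contra hcon
    push Not at hcon
    have := (Finset.card_le_card hcon).trans Finset.card_image_le
    rw [card_idxI hW] at this
    omega
  have e2 : ∃ ψ₀ ∈ idxJ W₁ W₂, ψ₀ ∉ N.image g := by
    by_contra hcon
    push Not at hcon
    have := (Finset.card_le_card hcon).trans Finset.card_image_le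
    rw [card_idxJ hW] at this
    omega
  obtain ⟨φ₀, hφ₀, hφ₀'⟩ := e1
  obtain ⟨ψ₀, hψ₀, hψ₀'⟩ := e2
  rw [mem_idxI] at hφ₀
  rw [mem_idxJ] at hψ₀
  refine a_grid_zero hη hW hθ hV hφ₀ hψ₀ (fun φ hφ => h _ fun hm => ?_) (fun ψ hψ => h _ fun hm => ?_) ω
  · apply hψ₀'
    rw [Finset.mem_image]
    refine ⟨_, hm, ?_⟩
    exact (lin_unique hW hφ (hf _) hψ₀ (hg _) (hfg (φ * ψ₀))).2.symm
  · apply hφ₀'
    rw [Finset.mem_image]
    refine ⟨_, hm, ?_⟩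
    exact (lin_unique hW hφ₀ (hf _) hψ (hg _) (hfg (φ₀ * ψ))).1.symm

theorem a_eta_bessel (N : Finset (Lin W₁ W₂)) (θ : G → ℂ) :
    ∑ ω ∈ N, ‖classInner θ (η ω)‖ ^ 2 ≤ (classInner θ θ).re := by
  classical
  have := bessel_le N η (fun _ => 1) (fun _ _ => one_ne_zero) (fun i _ j _ => by
    rw [hη.orthonormal]; simp) θ
  simpa using this

/-- a generalized character vanishing on `V` with norm at most 2 is orthogonal to all `η` -/
theorem grid_small (hodd : Odd (Nat.card ↥(W₁ ⊔ W₂))) (hW : IsSelfNormalizingCyclic W₁ W₂)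
    {θ : G → ℂ} (hθ : IsGeneralizedCharacter G θ) (hV : ∀ v ∈ Vset W₁ W₂, θ v = 0)
    (h2 : (classInner θ θ).re ≤ 2) (ω : Lin W₁ W₂) : classInner θ (η ω) = 0 := by
  classical
  have := Fintype.ofFinite (Lin W₁ W₂)
  obtain ⟨N, hN⟩ : ∃ N : Finset (Lin W₁ W₂), N = Finset.univ.filter
    (fun ω => classInner θ (η ω) ≠ 0) := ⟨_, rfl⟩
  refine a_grid_few hη hodd hW (isGen_classFun hθ) hV N ?_ (fun ω hω => ?_) ω
  · have h3 := a_eta_bessel hη N θ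
    have h4 : (N.card : ℝ) ≤ ∑ ω ∈ N, ‖classInner θ (η ω)‖ ^ 2 := by
      rw [Finset.card_eq_sum_ones, Nat.cast_sum]
      refine Finset.sum_le_sum fun ω hω => ?_
      rw [hN, Finset.mem_filter] at hω
      obtain ⟨n, hn⟩ := classInner_gen_int hθ (eta_sirr hη ω).isGen
      rw [hn] at hω ⊢
      have h5 : n ≠ 0 := fun h => hω.2 (by rw [h]; simp)
      rw [Complex.norm_intCast, sq_abs]
      have h6 : (1 : ℤ) ≤ n ^ 2 := by
        have := mul_self_pos.mpr h5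
        nlinarith
      push_cast
      exact_mod_cast h6
    have h5 : (N.card : ℝ) ≤ 2 := h4.trans (h3.trans h2)
    exact_mod_cast h5
  · rw [hN, Finset.mem_filter] at hω
    push Not at hω
    exact hω (Finset.mem_univ _)

include hW

theorem eta_conj (hodd : Odd (Nat.card ↥(W₁ ⊔ W₂))) (ω : Lin W₁ W₂) :
    conjFun (η ω) = η ω⁻¹ := by
  funext g
  have h := PF.family_galois_apply hW hodd hη starRingAut ω g
  have e : (Units.map ((starRingAut : ℂ ≃+* ℂ) : ℂ →* ℂ)).comp ω = ω⁻¹ := by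
    ext w
    rw [MonoidHom.comp_apply, MonoidHom.inv_apply]
    have h1 := PF.conj_hf ω w
    rw [map_inv] at h1
    exact h1
  rw [e] at h
  exact h

/-- a class function orthogonal to all the `η` vanishes on `V` -/
theorem vanish_V {θ : G → ℂ} (hθ : IsClassFunction G θ) (h : ∀ ω, classInner θ (η ω) = 0) :
    ∀ v ∈ Vset W₁ W₂, θ v = 0 := by
  rintro v ⟨h1, h2, h3⟩
  exact PF.vanish_of_orth hW hη hθ h ⟨v, h1⟩ h2 h3

omit hW in
/-- (A9) values off the conjugates of `V` -/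
theorem eta_grid_val {g : G} (hg : ∀ y : G, y * g * y⁻¹ ∉ Vset W₁ W₂) {φ ψ : Lin W₁ W₂}
    (hφ : IsI W₁ W₂ φ) (hψ : IsJ W₁ W₂ ψ) : η (φ * ψ) g + 1 = η φ g + η ψ g := by
  have h := congrFun (PF.ind_al_eq hη (a_isI_iff_ann.1 hφ) (a_isJ_iff_ann.1 hψ)) g
  have h0 : indFun (W₁ ⊔ W₂) (PF.al φ ψ) g = 0 := by
    unfold indFun
    rw [Finset.sum_eq_zero, mul_zero]
    intro x _
    unfold extendByZero
    by_cases hx : x⁻¹ * g * x ∈ W₁ ⊔ W₂
    · have e : x⁻¹ * g * x = ((⟨x⁻¹ * g * x, hx⟩ : ↥(W₁ ⊔ W₂)) : G) := rfl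
      rw [e, Subtype.val_injective.extend_apply]
      apply PF.al_zero (a_isI_iff_ann.1 hφ) (a_isJ_iff_ann.1 hψ)
      by_contra hcon
      push Not at hcon
      exact hg x⁻¹ ⟨by simpa using hx, by simpa using hcon.1, by simpa using hcon.2⟩
    · rw [Function.extend_apply']
      · rfl
      · rintro ⟨y, hy⟩
        exact hx (hy ▸ y.2)
  rw [h0] at h
  simp only [Pi.add_apply, Pi.sub_apply, hη.map_one] at h
  linear_combination -h

theorem eta_int (hodd : Odd (Nat.card ↥(W₁ ⊔ W₂))) (ω : Lin W₁ W₂) {g : G}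
    (hg : (orderOf g).Coprime (orderOf ω)) : ∃ n : ℤ, η ω g = n :=
  PF.family_integral hW hodd hη ω g hg

/-- if `|W₂| = p` is prime and `p ∤ o(g)` then `η_0j(g)` does not depend on `j ≠ 0`; more generally
for `ω, ω'` with the same index `i = φ` -/
theorem eta_const (hodd : Odd (Nat.card ↥(W₁ ⊔ W₂))) (hp : (Nat.card W₂).Prime) {g : G}
    (hg : ¬ Nat.card W₂ ∣ orderOf g) {φ ψ ψ' : Lin W₁ W₂} (hφ : IsI W₁ W₂ φ) (hψ : IsJ W₁ W₂ ψ)
    (hψ' : IsJ W₁ W₂ ψ') (h1 : ψ ≠ 1) (h1' : ψ' ≠ 1) : η (φ * ψ) g = η (φ * ψ') g := by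
  obtain ⟨k₀, hk₀, rfl⟩ := a_J_pow hp hψ hψ' h1 h1'
  have hcop := a_coprime_of_selfNorm hW
  have hc2 : (Nat.card W₂).Coprime (orderOf g * Nat.card W₁) :=
    Nat.Coprime.mul_right ((hp.coprime_iff_not_dvd).2 hg) hcop.symm
  obtain ⟨l, hl1, hl2⟩ := Nat.chineseRemainder hc2 k₀ 1
  have c1 : l.Coprime (Nat.card W₂) := by
    rw [Nat.Coprime, Nat.ModEq.gcd_eq hl1]; exact hk₀
  have c2 : l.Coprime (orderOf g * Nat.card W₁) := by
    rw [Nat.Coprime, Nat.ModEq.gcd_eq hl2]; exact Nat.coprime_one_left _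
  have hd0 : Nat.card W₂ * (orderOf g * Nat.card W₁) ≠ 0 :=
    mul_ne_zero hp.ne_zero (mul_ne_zero (orderOf_pos g).ne' Nat.card_pos.ne')
  obtain ⟨k, hk1, hk2⟩ := PF.exists_coprime_modEq
    (n := Nat.card G * (Nat.card W₂ * (orderOf g * Nat.card W₁)))
    (mul_ne_zero Nat.card_pos.ne' hd0) (dvd_mul_left _ _) (Nat.Coprime.mul_right c1 c2)
  have hkG : k.Coprime (Nat.card G) := Nat.Coprime.coprime_dvd_right (dvd_mul_right _ _) hk1
  have m1 : k ≡ k₀ [MOD Nat.card W₂] := (Nat.ModEq.of_dvd (dvd_mul_right _ _) hk2).trans hl1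
  have m2 : k ≡ 1 [MOD orderOf g * Nat.card W₁] :=
    (Nat.ModEq.of_dvd (dvd_mul_left _ _) hk2).trans hl2
  have e1 : g ^ k = g := by
    have := (pow_eq_pow_iff_modEq (x := g) (n := k) (m := 1)).mpr
      (Nat.ModEq.of_dvd (dvd_mul_right _ _) m2)
    rwa [pow_one] at this
  have e2 : φ ^ k = φ := by
    apply a_lin_ext
    · intro w hw
      rw [MonoidHom.pow_apply, ← map_pow]
      congr 1
      apply Subtype.ext
      have h3 : k ≡ 1 [MOD orderOf (⟨(w : G), hw⟩ : W₁)] :=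
        Nat.ModEq.of_dvd (orderOf_dvd_natCard _) (Nat.ModEq.of_dvd (dvd_mul_left _ _) m2)
      have := (pow_eq_pow_iff_modEq (x := (⟨(w : G), hw⟩ : W₁)) (n := k) (m := 1)).mpr h3
      rw [pow_one] at this
      simpa using congrArg (fun z : W₁ => (z : G)) this
    · intro w hw
      rw [MonoidHom.pow_apply, hφ w hw, one_pow]
  have e3 : ψ ^ k = ψ ^ k₀ := by
    apply a_lin_ext
    · intro w hw
      rw [MonoidHom.pow_apply, MonoidHom.pow_apply, hψ w hw, one_pow, one_pow]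
    · intro w hw
      rw [MonoidHom.pow_apply, MonoidHom.pow_apply, ← map_pow, ← map_pow]
      congr 1
      apply Subtype.ext
      have h3 : k ≡ k₀ [MOD orderOf (⟨(w : G), hw⟩ : W₂)] :=
        Nat.ModEq.of_dvd (orderOf_dvd_natCard _) m1
      have := (pow_eq_pow_iff_modEq (x := (⟨(w : G), hw⟩ : W₂)) (n := k) (m := k₀)).mpr h3
      simpa using congrArg (fun z : W₂ => (z : G)) this
  have h := PF.family_pow hW hodd hη (φ * ψ) g hkG
  rw [e1] at h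
  rw [h]
  congr 1
  rw [← e3]
  conv_rhs => rw [← e2]
  ext w
  simp [mul_pow]

end Eta

end Cfsg.Agent.PF
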