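import Cfsg.Agent.PF.A4
import Cfsg.Agent.S1511
import Cfsg.Agent.S1513
import Cfsg.Agent.S1493
import Cfsg.Agent.H3.GoingDown

set_option autoImplicit false

/-! Part (A), proofs 5: the frame (helper11). -/

namespace Cfsg.Agent.PF

open Subgroup ComplexConjugate
open Cfsg.Agent.H3 Cfsg.Agent.H11
open Cfsg.Agent.L (cj nz)
open Cfsg.Agent.OOT
open Cfsg.Agent.H21

universe u v w

variable {G : Type u} [Group G] [Finite G] {M W₁ U W₂ : Subgroup G} [Fintype ↥M]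
  {μ : Lin W₁ W₂ → ↥M → ℂ} {δ : Lin W₁ W₂ → ℤ}

/-- the data given by (4.3) -/
structure PreFrame (M W₁ U W₂ : Subgroup G) [Fintype ↥M] (μ : Lin W₁ W₂ → ↥M → ℂ)
    (δ : Lin W₁ W₂ → ℤ) : Prop where
  hP : IsTypePWith M W₁ U W₂
  odd : Odd (Nat.card ↥M)
  irr : ∀ ω, IsIrrCharacter ↥M (μ ω)
  inj : Function.Injective μ
  sign : ∀ ω, δ ω = 1 ∨ δ ω = -1
  apply_W : ∀ (ω : Lin W₁ W₂) (w : ↥(W₁ ⊔ W₂)) (hw : (w : G) ∈ M), (w : G) ∉ W₂ →
    μ ω ⟨w, hw⟩ = (δ ω : ℂ) * (ω w : ℂ)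
  vanish_W : ∀ θ, IsIrrCharacter ↥M θ → (∀ ω, θ ≠ μ ω) → ∀ (w : ↥(W₁ ⊔ W₂)) (hw : (w : G) ∈ M),
    (w : G) ∉ W₂ → θ ⟨w, hw⟩ = 0
  deg : ∀ ω, ∃ d : ℕ, 0 < d ∧ μ ω 1 = d ∧ (Nat.card W₁ : ℤ) ∣ (d : ℤ) - δ ω

omit [Finite G] [Fintype ↥M] in
theorem a_card_sub_W₁ (hP : IsTypePWith M W₁ U W₂) : Nat.card (W₁.subgroupOf M) = Nat.card W₁ :=
  Nat.card_congr (Subgroup.subgroupOfEquivOfLe hP.W₁_le).toEquiv

omit [Finite G] [Fintype ↥M] in
theorem a_sub_sup (hP : IsTypePWith M W₁ U W₂) :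
    (W₁ ⊔ W₂).subgroupOf M = W₁.subgroupOf M ⊔ W₂.subgroupOf M :=
  Subgroup.subgroupOf_sup hP.W₁_le hP.W₂_le_M

/-- the hypotheses of S1510-S1513 for `M` -/
theorem a_pti_hyp (hP : IsTypePWith M W₁ U W₂) (hodd : Odd (Nat.card ↥M)) :
    _root_.commutator ↥M ⊓ W₁.subgroupOf M = ⊥ ∧ _root_.commutator ↥M ⊔ W₁.subgroupOf M = ⊤ ∧
    W₁.subgroupOf M ≠ ⊥ ∧ IsCyclic (W₁.subgroupOf M) ∧
    Nat.Coprime (Nat.card (W₁.subgroupOf M)) (W₁.subgroupOf M).index ∧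
    W₂.subgroupOf M ≠ ⊥ ∧ IsCyclic (W₂.subgroupOf M) ∧ W₂.subgroupOf M ≤ _root_.commutator ↥M ∧
    (∀ x ∈ W₁.subgroupOf M, x ≠ 1 → _root_.commutator ↥M ⊓ Subgroup.centralizer ({x} : Set ↥M) =
      W₂.subgroupOf M) ∧ Odd (Nat.card ↥(W₁.subgroupOf M ⊔ W₂.subgroupOf M)) := by
  have hne : ∀ A : Subgroup G, A ≤ M → A ≠ ⊥ → A.subgroupOf M ≠ ⊥ := by
    intro A hA hne h
    rw [Subgroup.subgroupOf_eq_bot, disjoint_iff, inf_of_le_left hA] at h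
    exact hne h
  refine ⟨?_, ?_, hne _ hP.W₁_le hP.W₁_ne, ?_, ?_, hne _ hP.W₂_le_M hP.selfNormalizing.2.1, ?_, ?_,
    ?_, ?_⟩
  · rw [eq_bot_iff]
    rintro x ⟨h1, h2⟩
    exact Subtype.ext (a_W₁_inf' hP (Subgroup.mem_subgroupOf.1 h2) (a_mem_comm_iff.1 h1))
  · rw [eq_top_iff]
    rintro x -
    obtain ⟨k, hk, w, hw, e⟩ := hP.W₁_compl.2.2.2 x x.2
    have e2 : x = ⟨k, commutator_le_self M hk⟩ * ⟨w, hP.W₁_le hw⟩ := Subtype.ext e
    rw [e2]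
    exact mul_mem (Subgroup.mem_sup_left (a_mem_comm_iff.2 hk)) (Subgroup.mem_sup_right hw)
  · have := hP.W₁_cyclic
    exact isCyclic_of_surjective _ (Subgroup.subgroupOfEquivOfLe hP.W₁_le).symm.surjective
  · rw [a_card_sub_W₁ hP]
    exact hP.W₁_hall
  · have h1 : IsCyclic ↥(W₁ ⊔ W₂) := hP.selfNormalizing.2.2.2.2.1
    have h2 : IsCyclic W₂ := isCyclic_of_injective (Subgroup.inclusion (le_sup_right : W₂ ≤ W₁ ⊔ W₂))
      (Subgroup.inclusion_injective _)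
    exact isCyclic_of_surjective _ (Subgroup.subgroupOfEquivOfLe hP.W₂_le_M).symm.surjective
  · intro x hx
    exact a_mem_comm_iff.2 (hP.W₂_le' hx)
  · intro x hx hx1
    ext y
    have h1 := hP.W₂_centralizer x hx (fun h => hx1 (Subtype.ext h))
    rw [Subgroup.mem_subgroupOf, ← h1]
    constructor
    · rintro ⟨h2, h3⟩
      have h4 := mem_cent_singleton.1 (show y ∈ Subgroup.centralizer ({x} : Set ↥M) from h3)
      exact ⟨a_mem_comm_iff.1 h2, mem_cent_singleton.2 (congrArg Subtype.val h4)⟩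
    · rintro ⟨h2, h3⟩
      have h4 := mem_cent_singleton.1 (show (y : G) ∈ Subgroup.centralizer ({(x : G)} : Set G)
        from h3)
      exact ⟨a_mem_comm_iff.2 h2, mem_cent_singleton.2 (Subtype.ext h4)⟩
  · exact hodd.of_dvd_nat (Subgroup.card_subgroup_dvd_card _)

theorem a_exists_preFrame (hP : IsTypePWith M W₁ U W₂) (hodd : Odd (Nat.card ↥M)) :
    ∃ (μ : Lin W₁ W₂ → ↥M → ℂ) (δ : Lin W₁ W₂ → ℤ), PreFrame M W₁ U W₂ μ δ := by
  classical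
  obtain ⟨h1, h2, h3, h4, h5, h6, h7, h8, h9, h10⟩ := a_pti_hyp hP hodd
  obtain ⟨μ', δ', a1, a2, a3, -, a5, a6, a7⟩ := Cfsg.Agent.S1511.result (_root_.commutator ↥M)
    (W₁.subgroupOf M) (W₂.subgroupOf M) h1 h2 h3 h4 h5 h6 h7 h8 h9 h10
  -- the equivalence of the two groups `W`
  have hle : W₁ ⊔ W₂ ≤ M := a_W_le_M hP
  obtain ⟨e, he⟩ : ∃ e : ↥(W₁.subgroupOf M ⊔ W₂.subgroupOf M) ≃* ↥(W₁ ⊔ W₂),
      ∀ x, ((e x : ↥(W₁ ⊔ W₂)) : G) = ((x : ↥M) : G) :=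
    ⟨(MulEquiv.subgroupCongr (a_sub_sup hP).symm).trans (Subgroup.subgroupOfEquivOfLe hle),
      fun x => rfl⟩
  have he' : ∀ (w : ↥(W₁ ⊔ W₂)) (hw : (w : G) ∈ M),
      ((e.symm w : ↥(W₁.subgroupOf M ⊔ W₂.subgroupOf M)) : ↥M) = ⟨w, hw⟩ := by
    intro w hw
    apply Subtype.ext
    have := he (e.symm w)
    rw [MulEquiv.apply_symm_apply] at this
    exact this.symm
  refine ⟨fun ω => μ' (ω.comp e.toMonoidHom), fun ω => if δ' (ω.comp e.toMonoidHom) = 1 then 1 else -1,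
    hP, hodd, fun ω => a2 _, ?_, ?_, ?_, ?_, ?_⟩
  · intro ω ω' h
    have h11 := a1 h
    ext w
    have h12 := congrArg (fun f : ↥(W₁.subgroupOf M ⊔ W₂.subgroupOf M) →* ℂˣ => ((f (e.symm w) : ℂˣ) : ℂ)) h11
    simpa using h12
  · intro ω
    split_ifs
    · exact Or.inl rfl
    · exact Or.inr rfl
  · intro ω w hw hw2
    have h11 := a5 (ω.comp e.toMonoidHom) (e.symm w) (by
      rw [he' w hw]; exact hw2)
    rw [he' w hw] at h11
    rw [h11]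
    have h12 : (ω.comp e.toMonoidHom) (e.symm w) = ω w := by simp
    rw [h12]
    congr 1
    rcases a3 (ω.comp e.toMonoidHom) with h13 | h13
    · rw [if_pos h13, h13]; simp
    · rw [if_neg (by rw [h13]; norm_num), h13]; simp
  · intro θ hθ hne w hw hw2
    have h11 := a6 θ hθ (fun ω => by
      have h12 := hne (ω.comp e.symm.toMonoidHom)
      have h13 : (ω.comp e.symm.toMonoidHom).comp e.toMonoidHom = ω := by
        ext x; simp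
      simpa only [h13] using h12) (e.symm w) (by rw [he' w hw]; exact hw2)
    rwa [he' w hw] at h11
  · intro ω
    obtain ⟨n, hn⟩ := a7 (ω.comp e.toMonoidHom)
    obtain ⟨d, hd, hd2⟩ := irr_one_eq_nat (a2 (ω.comp e.toMonoidHom))
    refine ⟨d, hd, hd2, n, ?_⟩
    rw [hd2, a_card_sub_W₁ hP] at hn
    rcases a3 (ω.comp e.toMonoidHom) with h13 | h13
    · rw [if_pos h13]
      rw [h13] at hn
      have : ((d : ℤ) : ℂ) - 1 = (Nat.card W₁ : ℤ) * (n : ℂ) := by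
        push_cast
        rw [hn]; ring
      exact_mod_cast this
    · rw [if_neg (by rw [h13]; norm_num)]
      rw [h13] at hn
      have : ((d : ℤ) : ℂ) - (-1) = (Nat.card W₁ : ℤ) * (n : ℂ) := by
        push_cast
        rw [hn]; ring
      exact_mod_cast this

namespace PreFrame

variable (F : PreFrame M W₁ U W₂ μ δ)

include F

omit [Finite G] in
theorem hW : IsSelfNormalizingCyclic W₁ W₂ := F.hP.selfNormalizing

omit [Finite G] in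
theorem oddW : Odd (Nat.card ↥(W₁ ⊔ W₂)) := F.odd.of_dvd_nat (Subgroup.card_dvd_of_le (a_W_le_M F.hP))

/-- every element of `M ∖ M'` is conjugate in `M` to an element of `W ∖ W₂`. -/
theorem conj_W {x : ↥M} (hx : x ∉ _root_.commutator ↥M) :
    ∃ (y : ↥M) (w : ↥(W₁ ⊔ W₂)) (hw : (w : G) ∈ M), (w : G) ∉ W₂ ∧ y * x * y⁻¹ = ⟨w, hw⟩ := by
  rw [a_mem_comm_iff] at hx
  obtain ⟨y, hy, w₁, hw₁, hw₁1, w₂, hw₂, e⟩ := a_conj_W_G F.hP x.2 hx
  have hmem : w₂ * w₁ ∈ W₁ ⊔ W₂ :=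
    mul_mem (Subgroup.mem_sup_right hw₂) (Subgroup.mem_sup_left hw₁)
  refine ⟨⟨y, commutator_le_self M hy⟩, ⟨w₂ * w₁, hmem⟩, a_W_le_M F.hP hmem, ?_, Subtype.ext e⟩
  intro h
  have h2 : w₁ ∈ W₂ := (Subgroup.mul_mem_cancel_left _ hw₂).1 h
  exact hw₁1 (a_W₁_inf' F.hP hw₁ (F.hP.W₂_le' h2))

theorem W₁_not_W₂ {w : G} (hw : w ∈ W₁) (hw1 : w ≠ 1) : w ∉ W₂ := by
  intro h
  have : w ∈ W₁ ⊓ W₂ := ⟨hw, h⟩
  rw [F.hW.2.2.1] at this
  exact hw1 this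

/-- `χ = μ ω` if `χ = s ω` on `W ∖ W₂`. -/
theorem unique {χ : ↥M → ℂ} (hχ : IsIrrCharacter ↥M χ) {s : ℤ} (hs : s = 1 ∨ s = -1)
    (ω : Lin W₁ W₂) (h : ∀ (w : ↥(W₁ ⊔ W₂)) (hw : (w : G) ∈ M), (w : G) ∉ W₂ →
      χ ⟨w, hw⟩ = (s : ℂ) * (ω w : ℂ)) : χ = μ ω ∧ s = δ ω := by
  obtain ⟨w, hw, hw1⟩ := exists_ne_one F.hP.W₁_ne
  have hwW : w ∈ W₁ ⊔ W₂ := Subgroup.mem_sup_left hw
  have hs0 : (s : ℂ) ≠ 0 := by rcases hs with h | h <;> rw [h] <;> norm_num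
  have hex : ∃ ω₁, χ = μ ω₁ := by
    by_contra hcon
    push Not at hcon
    have h1 := F.vanish_W χ hχ hcon ⟨w, hwW⟩ (F.hP.W₁_le hw) (F.W₁_not_W₂ hw hw1)
    rw [h ⟨w, hwW⟩ (F.hP.W₁_le hw) (F.W₁_not_W₂ hw hw1)] at h1
    exact (mul_ne_zero hs0 (Units.ne_zero _)) h1
  obtain ⟨ω₁, rfl⟩ := hex
  have hval : ∀ (w : ↥(W₁ ⊔ W₂)), (w : G) ∉ W₂ → (δ ω₁ : ℂ) * (ω₁ w : ℂ) = (s : ℂ) * (ω w : ℂ) := by
    intro w hw2
    rw [← h w (a_W_le_M F.hP w.2) hw2, F.apply_W ω₁ w _ hw2]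
  have hδ0 : (δ ω₁ : ℂ) ≠ 0 := by rcases F.sign ω₁ with h | h <;> rw [h] <;> norm_num
  -- agreement on `W₂`
  have hW2 : ∀ y : ↥(W₁ ⊔ W₂), (y : G) ∈ W₂ → ω₁ y = ω y := by
    intro y hy
    have h1 := hval ⟨w, hwW⟩ (F.W₁_not_W₂ hw hw1)
    have h2 := hval (⟨w, hwW⟩ * y) (fun h2 => F.W₁_not_W₂ hw hw1
      ((Subgroup.mul_mem_cancel_right _ hy).1 h2))
    rw [map_mul, map_mul, Units.val_mul, Units.val_mul, ← mul_assoc, ← mul_assoc, h1] at h2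
    exact Units.ext (mul_left_cancel₀ (mul_ne_zero hs0 (Units.ne_zero _)) h2)
  have hsgn : (δ ω₁ : ℂ) = s ∧ ∀ y : ↥(W₁ ⊔ W₂), (y : G) ∈ W₁ → ω₁ y = ω y := by
    have hw2 : w * w ≠ 1 := by
      intro e
      have h3 : orderOf (⟨w, hwW⟩ : ↥(W₁ ⊔ W₂)) ∣ 2 :=
        orderOf_dvd_of_pow_eq_one (Subtype.ext (by rw [pow_two]; exact e))
      have h4 : orderOf (⟨w, hwW⟩ : ↥(W₁ ⊔ W₂)) ∣ Nat.card ↥(W₁ ⊔ W₂) := orderOf_dvd_natCard _
      have h5 : Odd (orderOf (⟨w, hwW⟩ : ↥(W₁ ⊔ W₂))) := F.oddW.of_dvd_nat h4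
      rcases (Nat.dvd_prime Nat.prime_two).1 h3 with h6 | h6
      · exact hw1 (congrArg Subtype.val (orderOf_eq_one_iff.1 h6))
      · rw [h6] at h5; exact absurd h5 (by decide)
    have h1 := hval ⟨w, hwW⟩ (F.W₁_not_W₂ hw hw1)
    have h2 := hval (⟨w, hwW⟩ * ⟨w, hwW⟩) (F.W₁_not_W₂ (mul_mem hw hw) hw2)
    rw [map_mul, map_mul, Units.val_mul, Units.val_mul] at h2
    have hδ2 : (δ ω₁ : ℂ) * δ ω₁ = 1 := by
      rcases F.sign ω₁ with h | h <;> rw [h] <;> norm_num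
    have hs2 : (s : ℂ) * s = 1 := by rcases hs with h | h <;> rw [h] <;> norm_num
    have h3 : (δ ω₁ : ℂ) = s := by
      have e1 : ((ω₁ ⟨w, hwW⟩ : ℂˣ) : ℂ) = δ ω₁ * s * (ω ⟨w, hwW⟩ : ℂ) := by
        linear_combination (δ ω₁ : ℂ) * h1 - ((ω₁ ⟨w, hwW⟩ : ℂˣ) : ℂ) * hδ2
      rw [e1] at h2
      have e2 : ((δ ω₁ : ℂ) - s) * ((ω ⟨w, hwW⟩ : ℂ) * (ω ⟨w, hwW⟩ : ℂ)) = 0 := by
        linear_combination h2 - (δ ω₁ : ℂ) * ((ω ⟨w, hwW⟩ : ℂ) * (ω ⟨w, hwW⟩ : ℂ)) * (s * s) * hδ2 -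
          (δ ω₁ : ℂ) * ((ω ⟨w, hwW⟩ : ℂ) * (ω ⟨w, hwW⟩ : ℂ)) * hs2
      have e3 := (mul_eq_zero.1 e2).resolve_right
        (mul_ne_zero (Units.ne_zero _) (Units.ne_zero _))
      linear_combination e3
    refine ⟨h3, fun y hy => ?_⟩
    by_cases hy1 : (y : G) = 1
    · have : y = 1 := Subtype.ext hy1
      rw [this, map_one, map_one]
    · have h4 := hval y (F.W₁_not_W₂ hy hy1)
      rw [h3] at h4
      exact Units.ext (mul_left_cancel₀ hs0 h4)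
  have hω : ω₁ = ω := a_lin_ext hsgn.2 hW2
  subst hω
  refine ⟨rfl, ?_⟩
  exact_mod_cast hsgn.1.symm


/-- the linear characters of `M / M'` -/
theorem exists_lin (φ : Lin W₁ W₂) (hφ : IsI W₁ W₂ φ) : ∃ lam : ↥M →* ℂˣ,
    (∀ k ∈ _root_.commutator ↥M, lam k = 1) ∧
      ∀ (w : ↥(W₁ ⊔ W₂)) (hw : (w : G) ∈ M), lam ⟨w, hw⟩ = φ w := by
  obtain ⟨h1, h2, -⟩ := a_pti_hyp F.hP F.odd
  have hc : Subgroup.IsComplement' (_root_.commutator ↥M) (W₁.subgroupOf M) :=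
    Subgroup.isComplement'_of_disjoint_and_mul_eq_univ (disjoint_iff.2 h1) (by
      rw [← Subgroup.coe_mul_of_right_le_normalizer_left _ _ (by
        rw [Subgroup.normalizer_eq_top]; exact le_top), h2]; rfl)
  have hc' := hc.symm
  obtain ⟨π, hπ⟩ : ∃ π : ↥M →* ↥(W₁.subgroupOf M), (∀ k ∈ _root_.commutator ↥M, π k = 1) ∧
      ∀ w : ↥(W₁.subgroupOf M), π w = w := by
    refine ⟨(Subgroup.IsComplement'.QuotientMulEquiv hc').toMonoidHom.comp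
      (QuotientGroup.mk' _), fun k hk => ?_, fun w => ?_⟩
    · rw [MonoidHom.comp_apply]
      have : QuotientGroup.mk' (_root_.commutator ↥M) k = 1 := (QuotientGroup.eq_one_iff k).2 hk
      rw [this, map_one]
    · rw [MonoidHom.comp_apply]
      show (Subgroup.IsComplement'.QuotientMulEquiv hc') _ = w
      rw [← MulEquiv.eq_symm_apply]
      rfl
  refine ⟨φ.comp ((Subgroup.inclusion (le_sup_left : W₁ ≤ W₁ ⊔ W₂)).comp
    ((Subgroup.subgroupOfEquivOfLe F.hP.W₁_le).toMonoidHom.comp π)), fun k hk => ?_, ?_⟩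
  · simp only [MonoidHom.comp_apply, hπ.1 k hk, map_one]
  · intro w hw
    obtain ⟨a, ha, b, hb, e⟩ := (a_sup_mem_iff_comm F.hW.2.2.2.1).1 w.2
    have e1 : (⟨w, hw⟩ : ↥M) = ⟨b, F.hP.W₂_le_M hb⟩ * ⟨a, F.hP.W₁_le ha⟩ := Subtype.ext e
    have e2 : w = ⟨b, Subgroup.mem_sup_right hb⟩ * ⟨a, Subgroup.mem_sup_left ha⟩ := Subtype.ext e
    have e3 : π ⟨b, F.hP.W₂_le_M hb⟩ = 1 := hπ.1 _ (a_mem_comm_iff.2 (F.hP.W₂_le' hb))
    have e4 : π ⟨a, F.hP.W₁_le ha⟩ = ⟨⟨a, F.hP.W₁_le ha⟩, ha⟩ := hπ.2 ⟨⟨a, F.hP.W₁_le ha⟩, ha⟩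
    rw [e1]
    conv_rhs => rw [e2, map_mul, hφ ⟨b, _⟩ hb, one_mul]
    simp only [MonoidHom.comp_apply, map_mul, e3, e4, map_one, one_mul]
    rfl

/-- multiplication by a linear character of `M/M'` -/
theorem mul_lin {φ ω : Lin W₁ W₂} {lam : ↥M →* ℂˣ}
    (h2 : ∀ (w : ↥(W₁ ⊔ W₂)) (hw : (w : G) ∈ M), lam ⟨w, hw⟩ = φ w) :
    (fun m => (lam m : ℂ) * μ ω m) = μ (φ * ω) ∧ δ (φ * ω) = δ ω := by
  have h := F.unique (isIrr_mul_hom (F.irr ω) lam) (F.sign ω) (φ * ω) (by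
    intro w hw hw2
    rw [h2 w hw, F.apply_W ω w hw hw2, MonoidHom.mul_apply, Units.val_mul]
    ring)
  exact ⟨h.1, h.2.symm⟩

theorem lin_eq {φ : Lin W₁ W₂} {lam : ↥M →* ℂˣ}
    (h2 : ∀ (w : ↥(W₁ ⊔ W₂)) (hw : (w : G) ∈ M), lam ⟨w, hw⟩ = φ w) :
    (fun m => (lam m : ℂ)) = μ φ ∧ δ φ = 1 := by
  have h := F.unique (isIrr_of_hom lam) (Or.inl rfl) φ (by
    intro w hw hw2
    rw [h2 w hw]; simp)
  exact ⟨h.1, h.2.symm⟩

theorem sign_congr (φ ω : Lin W₁ W₂) (hφ : IsI W₁ W₂ φ) : δ (φ * ω) = δ ω := by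
  obtain ⟨lam, -, h2⟩ := F.exists_lin φ hφ
  exact (F.mul_lin h2).2

theorem sign_one (φ : Lin W₁ W₂) (hφ : IsI W₁ W₂ φ) : δ φ = 1 := by
  obtain ⟨lam, -, h2⟩ := F.exists_lin φ hφ
  exact (F.lin_eq h2).2

theorem lin_val (φ : Lin W₁ W₂) (hφ : IsI W₁ W₂ φ) (k : ↥M) (w : ↥(W₁ ⊔ W₂)) (hw : (w : G) ∈ M)
    (hk : k ∈ _root_.commutator ↥M) : μ φ (k * ⟨w, hw⟩) = (φ w : ℂ) := by
  obtain ⟨lam, h1, h2⟩ := F.exists_lin φ hφ
  rw [← (F.lin_eq h2).1]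
  simp only [map_mul, h1 k hk, one_mul, h2 w hw]

theorem mu_one : μ 1 = fun _ => 1 := by
  have h := F.unique isIrr_one (Or.inl rfl) (1 : Lin W₁ W₂) (by
    intro w hw hw2
    simp)
  exact h.1.symm

theorem res_eq (φ ω : Lin W₁ W₂) (hφ : IsI W₁ W₂ φ) (k : ↥M) (hk : k ∈ _root_.commutator ↥M) :
    μ (φ * ω) k = μ ω k := by
  obtain ⟨lam, h1, h2⟩ := F.exists_lin φ hφ
  rw [← (F.mul_lin h2).1]
  simp [h1 k hk]

theorem conj_mu (ω : Lin W₁ W₂) : conjFun (μ ω) = μ ω⁻¹ ∧ δ ω⁻¹ = δ ω := by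
  have h := F.unique (isIrr_conj (F.irr ω)) (F.sign ω) ω⁻¹ (by
    intro w hw hw2
    rw [F.apply_W ω w hw hw2, map_mul, map_intCast (starRingEnd ℂ), PF.conj_hf]
    rw [map_inv, MonoidHom.inv_apply])
  exact ⟨h.1, h.2.symm⟩

theorem vanish {θ : ↥M → ℂ} (hθ : IsIrrCharacter ↥M θ) (hne : ∀ ω, θ ≠ μ ω) (x : ↥M)
    (hx : x ∉ _root_.commutator ↥M) : θ x = 0 := by
  obtain ⟨y, w, hw, hw2, e⟩ := F.conj_W hx
  rw [← irr_classFun hθ x y, e]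
  exact F.vanish_W θ hθ hne w hw hw2

theorem res_irr (ω : Lin W₁ W₂) :
    IsIrrCharacter ↥(_root_.commutator ↥M) (fun k => μ ω k) := by
  refine restrict_irr_of_free inferInstance (fun a b => ?_) (F.irr ω) ?_
  · exact Subgroup.commutator_mem_commutator (Subgroup.mem_top a) (Subgroup.mem_top b)
  · intro lam hlam heq
    -- the restriction of `lam` to `W`
    obtain ⟨φ, hφ⟩ : ∃ φ : Lin W₁ W₂, φ = lam.comp (Subgroup.inclusion (a_W_le_M F.hP)) := ⟨_, rfl⟩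
    have hφI : IsI W₁ W₂ φ := by
      intro w hw
      rw [hφ]
      exact hlam _ (a_mem_comm_iff.2 (F.hP.W₂_le' hw))
    have h2 : ∀ (w : ↥(W₁ ⊔ W₂)) (hw : (w : G) ∈ M), lam ⟨w, hw⟩ = φ w := by
      intro w hw
      rw [hφ]; rfl
    have h3 := (F.mul_lin (ω := ω) h2).1
    have h4 : μ (φ * ω) = μ ω := by
      rw [← h3]
      funext m
      exact heq m
    have h5 := F.inj h4
    have h6 : φ = 1 := by
      have := (lin_unique F.hW (φ := φ) (φ' := 1) (ψ := 1) (ψ' := 1) hφI IsI.one IsJ.one IsJ.one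
        (by
          rw [a_lin_mul_one, a_lin_mul_one]
          have h7 : φ * ω * ω⁻¹ = 1 * ω * ω⁻¹ := by rw [h5, a_lin_one_mul]
          rwa [a_lin_mul_assoc, a_lin_mul_inv, a_lin_mul_one, a_lin_mul_assoc, a_lin_mul_inv,
            a_lin_mul_one] at h7)).1
      exact this
    ext m
    obtain ⟨k, hk, w, hw, e⟩ := F.hP.W₁_compl.2.2.2 m m.2
    have e2 : m = ⟨k, commutator_le_self M hk⟩ * ⟨w, F.hP.W₁_le hw⟩ := Subtype.ext e
    rw [e2, map_mul, hlam _ (a_mem_comm_iff.2 hk), one_mul,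
      h2 ⟨w, Subgroup.mem_sup_left hw⟩ (F.hP.W₁_le hw), h6]
    simp


/-- sum of the `μ_ij` over a column, on `M'` -/
theorem col_on (ω : Lin W₁ W₂) (x : ↥M) (hx : x ∈ _root_.commutator ↥M) :
    colI μ ω x = (Nat.card W₁ : ℂ) * μ ω x := by
  unfold colI
  rw [Finset.sum_apply, Finset.sum_congr rfl (g := fun _ => μ ω x) (fun φ hφ => ?_),
    Finset.sum_const, card_idxI F.hW, nsmul_eq_mul]
  rw [mem_idxI] at hφ
  exact F.res_eq φ ω hφ x hx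

/-- sum of the `μ_ij` over a column, off `M'` -/
theorem col_off (ω : Lin W₁ W₂) (x : ↥M) (hx : x ∉ _root_.commutator ↥M) : colI μ ω x = 0 := by
  classical
  obtain ⟨k, hk, w, hw, e⟩ := F.hP.W₁_compl.2.2.2 x x.2
  have e2 : x = ⟨k, commutator_le_self M hk⟩ * ⟨w, F.hP.W₁_le hw⟩ := Subtype.ext e
  have hwW : w ∈ W₁ ⊔ W₂ := Subgroup.mem_sup_left hw
  have hw1 : w ≠ 1 := by
    rintro rfl
    apply hx
    rw [a_mem_comm_iff, e, mul_one]; exact hk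
  unfold colI
  rw [Finset.sum_apply]
  have h1 : ∀ φ ∈ idxI W₁ W₂, μ (φ * ω) x = (φ ⟨w, hwW⟩ : ℂ) * μ ω x := by
    intro φ hφ
    rw [mem_idxI] at hφ
    obtain ⟨lam, h1, h2⟩ := F.exists_lin φ hφ
    rw [← (F.mul_lin h2).1]
    have : lam x = φ ⟨w, hwW⟩ := by
      rw [e2, map_mul, h1 _ (a_mem_comm_iff.2 hk), one_mul]
      exact h2 ⟨w, hwW⟩ (F.hP.W₁_le hw)
    simp only [this]
  rw [Finset.sum_congr rfl h1, ← Finset.sum_mul]
  have := Fintype.ofFinite (Lin W₁ W₂)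
  have hFG := Fintype.ofFinite G
  have h3 := PF.ann_sum (PF.comm_of_selfnorm F.hW) (W₂.subgroupOf (W₁ ⊔ W₂)) (⟨w, hwW⟩ : ↥(W₁ ⊔ W₂))
  rw [if_neg (by rw [Subgroup.mem_subgroupOf]; exact F.W₁_not_W₂ hw hw1), ← Finset.sum_filter] at h3
  have h4 : Finset.univ.filter (fun φ : Lin W₁ W₂ => PF.IsAnn (W₂.subgroupOf (W₁ ⊔ W₂)) φ) =
      idxI W₁ W₂ := by
    ext φ
    rw [mem_idxI, a_isI_iff_ann, Finset.mem_filter]
    simp
  rw [h4] at h3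
  rw [h3, zero_mul]

omit F in
/-- the function induced from the restriction of a class function to a normal subgroup -/
theorem ind_res_apply {L : Type u} [Group L] [Fintype L] (K : Subgroup L) [hK : K.Normal]
    {χ : L → ℂ} (hχ : IsClassFunction L χ) (x : L) [Decidable (x ∈ K)] :
    indFun K (fun k => χ k) x = if x ∈ K then (K.index : ℂ) * χ x else 0 := by
  have hN0 : (Nat.card K : ℂ) ≠ 0 := Nat.cast_ne_zero.mpr Nat.card_pos.ne'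
  unfold indFun
  split_ifs with h
  · have h1 : ∀ y : L, extendByZero K (fun k : K => χ k) (y⁻¹ * x * y) = χ x := by
      intro y
      have hm : y⁻¹ * x * y ∈ K := by simpa using hK.conj_mem x h y⁻¹
      rw [extendByZero_mem K _ hm]
      have := hχ x y⁻¹
      simpa using this
    rw [Finset.sum_congr rfl fun y _ => h1 y, Finset.sum_const, Finset.card_univ, nsmul_eq_mul,
      ← Nat.card_eq_fintype_card, ← Subgroup.index_mul_card K]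
    push_cast
    field_simp
  · rw [Finset.sum_eq_zero, mul_zero]
    intro y _
    apply extendByZero_not_mem
    intro hm
    apply h
    have := hK.conj_mem _ hm y
    simpa [mul_assoc] using this

theorem index_comm : (_root_.commutator ↥M).index = Nat.card W₁ := by
  obtain ⟨h1, h2, -⟩ := a_pti_hyp F.hP F.odd
  have hc : Subgroup.IsComplement' (_root_.commutator ↥M) (W₁.subgroupOf M) :=
    Subgroup.isComplement'_of_disjoint_and_mul_eq_univ (disjoint_iff.2 h1) (by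
      rw [← Subgroup.coe_mul_of_right_le_normalizer_left _ _ (by
        rw [Subgroup.normalizer_eq_top]; exact le_top), h2]; rfl)
  rw [hc.symm.index_eq_card, a_card_sub_W₁ F.hP]

theorem ind_res (ω : Lin W₁ W₂) :
    indFun (_root_.commutator ↥M) (fun k => μ ω k) = colI μ ω := by
  classical
  funext x
  rw [ind_res_apply _ (irr_classFun (F.irr ω))]
  split_ifs with h
  · rw [F.col_on ω x h, F.index_comm]
  · rw [F.col_off ω x h]

theorem res_inj (ψ ψ' : Lin W₁ W₂) (hψ : IsJ W₁ W₂ ψ) (hψ' : IsJ W₁ W₂ ψ')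
    (h : ∀ k : ↥M, k ∈ _root_.commutator ↥M → μ ψ k = μ ψ' k) : ψ = ψ' := by
  classical
  have h1 : colI μ ψ = colI μ ψ' := by
    funext x
    by_cases hx : x ∈ _root_.commutator ↥M
    · rw [F.col_on ψ x hx, F.col_on ψ' x hx, h x hx]
    · rw [F.col_off ψ x hx, F.col_off ψ' x hx]
  have h2 : classInner (colI μ ψ) (μ ψ) = 1 := by
    unfold colI
    rw [classInner_sum_left, Finset.sum_eq_single 1]
    · rw [a_lin_one_mul, classInner_self_of_irr (F.irr ψ)]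
    · intro φ hφ hne
      apply classInner_of_irr_ne (F.irr _) (F.irr _)
      intro h3
      apply hne
      rw [mem_idxI] at hφ
      exact (lin_unique F.hW hφ IsI.one hψ hψ (by rw [F.inj h3, a_lin_one_mul])).1
    · intro h3
      exact absurd (mem_idxI.2 IsI.one) h3
  rw [h1] at h2
  unfold colI at h2
  rw [classInner_sum_left] at h2
  have h3 : ∃ φ ∈ idxI W₁ W₂, classInner (μ (φ * ψ')) (μ ψ) ≠ 0 := by
    by_contra hcon
    push Not at hcon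
    rw [Finset.sum_eq_zero hcon] at h2
    exact zero_ne_one h2
  obtain ⟨φ, hφ, hne⟩ := h3
  rw [mem_idxI] at hφ
  have h4 : μ (φ * ψ') = μ ψ := by
    by_contra h5
    exact hne (classInner_of_irr_ne (F.irr _) (F.irr _) h5)
  exact (lin_unique F.hW hφ IsI.one hψ' hψ (by rw [F.inj h4, a_lin_one_mul])).2.symm

theorem dich (θ : ↥(_root_.commutator ↥M) → ℂ) (hθ : IsIrrCharacter _ θ) :
    (∃ ψ, IsJ W₁ W₂ ψ ∧ θ = fun k : ↥(_root_.commutator ↥M) => μ ψ (k : ↥M)) ∨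
      (IsIrrCharacter ↥M (indFun (_root_.commutator ↥M) θ) ∧
        ∀ ω, indFun (_root_.commutator ↥M) θ ≠ μ ω) := by
  classical
  obtain ⟨h1, h2, h3, h4, h5, h6, h7, h8, h9, h10⟩ := a_pti_hyp F.hP F.odd
  obtain ⟨b1, b2, -⟩ := Cfsg.Agent.S1513.result (_root_.commutator ↥M)
    (W₁.subgroupOf M) (W₂.subgroupOf M) h1 h2 h3 h4 h5 h6 h7 h8 h9 h10
  by_cases hinv : ∃ x ∈ W₁.subgroupOf M, (fun k : ↥(_root_.commutator ↥M) =>
      θ ⟨x * k * x⁻¹, (inferInstance : (_root_.commutator ↥M).Normal).conj_mem (k : ↥M) k.2 x⟩) ≠ θ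
  · right
    have h11 := b1 θ hθ hinv
    refine ⟨h11, fun ω h12 => ?_⟩
    obtain ⟨w, hw, hw1⟩ := exists_ne_one F.hP.W₁_ne
    have h13 := F.apply_W ω ⟨w, Subgroup.mem_sup_left hw⟩ (F.hP.W₁_le hw) (F.W₁_not_W₂ hw hw1)
    have h14 : (⟨w, F.hP.W₁_le hw⟩ : ↥M) ∉ _root_.commutator ↥M := fun h15 =>
      hw1 (a_W₁_inf' F.hP hw (a_mem_comm_iff.1 h15))
    have h16 : indFun (_root_.commutator ↥M) θ ⟨w, F.hP.W₁_le hw⟩ = 0 := by
      unfold indFun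
      rw [Finset.sum_eq_zero, mul_zero]
      intro y _
      apply extendByZero_not_mem
      intro hm
      apply h14
      have := (inferInstance : (_root_.commutator ↥M).Normal).conj_mem _ hm y
      simpa [mul_assoc] using this
    rw [← h12] at h13
    rw [h16] at h13
    have : (δ ω : ℂ) ≠ 0 := by rcases F.sign ω with h | h <;> rw [h] <;> norm_num
    exact mul_ne_zero this (Units.ne_zero _) h13.symm
  · left
    push Not at hinv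
    -- counting
    have hinvψ : ∀ ψ : Lin W₁ W₂, ∀ x ∈ W₁.subgroupOf M, (fun k : ↥(_root_.commutator ↥M) =>
        (fun k : ↥(_root_.commutator ↥M) => μ ψ (k : ↥M)) ⟨x * k * x⁻¹,
          (inferInstance : (_root_.commutator ↥M).Normal).conj_mem (k : ↥M) k.2 x⟩) =
        fun k : ↥(_root_.commutator ↥M) => μ ψ (k : ↥M) := by
      intro ψ x _
      funext k
      exact irr_classFun (F.irr ψ) k x
    let f : {ψ : Lin W₁ W₂ // IsJ W₁ W₂ ψ} → {θ : IrrCharacter ↥(_root_.commutator ↥M) //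
        ∀ x ∈ W₁.subgroupOf M, (fun k : ↥(_root_.commutator ↥M) => (θ : ↥(_root_.commutator ↥M) → ℂ)
          ⟨x * k * x⁻¹, (inferInstance : (_root_.commutator ↥M).Normal).conj_mem (k : ↥M) k.2 x⟩) = θ} :=
      fun ψ => ⟨⟨_, F.res_irr ψ.1⟩, hinvψ ψ.1⟩
    have hf : Function.Injective f := by
      intro a b hab
      apply Subtype.ext
      apply F.res_inj a.1 b.1 a.2 b.2
      intro k hk
      have h11 := congrArg (fun z => (z : IrrCharacter ↥(_root_.commutator ↥M))) (congrArg Subtype.val hab)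
      exact congrFun (congrArg Subtype.val h11) ⟨k, hk⟩
    have hcard : Nat.card {ψ : Lin W₁ W₂ // IsJ W₁ W₂ ψ} = Nat.card W₂ := by
      rw [← card_idxJ F.hW]
      exact Nat.subtype_card (idxJ W₁ W₂) fun x => mem_idxJ
    have hbij := hf.bijective_of_nat_card_le (by
      rw [b2, hcard, Nat.card_congr (Subgroup.subgroupOfEquivOfLe F.hP.W₂_le_M).toEquiv])
    obtain ⟨ψ, hψ⟩ := hbij.2 ⟨⟨θ, hθ⟩, hinv⟩
    refine ⟨ψ.1, ψ.2, ?_⟩
    have h11 := congrArg Subtype.val (congrArg Subtype.val hψ)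
    exact h11.symm

theorem other_ind (χ : ↥M → ℂ) (hχ : IsIrrCharacter ↥M χ) (hne : ∀ ω, χ ≠ μ ω) :
    ∃ ϑ : ↥(_root_.commutator ↥M) → ℂ, IsIrrCharacter _ ϑ ∧
      χ = indFun (_root_.commutator ↥M) ϑ := by
  classical
  have := Fintype.ofFinite ↥(_root_.commutator ↥M)
  obtain ⟨ϑ, hϑ⟩ := exists_constituent (isChar_restrict (_root_.commutator ↥M) (irr_isChar hχ))
    (by
      intro h0
      have := congrFun h0 1
      exact irr_one_ne_zero hχ this)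
  refine ⟨ϑ, ϑ.2, ?_⟩
  rw [← frobenius_reciprocity' _ _ (irr_classFun hχ)] at hϑ
  rcases F.dich ϑ ϑ.2 with ⟨ψ, hψ, e⟩ | ⟨h1, -⟩
  · exfalso
    rw [e, F.ind_res ψ] at hϑ
    unfold colI at hϑ
    rw [classInner_sum_right] at hϑ
    apply hϑ
    apply Finset.sum_eq_zero
    intro φ _
    exact classInner_of_irr_ne hχ (F.irr _) (hne _)
  · by_contra h2
    exact hϑ (classInner_of_irr_ne hχ h1 h2)

end PreFrame

/-- (A1) -/
theorem exists_frame {G : Type u} [Group G] [Fintype G] (hG : IsMinSimpleOddOrder G)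
    {M W₁ U W₂ : Subgroup G} [Fintype ↥M] (hM : IsCoatom M) (hP : IsTypePWith M W₁ U W₂)
    {η : Lin W₁ W₂ → G → ℂ} (hη : IsCyclicTIFamily W₁ W₂ η) :
    ∃ μ δ, IsFrame M W₁ U W₂ η μ δ := by
  have hodd : Odd (Nat.card ↥M) := odd_sub hG M
  obtain ⟨μ, δ, F⟩ := a_exists_preFrame hP hodd
  exact ⟨μ, δ,
    { hG := hG, hM := hM, hP := hP, fam := hη, irr := F.irr, inj := F.inj, sign := F.sign,
      sign_congr := F.sign_congr, sign_one := F.sign_one, sign_inv := fun ω => (F.conj_mu ω).2,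
      mu_one := F.mu_one, apply_W := F.apply_W, vanish := fun θ h1 h2 => F.vanish h1 h2,
      other_ind := F.other_ind, lin := F.lin_val, deg := F.deg, res_irr := F.res_irr,
      res_eq := F.res_eq, res_inj := F.res_inj, ind_res := F.ind_res, dich := F.dich,
      conj_mu := fun ω => (F.conj_mu ω).1, conj_eta := eta_conj F.hW hη F.oddW }⟩

namespace IsFrame

variable {G : Type u} [Group G] [Fintype G] {M W₁ U W₂ : Subgroup G} [Fintype ↥M]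
  {η : Lin W₁ W₂ → G → ℂ} {μ : Lin W₁ W₂ → ↥M → ℂ} {δ : Lin W₁ W₂ → ℤ}

theorem hW (F : IsFrame M W₁ U W₂ η μ δ) : IsSelfNormalizingCyclic W₁ W₂ :=
  F.hP.selfNormalizing

theorem oddM (F : IsFrame M W₁ U W₂ η μ δ) : Odd (Nat.card ↥M) := odd_sub F.hG M

theorem oddW (F : IsFrame M W₁ U W₂ η μ δ) : Odd (Nat.card ↥(W₁ ⊔ W₂)) := odd_sub F.hG _

theorem W_le (F : IsFrame M W₁ U W₂ η μ δ) : W₁ ⊔ W₂ ≤ M := a_W_le_M F.hP

theorem W₁_not_W₂ (F : IsFrame M W₁ U W₂ η μ δ) {w : G} (hw : w ∈ W₁) (hw1 : w ≠ 1) : w ∉ W₂ := by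
  intro h
  have : w ∈ W₁ ⊓ W₂ := ⟨hw, h⟩
  rw [F.hW.2.2.1] at this
  exact hw1 this

theorem pre (F : IsFrame M W₁ U W₂ η μ δ) : PreFrame M W₁ U W₂ μ δ where
  hP := F.hP
  odd := F.oddM
  irr := F.irr
  inj := F.inj
  sign := F.sign
  apply_W := F.apply_W
  vanish_W := fun θ h1 h2 w hw hw2 => F.vanish θ h1 h2 _ (fun h3 =>
    hw2 ((a_mem_W₂_iff F.hP w.2).2 (a_mem_comm_iff.1 h3)))
  deg := F.deg

/-- `χ = μ ω` if `χ = s ω` on `W ∖ W₂`. -/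
theorem unique (F : IsFrame M W₁ U W₂ η μ δ) {χ : ↥M → ℂ} (hχ : IsIrrCharacter ↥M χ) {s : ℤ}
    (hs : s = 1 ∨ s = -1) (ω : Lin W₁ W₂) (h : ∀ (w : ↥(W₁ ⊔ W₂)) (hw : (w : G) ∈ M),
      (w : G) ∉ W₂ → χ ⟨w, hw⟩ = (s : ℂ) * (ω w : ℂ)) : χ = μ ω ∧ s = δ ω :=
  F.pre.unique hχ hs ω h

/-- `|W₂|` prime: the `μ_ij(1)`, `δ_j`, `j ≠ 0`, are all equal. -/
theorem galois (F : IsFrame M W₁ U W₂ η μ δ) (hp : (Nat.card W₂).Prime)
    {ψ ψ' : Lin W₁ W₂} (hψ : IsJ W₁ W₂ ψ) (hψ' : IsJ W₁ W₂ ψ') (h1 : ψ ≠ 1) (h1' : ψ' ≠ 1) :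
    μ ψ 1 = μ ψ' 1 ∧ δ ψ = δ ψ' := by
  obtain ⟨k₀, hk₀, rfl⟩ := a_J_pow hp hψ hψ' h1 h1'
  have hd : Nat.card W₂ ∣ Nat.card ↥M := Subgroup.card_dvd_of_le F.hP.W₂_le_M
  obtain ⟨k, hk1, hk2⟩ := PF.exists_coprime_modEq (n := Nat.card ↥M) Nat.card_pos.ne' hd hk₀
  obtain ⟨χ', -, hirr, hval, -⟩ := Cfsg.Agent.S1493.result (G := ↥M) (Nat.card ↥M) 1 k
    (mul_one _).symm (Nat.coprime_one_right _) hk1 (μ ψ) (irr_isChar (F.irr ψ))
  have e3 : ψ ^ k = ψ ^ k₀ := by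
    apply a_lin_ext
    · intro w hw
      rw [MonoidHom.pow_apply, MonoidHom.pow_apply, hψ w hw, one_pow, one_pow]
    · intro w hw
      rw [MonoidHom.pow_apply, MonoidHom.pow_apply, ← map_pow, ← map_pow]
      congr 1
      apply Subtype.ext
      have h3 : k ≡ k₀ [MOD orderOf (⟨(w : G), hw⟩ : W₂)] :=
        Nat.ModEq.of_dvd (orderOf_dvd_natCard _) hk2
      have := (pow_eq_pow_iff_modEq (x := (⟨(w : G), hw⟩ : W₂)) (n := k) (m := k₀)).mpr h3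
      simpa using congrArg (fun z : W₂ => (z : G)) this
  have hv : ∀ g : ↥M, χ' g = μ ψ (g ^ k) := fun g => hval g (orderOf_dvd_natCard g)
  have h := F.unique (hirr (F.irr ψ)) (F.sign ψ) (ψ ^ k₀) (by
    intro w hw hw2
    have hnot : ((w ^ k : ↥(W₁ ⊔ W₂)) : G) ∉ W₂ := by
      intro h2
      apply hw2
      have hkw : k.Coprime (Nat.card ↥(W₁ ⊔ W₂)) :=
        Nat.Coprime.coprime_dvd_right (Subgroup.card_dvd_of_le F.W_le) hk1
      have h3 : (w : G) ∈ Subgroup.zpowers ((w : G) ^ k) := by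
        rw [mem_zpowers_pow_iff]
        refine Nat.Coprime.coprime_dvd_right ?_ hkw
        rw [Subgroup.orderOf_coe]
        exact orderOf_dvd_natCard w
      exact (Subgroup.zpowers_le.2 (by simpa using h2)) h3
    have e4 : (⟨(w : G), hw⟩ : ↥M) ^ k = ⟨((w ^ k : ↥(W₁ ⊔ W₂)) : G), F.W_le (w ^ k).2⟩ :=
      Subtype.ext (by simp)
    rw [hv, e4, F.apply_W ψ (w ^ k) _ hnot, ← e3, map_pow, MonoidHom.pow_apply])
  refine ⟨?_, h.2⟩
  rw [← h.1, hv, one_pow]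

end IsFrame

end Cfsg.Agent.PF
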