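import Cfsg.Agent.PF.A5
import Cfsg.Agent.H3.IndSum
import Cfsg.Agent.H27.Kernel

set_option autoImplicit false

/-! Part (A), proofs 6: vanishing, supports, (4.8) (helper11). -/

namespace Cfsg.Agent.PF

open Subgroup ComplexConjugate
open Cfsg.Agent.H3 Cfsg.Agent.H11
open Cfsg.Agent.L (cj nz)
open Cfsg.Agent.OOT
open Cfsg.Agent.H21

universe u v w

section Vanish

variable {K : Type u} [Group K] [Fintype K]

/-- an irreducible character sums to zero on the cosets of a normal subgroup not in its kernel -/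
theorem a_sum_coset_zero {H : Subgroup K} (hH : H.Normal) [Fintype H] {θ : K → ℂ}
    (hθ : IsIrrCharacter K θ) (hker : ∃ h ∈ H, θ h ≠ θ 1) (x : K) : ∑ h : H, θ (x * h) = 0 := by
  classical
  have h0 : ∑ h : H, θ h = 0 := by
    rw [sum_normal_eq hH hθ, if_neg]
    push Not
    exact hker
  obtain ⟨n, ρ, hρ, rfl⟩ := hθ
  obtain ⟨f, hf⟩ : ∃ f : K → ℂ, f = fun g => if g ∈ H then 1 else 0 := ⟨_, rfl⟩
  have hfc : IsClassFunction K f := by
    intro g h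
    rw [hf]
    simp only
    congr 1
    exact propext ⟨fun h1 => by simpa [mul_assoc] using hH.conj_mem _ h1 h⁻¹,
      fun h1 => hH.conj_mem _ h1 h⟩
  have h1 : classInner f ρ.character = 0 := by
    unfold classInner
    have : ∑ g : K, f g * conj (ρ.character g) = conj (∑ h : H, ρ.character h) := by
      rw [map_sum]
      rw [sum_subgroup_eq H (fun g => conj (ρ.character g)), hf]
      refine Finset.sum_congr rfl fun g _ => ?_
      by_cases hg : g ∈ H <;> simp [hg]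
    rw [this, h0]; simp
  have h2 := classOp_irr f hfc ρ
  rw [h1] at h2
  simp only [mul_zero, zero_div, zero_smul] at h2
  have h3 : ∑ g : K, f g * ρ.character (x * g⁻¹) = 0 := by
    have h4 : LinearMap.trace ℂ _ (ρ x ∘ₗ classOp f ρ) = ∑ g : K, f g * ρ.character (x * g⁻¹) := by
      show LinearMap.trace ℂ _ (ρ x * ∑ g : K, f g • ρ g⁻¹) = _
      rw [Finset.mul_sum, map_sum]
      refine Finset.sum_congr rfl fun g _ => ?_
      rw [mul_smul_comm, map_smul, smul_eq_mul]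
      congr 1
      show LinearMap.trace ℂ _ (ρ x * ρ g⁻¹) = LinearMap.trace ℂ _ (ρ (x * g⁻¹))
      rw [map_mul ρ]
    rw [← h4, h2, LinearMap.comp_zero, map_zero]
  have h5 : ∑ h : H, ρ.character (x * h) = ∑ g : K, f g * ρ.character (x * g⁻¹) := by
    rw [← Equiv.sum_comp (Equiv.inv H)]
    have : ∀ h : H, ρ.character (x * ((Equiv.inv H h : H) : K)) = (fun g : K => ρ.character (x * g⁻¹)) h := by
      intro h
      simp
    rw [Finset.sum_congr rfl fun h _ => this h,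
      sum_subgroup_eq H (fun g : K => ρ.character (x * g⁻¹)), hf]
    refine Finset.sum_congr rfl fun g _ => ?_
    by_cases hg : g ∈ H <;> simp [hg]
  rw [h5, h3]

/-- if `C_H(x) = 1`, `H` normal, and `H` is not in the kernel of `θ` then `θ(x) = 0`. -/
theorem a_vanish_of_free {H : Subgroup K} (hH : H.Normal) {θ : K → ℂ}
    (hθ : IsIrrCharacter K θ) (hker : ∃ h ∈ H, θ h ≠ θ 1) {x : K}
    (hx : ∀ h ∈ H, x * h = h * x → h = 1) : θ x = 0 := by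
  classical
  have := Fintype.ofFinite H
  have h0 := a_sum_coset_zero hH hθ hker x
  -- the map `h ↦ x⁻¹ h x h⁻¹` is a bijection of `H`
  let f : H → H := fun h => ⟨x⁻¹ * h * x * h⁻¹, mul_mem (by
    simpa using hH.conj_mem h h.2 x⁻¹) (inv_mem h.2)⟩
  have hf : Function.Injective f := by
    intro a b hab
    have h1 : x⁻¹ * a * x * (a : K)⁻¹ = x⁻¹ * b * x * (b : K)⁻¹ := congrArg Subtype.val hab
    have h2 : (b : K)⁻¹ * a = 1 := by
      apply hx _ (mul_mem (inv_mem b.2) a.2)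
      have h3 : (a : K) * x * (a : K)⁻¹ = b * x * (b : K)⁻¹ := by
        have h4 := congrArg (fun z => x * z) h1
        simpa [mul_assoc] using h4
      have h4 : (b : K)⁻¹ * ((a : K) * x * (a : K)⁻¹) * a = (b : K)⁻¹ * (b * x * (b : K)⁻¹) * a := by
        rw [h3]
      simp only [mul_assoc, inv_mul_cancel, mul_one, inv_mul_cancel_left] at h4
      rw [mul_assoc, ← h4]
    exact Subtype.ext (inv_mul_eq_one.1 h2).symm
  have hbij := Finite.injective_iff_bijective.1 hf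
  have h1 : ∑ h : H, θ (x * h) = ∑ h : H, θ x := by
    rw [← (Equiv.ofBijective f hbij).sum_comp]
    refine Finset.sum_congr rfl fun h _ => ?_
    have e : x * ((Equiv.ofBijective f hbij h : H) : K) = h * x * (h : K)⁻¹ := by
      show x * (x⁻¹ * h * x * (h : K)⁻¹) = _
      simp [mul_assoc]
    rw [e, irr_classFun hθ]
  rw [h1, Finset.sum_const, Finset.card_univ, nsmul_eq_mul] at h0
  exact (mul_eq_zero.1 h0).resolve_left (Nat.cast_ne_zero.mpr Fintype.card_ne_zero)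

/-- the kernel of a character acts trivially -/
theorem a_char_mul_ker {χ : K → ℂ} (hχ : IsCharacter K χ) {y : K} (hy : χ y = χ 1) (x : K) :
    χ (x * y) = χ x := by
  rw [classFun_mul_comm (char_classFun hχ)]
  exact Cfsg.Agent.H27.char_ker_mul hχ hy x

end Vanish

section Frame

variable {G : Type u} [Group G] [Fintype G] {M W₁ U W₂ : Subgroup G} [Fintype ↥M]
  {η : Lin W₁ W₂ → G → ℂ} {μ : Lin W₁ W₂ → ↥M → ℂ} {δ : Lin W₁ W₂ → ℤ}

namespace IsFrame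

theorem V_sub_A0 (F : IsFrame M W₁ U W₂ η μ δ) : Vset W₁ W₂ ⊆ typeA0 M :=
  a_V_sub_A0_P F.hG F.hM F.hP

theorem V_supportR (F : IsFrame M W₁ U W₂ η μ δ) {v : G} (hv : v ∈ Vset W₁ W₂) :
    supportR M v = ⊥ := a_supportR_V F.hP hv

/-- elements of `A(M)` are in `M'` -/
theorem a_A_sub' (F : IsFrame M W₁ U W₂ η μ δ) {x : G} (hx : x ∈ typeA M) : x ∈ ⁅M, M⁆ := by
  rw [a_typeA_eq F.hG F.hM F.hP] at hx
  exact hx.1

theorem A_sub (F : IsFrame M W₁ U W₂ η μ δ) {x : ↥M} (hx : (x : G) ∈ typeA M) :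
    x ∈ _root_.commutator ↥M := a_mem_comm_iff.2 (F.a_A_sub' hx)

/-- no conjugate of an element of `V` lies in `Ã(M)` -/
theorem V_tilde (F : IsFrame M W₁ U W₂ η μ δ) {v : G} (hv : v ∈ Vset W₁ W₂) :
    v ∉ tildeOf M (typeA M) := by
  rintro ⟨a, ha, r, hr, y, e⟩
  have hD := dadeHyp F.hG F.hM (M := M) (A := typeA0 M) (Or.inr (Or.inr rfl))
  have h1 : y * a * y⁻¹ = v := PF.conj_part hD (A_sub_A0 ha) (F.V_sub_A0 hv) hr
    (one_mem (supportR M v)) (by rw [mul_one]; exact e.symm)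
  obtain ⟨x, hx, e2⟩ := hD.fusion a (A_sub_A0 ha) y (by rw [h1]; exact F.V_sub_A0 hv)
  have h2 : v ∈ ⁅M, M⁆ := by
    rw [← h1, ← e2]
    exact (Subgroup.mem_normalizer_iff.1 (le_nz_commutator M hx) a).1 (F.a_A_sub' ha)
  exact a_V_not_comm F.hP hv h2

theorem a_V_not_A (F : IsFrame M W₁ U W₂ η μ δ) {v : G} (hv : v ∈ Vset W₁ W₂) : v ∉ typeA M :=
  fun h => a_V_not_comm F.hP hv (F.a_A_sub' h)

/-- an element of `M` off `M'` is conjugate in `M` to an element of `W ∖ W₂` -/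
theorem conj_W (F : IsFrame M W₁ U W₂ η μ δ) {x : ↥M} (hx : x ∉ _root_.commutator ↥M) :
    ∃ (y : ↥M) (w : G), w ∈ W₁ ⊔ W₂ ∧ w ∉ W₂ ∧ ((y * x * y⁻¹ : ↥M) : G) = w := by
  obtain ⟨y, w, hw, hw2, e⟩ := F.pre.conj_W hx
  exact ⟨y, w, w.2, hw2, by rw [e]⟩

theorem supp_A0 (F : IsFrame M W₁ U W₂ η μ δ) {α : ↥M → ℂ} (hα : IsClassFunction ↥M α)
    (h1 : ∀ w : ↥M, (w : G) ∈ W₁ → w ≠ 1 → α w = 0)
    (h2 : ∀ x : ↥M, x ∈ _root_.commutator ↥M → (x : G) ∉ typeA M → α x = 0) :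
    SuppOn (typeA0 M) α := a_supp_A0_P F.hG F.hM F.hP hα h1 h2

/-- types III, IV, V : `A(M) = M' ∖ 1` -/
theorem A_eq (F : IsFrame M W₁ U W₂ η μ δ)
    (h : IsOfTypeIII M ∨ IsOfTypeIV M ∨ IsOfTypeV M) :
    typeA M = ((⁅M, M⁆ : Subgroup G) : Set G) \ {1} := (a_A_eq_P F.hG F.hM F.hP h).2

theorem SM_eq (F : IsFrame M W₁ U W₂ η μ δ)
    (h : IsOfTypeIII M ∨ IsOfTypeIV M ∨ IsOfTypeV M) (A : Subgroup ↥M) :
    SM M A = inducedIrrAbove (_root_.commutator ↥M) A := by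
  have hc := (a_A_eq_P F.hG F.hM F.hP h).1
  ext χ
  constructor
  · rintro ⟨θ, h1, h2, ⟨x, hx, hne⟩, rfl⟩
    refine ⟨θ, h1, ?_, h2, rfl⟩
    rintro rfl
    exact hne rfl
  · rintro ⟨θ, h1, h2, h3, rfl⟩
    refine ⟨θ, h1, h3, ?_, rfl⟩
    by_contra hcon
    push Not at hcon
    apply h2
    have h4 : ∀ x : ↥(_root_.commutator ↥M), θ x = θ 1 := fun x =>
      hcon x (by rw [hc, Subgroup.mem_subgroupOf]; exact a_mem_comm_iff.1 x.2)
    have := Fintype.ofFinite ↥(_root_.commutator ↥M)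
    have h5 : classInner θ (fun _ => 1) ≠ 0 := by
      have : θ = θ 1 • (fun _ => (1 : ℂ)) := by
        funext x; rw [h4 x]; simp
      rw [this, classInner_smul_left, classInner_self_of_irr isIrr_one, mul_one]
      exact irr_one_ne_zero h1
    by_contra h6
    exact h5 (classInner_of_irr_ne h1 isIrr_one h6)

/-- `τ α = α` on `V` -/
theorem tau_V (F : IsFrame M W₁ U W₂ η μ δ) {α : ↥M → ℂ} (hα : IsClassFunction ↥M α)
    {v : G} (hv : v ∈ Vset W₁ W₂) (hvM : v ∈ M) : tauM M α v = α ⟨v, hvM⟩ := by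
  have h := tau_apply F.hG F.hM hα (a := ⟨v, hvM⟩) (F.V_sub_A0 hv) (u := 1) (y := 1) (one_mem _)
  simpa using h

theorem tau_V_zero (F : IsFrame M W₁ U W₂ η μ δ) {α : ↥M → ℂ} (hα : IsClassFunction ↥M α)
    (hαA : SuppOn (typeA M) α) {v : G} (hv : v ∈ Vset W₁ W₂) : tauM M α v = 0 := by
  rw [F.tau_V hα hv (F.W_le hv.1)]
  exact hαA _ (F.a_V_not_A hv)

theorem a_mu_classFun (F : IsFrame M W₁ U W₂ η μ δ) (ω : Lin W₁ W₂) :
    IsClassFunction ↥M (μ ω) := irr_classFun (F.irr ω)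

theorem col_off (F : IsFrame M W₁ U W₂ η μ δ) (ω : Lin W₁ W₂) {x : ↥M}
    (hx : x ∉ _root_.commutator ↥M) : colI μ ω x = 0 := F.pre.col_off ω x hx

theorem col_on (F : IsFrame M W₁ U W₂ η μ δ) (ω : Lin W₁ W₂) {x : ↥M}
    (hx : x ∈ _root_.commutator ↥M) : colI μ ω x = (Nat.card W₁ : ℂ) * μ ω x :=
  F.pre.col_on ω x hx

theorem a_index_comm (F : IsFrame M W₁ U W₂ η μ δ) :
    (_root_.commutator ↥M).index = Nat.card W₁ := F.pre.index_comm

/-- `conj` of a column sum -/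
theorem a_conj_col {X : Type v} [Finite G] {f : Lin W₁ W₂ → X → ℂ}
    (hf : ∀ ω, conjFun (f ω) = f ω⁻¹) (ω : Lin W₁ W₂) :
    conjFun (colI f ω) = colI f ω⁻¹ := by
  funext x
  unfold colI conjFun
  rw [Finset.sum_apply, Finset.sum_apply, map_sum]
  refine Finset.sum_nbij (fun φ => φ⁻¹) ?_ ?_ ?_ ?_
  · intro φ hφ
    rw [mem_idxI] at hφ ⊢
    exact hφ.inv
  · intro a _ b _ hab
    exact a_lin_inv_inj.1 hab
  · intro a ha
    rw [Finset.mem_coe, mem_idxI] at ha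
    exact ⟨a⁻¹, by rw [Finset.mem_coe, mem_idxI]; exact ha.inv, a_lin_inv_inv a⟩
  · intro φ _
    have := congrFun (hf (φ * ω)) x
    rw [a_lin_mul_inv_rev] at this
    exact this

theorem col_conj (F : IsFrame M W₁ U W₂ η μ δ) (ω : Lin W₁ W₂) :
    conjFun (colI μ ω) = colI μ ω⁻¹ := a_conj_col F.conj_mu ω

theorem a_eta_col_conj (F : IsFrame M W₁ U W₂ η μ δ) (ω : Lin W₁ W₂) :
    conjFun (colI η ω) = colI η ω⁻¹ := a_conj_col F.conj_eta ω

theorem a_col_inner_gen {X : Type v} [Group X] [Fintype X] (hW : IsSelfNormalizingCyclic W₁ W₂)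
    {f : Lin W₁ W₂ → X → ℂ} (h1 : ∀ ω, classInner (f ω) (f ω) = 1)
    (h0 : ∀ ω ω', ω ≠ ω' → classInner (f ω) (f ω') = 0) {φ ψ ψ' : Lin W₁ W₂}
    (hφ : IsI W₁ W₂ φ) (hψ : IsJ W₁ W₂ ψ) (hψ' : IsJ W₁ W₂ ψ') [Decidable (ψ = ψ')] :
    classInner (colI f ψ) (f (φ * ψ')) = if ψ = ψ' then 1 else 0 := by
  classical
  unfold colI
  rw [classInner_sum_left]
  split_ifs with h
  · subst h
    rw [Finset.sum_eq_single φ, h1]
    · intro a ha hne
      rw [mem_idxI] at ha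
      apply h0
      intro e
      exact hne (lin_unique hW ha hφ hψ hψ e).1
    · intro h; exact absurd (mem_idxI.2 hφ) h
  · apply Finset.sum_eq_zero
    intro a ha
    rw [mem_idxI] at ha
    apply h0
    intro e
    exact h (lin_unique hW ha hφ hψ hψ' e).2

theorem a_col_inner_gen2 {X : Type v} [Group X] [Fintype X] (hW : IsSelfNormalizingCyclic W₁ W₂)
    {f : Lin W₁ W₂ → X → ℂ} (h1 : ∀ ω, classInner (f ω) (f ω) = 1)
    (h0 : ∀ ω ω', ω ≠ ω' → classInner (f ω) (f ω') = 0) {ψ ψ' : Lin W₁ W₂}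
    (hψ : IsJ W₁ W₂ ψ) (hψ' : IsJ W₁ W₂ ψ') [Decidable (ψ = ψ')] :
    classInner (colI f ψ) (colI f ψ') = if ψ = ψ' then (Nat.card W₁ : ℂ) else 0 := by
  classical
  have h2 : ∀ φ ∈ idxI W₁ W₂, classInner (colI f ψ) (f (φ * ψ')) = if ψ = ψ' then 1 else 0 :=
    fun φ hφ => a_col_inner_gen hW h1 h0 (mem_idxI.1 hφ) hψ hψ'
  have h3 : classInner (colI f ψ) (colI f ψ') =
      ∑ φ ∈ idxI W₁ W₂, classInner (colI f ψ) (f (φ * ψ')) := by
    conv_lhs => rw [colI.eq_def f ψ', classInner_sum_right]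
  rw [h3, Finset.sum_congr rfl h2, Finset.sum_const, card_idxI hW, nsmul_eq_mul]
  split_ifs <;> simp

theorem a_mu_orth (F : IsFrame M W₁ U W₂ η μ δ) {ω ω' : Lin W₁ W₂} (h : ω ≠ ω') :
    classInner (μ ω) (μ ω') = 0 :=
  classInner_of_irr_ne (F.irr _) (F.irr _) fun e => h (F.inj e)

theorem a_eta_orth (F : IsFrame M W₁ U W₂ η μ δ) {ω ω' : Lin W₁ W₂} (h : ω ≠ ω') :
    classInner (η ω) (η ω') = 0 := by
  rw [F.fam.orthonormal, if_neg h]

theorem a_eta_norm (F : IsFrame M W₁ U W₂ η μ δ) (ω : Lin W₁ W₂) :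
    classInner (η ω) (η ω) = 1 := by
  rw [F.fam.orthonormal, if_pos rfl]

/-- the column sums `μ_j` -/
theorem col_inner (F : IsFrame M W₁ U W₂ η μ δ) {ψ ψ' : Lin W₁ W₂}
    (hψ : IsJ W₁ W₂ ψ) (hψ' : IsJ W₁ W₂ ψ') [Decidable (ψ = ψ')] :
    classInner (colI μ ψ) (colI μ ψ') = if ψ = ψ' then (Nat.card W₁ : ℂ) else 0 :=
  a_col_inner_gen2 F.hW (fun ω => classInner_self_of_irr (F.irr ω)) (fun _ _ => F.a_mu_orth) hψ hψ'

theorem col_inner_mu (F : IsFrame M W₁ U W₂ η μ δ) {φ ψ ψ' : Lin W₁ W₂}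
    (hφ : IsI W₁ W₂ φ) (hψ : IsJ W₁ W₂ ψ) (hψ' : IsJ W₁ W₂ ψ') [Decidable (ψ = ψ')] :
    classInner (colI μ ψ) (μ (φ * ψ')) = if ψ = ψ' then 1 else 0 :=
  a_col_inner_gen F.hW (fun ω => classInner_self_of_irr (F.irr ω)) (fun _ _ => F.a_mu_orth) hφ hψ hψ'

/-- inner products of the column sums of `η` -/
theorem eta_col_inner (F : IsFrame M W₁ U W₂ η μ δ) {ψ ψ' : Lin W₁ W₂}
    (hψ : IsJ W₁ W₂ ψ) (hψ' : IsJ W₁ W₂ ψ') [Decidable (ψ = ψ')] :
    classInner (colI η ψ) (colI η ψ') = if ψ = ψ' then (Nat.card W₁ : ℂ) else 0 :=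
  a_col_inner_gen2 F.hW F.a_eta_norm (fun _ _ => F.a_eta_orth) hψ hψ'

theorem a_eta_col_inner_eta (F : IsFrame M W₁ U W₂ η μ δ) {φ ψ ψ' : Lin W₁ W₂}
    (hφ : IsI W₁ W₂ φ) (hψ : IsJ W₁ W₂ ψ) (hψ' : IsJ W₁ W₂ ψ') [Decidable (ψ = ψ')] :
    classInner (colI η ψ) (η (φ * ψ')) = if ψ = ψ' then 1 else 0 :=
  a_col_inner_gen F.hW F.a_eta_norm (fun _ _ => F.a_eta_orth) hφ hψ hψ'

theorem deg_eq (F : IsFrame M W₁ U W₂ η μ δ) {φ ω : Lin W₁ W₂} (hφ : IsI W₁ W₂ φ) :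
    μ (φ * ω) 1 = μ ω 1 := F.res_eq φ ω hφ 1 (one_mem _)

theorem a_sign_ne_zero (F : IsFrame M W₁ U W₂ η μ δ) (ω : Lin W₁ W₂) : (δ ω : ℂ) ≠ 0 := by
  rcases F.sign ω with h | h <;> rw [h] <;> norm_num

theorem a_sign_sq (F : IsFrame M W₁ U W₂ η μ δ) (ω : Lin W₁ W₂) : (δ ω : ℂ) * δ ω = 1 := by
  rcases F.sign ω with h | h <;> rw [h] <;> norm_num

/-- for `ω` nontrivial on `W₂`, `W₂` is not in the kernel of `μ ω` -/
theorem a_not_ker (F : IsFrame M W₁ U W₂ η μ δ) {ω : Lin W₁ W₂} (h : ¬ IsI W₁ W₂ ω) :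
    ∃ y : ↥M, (y : G) ∈ W₂ ∧ μ ω y ≠ μ ω 1 := by
  by_contra hcon
  push Not at hcon
  apply h
  intro y hy
  obtain ⟨w, hw, hw1⟩ := exists_ne_one F.hP.W₁_ne
  have hwW : w ∈ W₁ ⊔ W₂ := Subgroup.mem_sup_left hw
  have h1 := a_char_mul_ker (irr_isChar (F.irr ω)) (hcon ⟨y, F.W_le y.2⟩ hy) ⟨w, F.hP.W₁_le hw⟩
  have h2 := F.apply_W ω ⟨w, hwW⟩ (F.hP.W₁_le hw) (F.W₁_not_W₂ hw hw1)
  have h3 := F.apply_W ω (⟨w, hwW⟩ * y) (F.W_le (⟨w, hwW⟩ * y).2) (fun h2 =>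
    F.W₁_not_W₂ hw hw1 ((Subgroup.mul_mem_cancel_right _ hy).1 h2))
  have h4 : (⟨((⟨w, hwW⟩ * y : ↥(W₁ ⊔ W₂)) : G), F.W_le (⟨w, hwW⟩ * y).2⟩ : ↥M) =
      ⟨w, F.hP.W₁_le hw⟩ * ⟨y, F.W_le y.2⟩ := rfl
  rw [h4, h1, h2, map_mul, Units.val_mul] at h3
  have h5 := mul_left_cancel₀ (F.a_sign_ne_zero ω) h3
  have h6 : (ω y : ℂ) = 1 := by
    have h7 : ((ω ⟨w, hwW⟩ : ℂˣ) : ℂ) * 1 = (ω ⟨w, hwW⟩ : ℂˣ) * (ω y : ℂ) := by rw [mul_one]; exact h5
    exact (mul_left_cancel₀ (Units.ne_zero _) h7).symm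
  exact Units.ext h6

/-- for `ω` nontrivial on `W₂`, `μ ω` vanishes on `M' ∖ (A(M) ∪ 1)`. -/
theorem a_mu_vanish (F : IsFrame M W₁ U W₂ η μ δ) {ω : Lin W₁ W₂} (h : ¬ IsI W₁ W₂ ω) {x : ↥M}
    (hx : x ∈ _root_.commutator ↥M) (hx1 : x ≠ 1) (hxA : (x : G) ∉ typeA M) : μ ω x = 0 := by
  classical
  have := Fintype.ofFinite ↥(_root_.commutator ↥M)
  obtain ⟨y, hy, hne⟩ := F.a_not_ker h
  have hyc : y ∈ _root_.commutator ↥M := a_mem_comm_iff.2 (F.hP.W₂_le' hy)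
  obtain ⟨H, hH⟩ : ∃ H : Subgroup ↥(_root_.commutator ↥M),
      H = ((typeCore M).subgroupOf M).subgroupOf (_root_.commutator ↥M) := ⟨_, rfl⟩
  have hmem : ∀ z : ↥(_root_.commutator ↥M), z ∈ H ↔ ((z : ↥M) : G) ∈ typeCore M := by
    intro z; rw [hH]; rfl
  have hHn : H.Normal := by
    constructor
    intro a ha b
    rw [hmem] at ha ⊢
    exact (Subgroup.mem_normalizer_iff.1 (a_le_nz_core (b : ↥M).2) _).1 ha
  have h1 := a_vanish_of_free hHn (F.res_irr ω) ⟨⟨y, hyc⟩, (hmem _).2 (a_W₂_le_core F.hP hy), hne⟩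
    (x := ⟨x, hx⟩) (by
      intro z hz hc
      by_contra hz1
      apply hxA
      rw [a_typeA_eq F.hG F.hM F.hP]
      refine ⟨a_mem_comm_iff.1 hx, fun h2 => hx1 (Subtype.ext h2), (z : ↥M), (hmem z).1 hz, ?_, ?_⟩
      · intro h2
        exact hz1 (Subtype.ext (Subtype.ext h2))
      · exact congrArg (fun t : ↥(_root_.commutator ↥M) => ((t : ↥M) : G)) hc)
  exact h1

end IsFrame

end Frame

end Cfsg.Agent.PF
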