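import Cfsg.Agent.PF.A6

set_option autoImplicit false

/-! Part (A), proofs 7: (4.8) (helper11). -/

namespace Cfsg.Agent.PF

open Subgroup ComplexConjugate
open Cfsg.Agent.H3 Cfsg.Agent.H11

universe u v w

section Comb

variable {P : Type u} {Q : Type v} [Fintype P] [Fintype Q] [DecidableEq P] [DecidableEq Q]

theorem a_sum_two_le (a : P → Q → ℤ) (hsum : ∑ p, ∑ q, a p q ^ 2 ≤ 2) (S : Finset (P × Q)) :
    ∑ x ∈ S, a x.1 x.2 ^ 2 ≤ 2 := by
  refine le_trans (Finset.sum_le_sum_of_subset_of_nonneg (Finset.subset_univ S)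
    (fun x _ _ => sq_nonneg _)) ?_
  rw [Fintype.sum_prod_type]
  exact hsum

/-- the combinatorial core of (4.8) -/
theorem a_grid_two (a : P → Q → ℤ) (i : P) (j j' : Q) (hj : j ≠ j') (s : ℤ) (hs : s = 1 ∨ s = -1)
    (hP : 3 ≤ Fintype.card P) (hQ : 3 ≤ Fintype.card Q)
    (h5 : 4 ≤ Fintype.card P ∨ 5 ≤ Fintype.card Q) (hsum : ∑ p, ∑ q, a p q ^ 2 ≤ 2)
    (d : P → Q → ℤ) (hd : ∀ p q, d p q = a p q - s * ((if p = i ∧ q = j then 1 else 0) -
      (if p = i ∧ q = j' then 1 else 0)))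
    (hadd : ∀ p p' q q', d p q + d p' q' = d p q' + d p' q) : a i j = s ∧ a i j' = -s := by
  classical
  obtain ⟨N, hN⟩ : ∃ N : Finset (P × Q), N = Finset.univ.filter (fun x => a x.1 x.2 ≠ 0) := ⟨_, rfl⟩
  have hNc : N.card ≤ 2 := by
    have h1 := a_sum_two_le a hsum N
    have h2 : (N.card : ℤ) ≤ ∑ x ∈ N, a x.1 x.2 ^ 2 := by
      rw [Finset.card_eq_sum_ones, Nat.cast_sum]
      refine Finset.sum_le_sum fun x hx => ?_
      rw [hN, Finset.mem_filter] at hx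
      have := mul_self_pos.mpr hx.2
      push_cast
      nlinarith
    omega
  have ha0 : ∀ p q, (p, q) ∉ N → a p q = 0 := by
    intro p q h
    rw [hN, Finset.mem_filter] at h
    push Not at h
    exact h (Finset.mem_univ _)
  have hss : s * s = 1 := by rcases hs with h | h <;> rw [h] <;> norm_num
  have dij : d i j = a i j - s := by rw [hd]; simp [hj]
  have dij' : d i j' = a i j' + s := by rw [hd]; simp [hj.symm]
  rcases h5 with h5 | h5
  · -- a zero row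
    obtain ⟨p₀, hp₀⟩ : ∃ p₀, p₀ ∉ insert i (N.image Prod.fst) := by
      by_contra hcon
      push Not at hcon
      have h1 : (Finset.univ : Finset P) ⊆ insert i (N.image Prod.fst) := fun x _ => hcon x
      have h2 := (Finset.card_le_card h1).trans ((Finset.card_insert_le _ _).trans
        (Nat.succ_le_succ Finset.card_image_le))
      rw [Finset.card_univ] at h2
      omega
    rw [Finset.mem_insert, not_or] at hp₀
    have hrow : ∀ q, d p₀ q = 0 := by
      intro q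
      rw [hd, ha0 p₀ q (fun h => hp₀.2 (Finset.mem_image.2 ⟨_, h, rfl⟩))]
      simp [hp₀.1]
    have hconst : ∀ q, d i q = d i j := by
      intro q
      have := hadd i p₀ q j
      rw [hrow, hrow] at this
      linarith
    obtain ⟨q₃, hq₃⟩ : ∃ q₃, q₃ ∉ ({j, j'} : Finset Q) := by
      by_contra hcon
      push Not at hcon
      have h1 : (Finset.univ : Finset Q) ⊆ {j, j'} := fun x _ => hcon x
      have h2 := (Finset.card_le_card h1).trans (Finset.card_insert_le _ _)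
      rw [Finset.card_univ, Finset.card_singleton] at h2
      omega
    simp only [Finset.mem_insert, Finset.mem_singleton, not_or] at hq₃
    have h1 := a_sum_two_le a hsum {(i, j), (i, j'), (i, q₃)}
    rw [Finset.sum_insert (by simp [hj, Ne.symm hq₃.1]), Finset.sum_insert (by simp [Ne.symm hq₃.2]),
      Finset.sum_singleton] at h1
    have e1 : d i q₃ = a i q₃ := by rw [hd]; simp [hq₃.1, hq₃.2]
    have e2 := hconst q₃
    have e3 := hconst j'
    rw [e1] at e2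
    rw [dij'] at e3
    rw [dij] at e2 e3
    have e4 : a i j = (a i j - s) + s := by ring
    have e5 : a i j' = (a i j - s) - s := by linarith
    simp only at h1
    rw [e2, e5] at h1
    obtain ⟨b, hb⟩ : ∃ b, b = a i j - s := ⟨_, rfl⟩
    have e6 : a i j = b + s := by rw [hb]; ring
    rw [e6] at h1
    have h2 : b * b ≤ 0 := by nlinarith
    have h3 : b = 0 := by nlinarith
    constructor
    · rw [e6, h3]; ring
    · rw [e5, ← hb, h3]; ring
  · -- a zero column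
    obtain ⟨q₀, hq₀⟩ : ∃ q₀, q₀ ∉ insert j (insert j' (N.image Prod.snd)) := by
      by_contra hcon
      push Not at hcon
      have h1 : (Finset.univ : Finset Q) ⊆ insert j (insert j' (N.image Prod.snd)) :=
        fun x _ => hcon x
      have h2 := (Finset.card_le_card h1).trans ((Finset.card_insert_le _ _).trans
        (Nat.succ_le_succ ((Finset.card_insert_le _ _).trans
        (Nat.succ_le_succ Finset.card_image_le))))
      rw [Finset.card_univ] at h2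
      omega
    simp only [Finset.mem_insert, not_or] at hq₀
    have hcol : ∀ p, d p q₀ = 0 := by
      intro p
      rw [hd, ha0 p q₀ (fun h => hq₀.2.2 (Finset.mem_image.2 ⟨_, h, rfl⟩))]
      simp [hq₀.1, hq₀.2.1]
    have hconst : ∀ p q, d p q = d i q := by
      intro p q
      have := hadd p i q q₀
      rw [hcol, hcol] at this
      linarith
    obtain ⟨p₁, hp₁⟩ : ∃ p₁, p₁ ∉ ({i} : Finset P) := by
      by_contra hcon
      push Not at hcon
      have h1 : (Finset.univ : Finset P) ⊆ {i} := fun x _ => hcon x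
      have h2 := Finset.card_le_card h1
      rw [Finset.card_univ, Finset.card_singleton] at h2
      omega
    obtain ⟨p₂, hp₂⟩ : ∃ p₂, p₂ ∉ ({i, p₁} : Finset P) := by
      by_contra hcon
      push Not at hcon
      have h1 : (Finset.univ : Finset P) ⊆ {i, p₁} := fun x _ => hcon x
      have h2 := (Finset.card_le_card h1).trans (Finset.card_insert_le _ _)
      rw [Finset.card_univ, Finset.card_singleton] at h2
      omega
    simp only [Finset.mem_insert, Finset.mem_singleton, not_or] at hp₁ hp₂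
    have h1 := a_sum_two_le a hsum {(i, j), (i, j'), (p₁, j), (p₁, j'), (p₂, j), (p₂, j')}
    rw [Finset.sum_insert (by simp [hj, Ne.symm hp₁, Ne.symm hp₂.1]),
      Finset.sum_insert (by simp [Ne.symm hp₁, Ne.symm hp₂.1]),
      Finset.sum_insert (by simp [hj, Ne.symm hp₂.2]),
      Finset.sum_insert (by simp [Ne.symm hp₂.2]), Finset.sum_insert (by simp [hj]),
      Finset.sum_singleton] at h1
    have f1 : ∀ p, p ≠ i → ∀ q, d p q = a p q := by
      intro p hp q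
      rw [hd]; simp [hp]
    have g1 := hconst p₁ j
    have g2 := hconst p₁ j'
    have g3 := hconst p₂ j
    have g4 := hconst p₂ j'
    rw [f1 p₁ hp₁, dij] at g1
    rw [f1 p₁ hp₁, dij'] at g2
    rw [f1 p₂ hp₂.1, dij] at g3
    rw [f1 p₂ hp₂.1, dij'] at g4
    simp only at h1
    rw [g1, g2, g3, g4] at h1
    obtain ⟨b, hb⟩ : ∃ b, b = a i j - s := ⟨_, rfl⟩
    obtain ⟨c, hc⟩ : ∃ c, c = a i j' + s := ⟨_, rfl⟩
    have e6 : a i j = b + s := by rw [hb]; ring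
    have e7 : a i j' = c - s := by rw [hc]; ring
    rw [e6, e7] at h1
    have h2 : 3 * b ^ 2 + 2 * b * s + 3 * c ^ 2 - 2 * c * s ≤ 0 := by nlinarith
    have h3 : b = 0 ∧ c = 0 := by
      have h4 : ∀ x : ℤ, ∀ t : ℤ, (t = 1 ∨ t = -1) → 0 ≤ 3 * x ^ 2 + 2 * x * t ∧
          (x ≠ 0 → 0 < 3 * x ^ 2 + 2 * x * t) := by
        intro x t ht
        have h6 : x ≠ 0 → 0 < 3 * x ^ 2 + 2 * x * t := by
          intro hx
          have h7 : x * x ≥ 1 := by have := mul_self_pos.mpr hx; omega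
          have h8 : (x + t) * (x + t) ≥ 0 := mul_self_nonneg _
          have h9 : t * t = 1 := by rcases ht with h | h <;> rw [h] <;> norm_num
          nlinarith
        refine ⟨?_, h6⟩
        by_cases hx : x = 0
        · rw [hx]; simp
        · exact (h6 hx).le
      obtain ⟨k1, k2⟩ := h4 b s hs
      obtain ⟨k3, k4⟩ := h4 c (-s) (by rcases hs with h | h <;> rw [h] <;> norm_num)
      constructor
      · by_contra hb0
        have := k2 hb0
        nlinarith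
      · by_contra hc0
        have := k4 hc0
        nlinarith
    constructor
    · rw [e6, h3.1]; ring
    · rw [e7, h3.2]; ring

end Comb

section Frame

variable {G : Type u} [Group G] [Fintype G] {M W₁ U W₂ : Subgroup G} [Fintype ↥M]
  {η : Lin W₁ W₂ → G → ℂ} {μ : Lin W₁ W₂ → ↥M → ℂ} {δ : Lin W₁ W₂ → ℤ}

namespace IsFrame

theorem a_eta_gen (F : IsFrame M W₁ U W₂ η μ δ) (ω : Lin W₁ W₂) :
    IsGeneralizedCharacter G (η ω) := (eta_sirr F.fam ω).isGen

theorem a_card_or (F : IsFrame M W₁ U W₂ η μ δ) : 4 ≤ Nat.card W₁ ∨ 5 ≤ Nat.card W₂ := by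
  obtain ⟨h1, h2⟩ := a_three_le F.hW F.oddW
  have h3 := a_coprime_of_selfNorm F.hW
  have o1 : Odd (Nat.card W₁) := F.oddW.of_dvd_nat (Subgroup.card_dvd_of_le le_sup_left)
  have o2 : Odd (Nat.card W₂) := F.oddW.of_dvd_nat (Subgroup.card_dvd_of_le le_sup_right)
  by_contra hcon
  push Not at hcon
  have e1 : Nat.card W₁ = 3 := by omega
  have e2 : Nat.card W₂ = 3 := by
    obtain ⟨k, hk⟩ := o2
    omega
  rw [e1, e2] at h3
  exact absurd h3 (by decide)

/-- the support of `μ ω - μ ω'` -/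
theorem a_supp_mu_sub (F : IsFrame M W₁ U W₂ η μ δ) {ω ω' : Lin W₁ W₂}
    (hag : ∀ w : ↥(W₁ ⊔ W₂), (w : G) ∈ W₁ → ω w = ω' w) (h : ¬ IsI W₁ W₂ ω)
    (h' : ¬ IsI W₁ W₂ ω') (hdeg : μ ω 1 = μ ω' 1) (hsign : δ ω = δ ω') :
    SuppOn (typeA0 M) (μ ω - μ ω') := by
  refine F.supp_A0 (classFun_sub (F.a_mu_classFun ω) (F.a_mu_classFun ω')) ?_ ?_
  · intro w hw hw1
    have hwW : (w : G) ∈ W₁ ⊔ W₂ := Subgroup.mem_sup_left hw
    have hw2 : (w : G) ∉ W₂ := F.W₁_not_W₂ hw (fun h => hw1 (Subtype.ext h))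
    have e1 := F.apply_W ω ⟨w, hwW⟩ w.2 hw2
    have e2 := F.apply_W ω' ⟨w, hwW⟩ w.2 hw2
    have e3 := hag ⟨w, hwW⟩ hw
    rw [Pi.sub_apply]
    have e4 : (⟨(w : G), w.2⟩ : ↥M) = w := rfl
    rw [e4] at e1 e2
    rw [e1, e2, e3, hsign, sub_self]
  · intro x hx hxA
    by_cases hx1 : x = 1
    · rw [hx1, Pi.sub_apply, hdeg, sub_self]
    · rw [Pi.sub_apply, F.a_mu_vanish h hx hx1 hxA, F.a_mu_vanish h' hx hx1 hxA, sub_self]

/-- (A2) (PF 4.8) `ω, ω'` agree on `W₁`. -/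
theorem tau_mu_sub (F : IsFrame M W₁ U W₂ η μ δ) {ω ω' : Lin W₁ W₂}
    (hag : ∀ w : ↥(W₁ ⊔ W₂), (w : G) ∈ W₁ → ω w = ω' w) (h : ¬ IsI W₁ W₂ ω)
    (h' : ¬ IsI W₁ W₂ ω') (hdeg : μ ω 1 = μ ω' 1) (hsign : δ ω = δ ω') :
    SuppOn (typeA0 M) (μ ω - μ ω') ∧
      tauM M (μ ω - μ ω') = (δ ω : ℂ) • (η ω - η ω') := by
  classical
  have hsupp := F.a_supp_mu_sub hag h h' hdeg hsign
  refine ⟨hsupp, ?_⟩
  by_cases hne : ω = ω'
  · subst hne
    rw [sub_self, sub_self, smul_zero]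
    exact a_dade_zero'
  obtain ⟨φ, ψ, hφ, hψ, e⟩ := lin_factor F.hW ω
  obtain ⟨φ', ψ', hφ', hψ', e'⟩ := lin_factor F.hW ω'
  have hφφ : φ = φ' := by
    apply a_lin_ext
    · intro w hw
      have := hag w hw
      rw [e, e', MonoidHom.mul_apply, MonoidHom.mul_apply, hψ w hw, hψ' w hw, mul_one,
        mul_one] at this
      exact this
    · intro w hw
      rw [hφ w hw, hφ' w hw]
  subst hφφ
  have hψψ : ψ ≠ ψ' := by
    rintro rfl
    exact hne (e.trans e'.symm)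
  have hα : IsClassFunction ↥M (μ ω - μ ω') := classFun_sub (F.a_mu_classFun ω) (F.a_mu_classFun ω')
  have hαg : IsGeneralizedCharacter ↥M (μ ω - μ ω') :=
    isGen_sub (isGen_of_irr (F.irr ω)) (isGen_of_irr (F.irr ω'))
  obtain ⟨T, hT⟩ : ∃ T, T = tauM M (μ ω - μ ω') := ⟨_, rfl⟩
  have hTg : IsGeneralizedCharacter G T := hT ▸ tau_gen F.hG F.hM hαg hsupp
  have hTn : classInner T T = 2 := by
    rw [hT, tau_inner F.hG F.hM hα hsupp hα hsupp]
    simp only [classInner_sub_left, classInner_sub_right]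
    rw [classInner_self_of_irr (F.irr ω), classInner_self_of_irr (F.irr ω'), F.a_mu_orth hne,
      F.a_mu_orth (Ne.symm hne)]
    norm_num
  choose a ha using fun ζ : Lin W₁ W₂ => classInner_gen_int hTg (F.a_eta_gen ζ)
  -- the vanishing function
  obtain ⟨θ, hθ⟩ : ∃ θ, θ = T - (δ ω : ℂ) • (η ω - η ω') := ⟨_, rfl⟩
  have hθc : IsClassFunction G θ := by
    rw [hθ]
    exact classFun_sub (isGen_classFun hTg) (classFun_smul _
      (classFun_sub (isGen_classFun (F.a_eta_gen ω)) (isGen_classFun (F.a_eta_gen ω'))))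
  have hθV : ∀ v ∈ Vset W₁ W₂, θ v = 0 := by
    intro v hv
    rw [hθ, Pi.sub_apply, hT, F.tau_V hα hv (F.W_le hv.1), Pi.smul_apply, Pi.sub_apply,
      Pi.sub_apply, F.apply_W ω ⟨v, hv.1⟩ _ hv.2.2, F.apply_W ω' ⟨v, hv.1⟩ _ hv.2.2,
      F.fam.eq_on ω ⟨v, hv.1⟩ hv.2.1 hv.2.2, F.fam.eq_on ω' ⟨v, hv.1⟩ hv.2.1 hv.2.2, hsign,
      smul_eq_mul]
    ring
  have hco : ∀ ζ, classInner θ (η ζ) =
      ((a ζ - δ ω * ((if ζ = ω then 1 else 0) - (if ζ = ω' then 1 else 0)) : ℤ) : ℂ) := by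
    intro ζ
    rw [hθ, classInner_sub_left, classInner_smul_left, classInner_sub_left, ha,
      F.fam.orthonormal, F.fam.orthonormal]
    push_cast
    have h1 : ∀ (p q : Prop) (hp : Decidable p) (hq : Decidable q), (p ↔ q) →
        @ite ℂ p hp 1 0 = @ite ℂ q hq 1 0 := by
      intro p q hp hq hpq
      by_cases k : p
      · rw [if_pos k, if_pos (hpq.1 k)]
      · rw [if_neg k, if_neg (fun h => k (hpq.2 h))]
    congr 2
    exact congrArg₂ (· - ·) (h1 _ _ _ _ ⟨Eq.symm, Eq.symm⟩) (h1 _ _ _ _ ⟨Eq.symm, Eq.symm⟩)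
  have hFP : Fintype {φ : Lin W₁ W₂ // IsI W₁ W₂ φ} := Fintype.ofFinite _
  have hFQ : Fintype {ψ : Lin W₁ W₂ // IsJ W₁ W₂ ψ} := Fintype.ofFinite _
  have hcP : Fintype.card {φ : Lin W₁ W₂ // IsI W₁ W₂ φ} = Nat.card W₁ := by
    rw [← card_idxI F.hW, ← Nat.card_eq_fintype_card]
    exact Nat.subtype_card (idxI W₁ W₂) fun x => mem_idxI
  have hcQ : Fintype.card {ψ : Lin W₁ W₂ // IsJ W₁ W₂ ψ} = Nat.card W₂ := by
    rw [← card_idxJ F.hW, ← Nat.card_eq_fintype_card]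
    exact Nat.subtype_card (idxJ W₁ W₂) fun x => mem_idxJ
  obtain ⟨t1, t2⟩ := a_three_le F.hW F.oddW
  have hsum : ∑ p : {φ : Lin W₁ W₂ // IsI W₁ W₂ φ}, ∑ q : {ψ : Lin W₁ W₂ // IsJ W₁ W₂ ψ},
      a (p.1 * q.1) ^ 2 ≤ 2 := by
    have hFL := Fintype.ofFinite (Lin W₁ W₂)
    have h1 := a_eta_bessel F.fam Finset.univ T
    rw [hTn, sum_lin F.hW] at h1
    have h2 : ∑ φ ∈ idxI W₁ W₂, ∑ ψ ∈ idxJ W₁ W₂, ‖classInner T (η (φ * ψ))‖ ^ 2 =
        ((∑ p : {φ : Lin W₁ W₂ // IsI W₁ W₂ φ}, ∑ q : {ψ : Lin W₁ W₂ // IsJ W₁ W₂ ψ},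
          a (p.1 * q.1) ^ 2 : ℤ) : ℝ) := by
      push_cast
      rw [Finset.sum_subtype (idxI W₁ W₂) (fun x => mem_idxI)]
      refine Finset.sum_congr rfl fun p _ => ?_
      rw [Finset.sum_subtype (idxJ W₁ W₂) (fun x => mem_idxJ)]
      refine Finset.sum_congr rfl fun q _ => ?_
      rw [ha, Complex.norm_intCast, sq_abs]
    rw [h2] at h1
    have h3 : ((∑ p : {φ : Lin W₁ W₂ // IsI W₁ W₂ φ}, ∑ q : {ψ : Lin W₁ W₂ // IsJ W₁ W₂ ψ},
          a (p.1 * q.1) ^ 2 : ℤ) : ℝ) ≤ ((2 : ℤ) : ℝ) := by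
      refine h1.trans ?_
      norm_num
    exact_mod_cast h3
  have key := a_grid_two (fun (p : {φ : Lin W₁ W₂ // IsI W₁ W₂ φ})
    (q : {ψ : Lin W₁ W₂ // IsJ W₁ W₂ ψ}) => a (p.1 * q.1)) ⟨φ, hφ⟩ ⟨ψ, hψ⟩ ⟨ψ', hψ'⟩
    (fun h => hψψ (congrArg Subtype.val h)) (δ ω) (F.sign ω) (by rw [hcP]; exact t1)
    (by rw [hcQ]; exact t2) (by rw [hcP, hcQ]; exact F.a_card_or) hsum
    (fun p q => a (p.1 * q.1) - δ ω * ((if p.1 * q.1 = ω then 1 else 0) -
      (if p.1 * q.1 = ω' then 1 else 0))) (by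
      intro p q
      have k1 : (p.1 * q.1 = ω) ↔ (p = ⟨φ, hφ⟩ ∧ q = ⟨ψ, hψ⟩) := by
        constructor
        · intro h3
          obtain ⟨h4, h5⟩ := lin_unique F.hW p.2 hφ q.2 hψ (h3.trans e)
          exact ⟨Subtype.ext h4, Subtype.ext h5⟩
        · rintro ⟨rfl, rfl⟩
          exact e.symm
      have k2 : (p.1 * q.1 = ω') ↔ (p = ⟨φ, hφ⟩ ∧ q = ⟨ψ', hψ'⟩) := by
        constructor
        · intro h3
          obtain ⟨h4, h5⟩ := lin_unique F.hW p.2 hφ q.2 hψ' (h3.trans e')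
          exact ⟨Subtype.ext h4, Subtype.ext h5⟩
        · rintro ⟨rfl, rfl⟩
          exact e'.symm
      simp only [k1, k2]) (by
      intro p p' q q'
      have h3 := grid_add4 F.fam hθc hθV p.2 p'.2 q.2 q'.2
      rw [hco, hco, hco, hco] at h3
      exact_mod_cast h3)
  simp only at key
  rw [← e, ← e'] at key
  obtain ⟨k1, k2⟩ := key
  have hfin : θ = 0 := by
    apply eq_zero_of_norm'
    have i1 : classInner T (η ω) = δ ω := by rw [ha, k1]
    have i2 : classInner T (η ω') = -(δ ω : ℂ) := by rw [ha, k2]; push_cast; ring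
    have i3 : classInner (η ω) T = δ ω := by
      rw [← classInner_conj_symm, i1, map_intCast (starRingEnd ℂ)]
    have i4 : classInner (η ω') T = -(δ ω : ℂ) := by
      rw [← classInner_conj_symm, i2, map_neg, map_intCast (starRingEnd ℂ)]
    rw [hθ]
    simp only [classInner_sub_left, classInner_sub_right, classInner_smul_left,
      classInner_smul_right]
    rw [hTn, i1, i2, i3, i4, F.a_eta_norm, F.a_eta_norm, F.a_eta_orth hne, F.a_eta_orth (Ne.symm hne),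
      map_intCast (starRingEnd ℂ)]
    linear_combination (-2 : ℂ) * F.a_sign_sq ω
  rw [hθ, sub_eq_zero] at hfin
  rw [← hT, hfin]

/-- (A2) second part. -/
theorem tau_grid (F : IsFrame M W₁ U W₂ η μ δ) {φ ψ : Lin W₁ W₂}
    (hφ : IsI W₁ W₂ φ) (hψ : IsJ W₁ W₂ ψ) :
    SuppOn (typeA0 M) ((δ ψ : ℂ) • (μ (φ * ψ) - μ ψ) - μ φ + μ 1) ∧
      tauM M ((δ ψ : ℂ) • (μ (φ * ψ) - μ ψ) - μ φ + μ 1) = η (φ * ψ) - η ψ - η φ + η 1 := by
  obtain ⟨α, hα⟩ : ∃ α, α = (δ ψ : ℂ) • (μ (φ * ψ) - μ ψ) - μ φ + μ 1 := ⟨_, rfl⟩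
  have hαc : IsClassFunction ↥M α := by
    rw [hα]
    exact classFun_add (classFun_sub (classFun_smul _ (classFun_sub (F.a_mu_classFun _)
      (F.a_mu_classFun _))) (F.a_mu_classFun _)) (F.a_mu_classFun _)
  have hval : ∀ x, α x = (δ ψ : ℂ) * (μ (φ * ψ) x - μ ψ x) - μ φ x + μ 1 x := by
    intro x; rw [hα]; rfl
  -- vanishes on `M'`
  have h1 : ∀ x : ↥M, x ∈ _root_.commutator ↥M → α x = 0 := by
    intro x hx
    have e1 := F.res_eq φ ψ hφ x hx
    have e2 := F.res_eq φ 1 hφ x hx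
    rw [a_lin_mul_one] at e2
    rw [hval, e1, e2]; ring
  -- on `W \ W₂`
  have h2 : ∀ (w : ↥(W₁ ⊔ W₂)) (hw : (w : G) ∈ M), (w : G) ∉ W₂ →
      α ⟨w, hw⟩ = (φ w : ℂ) * (ψ w : ℂ) - (ψ w : ℂ) - (φ w : ℂ) + 1 := by
    intro w hw hw2
    rw [hval, F.apply_W _ w hw hw2, F.apply_W _ w hw hw2, F.apply_W _ w hw hw2,
      F.apply_W _ w hw hw2, F.sign_congr φ ψ hφ, F.sign_one φ hφ, F.sign_one 1 IsI.one,
      MonoidHom.mul_apply, Units.val_mul, MonoidHom.one_apply]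
    push_cast
    linear_combination ((φ w : ℂ) * (ψ w : ℂ) - (ψ w : ℂ)) * F.a_sign_sq ψ
  have hsupp : SuppOn (typeA0 M) α := by
    refine F.supp_A0 hαc ?_ (fun x hx _ => h1 x hx)
    intro w hw hw1
    have hwW : (w : G) ∈ W₁ ⊔ W₂ := Subgroup.mem_sup_left hw
    have hw2 : (w : G) ∉ W₂ := F.W₁_not_W₂ hw (fun h => hw1 (Subtype.ext h))
    have := h2 ⟨w, hwW⟩ w.2 hw2
    rw [hψ ⟨w, hwW⟩ hw] at this
    have e4 : (⟨(w : G), w.2⟩ : ↥M) = w := rfl
    rw [e4] at this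
    rw [this]; simp
  rw [← hα]
  refine ⟨hsupp, ?_⟩
  funext g
  rw [Pi.add_apply, Pi.sub_apply, Pi.sub_apply]
  have hcf : IsClassFunction G (tauM M α) := tau_classFun F.hG F.hM hαc
  have hηc : ∀ ζ, IsClassFunction G (η ζ) := fun ζ => isGen_classFun (F.a_eta_gen ζ)
  by_cases hg : ∃ y : G, y * g * y⁻¹ ∈ Vset W₁ W₂
  · obtain ⟨y, hy⟩ := hg
    rw [← hcf g y, ← hηc _ g y, ← hηc ψ g y, ← hηc φ g y, ← hηc 1 g y,
      F.tau_V hαc hy (F.W_le hy.1), h2 ⟨_, hy.1⟩ _ hy.2.2,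
      F.fam.eq_on _ ⟨_, hy.1⟩ hy.2.1 hy.2.2, F.fam.eq_on _ ⟨_, hy.1⟩ hy.2.1 hy.2.2,
      F.fam.eq_on _ ⟨_, hy.1⟩ hy.2.1 hy.2.2, F.fam.eq_on _ ⟨_, hy.1⟩ hy.2.1 hy.2.2,
      MonoidHom.mul_apply, Units.val_mul, MonoidHom.one_apply]
    push_cast
    ring
  · push Not at hg
    have h3 := eta_grid_val F.fam hg hφ hψ
    have h4 : η 1 g = 1 := by rw [F.fam.map_one]
    have h5 : tauM M α g = 0 := by
      by_cases h6 : g ∈ tildeOf M (typeA0 M)
      · obtain ⟨a, ha, r, hr, y, e⟩ := h6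
        rcases a_A0_cases F.hG F.hM F.hP ha with haA | ⟨m, hm, hmV⟩
        · have haM : a ∈ M := commutator_le_self M (F.a_A_sub' haA)
          rw [e, tau_apply F.hG F.hM hαc (a := ⟨a, haM⟩) ha hr]
          exact h1 _ (F.A_sub haA)
        · exfalso
          -- `R(a) = 1`
          have hD := dadeHyp F.hG F.hM (M := M) (A := typeA0 M) (Or.inr (Or.inr rfl))
          have hR : supportR M a = ⊥ := by
            have h7 := PF.H_conj_iff hD ha (g := m) (F.V_sub_A0 hmV) (u := r)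
            rw [eq_bot_iff]
            intro u hu
            have h8 := (PF.H_conj_iff hD ha (g := m) (F.V_sub_A0 hmV) (u := u)).2 hu
            rw [F.V_supportR hmV, Subgroup.mem_bot] at h8
            rw [Subgroup.mem_bot]
            simpa using h8
          rw [hR, Subgroup.mem_bot] at hr
          apply hg (m * y⁻¹)
          rw [e, hr]
          have : m * y⁻¹ * (y * (a * 1) * y⁻¹) * (m * y⁻¹)⁻¹ = m * a * m⁻¹ := by
            simp [mul_assoc]
          rw [this]; exact hmV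
      · exact tau_supp F.hG F.hM (fun _ h => h) hαc hsupp h6
    rw [h5, h4]
    linear_combination -h3

end IsFrame

end Frame

end Cfsg.Agent.PF
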