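import Cfsg.Agent.PF.A7
import Cfsg.Agent.H3.IndCoh
import Cfsg.Agent.H3.Sibley3
import Cfsg.Agent.S1518

set_option autoImplicit false

/-! Part (A), proofs 8: the set `S(M)` (helper11). -/

namespace Cfsg.Agent.PF

open Subgroup ComplexConjugate
open Cfsg.Agent.H3 Cfsg.Agent.H11

universe u v w

section SM

variable {G : Type u} [Group G] [Fintype G] {M W₁ U W₂ : Subgroup G} [Fintype ↥M]
  {η : Lin W₁ W₂ → G → ℂ} {μ : Lin W₁ W₂ → ↥M → ℂ} {δ : Lin W₁ W₂ → ℤ}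

theorem SS_mono {L : Type u} [Group L] [Fintype L] {K H A B : Subgroup L} (h : A ≤ B) :
    SS K H B ⊆ SS K H A := by
  rintro _ ⟨θ, h1, h2, h3, rfl⟩
  exact ⟨θ, h1, fun a ha => h2 a (h ha), h3, rfl⟩

namespace IsFrame

theorem a_isI_of_mul (F : IsFrame M W₁ U W₂ η μ δ) {φ ψ : Lin W₁ W₂} (hφ : IsI W₁ W₂ φ)
    (h : IsI W₁ W₂ (φ * ψ)) : IsI W₁ W₂ ψ := by
  have := hφ.inv.mul h
  rwa [← a_lin_mul_assoc, a_lin_inv_mul, a_lin_one_mul] at this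

theorem a_J_not_I (F : IsFrame M W₁ U W₂ η μ δ) {ψ : Lin W₁ W₂} (hψ : IsJ W₁ W₂ ψ)
    (h1 : ψ ≠ 1) : ¬ IsI W₁ W₂ ψ := by
  intro h
  exact h1 (a_lin_ext (fun w hw => (hψ w hw).trans rfl) (fun w hw => (h w hw).trans rfl))

theorem a_mul_not_I (F : IsFrame M W₁ U W₂ η μ δ) {φ ψ : Lin W₁ W₂} (hφ : IsI W₁ W₂ φ)
    (hψ : IsJ W₁ W₂ ψ) (h1 : ψ ≠ 1) : ¬ IsI W₁ W₂ (φ * ψ) :=
  fun h => F.a_J_not_I hψ h1 (F.a_isI_of_mul hφ h)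

theorem a_inv_ne_one (F : IsFrame M W₁ U W₂ η μ δ) {ψ : Lin W₁ W₂} (h1 : ψ ≠ 1) : ψ⁻¹ ≠ 1 :=
  fun h => h1 (a_lin_inv_inj.1 (h.trans a_lin_inv_one.symm))

/-- members of `S(M)` are irreducible or column sums -/
theorem SM_cases (F : IsFrame M W₁ U W₂ η μ δ) {A : Subgroup ↥M} {χ : ↥M → ℂ}
    (h : χ ∈ SM M A) : (IsIrrCharacter ↥M χ ∧ ∀ ω, χ ≠ μ ω) ∨
      ∃ ψ, IsJ W₁ W₂ ψ ∧ ψ ≠ 1 ∧ χ = colI μ ψ := by
  obtain ⟨θ, h1, -, ⟨y, hy, hy1⟩, rfl⟩ := h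
  rcases F.dich θ h1 with ⟨ψ, hψ, rfl⟩ | h2
  · refine Or.inr ⟨ψ, hψ, ?_, F.ind_res ψ⟩
    rintro rfl
    apply hy1
    simp only [F.mu_one]
  · exact Or.inl h2

theorem a_col_mem' (F : IsFrame M W₁ U W₂ η μ δ) {ψ : Lin W₁ W₂} (hψ : IsJ W₁ W₂ ψ)
    (h1 : ψ ≠ 1) {A : Subgroup ↥M} (hA : ∀ a ∈ A ⊓ _root_.commutator ↥M, μ ψ a = μ ψ 1) :
    colI μ ψ ∈ SM M A := by
  obtain ⟨y, hy, hy1⟩ := F.a_not_ker (F.a_J_not_I hψ h1)
  have hc : (y : G) ∈ typeCore M := a_W₂_le_core F.hP hy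
  have hy' : y ∈ _root_.commutator ↥M := a_mem_comm_iff.2 (a_typeCore_le' F.hP hc)
  exact ⟨fun k => μ ψ k, F.res_irr ψ, fun a ha => hA a ⟨ha, a.2⟩, ⟨⟨y, hy'⟩, hc, hy1⟩,
    (F.ind_res ψ).symm⟩

theorem col_mem (F : IsFrame M W₁ U W₂ η μ δ) {ψ : Lin W₁ W₂} (hψ : IsJ W₁ W₂ ψ)
    (h1 : ψ ≠ 1) : colI μ ψ ∈ SM M ⊥ := by
  refine F.a_col_mem' hψ h1 fun a ha => ?_
  rw [Subgroup.mem_bot.1 ha.1]

theorem a_card_W₁ (F : IsFrame M W₁ U W₂ η μ δ) : 3 ≤ Nat.card W₁ := (a_three_le F.hW F.oddW).1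

theorem a_col_inj (F : IsFrame M W₁ U W₂ η μ δ) {ψ ψ' : Lin W₁ W₂}
    (hψ : IsJ W₁ W₂ ψ) (hψ' : IsJ W₁ W₂ ψ') (h : colI μ ψ = colI μ ψ') : ψ = ψ' := by
  classical
  by_contra hne
  have h1 := F.col_inner hψ hψ'
  rw [if_neg hne, ← h, F.col_inner hψ hψ, if_pos rfl] at h1
  have := F.a_card_W₁
  have h2 : Nat.card W₁ = 0 := by exact_mod_cast h1
  omega

theorem a_col_not_irr (F : IsFrame M W₁ U W₂ η μ δ) {ψ : Lin W₁ W₂}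
    (hψ : IsJ W₁ W₂ ψ) : ¬ IsIrrCharacter ↥M (colI μ ψ) := by
  classical
  intro h
  have h1 := F.col_inner hψ hψ
  rw [if_pos rfl, classInner_self_of_irr h] at h1
  have := F.a_card_W₁
  have h2 : 1 = Nat.card W₁ := by exact_mod_cast h1
  omega

/-- `μ_j ∈ S(A)` iff `A ∩ M'` is in the kernel of `μ_j` -/
theorem col_mem_iff (F : IsFrame M W₁ U W₂ η μ δ) {ψ : Lin W₁ W₂} (hψ : IsJ W₁ W₂ ψ)
    (h1 : ψ ≠ 1) (A : Subgroup ↥M) :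
    colI μ ψ ∈ SM M A ↔ ∀ a ∈ A ⊓ _root_.commutator ↥M, μ ψ a = μ ψ 1 := by
  constructor
  · rintro ⟨θ, h2, h3, -, h4⟩ a ⟨ha, ha'⟩
    rcases F.dich θ h2 with ⟨ψ', hψ', rfl⟩ | h5
    · rw [F.ind_res ψ'] at h4
      obtain rfl := F.a_col_inj hψ hψ' h4
      exact h3 ⟨a, ha'⟩ ha
    · rw [← h4] at h5
      exact absurd h5.1 (F.a_col_not_irr hψ)
  · exact F.a_col_mem' hψ h1

theorem SM_char (F : IsFrame M W₁ U W₂ η μ δ) {A : Subgroup ↥M} {χ : ↥M → ℂ}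
    (h : χ ∈ SM M A) : IsCharacter ↥M χ := by
  obtain ⟨θ, h1, -, -, rfl⟩ := h
  exact isChar_ind _ (irr_isChar h1)

theorem SM_conj (F : IsFrame M W₁ U W₂ η μ δ) {A : Subgroup ↥M} {χ : ↥M → ℂ}
    (h : χ ∈ SM M A) : conjFun χ ∈ SM M A := by
  obtain ⟨θ, h1, h2, ⟨y, hy, hy1⟩, rfl⟩ := h
  refine ⟨conjFun θ, isIrr_conj h1, fun a ha => ?_, ⟨y, hy, fun h => hy1 ?_⟩, conj_ind⟩
  · show conj (θ a) = conj (θ 1)
    rw [h2 a ha]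
  · exact (starRingEnd ℂ).injective h

theorem SM_conj_ne (F : IsFrame M W₁ U W₂ η μ δ) {χ : ↥M → ℂ}
    (h : χ ∈ SM M ⊥) : conjFun χ ≠ χ := by
  rcases F.SM_cases h with ⟨h1, h2⟩ | ⟨ψ, hψ, h1, rfl⟩
  · refine odd_conj_ne F.oddM h1 fun h3 => h2 1 ?_
    rw [h3, F.mu_one]
  · rw [F.col_conj]
    intro h2
    exact inv_ne_self_lin F.oddW h1 (F.a_col_inj hψ.inv hψ h2)

theorem a_orth (F : IsFrame M W₁ U W₂ η μ δ) {χ φ : ↥M → ℂ} (h : χ ∈ SM M ⊥) (h' : φ ∈ SM M ⊥)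
    (hne : χ ≠ φ) : classInner χ φ = 0 := by
  obtain ⟨θ, h1, -, -, rfl⟩ := h
  obtain ⟨θ', h1', -, -, rfl⟩ := h'
  exact ind_orth inferInstance h1 h1' hne

theorem a_core_normal (F : IsFrame M W₁ U W₂ η μ δ) :
    ((typeCore M).subgroupOf M).Normal := by
  constructor
  intro a ha b
  exact (Subgroup.mem_normalizer_iff.1 (a_le_nz_core (b : ↥M).2) _).1 ha

/-- members of `S(M)` vanish off `A(M) ∪ 1` -/
theorem SM_supp (F : IsFrame M W₁ U W₂ η μ δ) {χ : ↥M → ℂ}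
    (h : χ ∈ SM M ⊥) {x : ↥M} (hx : x ≠ 1) (hxA : (x : G) ∉ typeA M) : χ x = 0 := by
  obtain ⟨θ, h1, -, ⟨y, hy, hy1⟩, rfl⟩ := h
  have hN : ((typeCore M).subgroupOf M).Normal := F.a_core_normal
  have := Fintype.ofFinite ↥(_root_.commutator ↥M)
  have key : ∀ z : ↥M, z⁻¹ * x * z ∈ _root_.commutator ↥M →
      extendByZero (_root_.commutator ↥M) θ (z⁻¹ * x * z) = 0 := by
    intro z hz
    rw [extendByZero_mem _ _ hz]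
    have hN' : (((typeCore M).subgroupOf M).subgroupOf (_root_.commutator ↥M)).Normal :=
      inferInstance
    refine a_vanish_of_free hN' h1 ⟨y, hy, hy1⟩ fun c hc hcom => ?_
    by_contra hc1
    apply hxA
    rw [a_typeA_eq F.hG F.hM F.hP]
    have hz' : z * (z⁻¹ * x * z) * z⁻¹ = x := by group
    refine ⟨?_, fun h => hx (Subtype.ext h), (z * (c : ↥M) * z⁻¹ : ↥M), ?_, ?_, ?_⟩
    · have := (inferInstance : (_root_.commutator ↥M).Normal).conj_mem _ hz z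
      rw [hz'] at this
      exact a_mem_comm_iff.1 this
    · exact hN.conj_mem _ hc z
    · intro h
      apply hc1
      have h2 : z * (c : ↥M) * z⁻¹ = 1 := Subtype.ext h
      have h3 : (c : ↥M) = 1 := by
        calc (c : ↥M) = z⁻¹ * (z * (c : ↥M) * z⁻¹) * z := by group
          _ = 1 := by rw [h2]; group
      exact Subtype.ext h3
    · have h2 : (z⁻¹ * x * z) * (c : ↥M) = (c : ↥M) * (z⁻¹ * x * z) :=
        congrArg Subtype.val hcom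
      have h3 : x * (z * (c : ↥M) * z⁻¹) = (z * (c : ↥M) * z⁻¹) * x := by
        calc x * (z * (c : ↥M) * z⁻¹) = z * ((z⁻¹ * x * z) * (c : ↥M)) * z⁻¹ := by group
          _ = z * ((c : ↥M) * (z⁻¹ * x * z)) * z⁻¹ := by rw [h2]
          _ = _ := by group
      exact congrArg Subtype.val h3
  unfold indFun
  rw [Finset.sum_eq_zero, mul_zero]
  intro z _
  by_cases hz : z⁻¹ * x * z ∈ _root_.commutator ↥M
  · exact key z hz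
  · exact extendByZero_not_mem _ _ hz

theorem a_gen (F : IsFrame M W₁ U W₂ η μ δ) {α : ↥M → ℂ}
    (h : α ∈ zspan (SM M ⊥)) : IsGeneralizedCharacter ↥M α := by
  refine zspan_induction (P := fun α => IsGeneralizedCharacter ↥M α)
    (fun α hα => isGen_of_char (F.SM_char hα)) isGen_zero (fun _ _ _ _ h1 h2 => isGen_add h1 h2)
    (fun n _ _ h1 => isGen_zsmul n h1) h

theorem a_supp_span (F : IsFrame M W₁ U W₂ η μ δ) {α : ↥M → ℂ}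
    (h : α ∈ zspan (SM M ⊥)) {x : ↥M} (hx : x ≠ 1) (hxA : (x : G) ∉ typeA M) : α x = 0 := by
  refine zspan_induction (P := fun α => α x = 0)
    (fun α hα => F.SM_supp hα hx hxA) rfl (fun a b _ _ h1 h2 => ?_)
    (fun n a _ h1 => ?_) h
  · rw [Pi.add_apply, h1, h2, add_zero]
  · rw [Pi.smul_apply, h1, smul_zero]

/-- combinations vanishing at `1` are supported on `A(M)` -/
theorem span_supp (F : IsFrame M W₁ U W₂ η μ δ) {α : ↥M → ℂ}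
    (h : α ∈ zspanOn (SM M ⊥) {1}ᶜ) : SuppOn (typeA M) α := by
  intro x hx
  obtain ⟨h1, h2⟩ := zspanOn_one.1 h
  by_cases hx1 : x = 1
  · rw [hx1, h2]
  · exact F.a_supp_span h1 hx1 hx

theorem a_span_A0 (F : IsFrame M W₁ U W₂ η μ δ) {α : ↥M → ℂ}
    (h : α ∈ zspanOn (SM M ⊥) {1}ᶜ) : SuppOn (typeA0 M) α :=
  fun x hx => F.span_supp h x fun h' => hx (A_sub_A0 h')

theorem span_V (F : IsFrame M W₁ U W₂ η μ δ) {α : ↥M → ℂ}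
    (h : α ∈ zspanOn (SM M ⊥) {1}ᶜ) {v : G} (hv : v ∈ Vset W₁ W₂) : tauM M α v = 0 :=
  F.tau_V_zero (isGen_classFun (F.a_gen h.1)) (F.span_supp h) hv

theorem a_iso (F : IsFrame M W₁ U W₂ η μ δ) :
    IsLinearIsometryOn (zspanOn (SM M ⊥) ({1}ᶜ : Set ↥M)) (tauM M) := by
  refine ⟨fun α _ β _ => dade_add α β, fun α _ n => dade_zsmul n α, fun α hα β hβ => ?_,
    fun α hα => tau_gen F.hG F.hM (F.a_gen hα.1) (F.a_span_A0 hα)⟩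
  exact tau_inner F.hG F.hM (isGen_classFun (F.a_gen hα.1)) (F.a_span_A0 hα)
    (isGen_classFun (F.a_gen hβ.1)) (F.a_span_A0 hβ)

/-- the image of `μ_j - conj μ_j`, more generally of `μ_j - μ_j'` -/
theorem a_tau_col_sub (F : IsFrame M W₁ U W₂ η μ δ) {ψ ψ' : Lin W₁ W₂} (hψ : IsJ W₁ W₂ ψ)
    (h1 : ψ ≠ 1) (hψ' : IsJ W₁ W₂ ψ') (h1' : ψ' ≠ 1) (hdeg : μ ψ 1 = μ ψ' 1)
    (hsign : δ ψ = δ ψ') :
    tauM M (colI μ ψ - colI μ ψ') = (δ ψ : ℂ) • (colI η ψ - colI η ψ') := by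
  have e1 : colI μ ψ - colI μ ψ' = ∑ φ ∈ idxI W₁ W₂, (μ (φ * ψ) - μ (φ * ψ')) := by
    rw [Finset.sum_sub_distrib]; rfl
  have e2 : (δ ψ : ℂ) • (colI η ψ - colI η ψ') =
      ∑ φ ∈ idxI W₁ W₂, (δ ψ : ℂ) • (η (φ * ψ) - η (φ * ψ')) := by
    rw [← Finset.smul_sum, Finset.sum_sub_distrib]; rfl
  rw [e1, e2, tauM, dade_sum']
  refine Finset.sum_congr rfl fun φ hφ => ?_
  have hφ' := mem_idxI.1 hφ
  have := (F.tau_mu_sub (ω := φ * ψ) (ω' := φ * ψ') (fun w hw => by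
    rw [MonoidHom.mul_apply, MonoidHom.mul_apply, hψ w hw, hψ' w hw])
    (F.a_mul_not_I hφ' hψ h1) (F.a_mul_not_I hφ' hψ' h1')
    (by rw [F.deg_eq hφ', F.deg_eq hφ', hdeg])
    (by rw [F.sign_congr φ ψ hφ', F.sign_congr φ ψ' hφ', hsign])).2
  rw [F.sign_congr φ ψ hφ'] at this
  exact this

theorem a_deg_inv (F : IsFrame M W₁ U W₂ η μ δ) (ω : Lin W₁ W₂) : μ ω⁻¹ 1 = μ ω 1 := by
  obtain ⟨d, -, hd, -⟩ := F.deg ω
  rw [← F.conj_mu]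
  show conj (μ ω 1) = μ ω 1
  rw [hd, Complex.conj_natCast]

theorem a_tau_col_conj (F : IsFrame M W₁ U W₂ η μ δ) {ψ : Lin W₁ W₂} (hψ : IsJ W₁ W₂ ψ)
    (h1 : ψ ≠ 1) :
    tauM M (colI μ ψ - conjFun (colI μ ψ)) = (δ ψ : ℂ) • (colI η ψ - colI η ψ⁻¹) := by
  rw [F.col_conj]
  exact F.a_tau_col_sub hψ h1 hψ.inv (F.a_inv_ne_one h1) (F.a_deg_inv ψ).symm
    (F.sign_inv ψ).symm

end IsFrame

end SM

end Cfsg.Agent.PF
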