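import Cfsg.Agent.PF.A8

set_option autoImplicit false

/-! Part (A), proofs 9: subcoherence and (5.8) (helper11). -/

namespace Cfsg.Agent.PF

open Subgroup ComplexConjugate
open Cfsg.Agent.H3 Cfsg.Agent.H11

universe u v w

/-- restriction of a coherence system to a conjugation closed subset -/
theorem cohSys_mono {L : Type u} [Group L] [Fintype L] {G : Type v} [Group G] [Fintype G]
    {S S₁ : Set (L → ℂ)} {τ : (L → ℂ) → (G → ℂ)} {R : (L → ℂ) → Finset (G → ℂ)}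
    (h : IsCoherenceSystem S τ R) (hne : S₁.Nonempty) (hS : S₁ ⊆ S)
    (hc : ∀ χ ∈ S₁, conjFun χ ∈ S₁) : IsCoherenceSystem S₁ τ R where
  nonempty := hne
  isCharacter χ hχ := h.isCharacter χ (hS hχ)
  conj_mem := hc
  conj_ne χ hχ := h.conj_ne χ (hS hχ)
  isometry := iso_mono h.isometry fun _ hα => zspanOn_mono hS hα
  map_one α hα := h.map_one α (zspanOn_mono hS hα)
  orthogonal χ hχ φ hφ := h.orthogonal χ (hS hχ) φ (hS hφ)
  orthonormal χ hχ := h.orthonormal χ (hS hχ)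
  virtual χ hχ := h.virtual χ (hS hχ)
  sum_eq χ hχ := h.sum_eq χ (hS hχ)
  disjoint χ hχ φ hφ := h.disjoint χ (hS hχ) φ (hS hφ)

section SM

variable {G : Type u} [Group G] [Fintype G] {M W₁ U W₂ : Subgroup G} [Fintype ↥M]
  {η : Lin W₁ W₂ → G → ℂ} {μ : Lin W₁ W₂ → ↥M → ℂ} {δ : Lin W₁ W₂ → ℤ}

namespace IsFrame

theorem a_conj_sub_mem (F : IsFrame M W₁ U W₂ η μ δ) {χ : ↥M → ℂ} (h : χ ∈ SM M ⊥) :
    χ - conjFun χ ∈ zspanOn (SM M ⊥) {1}ᶜ := by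
  refine zspanOn_one.2 ⟨zspan_sub (zspan_mem h) (zspan_mem (F.SM_conj h)), ?_⟩
  obtain ⟨n, hn⟩ := char_one_eq_nat (F.SM_char h)
  show χ 1 - conj (χ 1) = 0
  rw [hn, Complex.conj_natCast, sub_self]

/-- the image of `χ - conj χ` -/
theorem a_exists_nu (F : IsFrame M W₁ U W₂ η μ δ) {χ : ↥M → ℂ} (h : χ ∈ SM M ⊥)
    (hirr : IsIrrCharacter ↥M χ) : ∃ ν, IsIrrCharacter G ν ∧ conjFun ν ≠ ν ∧
        tauM M (χ - conjFun χ) = ν - conjFun ν ∧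
        ∀ ω, classInner ν (η ω) = 0 ∧ classInner (conjFun ν) (η ω) = 0 := by
  have hD := dadeHyp F.hG F.hM (A := typeA M) (Or.inr (Or.inl rfl))
  obtain ⟨ν, hν, he⟩ := Cfsg.Agent.S1518.result (typeA M) M (supportR M) hD χ hirr
    (fun x hx hxA => F.SM_supp h hx hxA)
  have hm := F.a_conj_sub_mem h
  rw [← tau_eq_A F.hG F.hM (isGen_classFun (F.a_gen hm.1)) (F.span_supp hm)] at he
  have hn2 : classInner (tauM M (χ - conjFun χ)) (tauM M (χ - conjFun χ)) = 2 := by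
    rw [F.a_iso.2.2.1 _ hm _ hm]
    have o1 := F.a_orth h (F.SM_conj h) (F.SM_conj_ne h).symm
    have o2 := F.a_orth (F.SM_conj h) h (F.SM_conj_ne h)
    simp only [classInner_sub_left, classInner_sub_right]
    have o3 : classInner (conjFun χ) (conjFun χ) = 1 := classInner_self_of_irr (isIrr_conj hirr)
    rw [o1, o2, classInner_self_of_irr hirr, o3]
    norm_num
  have hne : conjFun ν ≠ ν := by
    intro hc
    rw [he, hc, sub_self] at hn2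
    rw [show classInner (0 : G → ℂ) 0 = 0 from by simp [classInner]] at hn2
    norm_num at hn2
  have ho : classInner ν (conjFun ν) = 0 := by
    rcases SIrr.dichotomy (Or.inl hν) (Or.inl (isIrr_conj hν)) with h1 | ⟨s, hs, h1⟩
    · exact h1
    · exfalso
      obtain ⟨n, hn⟩ := char_one_eq_nat (irr_isChar hν)
      have hn0 : ν 1 ≠ 0 := SIrr.one_ne_zero (Or.inl hν)
      rcases hs with rfl | rfl
      · apply hne
        rw [Int.cast_one, one_smul] at h1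
        exact h1.symm
      · have h2 : ν 1 = -conj (ν 1) := by
          conv_lhs => rw [h1]
          show ((-1 : ℤ) : ℂ) * conj (ν 1) = _
          push_cast; ring
        rw [hn, Complex.conj_natCast] at h2
        apply hn0
        rw [hn]
        linear_combination (1 / 2 : ℂ) * h2
  refine ⟨ν, hν, hne, he, fun ω => ?_⟩
  have hg := grid_small F.fam F.oddW F.hW (tau_gen F.hG F.hM (F.a_gen hm.1) (F.a_span_A0 hm))
    (fun v hv => F.span_V hm hv) (by rw [hn2]; norm_num) ω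
  rw [he, classInner_sub_left, sub_eq_zero] at hg
  rcases SIrr.dichotomy (Or.inl hν) (eta_sirr F.fam ω) with h1 | ⟨s, hs, h1⟩
  · exact ⟨h1, hg ▸ h1⟩
  · exfalso
    have h2 : classInner ν (η ω) = s := by
      rw [h1, classInner_smul_left, F.a_eta_norm, mul_one]
    have h3 : classInner (conjFun ν) (η ω) = 0 := by
      have hs2 : (s : ℂ) * s = 1 := by rcases hs with rfl | rfl <;> norm_num
      have h4 : η ω = (s : ℂ) • ν := by rw [h1, smul_smul, hs2, one_smul]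
      rw [h4, classInner_smul_right]
      rw [← classInner_conj_symm, ho]; simp
    rw [h2, h3] at hg
    rcases hs with rfl | rfl <;> norm_num at hg

/-- the set `R(χ)` -/
theorem a_exists_R (F : IsFrame M W₁ U W₂ η μ δ) [DecidableEq (G → ℂ)] (χ : ↥M → ℂ) :
    ∃ R : Finset (G → ℂ), χ ∈ SM M ⊥ →
      (IsIrrCharacter ↥M χ → ∃ ν, IsIrrCharacter G ν ∧ conjFun ν ≠ ν ∧
        tauM M (χ - conjFun χ) = ν - conjFun ν ∧ R = {ν, -conjFun ν} ∧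
        ∀ ω, classInner ν (η ω) = 0 ∧ classInner (conjFun ν) (η ω) = 0) ∧
      (∀ ψ, IsJ W₁ W₂ ψ → ψ ≠ 1 → χ = colI μ ψ → R =
        (idxI W₁ W₂).image (fun φ => (δ ψ : ℂ) • η (φ * ψ)) ∪
          (idxI W₁ W₂).image (fun φ => -((δ ψ : ℂ) • η (φ * ψ⁻¹)))) := by
  by_cases h : χ ∈ SM M ⊥
  · rcases F.SM_cases h with ⟨h1, h2⟩ | ⟨ψ, hψ, h1, rfl⟩
    · obtain ⟨ν, h3, h4, h5, h6⟩ := F.a_exists_nu h h1
      refine ⟨{ν, -conjFun ν}, fun _ => ⟨fun _ => ⟨ν, h3, h4, h5, rfl, h6⟩, ?_⟩⟩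
      rintro ψ hψ h1' rfl
      exact absurd h1 (F.a_col_not_irr hψ)
    · refine ⟨(idxI W₁ W₂).image (fun φ => (δ ψ : ℂ) • η (φ * ψ)) ∪
          (idxI W₁ W₂).image (fun φ => -((δ ψ : ℂ) • η (φ * ψ⁻¹))), fun _ =>
        ⟨fun h2 => absurd h2 (F.a_col_not_irr hψ), fun ψ' hψ' h1' h2 => ?_⟩⟩
      obtain rfl := F.a_col_inj hψ hψ' h2
      rfl
  · exact ⟨∅, fun h' => absurd h' h⟩

theorem a_nu_conj_orth {ν : G → ℂ} (hν : IsIrrCharacter G ν) (hne : conjFun ν ≠ ν) :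
    classInner ν (conjFun ν) = 0 ∧ classInner (conjFun ν) ν = 0 :=
  ⟨classInner_of_irr_ne hν (isIrr_conj hν) (Ne.symm hne),
    classInner_of_irr_ne (isIrr_conj hν) hν hne⟩

theorem a_nu_ne_neg {ν : G → ℂ} (hν : IsIrrCharacter G ν) (hne : conjFun ν ≠ ν) :
    ν ≠ -conjFun ν := by
  intro h
  have h1 := (a_nu_conj_orth hν hne).1
  have h2 : conjFun ν = (-1 : ℂ) • ν := by
    rw [neg_one_smul]; exact (neg_eq_iff_eq_neg.2 h).symm
  rw [h2, classInner_smul_right, classInner_self_of_irr hν] at h1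
  norm_num at h1

theorem a_smul_eta_inner (F : IsFrame M W₁ U W₂ η μ δ) (ω ω' : Lin W₁ W₂) (a b : ℤ) :
    classInner ((a : ℂ) • η ω) ((b : ℂ) • η ω') = a * b * classInner (η ω) (η ω') := by
  rw [classInner_smul_left, classInner_smul_right, map_intCast]
  ring

theorem a_smul_eta_orth (F : IsFrame M W₁ U W₂ η μ δ) {ω ω' : Lin W₁ W₂} (a b : ℤ)
    (h : ω ≠ ω') : classInner ((a : ℂ) • η ω) ((b : ℂ) • η ω') = 0 := by
  rw [F.a_smul_eta_inner, F.a_eta_orth h, mul_zero]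

theorem a_smul_eta_ne (F : IsFrame M W₁ U W₂ η μ δ) {ω ω' : Lin W₁ W₂} {a b : ℂ} (ha : a ≠ 0)
    (h : a • η ω = b • η ω') : ω = ω' := by
  by_contra hne
  have h1 := congrArg (fun f => classInner f (η ω)) h
  simp only [classInner_smul_left] at h1
  rw [F.a_eta_norm, F.a_eta_orth (Ne.symm hne), mul_zero, mul_one] at h1
  exact ha h1

open Classical in
theorem a_orthonormal_aux (F : IsFrame M W₁ U W₂ η μ δ) {ω ω' : Lin W₁ W₂} {a b : ℤ}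
    (ha : a * a = 1) (h : ω = ω' → a = b) : classInner ((a : ℂ) • η ω) ((b : ℂ) • η ω') =
      if (a : ℂ) • η ω = (b : ℂ) • η ω' then 1 else 0 := by
  by_cases hω : ω = ω'
  · obtain rfl := h hω
    subst hω
    rw [if_pos rfl, F.a_smul_eta_inner, F.a_eta_norm, mul_one]
    exact_mod_cast ha
  · rw [if_neg, F.a_smul_eta_orth _ _ hω]
    intro h2
    refine hω (F.a_smul_eta_ne ?_ h2)
    intro h3
    have h4 : a = 0 := by exact_mod_cast h3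
    rw [h4] at ha
    norm_num at ha

theorem a_sign_sq' (F : IsFrame M W₁ U W₂ η μ δ) (ω : Lin W₁ W₂) : δ ω * δ ω = 1 := by
  rcases F.sign ω with h | h <;> rw [h] <;> norm_num

theorem a_mul_right_inj {a b c : Lin W₁ W₂} (h : a * c = b * c) : a = b := by
  have := congrArg (· * c⁻¹) h
  simpa only [a_lin_mul_assoc, a_lin_mul_inv, a_lin_mul_one] using this

/-- members of `R(μ_j)` -/
theorem a_mem_R (F : IsFrame M W₁ U W₂ η μ δ) {ψ : Lin W₁ W₂} (hψ : IsJ W₁ W₂ ψ)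
    [DecidableEq (G → ℂ)] {α : G → ℂ}
    (h : α ∈ (idxI W₁ W₂).image (fun φ => (δ ψ : ℂ) • η (φ * ψ)) ∪
          (idxI W₁ W₂).image (fun φ => -((δ ψ : ℂ) • η (φ * ψ⁻¹)))) :
      ∃ φ ψ', ∃ s : ℤ, IsI W₁ W₂ φ ∧ IsJ W₁ W₂ ψ' ∧ ((ψ' = ψ ∧ s = δ ψ) ∨ (ψ' = ψ⁻¹ ∧ s = -δ ψ)) ∧
        α = (s : ℂ) • η (φ * ψ') := by
  rw [Finset.mem_union, Finset.mem_image, Finset.mem_image] at h
  rcases h with ⟨φ, hφ, rfl⟩ | ⟨φ, hφ, rfl⟩
  · exact ⟨φ, ψ, δ ψ, mem_idxI.1 hφ, hψ, Or.inl ⟨rfl, rfl⟩, rfl⟩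
  · exact ⟨φ, ψ⁻¹, -δ ψ, mem_idxI.1 hφ, hψ.inv, Or.inr ⟨rfl, rfl⟩, by push_cast; rw [neg_smul]⟩

/-- sum over `R(μ_j)` -/
theorem a_sum_R (F : IsFrame M W₁ U W₂ η μ δ) {ψ : Lin W₁ W₂} (hψ : IsJ W₁ W₂ ψ) (h1 : ψ ≠ 1)
    [DecidableEq (G → ℂ)] {A : Type w} [AddCommMonoid A] (f : (G → ℂ) → A) :
    ∑ α ∈ (idxI W₁ W₂).image (fun φ => (δ ψ : ℂ) • η (φ * ψ)) ∪
          (idxI W₁ W₂).image (fun φ => -((δ ψ : ℂ) • η (φ * ψ⁻¹))), f α =
      ∑ φ ∈ idxI W₁ W₂, f ((δ ψ : ℂ) • η (φ * ψ)) +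
        ∑ φ ∈ idxI W₁ W₂, f (-((δ ψ : ℂ) • η (φ * ψ⁻¹))) := by
  rw [Finset.sum_union, Finset.sum_image, Finset.sum_image]
  · intro a _ b _ h
    exact a_mul_right_inj (F.a_smul_eta_ne (F.a_sign_ne_zero ψ) (neg_injective h))
  · intro a _ b _ h
    exact a_mul_right_inj (F.a_smul_eta_ne (F.a_sign_ne_zero ψ) h)
  · rw [Finset.disjoint_left]
    intro α hα hα'
    obtain ⟨φ, hφ, rfl⟩ := Finset.mem_image.1 hα
    obtain ⟨φ', hφ', h2⟩ := Finset.mem_image.1 hα'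
    simp only [← neg_smul] at h2
    have h3 := F.a_smul_eta_ne (neg_ne_zero.2 (F.a_sign_ne_zero ψ)) h2
    have h4 := (lin_unique F.hW (mem_idxI.1 hφ') (mem_idxI.1 hφ) hψ.inv hψ h3).2
    exact inv_ne_self_lin F.oddW h1 h4

open Classical in
/-- (A5) subcoherence -/
theorem cohSys (F : IsFrame M W₁ U W₂ η μ δ) :
    ∃ R : (↥M → ℂ) → Finset (G → ℂ), IsCoherenceSystem (SM M ⊥) (tauM M) R ∧
      (∀ χ ∈ SM M ⊥, IsIrrCharacter ↥M χ → ∃ ν, IsIrrCharacter G ν ∧ conjFun ν ≠ ν ∧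
        tauM M (χ - conjFun χ) = ν - conjFun ν ∧ R χ = {ν, -conjFun ν} ∧
        ∀ ω, classInner ν (η ω) = 0 ∧ classInner (conjFun ν) (η ω) = 0) ∧
      (∀ ψ, IsJ W₁ W₂ ψ → ψ ≠ 1 → R (colI μ ψ) =
        (idxI W₁ W₂).image (fun φ => (δ ψ : ℂ) • η (φ * ψ)) ∪
          (idxI W₁ W₂).image (fun φ => -((δ ψ : ℂ) • η (φ * ψ⁻¹)))) := by
  choose R hR using F.a_exists_R
  have hRi := fun χ hχ => (hR χ hχ).1
  have hRc : ∀ ψ, IsJ W₁ W₂ ψ → ψ ≠ 1 → R (colI μ ψ) =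
        (idxI W₁ W₂).image (fun φ => (δ ψ : ℂ) • η (φ * ψ)) ∪
          (idxI W₁ W₂).image (fun φ => -((δ ψ : ℂ) • η (φ * ψ⁻¹))) :=
    fun ψ hψ h1 => (hR _ (F.col_mem hψ h1)).2 ψ hψ h1 rfl
  refine ⟨R, ?_, hRi, hRc⟩
  obtain ⟨ψ₀, hψ₀, hψ₀1⟩ : ∃ ψ₀, IsJ W₁ W₂ ψ₀ ∧ ψ₀ ≠ 1 := by
    have h1 := (a_three_le F.hW F.oddW).2
    rw [← card_idxJ F.hW] at h1
    obtain ⟨ψ, hψ, h2⟩ := Finset.exists_mem_ne (by omega : 1 < (idxJ W₁ W₂).card) 1
    exact ⟨ψ, mem_idxJ.1 hψ, h2⟩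
  refine
    { nonempty := ⟨_, F.col_mem hψ₀ hψ₀1⟩
      isCharacter := fun χ hχ => F.SM_char hχ
      conj_mem := fun χ hχ => F.SM_conj hχ
      conj_ne := fun χ hχ => F.SM_conj_ne hχ
      isometry := F.a_iso
      map_one := fun α _ => tau_at_one F.hG F.hM α
      orthogonal := fun χ hχ φ hφ h => F.a_orth hχ hφ h
      orthonormal := ?_
      virtual := ?_
      sum_eq := ?_
      disjoint := ?_ }
  · intro χ hχ α hα β hβ
    rcases F.SM_cases hχ with ⟨h1, h2⟩ | ⟨ψ, hψ, h1, rfl⟩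
    · obtain ⟨ν, h3, h4, h5, h6, h7⟩ := hRi χ hχ h1
      obtain ⟨o1, o2⟩ := a_nu_conj_orth h3 h4
      have o3 : classInner ν ν = 1 := classInner_self_of_irr h3
      have o4 : classInner (conjFun ν) (conjFun ν) = 1 := classInner_self_of_irr (isIrr_conj h3)
      have hn := a_nu_ne_neg h3 h4
      rw [h6, Finset.mem_insert, Finset.mem_singleton] at hα hβ
      rcases hα with rfl | rfl <;> rcases hβ with rfl | rfl
      · rw [if_pos rfl, o3]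
      · rw [if_neg hn, ← neg_one_smul ℂ (conjFun _), classInner_smul_right, o1, mul_zero]
      · rw [if_neg hn.symm, ← neg_one_smul ℂ (conjFun _), classInner_smul_left, o2, mul_zero]
      · rw [if_pos rfl, ← neg_one_smul ℂ (conjFun _), classInner_smul_right, classInner_smul_left,
          o4]
        simp
    · rw [hRc ψ hψ h1] at hα hβ
      obtain ⟨φ, ψ', s, hφ, hψ', hs, rfl⟩ := F.a_mem_R hψ hα
      obtain ⟨φ2, ψ2, s2, hφ2, hψ2, hs2, rfl⟩ := F.a_mem_R hψ hβ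
      have hss : s * s = 1 := by
        rcases hs with ⟨-, rfl⟩ | ⟨-, rfl⟩
        · exact F.a_sign_sq' ψ
        · rw [neg_mul_neg]; exact F.a_sign_sq' ψ
      have hinv := inv_ne_self_lin F.oddW h1
      convert F.a_orthonormal_aux hss ?_ using 2
      intro h3
      have h4 := (lin_unique F.hW hφ hφ2 hψ' hψ2 h3).2
      rcases hs with ⟨e1, rfl⟩ | ⟨e1, rfl⟩ <;> rcases hs2 with ⟨e2, rfl⟩ | ⟨e2, rfl⟩
      · rfl
      · exact absurd (e1.symm.trans (h4.trans e2)).symm hinv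
      · exact absurd (e1.symm.trans (h4.trans e2)) hinv
      · rfl
  · intro χ hχ α hα
    rcases F.SM_cases hχ with ⟨h1, h2⟩ | ⟨ψ, hψ, h1, rfl⟩
    · obtain ⟨ν, h3, h4, h5, h6, h7⟩ := hRi χ hχ h1
      rw [h6, Finset.mem_insert, Finset.mem_singleton] at hα
      rcases hα with rfl | rfl
      · exact isGen_of_irr h3
      · exact isGen_neg (isGen_of_irr (isIrr_conj h3))
    · rw [hRc ψ hψ h1] at hα
      obtain ⟨φ, ψ', s, hφ, hψ', hs, rfl⟩ := F.a_mem_R hψ hα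
      rw [← zsmul_eq_smul]
      exact isGen_zsmul s (F.a_eta_gen _)
  · intro χ hχ
    rcases F.SM_cases hχ with ⟨h1, h2⟩ | ⟨ψ, hψ, h1, rfl⟩
    · obtain ⟨ν, h3, h4, h5, h6, h7⟩ := hRi χ hχ h1
      rw [h6, h5, Finset.sum_pair (a_nu_ne_neg h3 h4), sub_eq_add_neg]
    · rw [hRc ψ hψ h1, F.a_sum_R hψ h1, F.a_tau_col_conj hψ h1, Finset.sum_neg_distrib,
        ← Finset.smul_sum, ← Finset.smul_sum, smul_sub, sub_eq_add_neg]
      rfl
  · intro χ hχ φ hφ ho1 ho2 α hα β hβ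
    rcases F.SM_cases hχ with ⟨h1, h2⟩ | ⟨ψ, hψ, h1, rfl⟩ <;>
      rcases F.SM_cases hφ with ⟨k1, k2⟩ | ⟨ψ', hψ', k1, rfl⟩
    · obtain ⟨ν, h3, h4, h5, h6, h7⟩ := hRi χ hχ h1
      obtain ⟨ν', k3, k4, k5, k6, k7⟩ := hRi φ hφ k1
      have e0 : classInner (ν' - conjFun ν') (((1 : ℝ) : ℂ) • ν - ((1 : ℝ) : ℂ) • conjFun ν) = 0 := by
        rw [Complex.ofReal_one, one_smul, one_smul, ← h5, ← k5,
          F.a_iso.2.2.1 _ (F.a_conj_sub_mem hφ) _ (F.a_conj_sub_mem hχ)]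
        simp only [classInner_sub_left, classInner_sub_right]
        have e1 : classInner (conjFun φ) (conjFun χ) = 0 := by
          rw [classInner_conjFun, ho1, map_zero]
        have e2 : classInner (conjFun φ) χ = 0 := by
          have := classInner_conjFun φ (conjFun χ)
          rw [conjFun_conjFun, ho2, map_zero] at this
          exact this
        rw [ho1, ho2, e1, e2]; norm_num
      have d1 : ∀ ν : G → ℂ, IsIrrCharacter G ν → ν 1 = conjFun ν 1 := by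
        intro ν hν
        obtain ⟨n, hn⟩ := char_one_eq_nat (irr_isChar hν)
        show ν 1 = conj (ν 1)
        rw [hn, Complex.conj_natCast]
      obtain ⟨p1, p2, p3, p4⟩ := signed_orth4 (Or.inl k3) (Or.inl (isIrr_conj k3)) (Or.inl h3)
        (Or.inl (isIrr_conj h3)) one_ne_zero one_ne_zero (a_nu_conj_orth k3 k4).1
        (a_nu_conj_orth h3 h4).1 e0 (d1 _ k3) (congrArg (fun z => ((1 : ℝ) : ℂ) * z) (d1 _ h3))
      have p2' : classInner ν' (conjFun ν) = 0 := p2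
      have p3' : classInner (conjFun ν') ν = 0 := p3
      have p4' : classInner (conjFun ν') (conjFun ν) = 0 := p4
      rw [k6, Finset.mem_insert, Finset.mem_singleton] at hα
      rw [h6, Finset.mem_insert, Finset.mem_singleton] at hβ
      rcases hα with rfl | rfl <;> rcases hβ with rfl | rfl
      · exact p1
      · rw [← neg_one_smul ℂ (conjFun _), classInner_smul_right, p2', mul_zero]
      · rw [← neg_one_smul ℂ (conjFun _), classInner_smul_left, p3', mul_zero]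
      · rw [← neg_one_smul ℂ (conjFun _), ← neg_one_smul ℂ (conjFun ν), classInner_smul_right,
          classInner_smul_left, p4', mul_zero, mul_zero]
    · obtain ⟨ν, h3, h4, h5, h6, h7⟩ := hRi χ hχ h1
      rw [hRc ψ' hψ' k1] at hα
      obtain ⟨φ', ψ2, s, hφ', hψ2, hs, rfl⟩ := F.a_mem_R hψ' hα
      rw [h6, Finset.mem_insert, Finset.mem_singleton] at hβ
      rcases hβ with rfl | rfl
      · rw [classInner_smul_left, ← classInner_conj_symm, (h7 _).1]; simp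
      · rw [classInner_smul_left, ← neg_one_smul ℂ (conjFun _), classInner_smul_right,
          ← classInner_conj_symm, (h7 _).2]; simp
    · obtain ⟨ν, h3, h4, h5, h6, h7⟩ := hRi φ hφ k1
      rw [hRc ψ hψ h1] at hβ
      obtain ⟨φ', ψ2, s, hφ', hψ2, hs, rfl⟩ := F.a_mem_R hψ hβ
      rw [h6, Finset.mem_insert, Finset.mem_singleton] at hα
      rcases hα with rfl | rfl
      · rw [classInner_smul_right, (h7 _).1]; simp
      · rw [classInner_smul_right, ← neg_one_smul ℂ (conjFun _), classInner_smul_left,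
          (h7 _).2]; simp
    · rw [F.col_conj] at ho2
      rw [F.col_inner hψ' hψ] at ho1
      rw [F.col_inner hψ' hψ.inv] at ho2
      have hw : (Nat.card W₁ : ℂ) ≠ 0 := by
        have := F.a_card_W₁
        exact_mod_cast (by omega : Nat.card W₁ ≠ 0)
      have n1 : ψ' ≠ ψ := fun h => by rw [if_pos h] at ho1; exact hw ho1
      have n2 : ψ' ≠ ψ⁻¹ := fun h => by rw [if_pos h] at ho2; exact hw ho2
      rw [hRc ψ' hψ' k1] at hα
      rw [hRc ψ hψ h1] at hβ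
      obtain ⟨φ2, ψ2, s, hφ2, hψ2, hs, rfl⟩ := F.a_mem_R hψ' hα
      obtain ⟨φ3, ψ3, s3, hφ3, hψ3, hs3, rfl⟩ := F.a_mem_R hψ hβ
      refine F.a_smul_eta_orth _ _ fun h3 => ?_
      have h4 := (lin_unique F.hW hφ2 hφ3 hψ2 hψ3 h3).2
      rcases hs with ⟨e1, -⟩ | ⟨e1, -⟩ <;> rcases hs3 with ⟨e2, -⟩ | ⟨e2, -⟩
      · exact n1 (e1.symm.trans (h4.trans e2))
      · exact n2 (e1.symm.trans (h4.trans e2))
      · have h5 := e1.symm.trans (h4.trans e2)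
        apply n2
        rw [← h5, a_lin_inv_inv]
      · exact n1 (a_lin_inv_inj.1 (e1.symm.trans (h4.trans e2)))

/-- (A6) a coherent extension on an irreducible character -/
theorem coh_irr (F : IsFrame M W₁ U W₂ η μ δ) {S₁ : Set (↥M → ℂ)} (hS : S₁ ⊆ SM M ⊥)
    (hc : ∀ χ ∈ S₁, conjFun χ ∈ S₁) {τ₁ : (↥M → ℂ) → G → ℂ} (h₁ : CohMap S₁ (tauM M) τ₁)
    {χ : ↥M → ℂ} (hχ : χ ∈ S₁) (hirr : IsIrrCharacter ↥M χ) :
    SIrr (τ₁ χ) ∧ τ₁ (conjFun χ) = conjFun (τ₁ χ) ∧ (∀ ω, classInner (τ₁ χ) (η ω) = 0) := by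
  classical
  obtain ⟨R, hR, hRi, -⟩ := F.cohSys
  obtain ⟨ν, h3, h4, h5, h6, h7⟩ := hRi χ (hS hχ) hirr
  have hsp := coh_mem_span hR hS h₁ hχ (hc χ hχ)
  have hz := zspan_mem hχ
  have hzc := zspan_mem (hc χ hχ)
  obtain ⟨a, ha⟩ := classInner_gen_int (h₁.gen hz) (isGen_of_irr h3)
  obtain ⟨b, hb⟩ := classInner_gen_int (h₁.gen hz) (isGen_neg (isGen_of_irr (isIrr_conj h3)))
  have hb' : classInner (τ₁ χ) (-conjFun ν) = b := hb
  rw [h6, Finset.sum_pair (a_nu_ne_neg h3 h4), ha, hb'] at hsp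
  obtain ⟨o1, o2⟩ := a_nu_conj_orth h3 h4
  have o3 : classInner ν ν = 1 := classInner_self_of_irr h3
  have o4 : classInner (conjFun ν) (conjFun ν) = 1 := classInner_self_of_irr (isIrr_conj h3)
  have hsp' : τ₁ χ = (a : ℂ) • ν - (b : ℂ) • conjFun ν := by
    rw [hsp, smul_neg, sub_eq_add_neg]
  have hdiff : τ₁ χ - τ₁ (conjFun χ) = ν - conjFun ν := by
    rw [← h₁.sub hz hzc, h₁.2 _ ?_, h5]
    exact zspanOn_one.2 ⟨zspan_sub hz hzc, (zspanOn_one.1 (F.a_conj_sub_mem (hS hχ))).2⟩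
  have e1 : classInner (τ₁ χ) (ν - conjFun ν) = 1 := by
    rw [← hdiff, classInner_sub_right, h₁.inner hz hz, h₁.inner hz hzc,
      F.a_orth (hS hχ) (F.SM_conj (hS hχ)) (F.SM_conj_ne (hS hχ)).symm,
      classInner_self_of_irr hirr, sub_zero]
  have e2 : classInner (τ₁ χ) (τ₁ χ) = 1 := by
    rw [h₁.inner hz hz, classInner_self_of_irr hirr]
  rw [hsp'] at e1 e2
  simp only [classInner_sub_left, classInner_sub_right, classInner_smul_left,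
    classInner_smul_right, o1, o2, o3, o4, map_intCast] at e1 e2
  have e1' : a + b = 1 := by
    have : ((a + b : ℤ) : ℂ) = ((1 : ℤ) : ℂ) := by push_cast; linear_combination e1
    exact_mod_cast this
  have e2' : a * a + b * b = 1 := by
    have : ((a * a + b * b : ℤ) : ℂ) = ((1 : ℤ) : ℂ) := by push_cast; linear_combination e2
    exact_mod_cast this
  have hab : (a = 1 ∧ b = 0) ∨ (a = 0 ∧ b = 1) := by
    have hb1 : b = 1 - a := by omega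
    subst hb1
    have : a * (a - 1) = 0 := by linarith [e2']
    rcases mul_eq_zero.1 this with h | h
    · right; omega
    · left; omega
  have hτc : τ₁ (conjFun χ) = τ₁ χ - (ν - conjFun ν) := by rw [← hdiff]; abel
  rcases hab with ⟨rfl, rfl⟩ | ⟨rfl, rfl⟩
  · have e3 : τ₁ χ = ν := by rw [hsp']; simp
    refine ⟨?_, ?_, ?_⟩
    · rw [e3]; exact Or.inl h3
    · rw [hτc, e3]; abel
    · intro ω; rw [e3]; exact (h7 ω).1
  · have e3 : τ₁ χ = -conjFun ν := by rw [hsp']; simp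
    refine ⟨?_, ?_, ?_⟩
    · rw [e3]; exact Or.inr (by rw [neg_neg]; exact isIrr_conj h3)
    · rw [hτc, e3]
      ext x
      show -conj (ν x) - (ν x - conj (ν x)) = conj (-conj (ν x))
      rw [map_neg, Complex.conj_conj]; ring
    · intro ω
      rw [e3, ← neg_one_smul ℂ (conjFun _), classInner_smul_left, (h7 ω).2, mul_zero]

theorem a_col_norm (F : IsFrame M W₁ U W₂ η μ δ) {ψ : Lin W₁ W₂} (hψ : IsJ W₁ W₂ ψ) :
    classInner (colI μ ψ) (colI μ ψ) = Nat.card W₁ := by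
  classical
  rw [F.col_inner hψ hψ, if_pos rfl]

theorem a_col_conj_orth (F : IsFrame M W₁ U W₂ η μ δ) {ψ : Lin W₁ W₂} (hψ : IsJ W₁ W₂ ψ)
    (h1 : ψ ≠ 1) : classInner (colI μ ψ) (conjFun (colI μ ψ)) = 0 := by
  classical
  rw [F.col_conj, F.col_inner hψ hψ.inv, if_neg (inv_ne_self_lin F.oddW h1).symm]

/-- coefficients of `τ₁ μ_j` -/
theorem a_coh_col_aux (F : IsFrame M W₁ U W₂ η μ δ) {S₁ : Set (↥M → ℂ)} (hS : S₁ ⊆ SM M ⊥)
    (hc : ∀ χ ∈ S₁, conjFun χ ∈ S₁) {τ₁ : (↥M → ℂ) → G → ℂ} (h₁ : CohMap S₁ (tauM M) τ₁)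
    {ψ : Lin W₁ W₂} (hψ : IsJ W₁ W₂ ψ) (h1 : ψ ≠ 1) (hmem : colI μ ψ ∈ S₁) :
    ∃ a b : Lin W₁ W₂ → ℤ,
      (τ₁ (colI μ ψ) = ∑ φ ∈ idxI W₁ W₂, ((a φ : ℂ) • ((δ ψ : ℂ) • η (φ * ψ)) +
        (b φ : ℂ) • (-((δ ψ : ℂ) • η (φ * ψ⁻¹))))) ∧
      (∀ φ, IsI W₁ W₂ φ → classInner (τ₁ (colI μ ψ)) ((δ ψ : ℂ) • η (φ * ψ)) = a φ ∧
        classInner (τ₁ (colI μ ψ)) (-((δ ψ : ℂ) • η (φ * ψ⁻¹))) = b φ) ∧
      (∀ φ, IsI W₁ W₂ φ → (a φ = 0 ∨ a φ = 1) ∧ (b φ = 0 ∨ b φ = 1)) ∧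
      ∑ φ ∈ idxI W₁ W₂, (a φ + b φ) = Nat.card W₁ := by
  classical
  obtain ⟨R, hR, -, hRc⟩ := F.cohSys
  have hz := zspan_mem hmem
  have hzc := zspan_mem (hc _ hmem)
  have hsp := coh_mem_span hR hS h₁ hmem (hc _ hmem)
  have hd : classInner (τ₁ (colI μ ψ)) (tauM M (colI μ ψ - conjFun (colI μ ψ))) =
      Nat.card W₁ := by
    rw [← h₁.2 _ (zspanOn_one.2 ⟨zspan_sub hz hzc,
      (zspanOn_one.1 (F.a_conj_sub_mem (hS hmem))).2⟩), h₁.inner hz (zspan_sub hz hzc),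
      classInner_sub_right, F.a_col_conj_orth hψ h1, sub_zero, F.a_col_norm hψ]
  obtain ⟨k, hk1, hk2, hk3⟩ := sys_proj hR (hS hmem) (F.a_col_norm hψ) (h₁.gen hz) hd
  have hn : ∑ α ∈ R (colI μ ψ), k α ^ 2 ≤ (Nat.card W₁ : ℤ) := by
    have h2 := sys_R_card_bessel hR (hS hmem) (τ₁ (colI μ ψ))
    rw [h₁.inner hz hz, F.a_col_norm hψ] at h2
    have h3 : ∑ α ∈ R (colI μ ψ), ‖classInner (τ₁ (colI μ ψ)) α‖ ^ 2 =
        ((∑ α ∈ R (colI μ ψ), k α ^ 2 : ℤ) : ℝ) := by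
      push_cast
      refine Finset.sum_congr rfl fun α hα => ?_
      rw [hk1 α hα, Complex.norm_intCast, sq_abs]
    rw [h3, Complex.natCast_re] at h2
    exact_mod_cast h2
  have hk01 : ∀ α ∈ R (colI μ ψ), k α = 0 ∨ k α = 1 := by
    have h2 : ∑ α ∈ R (colI μ ψ), (k α ^ 2 - k α) = 0 := by
      rw [Finset.sum_sub_distrib, hk3]
      omega
    have h3 : ∀ α ∈ R (colI μ ψ), 0 ≤ k α ^ 2 - k α := fun α _ => by
      nlinarith [sq_nonneg (k α), sq_nonneg (k α - 1), Int.le_self_sq (k α)]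
    intro α hα
    have h4 := (Finset.sum_eq_zero_iff_of_nonneg h3).1 h2 α hα
    have h5 : k α * (k α - 1) = 0 := by linarith
    rcases mul_eq_zero.1 h5 with h | h
    · exact Or.inl h
    · exact Or.inr (by omega)
  have hRe := hRc ψ hψ h1
  rw [hRe] at hk1 hk3 hk01 hsp
  rw [F.a_sum_R hψ h1] at hsp hk3
  have m1 : ∀ φ, IsI W₁ W₂ φ → (δ ψ : ℂ) • η (φ * ψ) ∈ (idxI W₁ W₂).image (fun φ =>
      (δ ψ : ℂ) • η (φ * ψ)) ∪ (idxI W₁ W₂).image (fun φ => -((δ ψ : ℂ) • η (φ * ψ⁻¹))) :=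
    fun φ hφ => Finset.mem_union_left _ (Finset.mem_image_of_mem (fun φ => (δ ψ : ℂ) • η (φ * ψ))
      (mem_idxI.2 hφ))
  have m2 : ∀ φ, IsI W₁ W₂ φ → -((δ ψ : ℂ) • η (φ * ψ⁻¹)) ∈ (idxI W₁ W₂).image (fun φ =>
      (δ ψ : ℂ) • η (φ * ψ)) ∪ (idxI W₁ W₂).image (fun φ => -((δ ψ : ℂ) • η (φ * ψ⁻¹))) :=
    fun φ hφ => Finset.mem_union_right _ (Finset.mem_image_of_mem
      (fun φ => -((δ ψ : ℂ) • η (φ * ψ⁻¹))) (mem_idxI.2 hφ))
  refine ⟨fun φ => k ((δ ψ : ℂ) • η (φ * ψ)), fun φ => k (-((δ ψ : ℂ) • η (φ * ψ⁻¹))), ?_,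
    fun φ hφ => ⟨hk1 _ (m1 φ hφ), hk1 _ (m2 φ hφ)⟩, fun φ hφ => ⟨hk01 _ (m1 φ hφ),
    hk01 _ (m2 φ hφ)⟩, by rw [Finset.sum_add_distrib]; exact hk3⟩
  conv_lhs => rw [hsp]
  rw [Finset.sum_add_distrib]
  congr 1
  · refine Finset.sum_congr rfl fun φ hφ => ?_
    rw [hk1 _ (m1 φ (mem_idxI.1 hφ))]
  · refine Finset.sum_congr rfl fun φ hφ => ?_
    rw [hk1 _ (m2 φ (mem_idxI.1 hφ))]

theorem a_coh_col0 (F : IsFrame M W₁ U W₂ η μ δ) {S₁ : Set (↥M → ℂ)} (hS : S₁ ⊆ SM M ⊥)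
    (hc : ∀ χ ∈ S₁, conjFun χ ∈ S₁) {τ₁ : (↥M → ℂ) → G → ℂ} (h₁ : CohMap S₁ (tauM M) τ₁)
    {χ : ↥M → ℂ} (hχ : χ ∈ S₁) {φ : Lin W₁ W₂} (hφ : IsI W₁ W₂ φ) :
    classInner (τ₁ χ) (η φ) = 0 := by
  rcases F.SM_cases (hS hχ) with ⟨h1, h2⟩ | ⟨ψ, hψ, h1, rfl⟩
  · exact (F.coh_irr hS hc h₁ hχ h1).2.2 φ
  · obtain ⟨a, b, hab, -⟩ := F.a_coh_col_aux hS hc h₁ hψ h1 hχ
    rw [hab, classInner_sum_left]
    refine Finset.sum_eq_zero fun φ' hφ' => ?_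
    have e1 : classInner (η (φ' * ψ)) (η φ) = 0 := by
      refine F.a_eta_orth fun h => ?_
      exact F.a_mul_not_I (mem_idxI.1 hφ') hψ h1 (h ▸ hφ)
    have e2 : classInner (η (φ' * ψ⁻¹)) (η φ) = 0 := by
      refine F.a_eta_orth fun h => ?_
      exact F.a_mul_not_I (mem_idxI.1 hφ') hψ.inv (F.a_inv_ne_one h1) (h ▸ hφ)
    rw [← smul_neg, ← neg_one_smul ℂ (η (φ' * ψ⁻¹)), classInner_add_left]
    simp only [classInner_smul_left, e1, e2, mul_zero, add_zero]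

/-- (A6) (PF 5.8).  The hypothesis `h3` is necessary. -/
theorem coh_col (F : IsFrame M W₁ U W₂ η μ δ) {S₁ : Set (↥M → ℂ)} (hS : S₁ ⊆ SM M ⊥)
    (hc : ∀ χ ∈ S₁, conjFun χ ∈ S₁) {τ₁ : (↥M → ℂ) → G → ℂ} (h₁ : CohMap S₁ (tauM M) τ₁)
    {ψ : Lin W₁ W₂} (hψ : IsJ W₁ W₂ ψ) (h1 : ψ ≠ 1) (hmem : colI μ ψ ∈ S₁)
    (h3 : ∃ χ ∈ S₁, χ ≠ colI μ ψ ∧ χ ≠ colI μ ψ⁻¹) :
    τ₁ (colI μ ψ) = (δ ψ : ℂ) • colI η ψ ∨ τ₁ (colI μ ψ) = -((δ ψ : ℂ) • colI η ψ⁻¹) := by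
  classical
  obtain ⟨χ, hχ, n1, n2⟩ := h3
  obtain ⟨R, hR, -, hRc⟩ := F.cohSys
  obtain ⟨a, b, hab, hco, h01, hsum⟩ := F.a_coh_col_aux hS hc h₁ hψ h1 hmem
  obtain ⟨c, hcn⟩ := char_one_eq_nat (F.SM_char (hS hχ))
  obtain ⟨e, hen⟩ := char_one_eq_nat (F.SM_char (hS hmem))
  have hc0 : c ≠ 0 := by
    rintro rfl
    obtain ⟨n, hn0, hn⟩ := char_ne_zero_pos (F.SM_char (hS hχ)) (sys_ne_zero hR (hS hχ))
    rw [hcn] at hn
    have : 0 = n := by exact_mod_cast hn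
    omega
  have ho := coh_orth hR hS h₁ hχ (hc _ hχ) (hS hmem) n1.symm (by rw [F.col_conj]; exact n2.symm)
  rw [hRc ψ hψ h1] at ho
  have hz := zspan_mem hmem
  have hzχ := zspan_mem hχ
  obtain ⟨θ, hθ⟩ : ∃ θ, θ = tauM M ((c : ℤ) • colI μ ψ - (e : ℤ) • χ) := ⟨_, rfl⟩
  have hα : (c : ℤ) • colI μ ψ - (e : ℤ) • χ ∈ zspanOn S₁ ({1}ᶜ : Set ↥M) := by
    refine zspanOn_one.2 ⟨zspan_sub (zspan_smul _ hz) (zspan_smul _ hzχ), ?_⟩
    rw [Pi.sub_apply, Pi.smul_apply, Pi.smul_apply, hcn, hen, zsmul_eq_mul, zsmul_eq_mul]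
    push_cast; ring
  have hα' := zspanOn_mono hS hα
  have hθ' : θ = (c : ℂ) • τ₁ (colI μ ψ) - (e : ℂ) • τ₁ χ := by
    rw [hθ, ← h₁.2 _ hα, h₁.sub (zspan_smul _ hz) (zspan_smul _ hzχ), h₁.smul _ hz,
      h₁.smul _ hzχ, H3.zsmul_eq_smul, H3.zsmul_eq_smul]
    push_cast; rfl
  have hθc : IsClassFunction G θ := by
    rw [hθ]
    exact tau_classFun F.hG F.hM (isGen_classFun (F.a_gen hα'.1))
  have hθV : ∀ v ∈ Vset W₁ W₂, θ v = 0 := fun v hv => by rw [hθ]; exact F.span_V hα' hv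
  have h00 : ∀ φ, IsI W₁ W₂ φ → classInner θ (η (φ * 1)) = 0 := by
    intro φ hφ
    rw [hθ', a_lin_mul_one, classInner_sub_left, classInner_smul_left, classInner_smul_left,
      F.a_coh_col0 hS hc h₁ hmem hφ, F.a_coh_col0 hS hc h₁ hχ hφ]
    simp
  have hδ := F.a_sign_ne_zero ψ
  have hδ' := F.a_sign_sq ψ
  have hcc : (c : ℂ) ≠ 0 := by exact_mod_cast hc0
  have ea : ∀ φ, IsI W₁ W₂ φ → classInner θ (η (φ * ψ)) = c * (δ ψ * a φ) := by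
    intro φ hφ
    have h4 := (hco φ hφ).1
    have h5 := ho _ (Finset.mem_union_left _ (Finset.mem_image_of_mem
      (fun φ => (δ ψ : ℂ) • η (φ * ψ)) (mem_idxI.2 hφ)))
    rw [classInner_smul_right, map_intCast] at h4 h5
    have h6 := (mul_eq_zero.1 h5).resolve_left hδ
    rw [hθ', classInner_sub_left, classInner_smul_left, classInner_smul_left, h6, ← h4,
      ← mul_assoc (δ ψ : ℂ), hδ']
    ring
  have eb : ∀ φ, IsI W₁ W₂ φ → classInner θ (η (φ * ψ⁻¹)) = c * (-(δ ψ) * b φ) := by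
    intro φ hφ
    have h4 := (hco φ hφ).2
    have h5 := ho _ (Finset.mem_union_right _ (Finset.mem_image_of_mem
      (fun φ => -((δ ψ : ℂ) • η (φ * ψ⁻¹))) (mem_idxI.2 hφ)))
    simp only [← neg_smul] at h4 h5
    rw [classInner_smul_right, map_neg, map_intCast] at h4 h5
    have h6 := (mul_eq_zero.1 h5).resolve_left (neg_ne_zero.2 hδ)
    rw [hθ', classInner_sub_left, classInner_smul_left, classInner_smul_left, h6, ← h4,
      ← mul_assoc (-(δ ψ : ℂ)), neg_mul_neg, hδ']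
    ring
  have ca : ∀ φ, IsI W₁ W₂ φ → a φ = a 1 := by
    intro φ hφ
    have h4 := grid_col F.fam hθc hθV IsJ.one h00 hφ hψ
    have h5 := ea 1 IsI.one
    rw [a_lin_one_mul] at h5
    rw [ea φ hφ, h5] at h4
    exact_mod_cast mul_left_cancel₀ hδ (mul_left_cancel₀ hcc h4)
  have cb : ∀ φ, IsI W₁ W₂ φ → b φ = b 1 := by
    intro φ hφ
    have h4 := grid_col F.fam hθc hθV IsJ.one h00 hφ hψ.inv
    have h5 := eb 1 IsI.one
    rw [a_lin_one_mul] at h5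
    rw [eb φ hφ, h5] at h4
    exact_mod_cast mul_left_cancel₀ (neg_ne_zero.2 hδ) (mul_left_cancel₀ hcc h4)
  have hs1 : a 1 + b 1 = 1 := by
    have h4 : ∑ φ ∈ idxI W₁ W₂, (a φ + b φ) = ∑ φ ∈ idxI W₁ W₂, (a 1 + b 1) :=
      Finset.sum_congr rfl fun φ hφ => by rw [ca φ (mem_idxI.1 hφ), cb φ (mem_idxI.1 hφ)]
    rw [h4, Finset.sum_const, card_idxI F.hW, nsmul_eq_mul] at hsum
    have h5 := F.a_card_W₁
    have h6 : (Nat.card W₁ : ℤ) ≠ 0 := by exact_mod_cast (by omega : Nat.card W₁ ≠ 0)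
    exact mul_left_cancel₀ h6 (by rw [hsum, mul_one])
  have hab' : τ₁ (colI μ ψ) = (a 1 : ℂ) • ((δ ψ : ℂ) • colI η ψ) +
      (b 1 : ℂ) • (-((δ ψ : ℂ) • colI η ψ⁻¹)) := by
    rw [hab]
    have : ∀ φ ∈ idxI W₁ W₂, ((a φ : ℂ) • ((δ ψ : ℂ) • η (φ * ψ)) +
        (b φ : ℂ) • (-((δ ψ : ℂ) • η (φ * ψ⁻¹)))) = ((a 1 : ℂ) • ((δ ψ : ℂ) • η (φ * ψ)) +
        (b 1 : ℂ) • (-((δ ψ : ℂ) • η (φ * ψ⁻¹)))) := fun φ hφ => by
      rw [ca φ (mem_idxI.1 hφ), cb φ (mem_idxI.1 hφ)]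
    rw [Finset.sum_congr rfl this, Finset.sum_add_distrib, ← Finset.smul_sum, ← Finset.smul_sum,
      ← Finset.smul_sum, Finset.sum_neg_distrib, ← Finset.smul_sum]
    rfl
  rcases (h01 1 IsI.one).1 with h | h
  · right
    rw [h] at hs1
    rw [hab', h, show b 1 = 1 by omega]
    simp
  · left
    rw [h] at hs1
    rw [hab', h, show b 1 = 0 by omega]
    simp

theorem a_col_ne (F : IsFrame M W₁ U W₂ η μ δ) {ψ ψ' : Lin W₁ W₂}
    (hψ : IsJ W₁ W₂ ψ) (hψ' : IsJ W₁ W₂ ψ') (hne : ψ' ≠ ψ) (hne' : ψ' ≠ ψ⁻¹) :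
    colI μ ψ' ≠ colI μ ψ ∧ colI μ ψ' ≠ colI μ ψ⁻¹ :=
  ⟨fun h => hne (F.a_col_inj hψ' hψ h), fun h => hne' (F.a_col_inj hψ' hψ.inv h)⟩

/-- if there is a third column in `S₁` of the same degree and sign then the first case of
`coh_col` holds. -/
theorem coh_col' (F : IsFrame M W₁ U W₂ η μ δ) {S₁ : Set (↥M → ℂ)} (hS : S₁ ⊆ SM M ⊥)
    (hc : ∀ χ ∈ S₁, conjFun χ ∈ S₁) {τ₁ : (↥M → ℂ) → G → ℂ} (h₁ : CohMap S₁ (tauM M) τ₁)
    {ψ ψ' : Lin W₁ W₂} (hψ : IsJ W₁ W₂ ψ) (h1 : ψ ≠ 1) (hmem : colI μ ψ ∈ S₁)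
    (hψ' : IsJ W₁ W₂ ψ') (h1' : ψ' ≠ 1) (hmem' : colI μ ψ' ∈ S₁) (hne : ψ' ≠ ψ) (hne' : ψ' ≠ ψ⁻¹)
    (hdeg : μ ψ 1 = μ ψ' 1) (hsign : δ ψ = δ ψ') :
    τ₁ (colI μ ψ) = (δ ψ : ℂ) • colI η ψ := by
  classical
  have k1 := F.a_col_ne hψ hψ' hne hne'
  have hne2' : ψ ≠ ψ'⁻¹ := fun h => hne' (by rw [h, a_lin_inv_inv])
  have k2 := F.a_col_ne hψ' hψ (Ne.symm hne) hne2'
  rcases F.coh_col hS hc h₁ hψ h1 hmem ⟨_, hmem', k1⟩ with h | h
  · exact h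
  · exfalso
    have hz := zspan_mem hmem
    have hz' := zspan_mem hmem'
    have hd : τ₁ (colI μ ψ) - τ₁ (colI μ ψ') = (δ ψ : ℂ) • (colI η ψ - colI η ψ') := by
      rw [← h₁.sub hz hz', h₁.2 _ ?_, F.a_tau_col_sub hψ h1 hψ' h1' hdeg hsign]
      refine zspanOn_one.2 ⟨zspan_sub hz hz', ?_⟩
      rw [Pi.sub_apply, F.col_on ψ (one_mem _), F.col_on ψ' (one_mem _), hdeg, sub_self]
    have key := congrArg (fun f => classInner f (η (1 * ψ))) hd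
    have hc1 := F.a_eta_col_inner_eta (φ := 1) IsI.one hψ hψ
    have hc2 := F.a_eta_col_inner_eta (φ := 1) IsI.one hψ' hψ
    have hc3 := F.a_eta_col_inner_eta (φ := 1) IsI.one hψ.inv hψ
    have hc4 := F.a_eta_col_inner_eta (φ := 1) IsI.one hψ'.inv hψ
    rw [if_pos rfl] at hc1
    rw [if_neg hne] at hc2
    rw [if_neg (inv_ne_self_lin F.oddW h1)] at hc3
    rw [if_neg (Ne.symm hne2')] at hc4
    simp only [classInner_sub_left, classInner_smul_left, hc1, hc2, sub_zero, mul_one] at key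
    rw [h, ← neg_one_smul ℂ ((δ ψ : ℂ) • _), classInner_smul_left, classInner_smul_left, hc3]
      at key
    rcases F.coh_col hS hc h₁ hψ' h1' hmem' ⟨_, hmem, k2⟩ with h' | h'
    · rw [h', classInner_smul_left, hc2] at key
      simp only [mul_zero, sub_zero] at key
      exact F.a_sign_ne_zero ψ key.symm
    · rw [h', ← neg_one_smul ℂ ((δ ψ' : ℂ) • _), classInner_smul_left, classInner_smul_left,
        hc4] at key
      simp only [mul_zero, sub_zero] at key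
      exact F.a_sign_ne_zero ψ key.symm

/-- (A6) the two possibilities for the projection onto `R(μ_j)`, when it has norm `|W₁|`. -/
theorem proj_col (F : IsFrame M W₁ U W₂ η μ δ) {θ : G → ℂ}
    (hθ : IsGeneralizedCharacter G θ) (hV : ∀ v ∈ Vset W₁ W₂, θ v = 0)
    {ψ₀ : Lin W₁ W₂} (hψ₀ : IsJ W₁ W₂ ψ₀)
    (h0 : ∀ φ, IsI W₁ W₂ φ → classInner θ (η (φ * ψ₀)) = 0)
    {ψ : Lin W₁ W₂} (hψ : IsJ W₁ W₂ ψ) (h1 : ψ ≠ 1)
    (hdiff : classInner θ (tauM M (colI μ ψ - conjFun (colI μ ψ))) = (Nat.card W₁ : ℂ))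
    (hnorm : ∑ φ ∈ idxI W₁ W₂, (‖classInner θ (η (φ * ψ))‖ ^ 2 +
      ‖classInner θ (η (φ * ψ⁻¹))‖ ^ 2) = (Nat.card W₁ : ℝ)) :
    (∀ φ, IsI W₁ W₂ φ → classInner θ (η (φ * ψ)) = (δ ψ : ℂ) ∧
        classInner θ (η (φ * ψ⁻¹)) = 0) ∨
      (∀ φ, IsI W₁ W₂ φ → classInner θ (η (φ * ψ)) = 0 ∧
        classInner θ (η (φ * ψ⁻¹)) = -(δ ψ : ℂ)) := by
  have hθc := isGen_classFun hθ
  obtain ⟨a, ha⟩ := classInner_gen_int hθ (F.a_eta_gen ψ)
  obtain ⟨b, hb⟩ := classInner_gen_int hθ (F.a_eta_gen ψ⁻¹)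
  have ca : ∀ φ, IsI W₁ W₂ φ → classInner θ (η (φ * ψ)) = a := fun φ hφ => by
    rw [grid_col F.fam hθc hV hψ₀ h0 hφ hψ, ha]
  have cb : ∀ φ, IsI W₁ W₂ φ → classInner θ (η (φ * ψ⁻¹)) = b := fun φ hφ => by
    rw [grid_col F.fam hθc hV hψ₀ h0 hφ hψ.inv, hb]
  have hw : (Nat.card W₁ : ℂ) ≠ 0 := by
    have := F.a_card_W₁
    exact_mod_cast (by omega : Nat.card W₁ ≠ 0)
  have hwr : (Nat.card W₁ : ℝ) ≠ 0 := by
    have := F.a_card_W₁
    exact_mod_cast (by omega : Nat.card W₁ ≠ 0)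
  have e1 : (δ ψ : ℂ) * (a - b) = 1 := by
    rw [F.a_tau_col_conj hψ h1, classInner_smul_right, map_intCast, classInner_sub_right] at hdiff
    have k1 : classInner θ (colI η ψ) = Nat.card W₁ * a := by
      rw [colI, classInner_sum_right, Finset.sum_congr rfl fun φ hφ => ca φ (mem_idxI.1 hφ),
        Finset.sum_const, card_idxI F.hW, nsmul_eq_mul]
    have k2 : classInner θ (colI η ψ⁻¹) = Nat.card W₁ * b := by
      rw [colI, classInner_sum_right, Finset.sum_congr rfl fun φ hφ => cb φ (mem_idxI.1 hφ),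
        Finset.sum_const, card_idxI F.hW, nsmul_eq_mul]
    rw [k1, k2] at hdiff
    apply mul_left_cancel₀ hw
    linear_combination hdiff
  have e2 : (a : ℝ) ^ 2 + (b : ℝ) ^ 2 = 1 := by
    rw [Finset.sum_congr rfl fun φ hφ => by rw [ca φ (mem_idxI.1 hφ), cb φ (mem_idxI.1 hφ)],
      Finset.sum_const, card_idxI F.hW, nsmul_eq_mul, Complex.norm_intCast, Complex.norm_intCast,
      sq_abs, sq_abs] at hnorm
    exact mul_left_cancel₀ hwr (by rw [hnorm, mul_one])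
  have e1' : δ ψ * (a - b) = 1 := by exact_mod_cast e1
  have e2' : a ^ 2 + b ^ 2 = 1 := by exact_mod_cast e2
  have key : (a = δ ψ ∧ b = 0) ∨ (a = 0 ∧ b = -δ ψ) := by
    rcases F.sign ψ with h | h
    · rw [h] at e1' ⊢
      have : a = b + 1 := by omega
      subst this
      have h5 : b * (b + 1) = 0 := by nlinarith
      rcases mul_eq_zero.1 h5 with h6 | h6
      · left; omega
      · right; omega
    · rw [h] at e1' ⊢
      have : a = b - 1 := by omega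
      subst this
      have h5 : b * (b - 1) = 0 := by nlinarith
      rcases mul_eq_zero.1 h5 with h6 | h6
      · left; omega
      · right; omega
  rcases key with ⟨ha', hb'⟩ | ⟨ha', hb'⟩
  · left
    intro φ hφ
    rw [ca φ hφ, cb φ hφ, ha', hb']
    simp
  · right
    intro φ hφ
    rw [ca φ hφ, cb φ hφ, ha', hb']
    simp

end IsFrame

end SM

/-! ### Joining lemmas (A7), (A8) : see also `Cfsg.Agent.H3.coh_glue`, `CohMap`, `coh_mem_span` … -/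

section Join

variable {L : Type u} [Group L] [Fintype L] {G : Type v} [Group G] [Fintype G]
  {τ : (L → ℂ) → (G → ℂ)}

/-- (A7) -/
theorem coh_join {X Y : Set (L → ℂ)} {σ ρ : (L → ℂ) → (G → ℂ)}
    (hτ : IsLinearIsometryOn (zspanOn (X ∪ Y) ({1}ᶜ : Set L)) τ) (hσ : CohMap X τ σ)
    (hρ : CohMap Y τ ρ) (horth : ∀ φ ∈ X, ∀ ψ ∈ Y, classInner φ ψ = 0)
    (horth' : ∀ φ ∈ X, ∀ ψ ∈ Y, classInner (σ φ) (ρ ψ) = 0)
    (hdX : ∀ φ ∈ X, ∃ n : ℤ, φ 1 = n) (_hdY : ∀ φ ∈ Y, ∃ n : ℤ, φ 1 = n)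
    {χ₀ η₀ : L → ℂ} (hχ₀ : χ₀ ∈ X) (hη₀ : η₀ ∈ Y) {c e : ℤ} (hc : χ₀ 1 = c) (he : η₀ 1 = e)
    (hc0 : c ≠ 0) (he0 : e ≠ 0) (h : τ (c • η₀ - e • χ₀) = c • ρ η₀ - e • σ χ₀) :
    ∃ τ₁, CohMap (X ∪ Y) τ τ₁ ∧ (∀ α ∈ zspan X, τ₁ α = σ α) ∧ ∀ β ∈ zspan Y, τ₁ β = ρ β :=
  coh_glue hτ hσ hρ horth horth' hdX hχ₀ hη₀ hc he hc0 he0 h

/-- (A8) -/
theorem inner_coh_const {S₁ : Set (L → ℂ)} {τ₁ : (L → ℂ) → (G → ℂ)} (h₁ : CohMap S₁ τ τ₁)
    (hd : ∀ φ ∈ S₁, ∃ n : ℤ, φ 1 = n ∧ n ≠ 0) {F : G → ℂ}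
    (hF : ∀ χ ∈ S₁, ∀ ψ ∈ S₁, ∀ c e : ℤ, χ 1 = c → ψ 1 = e →
      classInner (τ (c • ψ - e • χ)) F = 0) :
    ∃ c : ℂ, ∀ χ ∈ S₁, classInner (τ₁ χ) F = c * χ 1 := by
  rcases S₁.eq_empty_or_nonempty with rfl | ⟨χ, hχ⟩
  · exact ⟨0, fun χ hχ => absurd hχ (Set.notMem_empty _)⟩
  · obtain ⟨c, hc, hc0⟩ := hd χ hχ
    have hc0' : (c : ℂ) ≠ 0 := by exact_mod_cast hc0
    refine ⟨classInner (τ₁ χ) F / c, fun ψ hψ => ?_⟩
    obtain ⟨e, he, -⟩ := hd ψ hψ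
    have h := hF χ hχ ψ hψ c e hc he
    have hz := zspan_mem hχ
    have hzψ := zspan_mem hψ
    have hm : c • ψ - e • χ ∈ zspanOn S₁ ({1}ᶜ : Set L) := by
      refine zspanOn_one.2 ⟨zspan_sub (zspan_smul _ hzψ) (zspan_smul _ hz), ?_⟩
      rw [Pi.sub_apply, Pi.smul_apply, Pi.smul_apply, hc, he, zsmul_eq_mul, zsmul_eq_mul]
      ring
    rw [← h₁.2 _ hm, h₁.sub (zspan_smul _ hzψ) (zspan_smul _ hz), h₁.smul _ hzψ, h₁.smul _ hz,
      classInner_sub_left, classInner_zsmul_left, classInner_zsmul_left] at h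
    rw [he]
    field_simp
    linear_combination h

end Join

end Cfsg.Agent.PF
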