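import Mathlib.GroupTheory.GroupAction.Basic
import Mathlib.GroupTheory.SpecificGroups.Cyclic
import Mathlib.Algebra.CharP.Lemmas
import Cfsg.Agent.PF.IrrField
import Cfsg.Agent.H2.Cyc

set_option autoImplicit false

/-! PF (9.7): abstract form. A group `Γ` acting on an elementary abelian group `V`, with subgroups
`U` (commutative modulo the kernel) and `W` of prime order `q` normalizing `U`, such that `U W` is
irreducible on `V`, `|V| = p^q`. -/

namespace Cfsg.Agent.PF

open Subgroup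

universe u v

structure Act9 {Γ : Type u} {V : Type v} [Group Γ] [CommGroup V] (ρ : Γ →* MulAut V)
    (U W : Subgroup Γ) (p : ℕ) : Prop where
  hp : p.Prime
  hq : (Nat.card W).Prime
  card : Nat.card V = p ^ Nat.card W
  pow : ∀ v : V, v ^ p = 1
  norm : ∀ w ∈ W, ∀ u ∈ U, w * u * w⁻¹ ∈ U
  comm : ∀ u ∈ U, ∀ u' ∈ U, ρ u * ρ u' = ρ u' * ρ u
  irr : ∀ X : Subgroup V, (∀ u ∈ U, ∀ x ∈ X, ρ u x ∈ X) → (∀ w ∈ W, ∀ x ∈ X, ρ w x ∈ X) →
    X = ⊥ ∨ X = ⊤
  fix : ∀ v, (∀ u ∈ U, ρ u v = v) → v = 1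
  free : ∀ w ∈ W, w ≠ 1 → ∀ u ∈ U, ρ (w * u * w⁻¹) = ρ u → ρ u = 1
  fixW : ∃ a : V, a ≠ 1 ∧ ∀ w ∈ W, ρ w a = a
  ne : p ≠ Nat.card W

variable {Γ : Type u} {V : Type v} [Group Γ] [CommGroup V] {ρ : Γ →* MulAut V}
    {U W : Subgroup Γ} {p : ℕ}

namespace Act9

theorem finV (h : Act9 ρ U W p) : Finite V :=
  Nat.finite_of_card_ne_zero (by rw [h.card]; exact (pow_pos h.hp.pos _).ne')

theorem finW (h : Act9 ρ U W p) : Finite W := Nat.finite_of_card_ne_zero h.hq.ne_zero

theorem one_lt_card (h : Act9 ρ U W p) : 1 < Nat.card V := by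
  rw [h.card]; exact Nat.one_lt_pow h.hq.ne_zero h.hp.one_lt

theorem nontriv (h : Act9 ρ U W p) : Nontrivial V :=
  have := h.finV
  Finite.one_lt_card_iff_nontrivial.1 h.one_lt_card

theorem exists_w (h : Act9 ρ U W p) : ∃ w ∈ W, w ≠ 1 := by
  have := h.finW
  have h1 : 1 < Nat.card W := h.hq.one_lt
  obtain ⟨w, hw⟩ := @exists_ne _ (Finite.one_lt_card_iff_nontrivial.1 h1) (1 : W)
  exact ⟨w, w.2, fun e => hw (Subtype.ext e)⟩

end Act9

/-- `X` is `U`-invariant -/
def Inv9 (ρ : Γ →* MulAut V) (U : Subgroup Γ) (X : Subgroup V) : Prop :=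
  ∀ u ∈ U, ∀ x ∈ X, ρ u x ∈ X

def Gal9 (ρ : Γ →* MulAut V) (U : Subgroup Γ) : Prop := ∀ X : Subgroup V, Inv9 ρ U X → X = ⊥ ∨ X = ⊤

namespace Act9

section Gal

variable (h : Act9 ρ U W p) (hgal : Gal9 ρ U)

include h hgal

theorem gal_free {u : Γ} (hu : u ∈ U) (hne : ρ u ≠ 1) {v : V} (hv : ρ u v = v) : v = 1 := by
  let X : Subgroup V :=
    { carrier := {v | ρ u v = v}
      one_mem' := map_one _
      mul_mem' := by
        rintro a b (ha : _ = _) (hb : _ = _)
        show ρ u (a * b) = a * b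
        rw [map_mul, ha, hb]
      inv_mem' := by
        rintro a (ha : _ = _)
        show ρ u a⁻¹ = a⁻¹
        rw [map_inv, ha] }
  have hX : Inv9 ρ U X := by
    intro u' hu' x (hx : ρ u x = x)
    show ρ u (ρ u' x) = ρ u' x
    have := congrArg (fun f : MulAut V => f x) (h.comm u hu u' hu')
    simp only [MulAut.mul_apply] at this
    rw [this, hx]
  rcases hgal X hX with e | e
  · have : v ∈ X := hv
    rw [e] at this
    exact this
  · exfalso
    apply hne
    ext x
    have : x ∈ X := by rw [e]; trivial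
    exact this

end Gal

/-- the endomorphism of `Additive V` given by `u` -/
def cEnd (ρ : Γ →* MulAut V) (U : Subgroup Γ) (u : U) : AddMonoid.End (Additive V) :=
  (ρ u).toMonoidHom.toAdditive

theorem cEnd_apply (u : U) (x : Additive V) : cEnd ρ U u x = Additive.ofMul (ρ u x.toMul) := rfl

theorem cEnd_mul (u u' : U) : cEnd ρ U (u * u') = cEnd ρ U u * cEnd ρ U u' := by
  ext x
  rw [cEnd_apply, Subgroup.coe_mul, map_mul]
  rfl

theorem cEnd_one : cEnd ρ U 1 = 1 := by
  ext x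
  rw [cEnd_apply, Subgroup.coe_one, map_one]
  rfl

theorem cEnd_inj {u u' : U} : cEnd ρ U u = cEnd ρ U u' ↔ ρ u = ρ u' := by
  constructor
  · intro h
    ext x
    exact congrArg (fun f : AddMonoid.End (Additive V) => (f (Additive.ofMul x)).toMul) h
  · intro h
    ext x
    rw [cEnd_apply, cEnd_apply, h]

theorem cEnd_comm (h : Act9 ρ U W p) (u u' : U) :
    cEnd ρ U u * cEnd ρ U u' = cEnd ρ U u' * cEnd ρ U u := by
  rw [← cEnd_mul, ← cEnd_mul, cEnd_inj, Subgroup.coe_mul, Subgroup.coe_mul, map_mul, map_mul]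
  exact h.comm _ u.2 _ u'.2

theorem cEnd_irr (hgal : Gal9 ρ U) (X : AddSubgroup (Additive V))
    (hX : ∀ i, ∀ x ∈ X, cEnd ρ U i x ∈ X) : X = ⊥ ∨ X = ⊤ := by
  have key := hgal (AddSubgroup.toSubgroup' X) (fun u hu x hx => hX ⟨u, hu⟩ (Additive.ofMul x) hx)
  rcases key with e | e
  · left
    have := congrArg Subgroup.toAddSubgroup e
    ext x
    rw [SetLike.ext_iff] at e
    exact e x.toMul
  · right
    ext x
    rw [SetLike.ext_iff] at e
    exact e x.toMul

/-- homomorphism of `U` to the ring generated -/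
def toRing (ρ : Γ →* MulAut V) (U : Subgroup Γ) : U →* genRing (cEnd ρ U) where
  toFun u := ⟨cEnd ρ U u, Subring.subset_closure ⟨u, rfl⟩⟩
  map_one' := Subtype.ext cEnd_one
  map_mul' u u' := Subtype.ext (cEnd_mul u u')

theorem toRing_units_inj {u u' : U} :
    (toRing ρ U).toHomUnits u = (toRing ρ U).toHomUnits u' ↔ ρ u = ρ u' := by
  rw [← cEnd_inj, Units.ext_iff, MonoidHom.coe_toHomUnits, MonoidHom.coe_toHomUnits,
    Subtype.ext_iff]
  rfl

theorem gal_cyclic (h : Act9 ρ U W p) (hgal : Gal9 ρ U) :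
    ∃ g ∈ U, ∀ u ∈ U, ∃ k : ℕ, ρ u = ρ (g ^ k) := by
  have := h.finV
  have := h.nontriv
  have hF := genRing_isField (cEnd ρ U) (cEnd_comm h) (cEnd_irr hgal)
  let _ : Field (genRing (cEnd ρ U)) := hF.toField
  have : Finite (AddMonoid.End (Additive V)) :=
    Finite.of_injective (fun f : AddMonoid.End (Additive V) => (f : Additive V → Additive V))
      DFunLike.coe_injective
  have : Finite (genRing (cEnd ρ U))ˣ := inferInstance
  have hcyc : IsCyclic (toRing ρ U).toHomUnits.range := inferInstance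
  obtain ⟨⟨_, g, rfl⟩, hg⟩ := hcyc
  refine ⟨g, g.2, fun u hu => ?_⟩
  have h1 := hg ⟨(toRing ρ U).toHomUnits ⟨u, hu⟩, ⟨u, hu⟩, rfl⟩
  obtain ⟨k, hk⟩ := (mem_powers_iff_mem_zpowers).2 h1
  refine ⟨k, ?_⟩
  have h2 : (toRing ρ U).toHomUnits (g ^ k) = (toRing ρ U).toHomUnits ⟨u, hu⟩ := by
    rw [map_pow]
    exact congrArg Subtype.val hk
  have h3 := toRing_units_inj.1 h2
  rw [Subgroup.coe_pow] at h3
  exact h3.symm

theorem gal_count (h : Act9 ρ U W p) (hgal : Gal9 ρ U) :
    Nat.card (U.map ρ) * (p - 1) ∣ p ^ Nat.card W - 1 ∧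
      (Nat.card (U.map ρ)).Coprime (p - 1) := by
  have := h.finV
  have := h.nontriv
  have hF := genRing_isField (cEnd ρ U) (cEnd_comm h) (cEnd_irr hgal)
  let _ : Field (genRing (cEnd ρ U)) := hF.toField
  have : Finite (AddMonoid.End (Additive V)) :=
    Finite.of_injective (fun f : AddMonoid.End (Additive V) => (f : Additive V → Additive V))
      DFunLike.coe_injective
  have : Finite (genRing (cEnd ρ U))ˣ := inferInstance
  have hp' : Fact p.Prime := ⟨h.hp⟩
  have hchar : CharP (genRing (cEnd ρ U)) p := by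
    rw [CharP.charP_iff_prime_eq_zero h.hp]
    apply Subtype.ext
    rw [Subring.coe_natCast]
    ext x
    show ((p : AddMonoid.End (Additive V)) x).toMul = 1
    rw [← nsmul_one p]
    show (p • x).toMul = 1
    rw [toMul_nsmul]
    exact h.pow _
  let f : ZMod p →+* genRing (cEnd ρ U) := ZMod.castHom (dvd_refl p) _
  have hfinj : Function.Injective f := f.injective
  let fu : (ZMod p)ˣ →* (genRing (cEnd ρ U))ˣ := Units.map (f : ZMod p →* genRing (cEnd ρ U))
  have hfu : Function.Injective fu := Units.map_injective hfinj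
  have hscal : ∀ (a : ZMod p) (x : V), ((f a).1 (Additive.ofMul x)).toMul = x ^ a.val := by
    intro a x
    have : f a = (a.val : genRing (cEnd ρ U)) := by
      show f a = _
      rw [← map_natCast f, ZMod.natCast_zmod_val]
    rw [this, Subring.coe_natCast, ← nsmul_one a.val]
    show (a.val • (Additive.ofMul x)).toMul = _
    rw [toMul_nsmul]; rfl
  obtain ⟨w, hw, hw1⟩ := h.exists_w
  let B := (toRing ρ U).toHomUnits.range
  have hdis : ∀ b ∈ B, ∀ a : (ZMod p)ˣ, b = fu a → b = 1 := by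
    rintro _ ⟨u, rfl⟩ a ha
    have h1 : ∀ x : V, ρ u x = x ^ (a : ZMod p).val := by
      intro x
      rw [← hscal]
      have h2 := congrArg (fun t : (genRing (cEnd ρ U))ˣ => ((t : genRing (cEnd ρ U)).1
        (Additive.ofMul x)).toMul) ha
      exact h2
    have h3 : ρ (w * u * w⁻¹) = ρ u := by
      ext x
      rw [map_mul, map_mul, MulAut.mul_apply, MulAut.mul_apply, h1, map_pow, map_inv,
        MulAut.apply_inv_self, h1]
    have h4 := h.free w hw hw1 u u.2 h3
    have h5 : (toRing ρ U).toHomUnits u = (toRing ρ U).toHomUnits 1 := by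
      rw [toRing_units_inj, h4, Subgroup.coe_one, map_one]
    rw [h5, map_one]
  let g : B × (ZMod p)ˣ →* (genRing (cEnd ρ U))ˣ := MonoidHom.coprod B.subtype fu
  have hg : Function.Injective g := by
    rw [injective_iff_map_eq_one]
    rintro ⟨b, a⟩ hba
    have h1 : (b : (genRing (cEnd ρ U))ˣ) * fu a = 1 := hba
    have h2 : (b : (genRing (cEnd ρ U))ˣ) = fu a⁻¹ := by
      rw [map_inv]; exact eq_inv_of_mul_eq_one_left h1
    have h3 := hdis b b.2 _ h2
    have h4 : fu a = fu 1 := by rw [h3, one_mul] at h1; rw [h1, map_one]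
    exact Prod.ext (Subtype.ext h3) (hfu h4)
  have hd := Subgroup.card_dvd_of_injective g hg
  have e0 : Nat.card (genRing (cEnd ρ U))ˣ = Nat.card (genRing (cEnd ρ U)) - 1 :=
    Nat.card_units (genRing (cEnd ρ U))
  rw [Nat.card_prod, e0, genRing_card (cEnd ρ U) (cEnd_comm h) (cEnd_irr hgal)] at hd
  have e1 : Nat.card (ZMod p)ˣ = p - 1 := by
    rw [Nat.card_eq_fintype_card, ZMod.card_units]
  have e2 : Nat.card (Additive V) = p ^ Nat.card W := h.card
  have e3 : Nat.card B = Nat.card (U.map ρ) := by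
    have k1 : (toRing ρ U).toHomUnits.ker = (ρ.comp U.subtype).ker := by
      ext u
      rw [MonoidHom.mem_ker, MonoidHom.mem_ker, MonoidHom.comp_apply, ← map_one
        (toRing ρ U).toHomUnits, toRing_units_inj, Subgroup.coe_one, map_one]
      rfl
    have k2 : U.map ρ = (ρ.comp U.subtype).range := by
      rw [MonoidHom.range_comp, Subgroup.range_subtype]
    rw [k2, ← Subgroup.index_ker, ← Subgroup.index_ker, k1]
  rw [e1, e2, e3] at hd
  refine ⟨hd, Nat.Coprime.symm ?_⟩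
  rw [← e3, ← e1]
  apply Nat.coprime_of_dvd
  intro r hr hr1 hr2
  have : Fact r.Prime := ⟨hr⟩
  obtain ⟨a, ha⟩ := exists_prime_orderOf_dvd_card' r hr1
  obtain ⟨b, hb⟩ := exists_prime_orderOf_dvd_card' r hr2
  have h5 : orderOf (b : (genRing (cEnd ρ U))ˣ) = orderOf (fu a) := by
    rw [Subgroup.orderOf_coe, hb, orderOf_injective fu hfu, ha]
  have h6 := H2.zpowers_eq_of_orderOf_eq h5
  have h7 : (b : (genRing (cEnd ρ U))ˣ) ∈ zpowers (fu a) := by
    rw [← h6]; exact mem_zpowers _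
  obtain ⟨k, hk⟩ := Subgroup.mem_zpowers_iff.1 h7
  rw [← map_zpow] at hk
  have h8 := hdis b b.2 _ hk.symm
  rw [← Subgroup.orderOf_coe, h8, orderOf_one] at hb
  exact hr.one_lt.ne hb

end Act9

end Cfsg.Agent.PF
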