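import Mathlib.GroupTheory.FiniteAbelian.Duality
import Mathlib.RingTheory.RootsOfUnity.AlgebraicallyClosed
import Mathlib.Analysis.Complex.Polynomial.Basic
import Cfsg.Agent.PF.Act9
import Cfsg.Agent.L.SylIn

set_option autoImplicit false

/-! PF (9.7): abstract form, the non-Galois case, and the action on linear characters. -/

namespace Cfsg.Agent.PF

open Subgroup

universe u v

variable {Γ : Type u} {V : Type v} [Group Γ] [CommGroup V] {ρ : Γ →* MulAut V}
    {U W : Subgroup Γ} {p : ℕ}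

/-- the image of `X` under `ρ w` -/
def mv (ρ : Γ →* MulAut V) (w : Γ) (X : Subgroup V) : Subgroup V := X.map (ρ w).toMonoidHom

theorem mem_mv {w : Γ} {X : Subgroup V} {x : V} : x ∈ mv ρ w X ↔ ρ w⁻¹ x ∈ X := by
  constructor
  · rintro ⟨y, hy, rfl⟩
    show ρ w⁻¹ (ρ w y) ∈ X
    rw [← MulAut.mul_apply, ← map_mul, inv_mul_cancel, map_one]
    exact hy
  · intro h
    refine ⟨_, h, ?_⟩
    show ρ w (ρ w⁻¹ x) = x
    rw [← MulAut.mul_apply, ← map_mul, mul_inv_cancel, map_one]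
    rfl

theorem mv_mul (w w' : Γ) (X : Subgroup V) : mv ρ (w * w') X = mv ρ w (mv ρ w' X) := by
  ext x
  rw [mem_mv, mem_mv, mem_mv, mul_inv_rev, map_mul]
  rfl

theorem mv_one (X : Subgroup V) : mv ρ 1 X = X := by
  ext x
  rw [mem_mv, inv_one, map_one]; rfl

theorem mv_mono {w : Γ} {X Y : Subgroup V} (h : X ≤ Y) : mv ρ w X ≤ mv ρ w Y :=
  Subgroup.map_mono h

theorem mv_card (w : Γ) (X : Subgroup V) : Nat.card (mv ρ w X) = Nat.card X :=
  Nat.card_congr (X.equivMapOfInjective _ (ρ w).injective).symm.toEquiv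

theorem mv_bot (w : Γ) : mv ρ w (⊥ : Subgroup V) = ⊥ := Subgroup.map_bot _

theorem ρ_inv_apply (w : Γ) (x : V) : ρ w (ρ w⁻¹ x) = x := by
  rw [← MulAut.mul_apply, ← map_mul, mul_inv_cancel, map_one]; rfl

theorem ρ_inv_apply' (w : Γ) (x : V) : ρ w⁻¹ (ρ w x) = x := by
  rw [← MulAut.mul_apply, ← map_mul, inv_mul_cancel, map_one]; rfl

theorem ρ_mul_apply (w w' : Γ) (x : V) : ρ (w * w') x = ρ w (ρ w' x) := by
  rw [map_mul]; rfl

theorem card_sup_comm [Finite V] {A B : Subgroup V} (h : A ⊓ B = ⊥) :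
    Nat.card ↥(A ⊔ B) = Nat.card A * Nat.card B := by
  have h1 : B.relIndex (A ⊔ B) = B.relIndex A := Subgroup.relIndex_sup_right _ _
  have h2 : B.relIndex A = Nat.card A := by
    rw [← Subgroup.inf_relIndex_right, inf_comm, h, Subgroup.relIndex_bot_left]
  have h3 := L.card_mul_relIndex (le_sup_right : B ≤ A ⊔ B)
  rw [h1, h2] at h3
  rw [← h3, mul_comm]

namespace Act9

/-- non-Galois data -/
structure NG (ρ : Γ →* MulAut V) (U W : Subgroup Γ) (p : ℕ) (X Y : Subgroup V) : Prop where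
  invX : Inv9 ρ U X
  invY : Inv9 ρ U Y
  cardX : Nat.card X = p
  cardY : Nat.card V = Nat.card Y * p
  mv_le : ∀ w ∈ W, w ≠ 1 → mv ρ w X ≤ Y
  inf : X ⊓ Y = ⊥
  sup : X ⊔ Y = ⊤
  gen : ∀ Z : Subgroup V, (∀ w ∈ W, mv ρ w X ≤ Z) → Z = ⊤
  supY : ∀ w ∈ W, w ≠ 1 → Y ⊔ mv ρ w Y = ⊤

theorem inv_mv (h : Act9 ρ U W p) {X : Subgroup V} (hX : Inv9 ρ U X) {w : Γ} (hw : w ∈ W) :
    Inv9 ρ U (mv ρ w X) := by
  intro u hu x hx
  rw [mem_mv] at hx ⊢
  have h1 := h.norm w⁻¹ (inv_mem hw) u hu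
  rw [inv_inv] at h1
  have := hX _ h1 _ hx
  rw [ρ_mul_apply, ρ_mul_apply, ρ_inv_apply] at this
  exact this

open Classical in
theorem nonGal (h : Act9 ρ U W p) (hn : ¬ Gal9 ρ U) : ∃ X Y : Subgroup V, NG ρ U W p X Y := by
  have := h.finV
  have := h.finW
  have := Fintype.ofFinite W
  unfold Gal9 at hn
  push Not at hn
  obtain ⟨X₀, h0, h0b, h0t⟩ := hn
  obtain ⟨X, hX0, hXmin⟩ := (Set.toFinite {X : Subgroup V | X ≠ ⊥ ∧ Inv9 ρ U X}).exists_le_minimal
    (show X₀ ∈ _ from ⟨h0b, h0⟩)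
  have hXne : X ≠ ⊥ := hXmin.1.1
  have hX : Inv9 ρ U X := hXmin.1.2
  have hXt : X ≠ ⊤ := fun e => h0t (top_le_iff.1 (e ▸ hX0))
  have hmin : ∀ Y : Subgroup V, Inv9 ρ U Y → Y ≤ X → Y = ⊥ ∨ Y = X := by
    intro Y hY hYX
    by_cases e : Y = ⊥
    · exact Or.inl e
    · exact Or.inr (le_antisymm hYX (hXmin.2 ⟨e, hY⟩ hYX))
  have hminw : ∀ w ∈ W, ∀ Y : Subgroup V, Inv9 ρ U Y → Y ≤ mv ρ w X → Y = ⊥ ∨ Y = mv ρ w X := by
    intro w hw Y hY hYX
    have h1 := mv_mono (ρ := ρ) (w := w⁻¹) hYX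
    rw [← mv_mul, inv_mul_cancel, mv_one] at h1
    have e : Y = mv ρ w (mv ρ w⁻¹ Y) := by rw [← mv_mul, mul_inv_cancel, mv_one]
    rcases hmin _ (h.inv_mv hY (inv_mem hw)) h1 with e1 | e1
    · left; rw [e, e1, mv_bot]
    · right; rw [e, e1]
  let S : Finset W → Subgroup V := fun T => ⨆ w ∈ T, mv ρ (w : Γ) X
  have hinvsup : ∀ A B : Subgroup V, Inv9 ρ U A → Inv9 ρ U B → Inv9 ρ U (A ⊔ B) := by
    intro A B hA hB u hu x hx
    rw [Subgroup.mem_sup] at hx ⊢
    obtain ⟨a, ha, b, hb, rfl⟩ := hx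
    exact ⟨_, hA u hu a ha, _, hB u hu b hb, (map_mul _ _ _).symm⟩
  have hS : ∀ T : Finset W, Inv9 ρ U (S T) ∧ ∃ k ≤ T.card, Nat.card (S T) = Nat.card X ^ k := by
    intro T
    induction T using Finset.induction_on with
    | empty =>
      have e : S ∅ = ⊥ := by simp [S]
      rw [e]
      refine ⟨?_, 0, le_rfl, by simp⟩
      intro u _ x hx
      rw [Subgroup.mem_bot] at hx ⊢
      rw [hx, map_one]
    | insert w T hwT ih =>
      obtain ⟨i1, k, hk, i2⟩ := ih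
      have e : S (insert w T) = mv ρ (w : Γ) X ⊔ S T := by
        simp only [S]
        exact Finset.iSup_insert _ _ _
      have hi : Inv9 ρ U (mv ρ (w : Γ) X) := h.inv_mv hX w.2
      rw [e]
      refine ⟨hinvsup _ _ hi i1, ?_⟩
      rw [Finset.card_insert_of_notMem hwT]
      have hi2 : Inv9 ρ U (mv ρ (w : Γ) X ⊓ S T) := fun u hu x hx => ⟨hi u hu x hx.1, i1 u hu x hx.2⟩
      rcases hminw w w.2 _ hi2 inf_le_left with e1 | e1
      · refine ⟨k + 1, by omega, ?_⟩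
        rw [card_sup_comm e1, mv_card, i2, pow_succ, mul_comm]
      · refine ⟨k, by omega, ?_⟩
        rw [sup_eq_right.2 (inf_eq_left.1 e1), i2]
  have hSW : ∀ T : Finset W, ∀ w : W, w ∈ T → mv ρ (w : Γ) X ≤ S T := by
    intro T w hw
    exact le_iSup₂_of_le w hw le_rfl
  have htop : S Finset.univ = ⊤ := by
    have hi : ∀ w ∈ W, ∀ x ∈ S Finset.univ, ρ w x ∈ S Finset.univ := by
      intro w hw x hx
      have h1 : S Finset.univ ≤ mv ρ w⁻¹ (S Finset.univ) := by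
        refine iSup₂_le fun w' _ => ?_
        have h2 := mv_mono (ρ := ρ) (w := w⁻¹) (hSW Finset.univ (⟨w, hw⟩ * w') (Finset.mem_univ _))
        rw [← mv_mul, Subgroup.coe_mul, inv_mul_cancel_left] at h2
        exact h2
      have := h1 hx
      rw [mem_mv, inv_inv] at this
      exact this
    rcases h.irr (S Finset.univ) (hS _).1 hi with e | e
    · exfalso
      apply hXne
      have := hSW Finset.univ 1 (Finset.mem_univ _)
      rw [e, le_bot_iff, Subgroup.coe_one, mv_one] at this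
      exact this
    · exact e
  have hgen : ∀ Z : Subgroup V, (∀ w ∈ W, mv ρ w X ≤ Z) → Z = ⊤ := by
    intro Z hZ
    rw [← top_le_iff, ← htop]
    exact iSup₂_le fun w _ => hZ w w.2
  have hcardW : (Finset.univ : Finset W).card = Nat.card W := by
    rw [Finset.card_univ, Nat.card_eq_fintype_card]
  -- the order of `X`
  have hcX : Nat.card X = p := by
    obtain ⟨-, k, hk, hk2⟩ := hS Finset.univ
    rw [htop, Subgroup.card_top, h.card] at hk2
    have hd : Nat.card X ∣ p ^ Nat.card W := by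
      rw [← h.card]; exact Subgroup.card_subgroup_dvd_card X
    obtain ⟨d, hd1, hd2⟩ := (Nat.dvd_prime_pow h.hp).1 hd
    rw [hd2, ← pow_mul] at hk2
    have h3 := Nat.pow_right_injective h.hp.two_le hk2
    rcases (Nat.dvd_prime h.hq).1 ⟨k, h3⟩ with e | e
    · rw [hd2, e, pow_one]
    · exfalso
      apply hXt
      apply Subgroup.eq_top_of_card_eq
      rw [hd2, e, h.card]
  let Y := S (Finset.univ.erase 1)
  obtain ⟨hYinv, k, hk, hk2⟩ := hS (Finset.univ.erase 1)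
  have hXY : X ⊔ Y = ⊤ := by
    apply hgen
    intro w hw
    by_cases e : w = 1
    · rw [e, mv_one]; exact le_sup_left
    · refine le_trans ?_ le_sup_right
      exact hSW _ ⟨w, hw⟩ (Finset.mem_erase.2 ⟨fun e' => e (congrArg Subtype.val e'),
        Finset.mem_univ _⟩)
  have hk' : k ≤ Nat.card W - 1 := by
    rw [Finset.card_erase_of_mem (Finset.mem_univ _), hcardW] at hk
    exact hk
  have hinfinv : Inv9 ρ U (X ⊓ Y) := fun u hu x hx => ⟨hX u hu x hx.1, hYinv u hu x hx.2⟩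
  have hXYi : X ⊓ Y = ⊥ := by
    rcases hmin _ hinfinv inf_le_left with e | e
    · exact e
    · exfalso
      have h1 : X ≤ Y := inf_eq_left.1 e
      rw [sup_eq_right.2 h1] at hXY
      have h2 : Nat.card Y = Nat.card V := by rw [hXY, Subgroup.card_top]
      have h3 : Nat.card Y = p ^ k := by rw [← hcX]; exact hk2
      rw [h3, h.card] at h2
      have h4 := Nat.pow_right_injective h.hp.two_le h2
      have := h.hq.pos
      omega
  refine ⟨X, Y, hX, hYinv, hcX, ?_, ?_, hXYi, hXY, hgen, ?_⟩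
  · have := card_sup_comm hXYi
    rw [hXY, Subgroup.card_top, hcX, mul_comm] at this
    exact this
  · intro w hw hw1
    exact hSW _ ⟨w, hw⟩ (Finset.mem_erase.2 ⟨fun e' => hw1 (congrArg Subtype.val e'),
        Finset.mem_univ _⟩)
  · intro w hw hw1
    rw [← top_le_iff, ← hXY]
    refine sup_le ?_ le_sup_left
    refine le_trans ?_ le_sup_right
    have h1 : mv ρ w⁻¹ X ≤ Y := hSW _ ⟨w⁻¹, inv_mem hw⟩ (Finset.mem_erase.2
      ⟨fun e' => hw1 (inv_eq_one.1 (congrArg Subtype.val e')), Finset.mem_univ _⟩)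
    have h2 := mv_mono (ρ := ρ) (w := w) h1
    rw [← mv_mul, mul_inv_cancel, mv_one] at h2
    exact h2

/-- the action of `U` on `X` -/
def restrX {X : Subgroup V} (hX : Inv9 ρ U X) : U →* MulAut X where
  toFun u :=
    { toFun := fun x => ⟨ρ u x, hX _ u.2 _ x.2⟩
      invFun := fun x => ⟨ρ (u : Γ)⁻¹ x, hX _ (inv_mem u.2) _ x.2⟩
      left_inv := fun x => Subtype.ext (ρ_inv_apply' _ _)
      right_inv := fun x => Subtype.ext (ρ_inv_apply _ _)
      map_mul' := fun x y => Subtype.ext (map_mul _ _ _) }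
  map_one' := by
    ext x
    show ρ ((1 : U) : Γ) x = x
    rw [Subgroup.coe_one, map_one]; rfl
  map_mul' a b := by
    ext x
    show ρ ((a * b : U) : Γ) x = ρ a (ρ b x)
    rw [Subgroup.coe_mul, ρ_mul_apply]

theorem restrX_apply {X : Subgroup V} (hX : Inv9 ρ U X) (u : U) (x : X) :
    ((restrX hX u x : X) : V) = ρ u x := rfl

section P

variable {X Y : Subgroup V} (h : Act9 ρ U W p) (hN : NG ρ U W p X Y)

theorem gen_of_card [Finite V] {X : Subgroup V} (hp : p.Prime) (hX : Nat.card X = p) {x : V} (hx : x ∈ X)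
    (hx1 : x ≠ 1) {y : V} (hy : y ∈ X) : ∃ k : ℕ, y = x ^ k := by
  have := Nat.finite_of_card_ne_zero (hX.trans_ne hp.ne_zero)
  have h1 : zpowers x = X := by
    apply L.eq_of_le_of_card_le (by rwa [zpowers_le])
    have h2 : Nat.card (zpowers x) ∣ Nat.card X := Subgroup.card_dvd_of_le (by rwa [zpowers_le])
    rw [hX] at h2 ⊢
    rcases (Nat.dvd_prime hp).1 h2 with e | e
    · exfalso
      apply hx1
      rw [Subgroup.card_eq_one, zpowers_eq_bot] at e
      exact e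
    · exact e.ge
  have h3 : y ∈ zpowers x := by rw [h1]; exact hy
  have hfin : IsOfFinOrder x := by
    have : IsOfFinOrder (⟨x, hx⟩ : X) := isOfFinOrder_of_finite _
    exact (Submonoid.isOfFinOrder_coe (H := X.toSubmonoid) (x := ⟨x, hx⟩)).2 this
  obtain ⟨k, hk⟩ := (hfin.mem_powers_iff_mem_zpowers).2 h3
  exact ⟨k, hk.symm⟩

include hN in
theorem act_pow [Finite V] (hp : p.Prime) {u : Γ} (hu : u ∈ U) : ∃ k : ℕ, ∀ x ∈ X, ρ u x = x ^ k := by
  have := Nat.finite_of_card_ne_zero (hN.cardX.trans_ne hp.ne_zero)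
  have h1 : 1 < Nat.card X := by rw [hN.cardX]; exact hp.one_lt
  obtain ⟨x₀, hx₀⟩ := @exists_ne _ (Finite.one_lt_card_iff_nontrivial.1 h1) (1 : X)
  have hx1 : (x₀ : V) ≠ 1 := fun e => hx₀ (Subtype.ext e)
  obtain ⟨k, hk⟩ := gen_of_card hp hN.cardX x₀.2 hx1 (hN.invX u hu _ x₀.2)
  refine ⟨k, fun x hx => ?_⟩
  obtain ⟨m, rfl⟩ := gen_of_card hp hN.cardX x₀.2 hx1 hx
  rw [map_pow, hk, ← pow_mul, ← pow_mul, mul_comm]

include h hN in
/-- index of the centralizer of `X`; `U/U₁` is cyclic -/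
theorem index_facts : (restrX hN.invX).ker.index ∣ p - 1 ∧ (restrX hN.invX).ker.index ≠ 1 ∧
    ∃ g ∈ U, ∀ u ∈ U, ∃ k : ℕ, ∀ x ∈ X, ρ u x = ρ (g ^ k) x := by
  have := h.finV
  have hp' : Fact p.Prime := ⟨h.hp⟩
  have hcyc : IsCyclic X := isCyclic_of_prime_card hN.cardX
  have e1 : Nat.card (MulAut X) = p - 1 := by
    rw [IsCyclic.card_mulAut, hN.cardX, Nat.totient_prime h.hp]
  refine ⟨?_, ?_, ?_⟩
  · rw [Subgroup.index_ker, ← e1]
    exact Subgroup.card_subgroup_dvd_card _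
  · intro e
    rw [Subgroup.index_eq_one] at e
    have h1 : 1 < Nat.card X := by rw [hN.cardX]; exact h.hp.one_lt
    obtain ⟨x₀, hx₀⟩ := @exists_ne _ (Finite.one_lt_card_iff_nontrivial.1 h1) (1 : X)
    apply hx₀
    apply Subtype.ext
    apply h.fix
    intro u hu
    have h2 : (⟨u, hu⟩ : U) ∈ (restrX hN.invX).ker := by rw [e]; trivial
    rw [MonoidHom.mem_ker] at h2
    have h3 := congrArg (fun f : MulAut X => ((f x₀ : X) : V)) h2
    exact h3
  · have e2 : IsCyclic (MulAut X) := by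
      have e3 := IsCyclic.mulAutMulEquiv X
      rw [hN.cardX] at e3
      exact isCyclic_of_surjective e3.symm e3.symm.surjective
    have e4 : IsCyclic (restrX hN.invX).range := inferInstance
    obtain ⟨⟨_, g, rfl⟩, hg⟩ := e4
    refine ⟨g, g.2, fun u hu => ?_⟩
    have : Finite (MulAut X) := Nat.finite_of_card_ne_zero (by
      rw [e1]; have := h.hp.two_le; omega)
    obtain ⟨k, hk⟩ := (mem_powers_iff_mem_zpowers).2 (hg ⟨restrX hN.invX ⟨u, hu⟩, ⟨u, hu⟩, rfl⟩)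
    refine ⟨k, fun x hx => ?_⟩
    have h2 : restrX hN.invX (g ^ k) = restrX hN.invX ⟨u, hu⟩ := by
      rw [map_pow]
      exact congrArg Subtype.val hk
    have h3 := congrArg (fun f : MulAut X => ((f ⟨x, hx⟩ : X) : V)) h2
    simp only [restrX_apply] at h3
    rw [Subgroup.coe_pow] at h3
    exact h3.symm

include hN in
/-- `C_U(X) = C_U(V/Y)` -/
theorem cent_iff {u : Γ} (hu : u ∈ U) : (∀ x ∈ X, ρ u x = x) ↔ ∀ v : V, ρ u v * v⁻¹ ∈ Y := by
  constructor
  · intro h1 v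
    have : v ∈ X ⊔ Y := by rw [hN.sup]; trivial
    obtain ⟨x, hx, y, hy, rfl⟩ := Subgroup.mem_sup.1 this
    rw [map_mul, h1 x hx, mul_inv_rev]
    have e : x * ρ u y * (y⁻¹ * x⁻¹) = ρ u y * y⁻¹ := by
      rw [mul_comm x, mul_assoc, mul_comm y⁻¹, ← mul_assoc x, mul_inv_cancel, one_mul]
    rw [e]
    exact mul_mem (hN.invY u hu y hy) (inv_mem hy)
  · intro h1 x hx
    have h2 : ρ u x * x⁻¹ ∈ X ⊓ Y := ⟨X.mul_mem (hN.invX u hu x hx) (X.inv_mem hx), h1 x⟩
    rw [hN.inf, Subgroup.mem_bot, mul_inv_eq_one] at h2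
    exact h2

end P

/-! ### Linear characters -/

section Lin

variable (h : Act9 ρ U W p)

include h

theorem exists_inv_char : ∃ lam : V →* ℂˣ, lam ≠ 1 ∧ ∀ w ∈ W, ∀ v, lam (ρ w v) = lam v := by
  classical
  have := h.finV
  have := h.finW
  have := Fintype.ofFinite W
  obtain ⟨a, ha, haw⟩ := h.fixW
  have hr : HasEnoughRootsOfUnity ℂ (Monoid.exponent V) := by
    have : NeZero ((Monoid.exponent V : ℕ) : ℂ) :=
      ⟨Nat.cast_ne_zero.2 (Monoid.exponent_ne_zero_of_finite)⟩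
    infer_instance
  obtain ⟨φ, hφ⟩ := CommGroup.exists_apply_ne_one_of_hasEnoughRootsOfUnity V ℂ ha
  let lam : V →* ℂˣ := ∏ w : W, φ.comp (ρ (w : Γ)).toMonoidHom
  have hlam : ∀ v, lam v = ∏ w : W, φ (ρ (w : Γ) v) := by
    intro v
    simp only [lam, MonoidHom.finsetProd_apply]
    rfl
  refine ⟨lam, ?_, ?_⟩
  · intro e
    have h1 : lam a = φ a ^ Nat.card W := by
      rw [hlam, Finset.prod_congr rfl (fun w _ => by rw [haw w w.2]), Finset.prod_const,
        Finset.card_univ, Nat.card_eq_fintype_card]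
    rw [e, MonoidHom.one_apply] at h1
    have h2 : φ a ^ p = 1 := by rw [← map_pow, h.pow, map_one]
    apply hφ
    have hc : Nat.gcd p (Nat.card W) = 1 := (Nat.coprime_primes h.hp h.hq).2 h.ne
    have h3 := orderOf_dvd_iff_pow_eq_one.2 h2
    have h4 := orderOf_dvd_iff_pow_eq_one.2 h1.symm
    have h5 := Nat.dvd_gcd h3 h4
    rw [hc, Nat.dvd_one, orderOf_eq_one_iff] at h5
    exact h5
  · intro w hw v
    rw [hlam, hlam]
    refine Fintype.prod_equiv (Equiv.mulRight (⟨w, hw⟩ : W)) _ _ (fun x => ?_)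
    show φ (ρ x (ρ w v)) = φ (ρ (x * w) v)
    rw [ρ_mul_apply]

/-- (A2) -/
theorem stab_inv {lam : V →* ℂˣ} (h1 : lam ≠ 1) (hw : ∀ w ∈ W, ∀ v, lam (ρ w v) = lam v) {u : Γ}
    (hu : u ∈ U) (hs : ∀ v, lam (ρ u v) = lam v) : ρ u = 1 := by
  -- the subgroup generated by all `[v, u']`, `u'` stabilizing `lam`
  let S : Set V := {x | ∃ u' ∈ U, (∀ v, lam (ρ u' v) = lam v) ∧ ∃ v, x = ρ u' v * v⁻¹}
  have hker : closure S ≤ lam.ker := by
    rw [closure_le]
    rintro _ ⟨u', _, hs', v, rfl⟩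
    show lam _ = 1
    rw [map_mul, hs', map_inv, mul_inv_cancel]
  have hi1 : ∀ u ∈ U, ∀ x ∈ closure S, ρ u x ∈ closure S := by
    intro u' hu' x hx
    have hle : closure S ≤ (closure S).comap (ρ u').toMonoidHom := by
      rw [closure_le]
      rintro _ ⟨u'', hu'', hs'', v, rfl⟩
      show ρ u' (ρ u'' v * v⁻¹) ∈ closure S
      refine subset_closure ⟨u'', hu'', hs'', ρ u' v, ?_⟩
      rw [map_mul, map_inv]
      have := congrArg (fun f : MulAut V => f v) (h.comm u' hu' u'' hu'')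
      simp only [MulAut.mul_apply] at this
      rw [this]
    exact hle hx
  have hi2 : ∀ w ∈ W, ∀ x ∈ closure S, ρ w x ∈ closure S := by
    intro w hw' x hx
    have hle : closure S ≤ (closure S).comap (ρ w).toMonoidHom := by
      rw [closure_le]
      rintro _ ⟨u'', hu'', hs'', v, rfl⟩
      show ρ w (ρ u'' v * v⁻¹) ∈ closure S
      refine subset_closure ⟨w * u'' * w⁻¹, h.norm w hw' u'' hu'', ?_, ρ w v, ?_⟩
      · intro v'
        rw [ρ_mul_apply, ρ_mul_apply, hw w hw', hs'', hw w⁻¹ (inv_mem hw')]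
      · rw [map_mul, map_inv, ρ_mul_apply, ρ_mul_apply, ρ_inv_apply']
    exact hle hx
  rcases h.irr (closure S) hi1 hi2 with e | e
  · ext v
    have : ρ u v * v⁻¹ ∈ closure S := subset_closure ⟨u, hu, hs, v, rfl⟩
    rw [e, Subgroup.mem_bot, mul_inv_eq_one] at this
    exact this
  · exfalso
    apply h1
    ext v
    have : v ∈ lam.ker := hker (by rw [e]; trivial)
    rw [MonoidHom.mem_ker] at this
    rw [this]; rfl

/-- (A3) -/
theorem conj_inv {lam lam' : V →* ℂˣ} (h1 : lam ≠ 1) (hw : ∀ w ∈ W, ∀ v, lam (ρ w v) = lam v)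
    (hw' : ∀ w ∈ W, ∀ v, lam' (ρ w v) = lam' v) {u : Γ} (hu : u ∈ U)
    (hs : ∀ v, lam (ρ u v) = lam' v) : ρ u = 1 := by
  obtain ⟨w, hwW, hw1⟩ := h.exists_w
  apply h.free w hwW hw1 u hu
  have key : ρ (u⁻¹ * (w * u * w⁻¹)) = 1 := by
    apply h.stab_inv h1 hw (mul_mem (inv_mem hu) (h.norm w hwW u hu))
    intro v
    -- `lam (w u w⁻¹ v') = lam' ( v')` and `lam (u v') = lam' v'`
    have h2 : ∀ v, lam (ρ (w * u * w⁻¹) v) = lam' v := by
      intro v
      rw [ρ_mul_apply, ρ_mul_apply, hw w hwW, hs, hw' _ (inv_mem hwW)]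
    have h3 : ρ (u⁻¹ * (w * u * w⁻¹)) v = ρ ((w * u * w⁻¹) * u⁻¹) v := by
      have := h.comm _ (inv_mem hu) _ (h.norm w hwW u hu)
      rw [← map_mul, ← map_mul] at this
      rw [this]
    rw [h3, ρ_mul_apply, h2, ← hs, ρ_inv_apply]
  rw [map_mul, map_inv] at key
  exact (inv_mul_eq_one.1 key).symm

/-- (A4) -/
theorem stab_gal (hgal : Gal9 ρ U) {lam : V →* ℂˣ} (h1 : lam ≠ 1) {u : Γ} (hu : u ∈ U)
    (hs : ∀ v, lam (ρ u v) = lam v) : ρ u = 1 := by
  have := h.finV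
  by_contra hne
  -- `v ↦ [u, v]` is bijective
  let f : V →* V := (ρ u).toMonoidHom * (MonoidHom.id V)⁻¹
  have hf : ∀ v, f v = ρ u v * v⁻¹ := fun v => rfl
  have hinj : Function.Injective f := by
    rw [injective_iff_map_eq_one]
    intro v hv
    rw [hf, mul_inv_eq_one] at hv
    exact h.gal_free hgal hu hne hv
  have hsurj := Finite.injective_iff_surjective.1 hinj
  apply h1
  ext v
  obtain ⟨x, rfl⟩ := hsurj v
  rw [hf, map_mul, hs, map_inv, mul_inv_cancel]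
  rfl

variable {X Y : Subgroup V}

omit h in
theorem fix_of_lam [Finite V] (hp : p.Prime) {X : Subgroup V} (hX : Inv9 ρ U X) (hc : Nat.card X = p)
    {lam : V →* ℂˣ} {x : V} (hx : x ∈ X) (h1 : lam x ≠ 1) {u : Γ} (hu : u ∈ U)
    (hs : ∀ v, lam (ρ u v) = lam v) : ∀ y ∈ X, ρ u y = y := by
  have hx1 : x ≠ 1 := by rintro rfl; exact h1 (map_one _)
  have h2 : ρ u x = x := by
    by_contra hne
    have h3 : ρ u x * x⁻¹ ≠ 1 := fun e => hne (mul_inv_eq_one.1 e)
    obtain ⟨k, hk⟩ := gen_of_card hp hc (mul_mem (hX u hu x hx) (inv_mem hx)) h3 hx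
    apply h1
    rw [hk, map_pow, map_mul, hs, map_inv, mul_inv_cancel, one_pow]
  intro y hy
  obtain ⟨k, rfl⟩ := gen_of_card hp hc hx hx1 hy
  rw [map_pow, h2]

/-- (A5) -/
theorem stab_ng (hN : NG ρ U W p X Y) {lam : V →* ℂˣ} (h1 : lam ≠ 1) :
    ∃ w ∈ W, ∀ u ∈ U, (∀ v, lam (ρ u v) = lam v) → ∀ x ∈ mv ρ w X, ρ u x = x := by
  have := h.finV
  by_contra hcon
  push Not at hcon
  apply h1
  have h2 : lam.ker = ⊤ := by
    apply hN.gen
    intro w hw x hx
    rw [MonoidHom.mem_ker]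
    by_contra hne
    obtain ⟨u, hu, hs, y, hy, hne'⟩ := hcon w hw
    exact hne' (fix_of_lam h.hp (h.inv_mv hN.invX hw) (by rw [mv_card]; exact hN.cardX) hx hne
      hu hs y hy)
  ext v
  have : v ∈ lam.ker := by rw [h2]; trivial
  rw [MonoidHom.mem_ker] at this
  rw [this]; rfl

/-- (A6) -/
theorem stab_ng_Y (hN : NG ρ U W p X Y) {lam : V →* ℂˣ} (h1 : lam ≠ 1)
    (hY : ∀ y ∈ Y, lam y = 1) {u : Γ} (hu : u ∈ U) :
    (∀ v, lam (ρ u v) = lam v) ↔ ∀ x ∈ X, ρ u x = x := by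
  have := h.finV
  constructor
  · intro hs
    obtain ⟨x, hx, hx1⟩ : ∃ x ∈ X, lam x ≠ 1 := by
      by_contra hcon
      push Not at hcon
      apply h1
      ext v
      have : v ∈ X ⊔ Y := by rw [hN.sup]; trivial
      obtain ⟨x, hx, y, hy, rfl⟩ := Subgroup.mem_sup.1 this
      rw [map_mul, hcon x hx, hY y hy, one_mul]; rfl
    exact fix_of_lam h.hp hN.invX hN.cardX hx hx1 hu hs
  · intro h2 v
    have h3 := hY _ ((cent_iff hN hu).1 h2 v)
    rw [map_mul, map_inv, mul_inv_eq_one] at h3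
    exact h3

end Lin

end Act9

end Cfsg.Agent.PF
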