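import Cfsg.Agent.PF.AppC5
import Cfsg.Agent.H21.FHall
import Cfsg.Prelude.Def_OddOrderLocal
import Cfsg.Prelude.Def_Transfer

set_option autoImplicit false

/-! Bender-Glauberman, Appendix C, in the form of the conclusion of row 1544. -/

namespace Cfsg.Agent.PF

open Subgroup

universe u
variable {G : Type u} [Group G] [Finite G]

/-- The configuration of `S1544` is contradictory. -/
theorem appC (hodd : Odd (Nat.card G)) (S T W₁ W₂ U V : Subgroup G)
    (hSP : IsTypePWith S W₁ U W₂) (hTP : IsTypePWith T W₂ V W₁)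
    (hqp : Nat.card W₁ < Nat.card W₂)
    (hq : (Nat.card W₁).Prime) (hp : (Nat.card W₂).Prime)
    (hPe : IsElementaryAbelian (Nat.card W₂) (fittingHallOf S))
    (hUc : Nat.card U * (Nat.card W₂ - 1) = Nat.card W₂ ^ Nat.card W₁ - 1)
    (hfree : ∀ u ∈ U, u ≠ 1 → ∀ x ∈ fittingHallOf S, u * x = x * u → x = 1)
    (hcop : Nat.Coprime ((Nat.card W₂ ^ Nat.card W₁ - 1) / (Nat.card W₂ - 1)) (Nat.card W₂ - 1))
    (hQp : (Nat.card (fittingHallOf T)).Coprime (Nat.card W₂))
    (hQe : IsElementaryAbelian (Nat.card W₁) (fittingHallOf T))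
    (hW₂Q : W₂ ≤ Subgroup.normalizer (fittingHallOf T : Set G))
    (hrest : ∃ y ∈ fittingHallOf T,
      W₂.map (MulAut.conj y).toMonoidHom ≤ Subgroup.normalizer (U : Set G) ∧
      ∃ (F : Type) (_ : Field F) (_ : Fintype F) (f : G → F) (ψ : G → F),
        Fintype.card F = Nat.card W₂ ^ Nat.card W₁ ∧
        Set.BijOn f (fittingHallOf S : Set G) Set.univ ∧
        (∀ x ∈ fittingHallOf S, ∀ x' ∈ fittingHallOf S, f (x * x') = f x + f x') ∧
        (∀ u ∈ U, ψ u ≠ 0 ∧ ∀ x ∈ fittingHallOf S, f (u * x * u⁻¹) = ψ u * f x) ∧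
        (∀ u ∈ U, ∀ u' ∈ U, ψ (u * u') = ψ u * ψ u') ∧ Set.InjOn ψ (U : Set G) ∧
        (∀ x ∈ fittingHallOf S, x ∈ W₂ ↔ f x ^ Nat.card W₂ = f x)) : False := by
  classical
  obtain ⟨y, hy, hyU, F, iF, iFt, f, ψ, hF, hbij, hadd, hconj, hmul, hinj, hW₂⟩ := hrest
  set p := Nat.card W₂ with hpdef
  set q := Nat.card W₁ with hqdef
  haveI : Fact p.Prime := ⟨hp⟩
  have hodd₁ : Odd q := Odd.of_dvd_nat hodd (Subgroup.card_subgroup_dvd_card W₁)
  have hodd₂ : Odd p := Odd.of_dvd_nat hodd (Subgroup.card_subgroup_dvd_card W₂)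
  have hq2 : q ≠ 2 := by rintro h; rw [h] at hodd₁; revert hodd₁; decide
  have hq3 : 3 ≤ q := by have := hq.two_le; omega
  have hp5 : 5 ≤ p := by
    have : p ≠ 4 := by rintro h; rw [h] at hodd₂; revert hodd₂; decide
    omega
  -- characteristic p
  haveI hchar : CharP F p := by
    obtain ⟨r, hr⟩ := CharP.exists F
    obtain ⟨n, hrp, hn⟩ := FiniteField.card F r
    have h1 : p ∣ r ^ (n : ℕ) := by
      rw [← hn, hF]; exact dvd_pow_self p hq.ne_zero
    have h2 : p = r := (Nat.prime_dvd_prime_iff_eq hp hrp).1 (hp.dvd_of_dvd_pow h1)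
    rw [h2]; exact hr
  -- inverse of f
  have hsurj : ∀ a : F, ∃ x ∈ fittingHallOf S, f x = a := fun a => by
    obtain ⟨x, hx, e⟩ := hbij.2.2 (Set.mem_univ a)
    exact ⟨x, hx, e⟩
  choose Tm hTmem hTf using hsurj
  have huniq : ∀ x ∈ fittingHallOf S, Tm (f x) = x := fun x hx =>
    hbij.2.1 (hTmem _) hx (hTf _)
  have f1 : f 1 = 0 := by
    have := hadd 1 (one_mem _) 1 (one_mem _)
    rw [mul_one] at this
    exact (left_eq_add.1 this)
  have hTadd : ∀ a b, Tm (a + b) = Tm a * Tm b := by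
    intro a b
    rw [← hTf a, ← hTf b, ← hadd _ (hTmem _) _ (hTmem _), huniq _ (mul_mem (hTmem _) (hTmem _)),
      hTf, hTf]
  have hT0 : Tm 0 = 1 := by rw [← f1, huniq _ (one_mem _)]
  -- m = |U|
  have hp1 : 0 < p - 1 := by omega
  have hcardU : Nat.card U = ∑ i ∈ Finset.range q, p ^ i := by
    have h1 := Nat.geomSum_eq hp.two_le q
    rw [h1, ← hUc, Nat.mul_div_cancel _ hp1]
  have hcop' : Nat.Coprime (Nat.card U) (p - 1) := by
    rw [← hUc, Nat.mul_div_cancel _ hp1] at hcop
    exact hcop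
  have hPU : ∀ x ∈ fittingHallOf S, x ∈ U → x = 1 := by
    intro x hx hxU
    by_contra hne
    exact hne (hfree x hxU hne x hx rfl)
  have hψ1 : ψ 1 = 1 := by
    have := hmul 1 (one_mem _) 1 (one_mem _)
    rw [mul_one] at this
    exact (mul_right_cancel₀ (hconj 1 (one_mem _)).1 (by rw [one_mul]; exact this)).symm
  have hψpow : ∀ u ∈ U, ∀ n : ℕ, ψ (u ^ n) = ψ u ^ n := by
    intro u hu n
    induction n with
    | zero => simp [hψ1]
    | succ n ih => rw [pow_succ, hmul _ (pow_mem hu _) _ hu, ih, pow_succ]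
  have hψcard : ∀ u ∈ U, ψ u ^ Nat.card U = 1 := by
    intro u hu
    have h1 : (⟨u, hu⟩ : U) ^ Nat.card U = 1 := pow_card_eq_one'
    have h2 : u ^ Nat.card U = 1 := congrArg Subtype.val h1
    rw [← hψpow u hu, h2, hψ1]
  -- the image of U
  let φ : U →* Fˣ :=
    { toFun := fun u => Units.mk0 (ψ u) (hconj _ u.2).1
      map_one' := by ext; simpa using hψ1
      map_mul' := fun a b => by ext; simpa using hmul _ a.2 _ b.2 }
  have hφinj : Function.Injective φ := by
    intro a b hab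
    have : ψ a = ψ b := congrArg Units.val hab
    exact Subtype.ext (hinj a.2 b.2 this)
  have hφcard : Nat.card φ.range = ∑ i ∈ Finset.range q, p ^ i := by
    rw [← hcardU]
    exact (Nat.card_congr (MonoidHom.ofInjective hφinj).toEquiv).symm
  have hiff : ∀ x : F, x ^ Nat.card U = 1 → ∃ u ∈ U, ψ u = x := by
    intro x hx
    rw [hcardU] at hx
    obtain ⟨_, ⟨u, rfl⟩, e⟩ := ((AppC.exists_pair (p := p) (by omega) hq hq2 hF φ.range
      hφcard).1 x).1 hx
    exact ⟨u, u.2, e⟩
  have hprime : ∀ x : F, x ^ p = x → ∃ n : ℤ, x = n := by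
    intro x hx
    letI : Algebra (ZMod p) F := ZMod.algebra F p
    have h1 := (Subfield.mem_bot_iff_pow_eq_self (F := F) (p := p) (x := x)).2 hx
    have h2 : (⊥ : Subfield F) ≤ (algebraMap (ZMod p) F).fieldRange := bot_le
    obtain ⟨c, hc⟩ := h2 h1
    refine ⟨c.val, ?_⟩
    rw [← hc]
    have h3 : algebraMap (ZMod p) F ((c.val : ℕ) : ZMod p) = ((c.val : ℕ) : F) := map_natCast _ _
    rw [ZMod.natCast_zmod_val c] at h3
    rw [h3]
    push_cast; rfl
  have hH : AppC.Cfg p (fittingHallOf S) U (fittingHallOf T) W₁ Tm ψ y := by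
    constructor
    · exact hTmem
    · intro x hx; exact ⟨f x, huniq x hx⟩
    · exact hTadd
    · intro a ha
      rw [← hTf a, ha, f1]
    · intro u hu; exact (hconj u hu).1
    · exact hmul
    · intro u hu e
      exact hinj hu (one_mem _) (by rw [e, hψ1])
    · intro u hu a
      have hmem : u * Tm a * u⁻¹ ∈ fittingHallOf S := by
        have h1 : u ∈ Subgroup.normalizer (fittingHallOf S : Set G) :=
          H21.le_normalizer_fhOf S (Subgroup.commutator_le_self S (hSP.U_compl.2.1 hu))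
        exact (Subgroup.mem_normalizer_iff.1 h1 _).1 (hTmem a)
      rw [← huniq _ hmem, (hconj u hu).2 _ (hTmem a), hTf]
    · -- split
      intro x hx
      have hx1 : x ^ (p ^ q - 1) = 1 := by
        rw [← hF]; exact FiniteField.pow_card_sub_one_eq_one x hx
      have hbez : (1 : ℤ) = Nat.card U * Nat.gcdA (Nat.card U) (p - 1) +
          ((p - 1 : ℕ) : ℤ) * Nat.gcdB (Nat.card U) (p - 1) := by
        have := Nat.gcd_eq_gcd_ab (Nat.card U) (p - 1)
        rwa [hcop'.gcd_eq_one] at this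
      set A := Nat.gcdA (Nat.card U) (p - 1)
      set B := Nat.gcdB (Nat.card U) (p - 1)
      have hxe : x = (x ^ Nat.card U) ^ A * (x ^ (p - 1)) ^ B := by
        conv_lhs => rw [← zpow_one x, hbez, zpow_add₀ hx, zpow_mul, zpow_mul, zpow_natCast,
          zpow_natCast]
      obtain ⟨n, hn⟩ := hprime ((x ^ Nat.card U) ^ A) (by
        have h1 : ((x ^ Nat.card U) ^ A) ^ (p - 1) = 1 := by
          rw [← zpow_natCast, ← zpow_mul, mul_comm, zpow_mul, zpow_natCast, ← pow_mul, hUc, hx1,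
            one_zpow]
        have h2 : p = (p - 1) + 1 := by omega
        conv_lhs => rw [h2, pow_succ, h1, one_mul])
      obtain ⟨u, hu, e⟩ := hiff ((x ^ (p - 1)) ^ B) (by
        rw [← zpow_natCast, ← zpow_mul, mul_comm, zpow_mul, zpow_natCast, ← pow_mul,
          mul_comm (p - 1), hUc, hx1, one_zpow])
      exact ⟨n, u, hu, by rw [e, ← hn, ← hxe]⟩
    · -- U_F
      intro u hu e
      have h1 : ψ u ^ (p - 1) = 1 := by
        have h2 : p = (p - 1) + 1 := by omega
        rw [h2, pow_succ] at e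
        exact mul_right_cancel₀ (hconj u hu).1 (by rw [one_mul]; exact e)
      have h2 := hψcard u hu
      have h3 : orderOf (ψ u) ∣ 1 := by
        rw [← hcop'.gcd_eq_one]
        exact Nat.dvd_gcd (orderOf_dvd_of_pow_eq_one h2) (orderOf_dvd_of_pow_eq_one h1)
      exact orderOf_eq_one_iff.1 (Nat.dvd_one.1 h3)
    · -- U_ne
      have h1 : 1 < Nat.card U := by
        rw [hcardU]
        obtain ⟨r, hr⟩ : ∃ r, q = r + 2 := ⟨q - 2, by omega⟩
        rw [hr, Finset.sum_range_succ, Finset.sum_range_succ']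
        simp only [pow_zero]
        have : 0 < p ^ (r + 1) := pow_pos hp.pos _
        omega
      haveI : Finite U := inferInstance
      haveI := (Finite.one_lt_card_iff_nontrivial (α := U)).1 h1
      obtain ⟨u, hu⟩ := exists_ne (1 : U)
      exact ⟨u, u.2, fun e => hu (Subtype.ext e)⟩
    · exact hPU
    · -- U_order
      intro u hu e
      have h1 : orderOf u ∣ p := orderOf_dvd_of_pow_eq_one e
      have h2 : orderOf u ∣ Nat.card U := by
        rw [← Subgroup.orderOf_mk u hu]; exact orderOf_dvd_natCard _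
      have h3 : Nat.Coprime (Nat.card U) p := by
        rw [hcardU]
        obtain ⟨r, hr⟩ : ∃ r, q = r + 1 := ⟨q - 1, by omega⟩
        rw [hr, Finset.sum_range_succ', pow_zero]
        have : ∑ k ∈ Finset.range r, p ^ (k + 1) = p * ∑ k ∈ Finset.range r, p ^ k := by
          rw [Finset.mul_sum]
          exact Finset.sum_congr rfl fun k _ => by ring
        rw [this]
        simp
      have h4 : orderOf u ∣ 1 := by
        rw [← h3.gcd_eq_one]; exact Nat.dvd_gcd h2 h1
      exact orderOf_eq_one_iff.1 (Nat.dvd_one.1 h4)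
    · intro a ha b hb
      have := hQe.1
      exact congrArg Subtype.val (this.is_comm.comm (⟨a, ha⟩ : fittingHallOf T) ⟨b, hb⟩)
    · intro a ha e
      have h1 : orderOf a ∣ p := orderOf_dvd_of_pow_eq_one e
      have h2 : orderOf a ∣ Nat.card (fittingHallOf T) := by
        rw [← Subgroup.orderOf_mk a ha]; exact orderOf_dvd_natCard _
      have h4 : orderOf a ∣ 1 := by
        rw [← hQp.gcd_eq_one]; exact Nat.dvd_gcd h2 h1
      exact orderOf_eq_one_iff.1 (Nat.dvd_one.1 h4)
    · exact hy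
    · apply hW₂Q
      rw [hW₂ _ (hTmem 1), hTf, one_pow]
    · apply hyU
      refine ⟨Tm 1, ?_, rfl⟩
      rw [SetLike.mem_coe, hW₂ _ (hTmem 1), hTf, one_pow]
    · intro w hw
      have h1 : Tm 1 ∈ W₂ := by rw [hW₂ _ (hTmem 1), hTf, one_pow]
      exact hSP.selfNormalizing.2.2.2.1 w hw _ h1
    · intro w hw
      have h1 : w ∈ fittingHallOf T := (hTP.W₂_le.trans inf_le_left) hw
      have := hQe.1
      exact congrArg Subtype.val (this.is_comm.comm (⟨w, h1⟩ : fittingHallOf T) ⟨y, hy⟩)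
    · exact (hSP.W₁_compl.2.1).trans (H21.le_normalizer_fhOf S)
    · -- CPW
      intro x hx hxW
      obtain ⟨w, hw⟩ : ∃ w : W₁, w ≠ 1 := by
        haveI := (Finite.one_lt_card_iff_nontrivial (α := W₁)).1 (by omega)
        exact exists_ne (1 : W₁)
      have h1 : x ∈ W₂ := by
        rw [← hSP.W₂_centralizer w w.2 (fun e => hw (Subtype.ext e))]
        refine ⟨hSP.U_compl.1 hx, ?_⟩
        refine Subgroup.mem_centralizer_iff.2 ?_
        rintro _ rfl
        exact hxW w w.2
      obtain ⟨n, hn⟩ := hprime (f x) ((hW₂ x hx).1 h1)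
      exact ⟨n, by rw [← hn, huniq x hx]⟩
  have := hH.final hp5 hq hq2 hF hcardU
  omega

end Cfsg.Agent.PF
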