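import Mathlib.NumberTheory.LegendreSymbol.Complex
import Mathlib.Analysis.RCLike.Basic
import Mathlib.FieldTheory.Finite.GaloisField
import Mathlib.Algebra.Polynomial.SpecificDegree
import Mathlib.Tactic

set_option autoImplicit false

/-! Bender-Glauberman, Appendix C: the finite field part. -/

namespace Cfsg.Agent.PF.AppC

open Finset

section Fourier

variable {F : Type} [Field F] [Fintype F] [DecidableEq F]

noncomputable def hat (ψ : AddChar F ℂ) (S : Finset F) (b : F) : ℂ := ∑ x ∈ S, ψ (x * b)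

theorem sum_ortho {ψ : AddChar F ℂ} (hψ : ψ.IsPrimitive) (c : F) :
    ∑ b : F, ψ (c * b) = if c = 0 then (Fintype.card F : ℂ) else 0 := by
  have := AddChar.sum_mulShift (R := F) (R' := ℂ) c hψ
  simpa [mul_comm] using this

theorem parseval {ψ : AddChar F ℂ} (hψ : ψ.IsPrimitive) (S : Finset F) :
    ∑ b : F, ‖hat ψ S b‖ ^ 2 = (Fintype.card F : ℝ) * S.card := by
  have key : ∀ b : F, ((‖hat ψ S b‖ ^ 2 : ℝ) : ℂ) = ∑ x ∈ S, ∑ y ∈ S, ψ ((x - y) * b) := by
    intro b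
    have h1 : ((‖hat ψ S b‖ ^ 2 : ℝ) : ℂ) = hat ψ S b * (starRingEnd ℂ) (hat ψ S b) := by
      rw [Complex.mul_conj, Complex.normSq_eq_norm_sq]
    rw [h1, hat, map_sum, Finset.sum_mul_sum]
    refine Finset.sum_congr rfl fun x _ => Finset.sum_congr rfl fun y _ => ?_
    rw [← AddChar.map_neg_eq_conj, ← AddChar.map_add_eq_mul]
    congr 1; ring
  have h2 : ((∑ b : F, ‖hat ψ S b‖ ^ 2 : ℝ) : ℂ) = ((Fintype.card F : ℝ) * S.card : ℝ) := by
    rw [Complex.ofReal_sum]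
    rw [Finset.sum_congr rfl fun b _ => key b, Finset.sum_comm]
    have : ∀ x ∈ S, ∑ b : F, ∑ y ∈ S, ψ ((x - y) * b) = (Fintype.card F : ℂ) := by
      intro x hx
      rw [Finset.sum_comm]
      rw [Finset.sum_congr rfl fun y _ => sum_ortho hψ (x - y)]
      rw [Finset.sum_eq_single x]
      · simp
      · intro y _ hy
        rw [if_neg]
        intro h; exact hy (sub_eq_zero.1 h).symm
      · intro h; exact absurd hx h
    rw [Finset.sum_congr rfl this]
    simp [mul_comm]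
  exact_mod_cast h2

structure IsGrp (S : Finset F) : Prop where
  one : (1 : F) ∈ S
  mul : ∀ a ∈ S, ∀ b ∈ S, a * b ∈ S
  inv : ∀ a ∈ S, a⁻¹ ∈ S
  zero : (0 : F) ∉ S

omit [Fintype F] in
theorem IsGrp.sum_shift {S : Finset F} (hS : IsGrp S) {s : F} (hs : s ∈ S) (f : F → ℂ) :
    ∑ x ∈ S, f (s * x) = ∑ x ∈ S, f x := by
  have hs0 : s ≠ 0 := fun h => hS.zero (h ▸ hs)
  refine Finset.sum_nbij' (fun x => s * x) (fun x => s⁻¹ * x) ?_ ?_ ?_ ?_ ?_
  · exact fun x hx => hS.mul _ hs _ hx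
  · exact fun x hx => hS.mul _ (hS.inv _ hs) _ hx
  · intro x _; field_simp
  · intro x _; field_simp
  · intro x _; rfl

theorem IsGrp.hat_mul {S : Finset F} (hS : IsGrp S) (ψ : AddChar F ℂ) {s : F} (hs : s ∈ S) (b : F) :
    hat ψ S (s * b) = hat ψ S b := by
  have := hS.sum_shift hs (fun x => ψ (x * b))
  rw [hat, hat, ← this]
  refine Finset.sum_congr rfl fun x _ => ?_
  congr 1; ring

theorem IsGrp.hat_le {S : Finset F} (hS : IsGrp S) {ψ : AddChar F ℂ} (hψ : ψ.IsPrimitive) {c : F}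
    (hc : c ≠ 0) : ‖hat ψ S c‖ ^ 2 ≤ Fintype.card F := by
  have h1 : (S.card : ℝ) * ‖hat ψ S c‖ ^ 2 = ∑ b ∈ S.image (fun s => s * c), ‖hat ψ S b‖ ^ 2 := by
    rw [Finset.sum_image]
    · rw [Finset.sum_congr rfl fun s hs => by rw [hS.hat_mul ψ hs]]
      simp
    · intro x _ y _ h
      exact mul_right_cancel₀ hc h
  have h2 : ∑ b ∈ S.image (fun s => s * c), ‖hat ψ S b‖ ^ 2 ≤ ∑ b : F, ‖hat ψ S b‖ ^ 2 :=
    Finset.sum_le_univ_sum_of_nonneg fun b => by positivity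
  rw [parseval hψ, ← h1] at h2
  have h3 : (0 : ℝ) < S.card := by
    have : 0 < S.card := Finset.card_pos.2 ⟨1, hS.one⟩
    exact_mod_cast this
  nlinarith

theorem IsGrp.count {S : Finset F} {ψ : AddChar F ℂ} (hψ : ψ.IsPrimitive) :
    ∑ b : F, hat ψ S b ^ 2 * ψ (-2 * b) =
      (Fintype.card F : ℂ) * (S.filter fun x => 2 - x ∈ S).card := by
  have key : ∀ b : F, hat ψ S b ^ 2 * ψ (-2 * b) =
      ∑ x ∈ S, ∑ y ∈ S, ψ ((x + y - 2) * b) := by
    intro b
    rw [pow_two, hat, Finset.sum_mul_sum, Finset.sum_mul]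
    refine Finset.sum_congr rfl fun x _ => ?_
    rw [Finset.sum_mul]
    refine Finset.sum_congr rfl fun y _ => ?_
    rw [← AddChar.map_add_eq_mul, ← AddChar.map_add_eq_mul]
    congr 1; ring
  rw [Finset.sum_congr rfl fun b _ => key b, Finset.sum_comm]
  have : ∀ x ∈ S, ∑ b : F, ∑ y ∈ S, ψ ((x + y - 2) * b) =
      if 2 - x ∈ S then (Fintype.card F : ℂ) else 0 := by
    intro x _
    rw [Finset.sum_comm]
    rw [Finset.sum_congr rfl fun y _ => sum_ortho hψ (x + y - 2)]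
    split_ifs with h
    · rw [Finset.sum_eq_single (2 - x)]
      · simp
      · intro y _ hy
        rw [if_neg]
        intro h; apply hy; linear_combination h
      · intro h'; exact absurd h h'
    · apply Finset.sum_eq_zero
      intro y hy
      rw [if_neg]
      intro h'
      apply h
      have : 2 - x = y := by linear_combination -h'
      rwa [this]
  rw [Finset.sum_congr rfl this, ← Finset.sum_filter]
  simp [mul_comm]

theorem IsGrp.count' {S : Finset F} (hS : IsGrp S) {ψ : AddChar F ℂ} (hψ : ψ.IsPrimitive) :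
    (S.card : ℂ) * ((Fintype.card F : ℂ) * (S.filter fun x => 2 - x ∈ S).card) =
      ∑ b : F, hat ψ S b ^ 2 * hat ψ S (-2 * b) := by
  rw [← IsGrp.count hψ]
  have h1 : ∀ s ∈ S, ∑ b : F, hat ψ S b ^ 2 * ψ (-2 * b) =
      ∑ b : F, hat ψ S b ^ 2 * ψ (s * (-2 * b)) := by
    intro s hs
    have hs0 : s ≠ 0 := fun h => hS.zero (h ▸ hs)
    symm
    refine Fintype.sum_equiv (Equiv.mulLeft₀ s hs0) _ _ fun b => ?_
    change hat ψ S b ^ 2 * ψ (s * (-2 * b)) = hat ψ S (s * b) ^ 2 * ψ (-2 * (s * b))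
    rw [hS.hat_mul ψ hs]
    congr 2; ring
  calc (S.card : ℂ) * ∑ b : F, hat ψ S b ^ 2 * ψ (-2 * b)
      = ∑ s ∈ S, ∑ b : F, hat ψ S b ^ 2 * ψ (-2 * b) := by simp
    _ = ∑ s ∈ S, ∑ b : F, hat ψ S b ^ 2 * ψ (s * (-2 * b)) := Finset.sum_congr rfl h1
    _ = _ := by
      rw [Finset.sum_comm]
      refine Finset.sum_congr rfl fun b _ => ?_
      rw [← Finset.mul_sum, hat]
      rfl

theorem IsGrp.bound {S : Finset F} (hS : IsGrp S) (h2 : (2 : F) ≠ 0)
    (hr : (S.filter fun x => 2 - x ∈ S).card ≤ 1) (hle : (Fintype.card F : ℝ) ≤ (S.card : ℝ) ^ 2) :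
    ((S.card : ℝ) ^ 2 - Fintype.card F) ^ 2 ≤ (Fintype.card F : ℝ) ^ 3 := by
  obtain ⟨ψ, hψ⟩ : ∃ ψ : AddChar F ℂ, ψ.IsPrimitive :=
    ⟨_, AddChar.FiniteField.primitiveChar_to_Complex_isPrimitive F⟩
  have hm : (0 : ℝ) < S.card := by
    have : 0 < S.card := Finset.card_pos.2 ⟨1, hS.one⟩
    exact_mod_cast this
  set N : ℝ := (Fintype.card F : ℝ) with hN
  have hN0 : 0 < N := by
    have : 0 < Fintype.card F := Fintype.card_pos
    rw [hN]
    exact_mod_cast this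
  set m : ℝ := (S.card : ℝ) with hmdef
  set r : ℕ := (S.filter fun x => 2 - x ∈ S).card with hrdef
  have h0 : hat ψ S 0 = m := by simp [hat, hmdef]
  have h1 := hS.count' hψ
  rw [← Finset.add_sum_erase _ _ (Finset.mem_univ (0 : F)), mul_zero, h0] at h1
  have h3 : ‖∑ b ∈ univ.erase (0 : F), hat ψ S b ^ 2 * hat ψ S (-2 * b)‖ ≤
      Real.sqrt N * (N * m) := by
    calc _ ≤ ∑ b ∈ univ.erase (0 : F), ‖hat ψ S b ^ 2 * hat ψ S (-2 * b)‖ := norm_sum_le _ _
      _ ≤ ∑ b ∈ univ.erase (0 : F), Real.sqrt N * ‖hat ψ S b‖ ^ 2 := by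
        refine Finset.sum_le_sum fun b hb => ?_
        have hb0 : b ≠ 0 := (Finset.mem_erase.1 hb).1
        rw [norm_mul, norm_pow, mul_comm]
        refine mul_le_mul_of_nonneg_right ?_ (by positivity)
        apply Real.le_sqrt_of_sq_le
        exact hS.hat_le hψ (mul_ne_zero (neg_ne_zero.2 h2) hb0)
      _ = Real.sqrt N * ∑ b ∈ univ.erase (0 : F), ‖hat ψ S b‖ ^ 2 := by rw [Finset.mul_sum]
      _ ≤ Real.sqrt N * ∑ b : F, ‖hat ψ S b‖ ^ 2 := by
        refine mul_le_mul_of_nonneg_left ?_ (Real.sqrt_nonneg _)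
        exact Finset.sum_le_sum_of_subset_of_nonneg (Finset.subset_univ _)
          fun _ _ _ => by positivity
      _ = _ := by rw [parseval hψ]
  have h4 : ∑ b ∈ univ.erase (0 : F), hat ψ S b ^ 2 * hat ψ S (-2 * b) =
      ((m * (N * r) - m ^ 2 * m : ℝ) : ℂ) := by
    have : (m : ℂ) * ((N : ℂ) * (r : ℂ)) = (m : ℂ) ^ 2 * m +
        ∑ b ∈ univ.erase (0 : F), hat ψ S b ^ 2 * hat ψ S (-2 * b) := by
      have e1 : (m : ℂ) = (S.card : ℂ) := by rw [hmdef]; simp
      have e2 : (N : ℂ) = (Fintype.card F : ℂ) := by rw [hN]; simp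
      rw [e1, e2] at *
      exact h1
    push_cast
    linear_combination -this
  rw [h4, Complex.norm_real, Real.norm_eq_abs] at h3
  have h5 : m ^ 2 * m - m * (N * r) ≤ Real.sqrt N * (N * m) :=
    (le_abs_self _).trans (by rw [← abs_neg] at h3; convert h3 using 1; congr 1; ring)
  have h6 : m ^ 2 - N * r ≤ Real.sqrt N * N := by
    have : m * (m ^ 2 - N * r) ≤ m * (Real.sqrt N * N) := by nlinarith
    exact le_of_mul_le_mul_left this hm
  have h7 : (r : ℝ) ≤ 1 := by exact_mod_cast hr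
  have h8 : m ^ 2 - N ≤ Real.sqrt N * N := by nlinarith
  have h9 : (m ^ 2 - N) ^ 2 ≤ (Real.sqrt N * N) ^ 2 := by
    apply pow_le_pow_left₀ (by linarith) h8
  rw [mul_pow, Real.sq_sqrt hN0.le] at h9
  linarith [h9]

end Fourier

end Cfsg.Agent.PF.AppC
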