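import Cfsg.Agent.PF.AppC1

set_option autoImplicit false

/-! Bender-Glauberman, Appendix C: the finite field part (continued). -/

namespace Cfsg.Agent.PF.AppC

open Finset Polynomial

/-- If `(z + k)^m = z^m` for all `k` and `m = 1 + p + ... + p^(q-1)` then `p ≤ q`. -/
theorem le_of_norm_const {F : Type} [Field F] {p q : ℕ} [hp : Fact p.Prime] [CharP F p]
    (hq : 0 < q) (z : F) (h : ∀ k : ℕ, (z + k) ^ (∑ i ∈ range q, p ^ i) = z ^ (∑ i ∈ range q, p ^ i)) :
    p ≤ q := by
  classical
  set P : F[X] := (∏ i ∈ range q, (X + C (z ^ p ^ i))) - C (z ^ (∑ i ∈ range q, p ^ i)) with hP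
  have hmon : (∏ i ∈ range q, (X + C (z ^ p ^ i))).Monic :=
    monic_prod_of_monic _ _ fun i _ => monic_X_add_C _
  have hdeg : (∏ i ∈ range q, (X + C (z ^ p ^ i))).natDegree = q := by
    rw [natDegree_prod_of_monic _ _ fun i _ => monic_X_add_C _]
    rw [Finset.sum_congr rfl fun i _ => natDegree_X_add_C (z ^ p ^ i)]
    simp
  have hdegP : P.natDegree = q := by
    rw [hP, natDegree_sub_C, hdeg]
  have hP0 : P ≠ 0 := by
    intro h0
    rw [h0] at hdegP
    simp at hdegP
    omega
  have hroot : ∀ k : ℕ, P.eval (k : F) = 0 := by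
    intro k
    have h1 := h k
    rw [← Finset.prod_pow_eq_pow_sum] at h1
    rw [hP, eval_sub, eval_C, eval_prod, ← h1, sub_eq_zero]
    refine Finset.prod_congr rfl fun i _ => ?_
    rw [eval_add, eval_X, eval_C, add_pow_char_pow]
    have : (k : F) ^ p ^ i = k := by
      have h3 := map_natCast (iterateFrobenius F p i) k
      rwa [iterateFrobenius_def] at h3
    rw [this, add_comm]
  have hZ : ((range p).image (fun k : ℕ => (k : F))).val ⊆ P.roots := by
    intro x hx
    rw [Finset.mem_val, Finset.mem_image] at hx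
    obtain ⟨k, _, rfl⟩ := hx
    rw [mem_roots hP0]
    exact hroot k
  have := card_le_degree_of_subset_roots hZ
  rw [hdegP, Finset.card_image_of_injOn, card_range] at this
  · exact this
  · intro a ha b hb hab
    simp only [coe_range, Set.mem_Iio] at ha hb
    have := (CharP.natCast_eq_natCast F p (a := a) (b := b)).1 hab
    exact Nat.ModEq.eq_of_lt_of_lt this ha hb

theorem exists_cubic (p : ℕ) [hp : Fact p.Prime] (hp2 : p ≠ 2) :
    ∃ a : ZMod p, ∀ x : ZMod p, x ^ 3 - a * x ^ 2 + (2 * a - 3) * x - 1 ≠ 0 := by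
  by_contra hcon
  push Not at hcon
  choose g hg using hcon
  have hginj : Function.Injective g := by
    intro a b hab
    have h1 := hg a
    have h2 := hg b
    rw [← hab] at h2
    have h3 : (a - b) * (g a * (g a - 2)) = 0 := by linear_combination h2 - h1
    have h4 : g a ≠ 0 := by
      intro h0; rw [h0] at h1; simp at h1
    have h5 : g a - 2 ≠ 0 := by
      intro h0
      have : g a = 2 := by linear_combination h0
      rw [this] at h1
      ring_nf at h1
      simp at h1
    rcases mul_eq_zero.1 h3 with h | h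
    · exact sub_eq_zero.1 h
    · rcases mul_eq_zero.1 h with h | h
      · exact absurd h h4
      · exact absurd h h5
  obtain ⟨a, ha⟩ := (Finite.injective_iff_surjective.1 hginj) 0
  have := hg a
  rw [ha] at this
  simp at this

theorem exists_root {F : Type} [Field F] [Fintype F] {p : ℕ} [hp : Fact p.Prime]
    [Algebra (ZMod p) F] (hF : Fintype.card F = p ^ 3) (f : (ZMod p)[X]) (hf : Irreducible f)
    (hd : f.natDegree = 3) : ∃ x : F, aeval x f = 0 := by
  haveI : Fact (Irreducible f) := ⟨hf⟩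
  have hfin : Module.Finite (ZMod p) (AdjoinRoot f) := (AdjoinRoot.powerBasis hf.ne_zero).finite
  haveI : Finite (AdjoinRoot f) := Module.finite_of_finite (ZMod p)
  letI : Fintype (AdjoinRoot f) := Fintype.ofFinite _
  have hcard : Fintype.card (AdjoinRoot f) = Fintype.card F := by
    rw [Module.card_eq_pow_finrank (K := ZMod p), (AdjoinRoot.powerBasis hf.ne_zero).finrank,
      AdjoinRoot.powerBasis_dim, hd, ZMod.card, hF]
  let e := FiniteField.algEquivOfCardEq p hcard
  refine ⟨e (AdjoinRoot.root f), ?_⟩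
  have h := aeval_algHom_apply (e : AdjoinRoot f →ₐ[ZMod p] F) (AdjoinRoot.root f) f
  rw [AdjoinRoot.aeval_eq, AdjoinRoot.mk_self, map_zero] at h
  exact h

theorem exists_three {F : Type} [Field F] [Fintype F] {p : ℕ} [hp : Fact p.Prime] [CharP F p]
    (hp2 : p ≠ 2) (hF : Fintype.card F = p ^ 3) :
    ∃ x : F, x ≠ 1 ∧ x ^ (1 + p + p ^ 2) = 1 ∧ (2 - x) ^ (1 + p + p ^ 2) = 1 := by
  letI : Algebra (ZMod p) F := ZMod.algebra F p
  obtain ⟨a, ha⟩ := exists_cubic p hp2
  set f : (ZMod p)[X] := X ^ 3 - C a * X ^ 2 + C (2 * a - 3) * X - C 1 with hfdef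
  have hd : f.natDegree = 3 := by
    rw [hfdef]; compute_degree!
  have hirr : Irreducible f := by
    apply irreducible_of_degree_le_three_of_not_isRoot
    · rw [hd]; decide
    · intro x hx
      apply ha x
      have : f.eval x = 0 := hx
      rw [hfdef] at this
      simpa using this
  obtain ⟨x, hx⟩ := exists_root hF f hirr hd
  set α : F := algebraMap (ZMod p) F a with hα
  have hx' : x ^ 3 - α * x ^ 2 + (2 * α - 3) * x - 1 = 0 := by
    rw [hfdef] at hx
    have h2 : algebraMap (ZMod p) F 2 = 2 := map_ofNat _ 2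
    have h3 : algebraMap (ZMod p) F 3 = 3 := map_ofNat _ 3
    simpa [hα, h2, h3] using hx
  have hαp : α ^ p = α := by
    rw [hα, ← map_pow, ZMod.pow_card]
  have hfr : ∀ w : F, w ^ 3 - α * w ^ 2 + (2 * α - 3) * w - 1 = 0 →
      (w ^ p) ^ 3 - α * (w ^ p) ^ 2 + (2 * α - 3) * (w ^ p) - 1 = 0 := by
    intro w hw
    have := congrArg (frobenius F p) hw
    simp only [map_sub, map_add, map_mul, map_pow, map_one, map_zero, map_ofNat] at this
    simp only [frobenius_def, hαp] at this
    exact this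
  have hroot : ∀ c : ZMod p, algebraMap (ZMod p) F c ≠ x := by
    intro c hc
    apply ha c
    rw [← hc, hα] at hx'
    have h2 : algebraMap (ZMod p) F (c ^ 3 - a * c ^ 2 + (2 * a - 3) * c - 1) = 0 := by
      have h2 : algebraMap (ZMod p) F 2 = 2 := map_ofNat _ 2
      have h3 : algebraMap (ZMod p) F 3 = 3 := map_ofNat _ 3
      simpa [h2, h3] using hx'
    exact (map_eq_zero _).1 h2
  have hxp : x ^ p ≠ x := by
    intro h
    have h1 := (Subfield.mem_bot_iff_pow_eq_self (F := F) (p := p) (x := x)).2 h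
    have h2 : (⊥ : Subfield F) ≤ (algebraMap (ZMod p) F).fieldRange := bot_le
    obtain ⟨c, hc⟩ := h2 h1
    exact hroot c hc
  have hinj : Function.Injective (fun w : F => w ^ p) := frobenius_inj F p
  have hx3 : ((x ^ p) ^ p) ^ p = x := by
    rw [← pow_mul, ← pow_mul, show p * (p * p) = p ^ 3 by ring, ← hF, FiniteField.pow_card]
  have hy := hfr x hx'
  have hz := hfr _ hy
  set y := x ^ p with hydef
  set z := y ^ p with hzdef
  have hyz : y - z ≠ 0 := by
    intro h
    apply hxp
    have h' : z = y := (sub_eq_zero.1 h).symm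
    exact hinj h'
  have hxz : x - z ≠ 0 := by
    intro h
    have h' : x = z := sub_eq_zero.1 h
    apply hxp
    rw [← hx3, ← h']
  have hxy : x - y ≠ 0 := fun h => hxp (sub_eq_zero.1 h).symm
  have e1 : x ^ 2 + x * y + y ^ 2 - α * (x + y) + (2 * α - 3) = 0 := by
    have : (x - y) * (x ^ 2 + x * y + y ^ 2 - α * (x + y) + (2 * α - 3)) = 0 := by
      linear_combination hx' - hy
    exact (mul_eq_zero.1 this).resolve_left hxy
  have e2 : x ^ 2 + x * z + z ^ 2 - α * (x + z) + (2 * α - 3) = 0 := by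
    have : (x - z) * (x ^ 2 + x * z + z ^ 2 - α * (x + z) + (2 * α - 3)) = 0 := by
      linear_combination hx' - hz
    exact (mul_eq_zero.1 this).resolve_left hxz
  have e3 : x + y + z - α = 0 := by
    have : (y - z) * (x + y + z - α) = 0 := by linear_combination e1 - e2
    exact (mul_eq_zero.1 this).resolve_left hyz
  have hα' : α = x + y + z := by linear_combination -e3
  rw [hα'] at e1 hx'
  have e4 : x * y + y * z + x * z = 2 * (x + y + z) - 3 := by linear_combination -e1
  have e5 : x * y * z = 1 := by linear_combination hx' + x * e4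
  refine ⟨x, ?_, ?_, ?_⟩
  · intro h
    apply hroot 1
    rw [h, map_one]
  · have : x ^ (1 + p + p ^ 2) = x * y * z := by
      rw [hzdef, hydef, pow_add, pow_add, pow_one, ← pow_mul, ← pow_two]
    rw [this, e5]
  · have h2 : ∀ w : F, (2 - w) ^ p = 2 - w ^ p := by
      intro w
      have := map_sub (frobenius F p) 2 w
      simpa [frobenius_def, map_ofNat] using this
    have : (2 - x) ^ (1 + p + p ^ 2) = (2 - x) * (2 - y) * (2 - z) := by
      rw [hzdef, hydef, pow_add, pow_add, pow_one, pow_two, pow_mul, h2, h2]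
    rw [this]
    linear_combination -e5 + 2 * e4

/-- Existence of a nontrivial element of `E` (Bender-Glauberman, Lemma C.2). -/
theorem exists_pair {F : Type} [Field F] [Fintype F] {p q : ℕ} [hp : Fact p.Prime] [CharP F p]
    (hp2 : p ≠ 2) (hq : q.Prime) (hq2 : q ≠ 2) (hF : Fintype.card F = p ^ q) (H : Subgroup Fˣ)
    (hH : Nat.card H = ∑ i ∈ range q, p ^ i) :
    (∀ x : F, x ^ (∑ i ∈ range q, p ^ i) = 1 ↔ ∃ h ∈ H, (h : F) = x) ∧
    ∃ x : F, x ≠ 1 ∧ x ^ (∑ i ∈ range q, p ^ i) = 1 ∧ (2 - x) ^ (∑ i ∈ range q, p ^ i) = 1 := by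
  classical
  set m := ∑ i ∈ range q, p ^ i with hm
  have hm0 : 0 < m := by
    rw [hm]
    refine Finset.sum_pos (fun i _ => pow_pos hp.1.pos _) ⟨0, by simpa using hq.pos⟩
  set S : Finset F := univ.filter fun x : F => ∃ h ∈ H, (h : F) = x with hS
  have memS : ∀ x : F, x ∈ S ↔ ∃ h ∈ H, (h : F) = x := fun x => by simp [hS]
  have hcard : S.card = m := by
    rw [← hH, Nat.card_eq_fintype_card, ← Finset.card_univ]
    symm
    refine Finset.card_bij (fun (h : H) _ => ((h : Fˣ) : F)) ?_ ?_ ?_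
    · intro h _
      exact (memS _).2 ⟨h.1, h.2, rfl⟩
    · intro a _ b _ hab
      exact Subtype.ext (Units.ext hab)
    · intro b hb
      obtain ⟨h, hh, rfl⟩ := (memS _).1 hb
      exact ⟨⟨h, hh⟩, Finset.mem_univ _, rfl⟩
  have hpow : ∀ x : F, x ^ m = 1 ↔ x ∈ S := by
    have h1 : S ⊆ nthRootsFinset m (1 : F) := by
      intro x hx
      obtain ⟨h, hh, rfl⟩ := (memS _).1 hx
      rw [mem_nthRootsFinset hm0]
      have h2 : (⟨h, hh⟩ : H) ^ m = 1 := by rw [← hH]; exact pow_card_eq_one'
      have h3 : h ^ m = 1 := by simpa using congrArg Subtype.val h2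
      rw [← Units.val_pow_eq_pow_val, h3, Units.val_one]
    have h2 : S = nthRootsFinset m (1 : F) := by
      apply Finset.eq_of_subset_of_card_le h1
      rw [hcard]
      refine (Multiset.toFinset_card_le _).trans (card_nthRoots m 1)
    intro x
    rw [h2, mem_nthRootsFinset hm0]
  have hgrp : IsGrp S := by
    refine ⟨(hpow _).1 (one_pow _), fun a ha b hb => ?_, fun a ha => ?_, fun h => ?_⟩
    · rw [← hpow] at ha hb ⊢
      rw [mul_pow, ha, hb, one_mul]
    · rw [← hpow] at ha ⊢
      rw [inv_pow, ha, inv_one]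
    · rw [← hpow, zero_pow hm0.ne'] at h
      exact zero_ne_one h
  refine ⟨fun x => by rw [hpow, memS], ?_⟩
  by_cases hq3 : q = 3
  · subst hq3
    have : m = 1 + p + p ^ 2 := by
      rw [hm]; simp [Finset.sum_range_succ]
    rw [this]
    exact exists_three hp2 hF
  · have hq5 : 5 ≤ q := by
      have := hq.two_le
      have h4 : q ≠ 4 := by rintro rfl; revert hq; decide
      omega
    have h20 : (2 : F) ≠ 0 := by
      intro h
      have : ((2 : ℕ) : F) = 0 := by simpa using h
      rw [CharP.cast_eq_zero_iff F p] at this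
      exact hp2 ((Nat.prime_dvd_prime_iff_eq hp.1 Nat.prime_two).1 this)
    have hmge : p ^ (q - 1) + p ^ (q - 2) ≤ m := by
      rw [hm]
      obtain ⟨r, rfl⟩ : ∃ r, q = r + 2 := ⟨q - 2, by omega⟩
      rw [Finset.sum_range_succ, Finset.sum_range_succ]
      have : r + 2 - 1 = r + 1 := by omega
      rw [this]
      have : r + 2 - 2 = r := by omega
      rw [this]
      omega
    have hm2 : p ^ (2 * q - 2) + p ^ q ≤ m ^ 2 := by
      calc p ^ (2 * q - 2) + p ^ q ≤ (p ^ (q - 1) + p ^ (q - 2)) ^ 2 := by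
            have e1 : (p ^ (q - 1)) ^ 2 = p ^ (2 * q - 2) := by
              rw [← pow_mul]; congr 1; omega
            have e2 : p ^ (q - 1) * p ^ (q - 2) = p ^ (2 * q - 3) := by
              rw [← pow_add]; congr 1; omega
            have e3 : p ^ q ≤ p ^ (2 * q - 3) := Nat.pow_le_pow_right hp.1.pos (by omega)
            nlinarith [Nat.zero_le ((p ^ (q - 2)) ^ 2)]
        _ ≤ m ^ 2 := Nat.pow_le_pow_left hmge 2
    by_contra hcon
    push Not at hcon
    have hr : (S.filter fun x => 2 - x ∈ S).card ≤ 1 := by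
      rw [Finset.card_le_one]
      intro a ha b hb
      rw [Finset.mem_filter] at ha hb
      have ha1 : a = 1 := by
        by_contra h
        exact hcon a h ((hpow _).2 ha.1) ((hpow _).2 ha.2)
      have hb1 : b = 1 := by
        by_contra h
        exact hcon b h ((hpow _).2 hb.1) ((hpow _).2 hb.2)
      rw [ha1, hb1]
    have hle : (Fintype.card F : ℝ) ≤ (S.card : ℝ) ^ 2 := by
      rw [hcard, hF]
      have : p ^ q ≤ m ^ 2 := by omega
      exact_mod_cast this
    have hb := hgrp.bound h20 hr hle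
    rw [hcard, hF] at hb
    have h1 : ((p : ℝ) ^ (2 * q - 2)) ≤ (m : ℝ) ^ 2 - ((p ^ q : ℕ) : ℝ) := by
      have : ((p ^ (2 * q - 2) + p ^ q : ℕ) : ℝ) ≤ ((m ^ 2 : ℕ) : ℝ) := by exact_mod_cast hm2
      push_cast at this ⊢
      linarith
    have h2 : ((p : ℝ) ^ (2 * q - 2)) ^ 2 ≤ ((m : ℝ) ^ 2 - ((p ^ q : ℕ) : ℝ)) ^ 2 :=
      pow_le_pow_left₀ (by positivity) h1 2
    have h3 : ((p : ℝ) ^ (2 * q - 2)) ^ 2 ≤ (((p ^ q : ℕ) : ℝ)) ^ 3 := h2.trans hb
    have h4 : (p ^ (2 * q - 2)) ^ 2 ≤ (p ^ q) ^ 3 := by exact_mod_cast h3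
    rw [← pow_mul, ← pow_mul] at h4
    have h5 := (Nat.pow_le_pow_iff_right hp.1.one_lt).1 h4
    omega

end Cfsg.Agent.PF.AppC
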