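import Cfsg.Agent.PF.AppC2

set_option autoImplicit false

/-! Bender-Glauberman, Appendix C: group theoretic part. -/

namespace Cfsg.Agent.PF.AppC

open Finset

universe u

/-- The hypotheses of Appendix C (with the additional group `W = W₁`). -/
structure Cfg {G : Type u} [Group G] {F : Type} [Field F] (p : ℕ) (P U Q W : Subgroup G)
    (T : F → G) (ψ : G → F) (y : G) : Prop where
  T_mem : ∀ a, T a ∈ P
  T_surj : ∀ x ∈ P, ∃ a, T a = x
  T_add : ∀ a b, T (a + b) = T a * T b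
  T_ne : ∀ a, T a = 1 → a = 0
  ψ_ne : ∀ u ∈ U, ψ u ≠ 0
  ψ_mul : ∀ u ∈ U, ∀ v ∈ U, ψ (u * v) = ψ u * ψ v
  ψ_inj : ∀ u ∈ U, ψ u = 1 → u = 1
  conj : ∀ u ∈ U, ∀ a, u * T a * u⁻¹ = T (ψ u * a)
  split : ∀ x : F, x ≠ 0 → ∃ n : ℤ, ∃ u ∈ U, x = n * ψ u
  U_F : ∀ u ∈ U, ψ u ^ p = ψ u → ψ u = 1
  U_ne : ∃ u ∈ U, u ≠ 1
  PU : ∀ x ∈ P, x ∈ U → x = 1
  U_order : ∀ u ∈ U, u ^ p = 1 → u = 1
  Q_comm : ∀ a ∈ Q, ∀ b ∈ Q, a * b = b * a
  Q_order : ∀ a ∈ Q, a ^ p = 1 → a = 1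
  yQ : y ∈ Q
  sQ : T 1 ∈ Subgroup.normalizer (Q : Set G)
  tU : y * T 1 * y⁻¹ ∈ Subgroup.normalizer (U : Set G)
  Ws : ∀ w ∈ W, w * T 1 = T 1 * w
  Wy : ∀ w ∈ W, w * y = y * w
  WP : W ≤ Subgroup.normalizer (P : Set G)
  CPW : ∀ x ∈ P, (∀ w ∈ W, w * x = x * w) → ∃ n : ℤ, x = T n

namespace Cfg

variable {G : Type u} [Group G] {F : Type} [Field F] {p : ℕ} [hp : Fact p.Prime] [CharP F p]
  {P U Q W : Subgroup G} {T : F → G} {ψ : G → F} {y : G}

section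

variable (h : Cfg p P U Q W T ψ y)
include h

omit hp [CharP F p] in
theorem T_zero : T 0 = 1 := by
  have := h.T_add 0 0
  rw [add_zero] at this
  exact (left_eq_mul.1 this)

/-- `T` as a homomorphism. -/
noncomputable def TH (h : Cfg p P U Q W T ψ y) : Multiplicative F →* G where
  toFun a := T a.toAdd
  map_one' := h.T_zero
  map_mul' a b := h.T_add _ _

omit hp [CharP F p] in
theorem T_neg (a : F) : T (-a) = (T a)⁻¹ := by
  have := map_inv h.TH (Multiplicative.ofAdd a)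
  exact this

omit hp [CharP F p] in
theorem T_sub (a b : F) : T (a - b) = T a * (T b)⁻¹ := by
  rw [sub_eq_add_neg, h.T_add, h.T_neg]

omit hp [CharP F p] in
theorem T_inj {a b : F} (e : T a = T b) : a = b := by
  have : T (a - b) = 1 := by rw [h.T_sub, e, mul_inv_cancel]
  exact sub_eq_zero.1 (h.T_ne _ this)

omit hp [CharP F p] in
theorem T_zsmul (n : ℤ) (a : F) : T (n * a) = T a ^ n := by
  have := map_zpow h.TH (Multiplicative.ofAdd a) n
  rw [← ofAdd_zsmul] at this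
  have e : T (n • a) = T a ^ n := this
  rw [← e, zsmul_eq_mul]

omit hp [CharP F p] in
theorem s_zpow (n : ℤ) : T 1 ^ n = T (n : F) := by
  rw [← h.T_zsmul, mul_one]

theorem T_pow_p (a : F) : T a ^ p = 1 := by
  have := h.T_zsmul (p : ℤ) a
  rw [zpow_natCast] at this
  rw [← this]
  simp [h.T_zero]

omit hp [CharP F p] in
theorem t_zpow (n : ℤ) : (y * T 1 * y⁻¹) ^ n = y * T 1 ^ n * y⁻¹ := by
  rw [← MulAut.conj_apply, ← map_zpow, MulAut.conj_apply]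

theorem s_p (n k : ℤ) : T 1 ^ (n + p * k) = T 1 ^ n := by
  rw [h.s_zpow, h.s_zpow]; simp

theorem t_p (n k : ℤ) : (y * T 1 * y⁻¹) ^ (n + p * k) = (y * T 1 * y⁻¹) ^ n := by
  rw [h.t_zpow, h.s_p, h.t_zpow]

omit hp [CharP F p] in
theorem P_Q (x : G) (hx : x ∈ P) (hxQ : x ∈ Q) (hxp : x ^ p = 1) : x = 1 := h.Q_order x hxQ hxp

end

/-- conjugate of `x` by `t ^ j` -/
def cj (T : F → G) (y : G) (j : ℤ) (x : G) : G :=
  (y * T 1 * y⁻¹) ^ j * x * (y * T 1 * y⁻¹) ^ (-j)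

omit hp [CharP F p] in
theorem cj_mul (j : ℤ) (a b : G) : cj T y j (a * b) = cj T y j a * cj T y j b := by
  unfold cj; rw [zpow_neg]; group

omit hp [CharP F p] in
theorem cj_one (j : ℤ) : cj T y j 1 = 1 := by
  unfold cj; rw [zpow_neg]; group

omit hp [CharP F p] in
theorem cj_inv (j : ℤ) (a : G) : cj T y j a⁻¹ = (cj T y j a)⁻¹ := by
  unfold cj; rw [zpow_neg]; group

omit hp [CharP F p] in
theorem cj_cj (i j : ℤ) (a : G) : cj T y i (cj T y j a) = cj T y (i + j) a := by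
  unfold cj
  rw [neg_add_rev, zpow_add, zpow_add]
  group

omit hp [CharP F p] in
theorem cj_zero (a : G) : cj T y 0 a = a := by
  unfold cj; simp

omit hp [CharP F p] in
theorem cj_pow (j : ℤ) (a : G) (n : ℕ) : cj T y j (a ^ n) = cj T y j a ^ n := by
  induction n with
  | zero => simp [cj_one]
  | succ n ih => rw [pow_succ, cj_mul, ih, pow_succ]

omit hp [CharP F p] in
theorem cj_zpow (j : ℤ) (a : G) (n : ℤ) : cj T y j (a ^ n) = cj T y j a ^ n := by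
  cases n with
  | ofNat n => simp [cj_pow]
  | negSucc n => simp [cj_pow, cj_inv]

section

variable (h : Cfg p P U Q W T ψ y)
include h

theorem cj_p (j k : ℤ) (a : G) : cj T y (j + p * k) a = cj T y j a := by
  unfold cj
  rw [h.t_p]
  have : -(j + p * k) = -j + p * (-k) := by ring
  rw [this, h.t_p]

omit hp [CharP F p] in
theorem cj_U (j : ℤ) {u : G} (hu : u ∈ U) : cj T y j u ∈ U := by
  have h1 : (y * T 1 * y⁻¹) ^ j ∈ Subgroup.normalizer (U : Set G) := Subgroup.zpow_mem _ h.tU _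
  have := (Subgroup.mem_normalizer_iff.1 h1 u).1 hu
  unfold cj
  rwa [zpow_neg]

omit hp [CharP F p] in
theorem ψ_one : ψ 1 = 1 := by
  have := h.ψ_mul 1 (one_mem _) 1 (one_mem _)
  rw [mul_one] at this
  exact (mul_right_cancel₀ (h.ψ_ne 1 (one_mem _)) (by rw [one_mul]; exact this)).symm

omit hp [CharP F p] in
theorem ψ_inv {u : G} (hu : u ∈ U) : ψ u⁻¹ = (ψ u)⁻¹ := by
  have := h.ψ_mul u hu u⁻¹ (inv_mem hu)
  rw [mul_inv_cancel, h.ψ_one] at this
  exact eq_inv_of_mul_eq_one_right this.symm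

omit hp [CharP F p] in
theorem U_norm {u : G} (hu : u ∈ U) {x : G} (hx : x ∈ P) : u * x * u⁻¹ ∈ P := by
  obtain ⟨a, rfl⟩ := h.T_surj x hx
  rw [h.conj u hu]; exact h.T_mem _

/-- conjugation by `u ∈ U` on the `j`-th conjugate -/
theorem conj_cj {u : G} (hu : u ∈ U) (j : ℤ) (a : F) :
    u * cj T y j (T a) * u⁻¹ = cj T y j (T (ψ (cj T y (-j) u) * a)) := by
  have h1 : u = cj T y j (cj T y (-j) u) := by rw [cj_cj, add_neg_cancel, cj_zero]
  conv_lhs => rw [h1]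
  rw [← cj_inv, ← cj_mul, ← cj_mul, h.conj _ (h.cj_U _ hu)]

/-! ### the abelian group `Q` -/

omit hp [CharP F p] in
theorem sconj {x : G} (hx : x ∈ Q) (n : ℤ) : T 1 ^ n * x * T 1 ^ (-n) ∈ Q := by
  have h1 : T 1 ^ n ∈ Subgroup.normalizer (Q : Set G) := Subgroup.zpow_mem _ h.sQ _
  have := (Subgroup.mem_normalizer_iff.1 h1 x).1 hx
  rwa [zpow_neg]

end

/-- `η k = s^{-k} y s^k` -/
def η (T : F → G) (y : G) (k : ℤ) : G := T 1 ^ (-k) * y * T 1 ^ k

section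

variable (h : Cfg p P U Q W T ψ y)
include h

omit hp [CharP F p] in
theorem η_mem (k : ℤ) : η T y k ∈ Q := by
  have := h.sconj h.yQ (-k)
  rwa [neg_neg] at this

omit h hp [CharP F p] in
theorem η_shift (k : ℤ) : T 1 ^ (-1 : ℤ) * η T y k * T 1 ^ (1 : ℤ) = η T y (k + 1) := by
  unfold η
  rw [neg_add_rev, zpow_add (T 1) (-1) (-k), zpow_add (T 1) k 1]
  simp only [mul_assoc]

theorem η_p (k : ℤ) : η T y (k + p) = η T y k := by
  unfold η
  have e1 : T 1 ^ (k + (p : ℤ)) = T 1 ^ k := by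
    have := h.s_p k 1
    rwa [mul_one] at this
  have e2 : T 1 ^ (-(k + (p : ℤ))) = T 1 ^ (-k) := by
    have := h.s_p (-k) (-1)
    rw [← this]
    congr 1; ring
  rw [e1, e2]

omit hp [CharP F p] in
/-- `s^{-k} t^{k-l} s^l = η_k η_l⁻¹` -/
theorem e_eq (k l : ℤ) : T 1 ^ (-k) * (y * T 1 * y⁻¹) ^ (k - l) * T 1 ^ l =
    η T y k * (η T y l)⁻¹ := by
  rw [h.t_zpow]
  unfold η
  rw [zpow_sub, zpow_neg, zpow_neg]
  group

omit hp [CharP F p] in
/-- The commutation of `Q`. -/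
theorem Qrel (a b c : ℤ) :
    cj T y a (T 1 ^ (c - b)) * cj T y b (T 1 ^ (a - c)) * cj T y c (T 1 ^ (b - a)) = 1 := by
  have h1 := h.e_eq (b - c) (a - c)
  have h2 := h.e_eq 0 (b - c)
  have h3 := h.e_eq (a - c) 0
  set t := y * T 1 * y⁻¹ with ht
  have key : T 1 ^ (c - b) * t ^ (b - a) * T 1 ^ (a - c) * (t ^ (c - b) * T 1 ^ (b - a) *
      t ^ (a - c)) = 1 := by
    have e1 : T 1 ^ (c - b) * t ^ (b - a) * T 1 ^ (a - c) =
        η T y (b - c) * (η T y (a - c))⁻¹ := by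
      rw [← h1]; congr 2
      · congr 1; ring
      · congr 1; ring
    have e2 : t ^ (c - b) * T 1 ^ (b - a) * t ^ (a - c) =
        (η T y 0 * (η T y (b - c))⁻¹) * (η T y (a - c) * (η T y 0)⁻¹) := by
      rw [← h2, ← h3]
      have e3 : T 1 ^ (b - a) = T 1 ^ (b - c) * T 1 ^ (-(a - c)) := by
        rw [← zpow_add]; congr 1; ring
      rw [e3]
      simp only [neg_zero, zpow_zero, one_mul, zero_sub, neg_sub, sub_zero, mul_one, mul_assoc]
    rw [e1, e2]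
    have c1 := h.Q_comm _ (h.η_mem (b - c)) _ (inv_mem (h.η_mem (a - c)))
    have c2 := h.Q_comm _ (h.η_mem (b - c)) _ (h.η_mem 0)
    have c3 := h.Q_comm _ (inv_mem (h.η_mem (a - c))) _ (h.η_mem 0)
    calc η T y (b - c) * (η T y (a - c))⁻¹ *
          (η T y 0 * (η T y (b - c))⁻¹ * (η T y (a - c) * (η T y 0)⁻¹))
        = η T y (b - c) * ((η T y (a - c))⁻¹ * η T y 0) * (η T y (b - c))⁻¹ *
          (η T y (a - c) * (η T y 0)⁻¹) := by simp only [mul_assoc]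
      _ = (η T y (b - c) * η T y 0) * (η T y (a - c))⁻¹ * (η T y (b - c))⁻¹ *
          (η T y (a - c) * (η T y 0)⁻¹) := by rw [c3]; simp only [mul_assoc]
      _ = η T y 0 * (η T y (b - c) * (η T y (a - c))⁻¹) * (η T y (b - c))⁻¹ *
          (η T y (a - c) * (η T y 0)⁻¹) := by rw [c2]; simp only [mul_assoc]
      _ = 1 := by rw [c1]; group
  have e : cj T y a (T 1 ^ (c - b)) * cj T y b (T 1 ^ (a - c)) * cj T y c (T 1 ^ (b - a)) =
      t ^ a * (T 1 ^ (c - b) * t ^ (b - a) * T 1 ^ (a - c) * (t ^ (c - b) * T 1 ^ (b - a) *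
      t ^ (a - c))) * t ^ (-a) := by
    unfold cj
    rw [← ht]
    have f1 : t ^ (b - a) = t ^ (-a) * t ^ b := by rw [← zpow_add]; congr 1; ring
    have f2 : t ^ (c - b) = t ^ (-b) * t ^ c := by rw [← zpow_add]; congr 1; ring
    have f3 : t ^ (a - c) = t ^ (-c) * t ^ a := by rw [← zpow_add]; congr 1; ring
    have f4 : t ^ a * t ^ (-a) = 1 := by rw [← zpow_add]; simp
    rw [f1, f2, f3]
    simp only [mul_assoc]
    rw [f4, mul_one]
  rw [e, key, mul_one, ← zpow_add, add_neg_cancel, zpow_zero]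

theorem Qrel' (a b c : ℤ) {u : G} (hu : u ∈ U) :
    cj T y a (T (((c - b : ℤ) : F) * ψ (cj T y (-a) u))) *
    cj T y b (T (((a - c : ℤ) : F) * ψ (cj T y (-b) u))) *
    cj T y c (T (((b - a : ℤ) : F) * ψ (cj T y (-c) u))) = 1 := by
  have h1 := h.Qrel a b c
  rw [h.s_zpow, h.s_zpow, h.s_zpow] at h1
  have h2 : u * (cj T y a (T ((c - b : ℤ) : F)) * cj T y b (T ((a - c : ℤ) : F)) *
      cj T y c (T ((b - a : ℤ) : F))) * u⁻¹ = 1 := by rw [h1]; group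
  rw [← h2]
  have e : ∀ A B C : G, u * (A * B * C) * u⁻¹ = (u * A * u⁻¹) * (u * B * u⁻¹) * (u * C * u⁻¹) := by
    intro A B C; group
  rw [e, h.conj_cj hu, h.conj_cj hu, h.conj_cj hu, mul_comm _ (ψ _), mul_comm _ (ψ _),
    mul_comm _ (ψ _)]

/-- elements `x` with `x s^{-n} ∈ Q` -/
theorem rep_s (n : ℤ) : T 1 ^ n * T 1 ^ (-n) ∈ Q := by
  rw [← zpow_add, add_neg_cancel, zpow_zero]; exact one_mem _

omit hp [CharP F p] in
theorem rep_mul {x x' : G} {n m : ℤ} (hx : x * T 1 ^ (-n) ∈ Q) (hx' : x' * T 1 ^ (-m) ∈ Q) :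
    x * x' * T 1 ^ (-(n + m)) ∈ Q := by
  have h1 := mul_mem hx (h.sconj hx' n)
  have : x * T 1 ^ (-n) * (T 1 ^ n * (x' * T 1 ^ (-m)) * T 1 ^ (-n)) =
      x * x' * T 1 ^ (-(n + m)) := by
    have e1 : T 1 ^ (-n) * T 1 ^ n = 1 := by rw [← zpow_add]; simp
    have e2 : T 1 ^ (-(n + m)) = T 1 ^ (-m) * T 1 ^ (-n) := by rw [← zpow_add]; congr 1; ring
    rw [e2]
    calc _ = x * (T 1 ^ (-n) * T 1 ^ n) * (x' * T 1 ^ (-m)) * T 1 ^ (-n) := by
            simp only [mul_assoc]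
      _ = _ := by rw [e1]; simp only [mul_assoc, mul_one]
  rwa [this] at h1

omit hp [CharP F p] in
theorem rep_t (j : ℤ) : (y * T 1 * y⁻¹) ^ j * T 1 ^ (-j) ∈ Q := by
  have h1 := mul_mem h.yQ (h.sconj (inv_mem h.yQ) j)
  rw [h.t_zpow]
  convert h1 using 1
  simp only [mul_assoc]

theorem rep_cj (j n : ℤ) : cj T y j (T 1 ^ n) * T 1 ^ (-n) ∈ Q := by
  have h1 := h.rep_mul (h.rep_mul (h.rep_t j) (h.rep_s n)) (h.rep_t (-j))
  unfold cj
  have : j + n + -j = n := by ring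
  rwa [this] at h1

/-! ### `P ∩ P^{t^j} = 1` -/

theorem cj_P {j : ℤ} (hj : ¬ (p : ℤ) ∣ j) {x : G} (hx : x ∈ P) (hx' : cj T y j x ∈ P) : x = 1 := by
  by_contra hx1
  obtain ⟨a, rfl⟩ := h.T_surj x hx
  have ha : a ≠ 0 := fun e => hx1 (by rw [e, h.T_zero])
  -- the whole of P is moved into P
  have h1 : ∀ z ∈ P, cj T y j z ∈ P := by
    intro z hz
    obtain ⟨c, rfl⟩ := h.T_surj z hz
    by_cases hc : c = 0
    · rw [hc, h.T_zero, cj_one]; exact one_mem _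
    obtain ⟨n, u, hu, e⟩ := h.split (c / a) (div_ne_zero hc ha)
    have e' : c = n * (ψ u * a) := by
      rw [← mul_assoc, ← e]; field_simp
    rw [e', h.T_zsmul, ← h.conj u hu, cj_zpow, cj_mul, cj_mul, cj_inv]
    exact Subgroup.zpow_mem _ (h.U_norm (h.cj_U j hu) hx') _
  have h2 : ∀ n : ℕ, ∀ z ∈ P, cj T y (n * j) z ∈ P := by
    intro n
    induction n with
    | zero => intro z hz; simpa [cj_zero] using hz
    | succ n ih =>
      intro z hz
      have : ((n + 1 : ℕ) : ℤ) * j = j + n * j := by push_cast; ring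
      rw [this, ← cj_cj]
      exact h1 _ (ih z hz)
  have h3 : ∀ z ∈ P, cj T y 1 z ∈ P := by
    have hcop : IsCoprime (p : ℤ) j := by
      rw [Int.isCoprime_iff_gcd_eq_one]
      rcases (Nat.coprime_or_dvd_of_prime hp.1 j.natAbs) with h | h
      · simpa [Int.gcd] using h
      · exact absurd (Int.natCast_dvd.2 h) hj
    obtain ⟨A, B, hAB⟩ := hcop
    -- choose natural n congruent to B mod p
    have hp0 : (0 : ℤ) < p := by exact_mod_cast hp.1.pos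
    have hn : ((B % p).toNat : ℤ) = B % p := Int.toNat_of_nonneg (Int.emod_nonneg _ hp0.ne')
    intro z hz
    have := h2 (B % p).toNat z hz
    rw [hn] at this
    have e : (1 : ℤ) = B % p * j + p * (A + B / p * j) := by
      have := Int.emod_add_mul_ediv B p
      have e2 : B * j = B % p * j + p * (B / p) * j := by
        rw [← add_mul, this]
      linear_combination -hAB + e2
    rw [e, h.cj_p]
    exact this
  -- now t s t⁻¹ s⁻¹ = 1
  have h4 : cj T y 1 (T 1) * (T 1)⁻¹ = 1 := by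
    have hP : cj T y 1 (T 1) * (T 1)⁻¹ ∈ P := mul_mem (h3 _ (h.T_mem _)) (inv_mem (h.T_mem _))
    have hQ : cj T y 1 (T 1) * (T 1)⁻¹ ∈ Q := by
      have := h.rep_cj 1 1
      simpa using this
    obtain ⟨b, hb⟩ := h.T_surj _ hP
    exact h.P_Q _ hP hQ (by rw [← hb, h.T_pow_p])
  have h5 : Commute (y * T 1 * y⁻¹) (T 1) := by
    unfold cj at h4
    rw [zpow_one, zpow_neg, zpow_one, mul_inv_eq_one, mul_inv_eq_iff_eq_mul] at h4
    exact h4
  have h6 : (T 1)⁻¹ * (y * T 1 * y⁻¹) = 1 := by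
    apply h.Q_order
    · have := h.e_eq 1 0
      simp only [sub_zero, zpow_one, zpow_zero, mul_one, zpow_neg] at this
      rw [this]
      exact mul_mem (h.η_mem 1) (inv_mem (h.η_mem 0))
    · have hc : Commute (T 1)⁻¹ (y * T 1 * y⁻¹) := h5.symm.inv_left
      rw [hc.mul_pow, inv_pow, h.T_pow_p, ← MulAut.conj_apply, ← map_pow, h.T_pow_p]
      simp
  have h7 : y * T 1 * y⁻¹ = T 1 := (inv_mul_eq_one.1 h6).symm
  have h8 : T 1 ∈ Subgroup.normalizer (U : Set G) := by rw [← h7]; exact h.tU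
  obtain ⟨u, hu, hu1⟩ := h.U_ne
  apply hu1
  apply h.ψ_inj u hu
  have h9 : T 1 * u * (T 1)⁻¹ * u⁻¹ ∈ U :=
    mul_mem ((Subgroup.mem_normalizer_iff.1 h8 u).1 hu) (inv_mem hu)
  have h10 : T 1 * u * (T 1)⁻¹ * u⁻¹ = T (1 - ψ u) := by
    have e1 := h.conj u hu (-1)
    rw [h.T_neg] at e1
    have e2 : ψ u * (-1 : F) = - ψ u := by ring
    rw [e2] at e1
    calc T 1 * u * (T 1)⁻¹ * u⁻¹ = T 1 * (u * (T 1)⁻¹ * u⁻¹) := by group
      _ = T 1 * T (-ψ u) := by rw [e1]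
      _ = T (1 - ψ u) := by rw [← h.T_add, sub_eq_add_neg]
  rw [h10] at h9
  have h11 := h.T_ne _ (h.PU _ (h.T_mem _) h9)
  exact (sub_eq_zero.1 h11).symm

omit hp [CharP F p] in
theorem PU_pow {x v : G} (hx : x ∈ P) (hv : v ∈ U) (n : ℕ) : ∃ z ∈ P, (x * v) ^ n = z * v ^ n := by
  induction n with
  | zero => exact ⟨1, one_mem _, by simp⟩
  | succ n ih =>
    obtain ⟨z, hz, e⟩ := ih
    refine ⟨z * (v ^ n * x * (v ^ n)⁻¹), mul_mem hz (h.U_norm (pow_mem hv n) hx), ?_⟩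
    rw [pow_succ, e, pow_succ]
    group

/-- `H ∩ H^{t^j} = U`. -/
theorem cj_H {j : ℤ} (hj : ¬ (p : ℤ) ∣ j) {x u x' u' : G} (hx : x ∈ P) (hu : u ∈ U)
    (hx' : x' ∈ P) (hu' : u' ∈ U) (e : cj T y j (x * u) = x' * u') : x = 1 := by
  apply h.cj_P hj hx
  rw [cj_mul] at e
  have e1 : cj T y j x = x' * (u' * (cj T y j u)⁻¹) := by
    rw [← mul_assoc, ← e]; group
  have hv : u' * (cj T y j u)⁻¹ ∈ U := mul_mem hu' (inv_mem (h.cj_U j hu))
  obtain ⟨z, hz, e2⟩ := h.PU_pow hx' hv p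
  rw [← e1, ← cj_pow] at e2
  obtain ⟨a, rfl⟩ := h.T_surj x hx
  rw [h.T_pow_p, cj_one] at e2
  have h3 : (u' * (cj T y j u)⁻¹) ^ p = z⁻¹ := eq_inv_of_mul_eq_one_right e2.symm
  have h4 : (u' * (cj T y j u)⁻¹) ^ p = 1 := by
    apply h.PU _ _ (pow_mem hv _)
    rw [h3]; exact inv_mem hz
  have h5 := h.U_order _ hv h4
  rw [h5, mul_one] at e1
  rw [e1]; exact hx'

theorem two_term {j k : ℤ} (hjk : ¬ (p : ℤ) ∣ j - k) {b c b' c' : F}
    (e : cj T y j (T b) * cj T y k (T c) = cj T y j (T b') * cj T y k (T c')) : b = b' ∧ c = c' := by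
  have e1 : cj T y j (T (b - b')) = cj T y k (T (c' - c)) := by
    rw [h.T_sub, h.T_sub, cj_mul, cj_mul, cj_inv, cj_inv]
    have hcomm : ∀ b b' : F, cj T y j (T b) * (cj T y j (T b'))⁻¹ =
        (cj T y j (T b'))⁻¹ * cj T y j (T b) := by
      intro b b'
      rw [← cj_inv, ← cj_mul, ← cj_mul, ← h.T_neg, ← h.T_add, ← h.T_add, add_comm]
    rw [hcomm]
    have := congrArg (fun x => (cj T y j (T b'))⁻¹ * x * (cj T y k (T c))⁻¹) e
    calc (cj T y j (T b'))⁻¹ * cj T y j (T b)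
        = (cj T y j (T b'))⁻¹ * (cj T y j (T b) * cj T y k (T c)) * (cj T y k (T c))⁻¹ := by group
      _ = _ := by rw [this]; group
  have e2 : cj T y (j - k) (T (b - b')) = T (c' - c) := by
    have := congrArg (cj T y (-k)) e1
    rw [cj_cj, cj_cj] at this
    simpa [neg_add_eq_sub, cj_zero, neg_add_cancel] using this
  have e3 := h.cj_P hjk (h.T_mem _) (by rw [e2]; exact h.T_mem _)
  rw [e3, cj_one] at e2
  exact ⟨sub_eq_zero.1 (h.T_ne _ e3), (sub_eq_zero.1 (h.T_ne _ e2.symm)).symm⟩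

end

end Cfg

end Cfsg.Agent.PF.AppC
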