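import Cfsg.Agent.PF.AppC3

set_option autoImplicit false

/-! Bender-Glauberman, Appendix C: group theoretic part (continued). -/

namespace Cfsg.Agent.PF.AppC

open Finset

universe u

theorem sum_shift {A : Type*} [AddCommGroup A] {p : ℕ} (f : ℤ → A) (hf : ∀ k, f (k + p) = f k)
    (c : ℤ) : ∑ i ∈ range p, f (c + i) = ∑ i ∈ range p, f i := by
  have step : ∀ c : ℤ, ∑ i ∈ range p, f (c + 1 + i) = ∑ i ∈ range p, f (c + i) := by
    intro c
    have h1 := Finset.sum_range_succ (fun i : ℕ => f (c + i)) p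
    have h2 := Finset.sum_range_succ' (fun i : ℕ => f (c + i)) p
    rw [h1] at h2
    rw [hf] at h2
    simp only [Nat.cast_zero, add_zero] at h2
    have h3 := add_right_cancel h2
    rw [h3]
    refine Finset.sum_congr rfl fun i _ => ?_
    congr 1; push_cast; ring
  induction c with
  | zero => simp
  | succ n ih => rw [step, ih]
  | pred n ih =>
    rw [← ih, ← step]
    refine Finset.sum_congr rfl fun i _ => ?_
    congr 1; ring

namespace Cfg

variable {G : Type u} [Group G] {F : Type} [Field F] {p : ℕ} [hp : Fact p.Prime] [CharP F p]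
  {P U Q W : Subgroup G} {T : F → G} {ψ : G → F} {y : G}

variable (h : Cfg p P U Q W T ψ y)
include h

/-- The quadrangle relation is a consequence of the triangle relation. -/
theorem quad {κ l : ℤ}
    (e : cj T y 1 (T 1 ^ (-κ)) * T 1 ^ (κ + l) * cj T y (-1) (T 1 ^ (-l)) = 1) :
    (y * T 1 * y⁻¹) ^ (1 - κ) * T 1 ^ κ * (y * T 1 * y⁻¹) ^ (l - 1) * T 1 ^ (-l) = 1 := by
  letI : CommGroup Q :=
    { (inferInstance : Group Q) with
      mul_comm := fun a b => Subtype.ext (h.Q_comm _ a.2 _ b.2) }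
  set t := y * T 1 * y⁻¹ with ht
  let E : ℤ → Additive Q := fun k => Additive.ofMul ⟨η T y k, h.η_mem k⟩
  have hE : ∀ k, E (k + p) = E k := fun k => by
    have := h.η_p k
    simp only [E]
    congr 2
  -- the triangle relation in Q
  have r0 : T 1 ^ (-(0 : ℤ)) * t ^ ((0 : ℤ) - (-1)) * T 1 ^ (-1 : ℤ) *
      (T 1 ^ (-(κ - 1)) * t ^ ((κ - 1) - κ) * T 1 ^ κ) *
      (T 1 ^ (-(-l)) * t ^ ((-l) - (1 - l)) * T 1 ^ (1 - l)) *
      (T 1 ^ (-(1 : ℤ)) * t ^ ((1 : ℤ) - 0) * T 1 ^ (0 : ℤ)) = 1 := by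
    rw [← e]
    unfold cj
    rw [← ht]
    have f1 : T 1 ^ (-(κ - 1)) = T 1 ^ (1 : ℤ) * T 1 ^ (-κ) := by rw [← zpow_add]; congr 1; ring
    have f2 : T 1 ^ (κ + l) = T 1 ^ κ * T 1 ^ l := zpow_add _ _ _
    have f3 : T 1 ^ (1 - l) = T 1 ^ (-l) * T 1 ^ (1 : ℤ) := by rw [← zpow_add]; congr 1; ring
    have f4 : (κ - 1) - κ = -1 := by ring
    have f5 : (-l) - (1 - l) = -1 := by ring
    rw [f1, f2, f3, f4, f5]
    simp only [neg_zero, zpow_zero, one_mul, zero_sub, neg_neg, sub_zero, mul_one, zpow_one,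
      zpow_neg]
    group
  rw [h.e_eq, h.e_eq, h.e_eq, h.e_eq] at r0
  have r1 : (E 0 - E (-1)) + (E (κ - 1) - E κ) + (E (-l) - E (1 - l)) + (E 1 - E 0) = 0 := by
    apply Additive.toMul.injective
    apply Subtype.ext
    simpa only [E, toMul_add, toMul_sub, toMul_ofMul, toMul_zero, Subgroup.coe_mul,
      Subgroup.coe_one, div_eq_mul_inv, Subgroup.coe_inv] using r0
  -- the element g
  let g : Additive Q := (E 0 - E (κ - 1)) + (E (-1) - E (-l))
  have hg : ((Additive.toMul g : Q) : G) =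
      t ^ (1 - κ) * T 1 ^ κ * t ^ (l - 1) * T 1 ^ (-l) := by
    have e1 : ((Additive.toMul g : Q) : G) =
        (η T y 0 * (η T y (κ - 1))⁻¹) * (η T y (-1) * (η T y (-l))⁻¹) := by
      simp only [g, E, toMul_add, toMul_sub, toMul_ofMul, Subgroup.coe_mul,
        div_eq_mul_inv, Subgroup.coe_inv]
    rw [e1, ← h.e_eq, ← h.e_eq, ← ht]
    have f1 : (0 : ℤ) - (κ - 1) = 1 - κ := by ring
    have f2 : (-1 : ℤ) - (-l) = l - 1 := by ring
    have f3 : T 1 ^ κ = T 1 ^ (κ - 1) * T 1 ^ (1 : ℤ) := by rw [← zpow_add]; congr 1; ring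
    rw [f1, f2, f3]
    simp only [neg_zero, zpow_zero, one_mul, neg_neg, zpow_one, mul_assoc]
  -- shifts
  have hcomm : ∀ i : ℕ, (E i - E (κ - 1 + i)) + (E (-1 + i) - E (-l + i)) = g := by
    -- conjugation by s
    have hs : T 1 ^ (-1 : ℤ) * ((Additive.toMul g : Q) : G) * T 1 ^ (1 : ℤ) =
        ((Additive.toMul g : Q) : G) := by
      have a1 : T 1 ^ (-1 : ℤ) * ((Additive.toMul g : Q) : G) * T 1 ^ (1 : ℤ) =
          (η T y 1 * (η T y κ)⁻¹) * (η T y 0 * (η T y (1 - l))⁻¹) := by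
        have b1 := η_shift (T := T) (y := y) 0
        have b2 := η_shift (T := T) (y := y) (κ - 1)
        have b3 := η_shift (T := T) (y := y) (-1)
        have b4 := η_shift (T := T) (y := y) (-l)
        rw [show (0 : ℤ) + 1 = 1 by ring] at b1
        rw [show κ - 1 + 1 = κ by ring] at b2
        rw [show (-1 : ℤ) + 1 = 0 by ring] at b3
        rw [show -l + 1 = 1 - l by ring] at b4
        rw [← b3, ← b1, ← b2, ← b4]
        simp only [g, E, toMul_add, toMul_sub, toMul_ofMul, Subgroup.coe_mul,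
          div_eq_mul_inv, Subgroup.coe_inv]
        group
      rw [a1]
      have a2 : (E 1 - E κ) + (E 0 - E (1 - l)) = g := by
        have : (E 1 - E κ) + (E 0 - E (1 - l)) = g +
          ((E 0 - E (-1)) + (E (κ - 1) - E κ) + (E (-l) - E (1 - l)) + (E 1 - E 0)) := by
          simp only [g]; abel
        rw [this, r1, add_zero]
      rw [← a2]
      simp only [E, toMul_add, toMul_sub, toMul_ofMul, Subgroup.coe_mul,
        div_eq_mul_inv, Subgroup.coe_inv]
    intro i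
    induction i with
    | zero => simp only [Nat.cast_zero, add_zero]; rfl
    | succ i ih =>
      apply Additive.toMul.injective
      apply Subtype.ext
      rw [← hs, ← ih]
      have b1 := η_shift (T := T) (y := y) i
      have b2 := η_shift (T := T) (y := y) (κ - 1 + i)
      have b3 := η_shift (T := T) (y := y) (-1 + i)
      have b4 := η_shift (T := T) (y := y) (-l + i)
      simp only [E, toMul_add, toMul_sub, toMul_ofMul, Subgroup.coe_mul,
        div_eq_mul_inv, Subgroup.coe_inv, Nat.cast_add, Nat.cast_one, ← add_assoc]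
      rw [← b1, ← b2, ← b3, ← b4]
      group
  have hsum : p • g = 0 := by
    have h1 : ∑ i ∈ range p, ((E i - E (κ - 1 + i)) + (E (-1 + i) - E (-l + i))) = p • g := by
      rw [Finset.sum_congr rfl fun i _ => hcomm i]
      simp
    rw [← h1, Finset.sum_add_distrib, Finset.sum_sub_distrib, Finset.sum_sub_distrib,
      sum_shift E hE, sum_shift E hE, sum_shift E hE]
    simp
  have hg1 : ((Additive.toMul g : Q) : G) = 1 := by
    apply h.Q_order _ (Additive.toMul g : Q).2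
    have : (Additive.toMul g : Q) ^ p = 1 := by
      rw [← toMul_nsmul, hsum]; rfl
    have := congrArg Subtype.val this
    simpa using this
  rw [← hg, hg1]

/-- In a triangle with angle `κ` we have `κ = 1`. -/
theorem quad' {κ l : ℤ} (hκ : (κ : F) ≠ 0)
    (e : cj T y 1 (T 1 ^ (-κ)) * T 1 ^ (κ + l) * cj T y (-1) (T 1 ^ (-l)) = 1) :
    (κ : F) = 1 := by
  have hq := h.quad e
  by_contra hne
  have hj : ¬ (p : ℤ) ∣ 1 - κ := by
    rw [← CharP.intCast_eq_zero_iff F p]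
    push_cast
    intro h0; exact hne (sub_eq_zero.1 h0).symm
  obtain ⟨u, hu, hu1⟩ := h.U_ne
  set t := y * T 1 * y⁻¹ with ht
  have e1 : t ^ (1 - κ) * T 1 ^ κ = T 1 ^ l * t ^ (1 - l) := by
    have f1 : T 1 ^ (-l) = (T 1 ^ l)⁻¹ := zpow_neg _ _
    have f2 : t ^ (l - 1) = (t ^ (1 - l))⁻¹ := by rw [← zpow_neg]; congr 1; ring
    rw [f1, f2] at hq
    rw [mul_assoc _ (t ^ (1 - l))⁻¹, ← mul_inv_rev, mul_inv_eq_one] at hq
    exact hq
  -- conjugate of u by s^n
  have e2 : ∀ n : ℤ, ∀ v ∈ U, T 1 ^ n * v * (T 1 ^ n)⁻¹ = T (n - ψ v * n) * v := by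
    intro n v hv
    have := h.conj v hv (-n)
    rw [h.T_neg, mul_neg, h.T_neg] at this
    rw [h.s_zpow, h.T_sub]
    rw [← this]
    group
  have e3 : cj T y (1 - κ) (T (κ - ψ u * κ) * u) =
      T (l - ψ (cj T y (1 - l) u) * l) * cj T y (1 - l) u := by
    rw [← e2 κ u hu, ← e2 l _ (h.cj_U _ hu)]
    unfold cj
    rw [← ht, zpow_neg, zpow_neg]
    calc t ^ (1 - κ) * (T 1 ^ κ * u * (T 1 ^ κ)⁻¹) * (t ^ (1 - κ))⁻¹
        = (t ^ (1 - κ) * T 1 ^ κ) * u * (t ^ (1 - κ) * T 1 ^ κ)⁻¹ := by group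
      _ = (T 1 ^ l * t ^ (1 - l)) * u * (T 1 ^ l * t ^ (1 - l))⁻¹ := by rw [e1]
      _ = _ := by group
  have e4 := h.cj_H hj (h.T_mem _) hu (h.T_mem _) (h.cj_U _ hu) e3
  have e5 := h.T_ne _ e4
  have e6 : (κ : F) * (1 - ψ u) = 0 := by linear_combination e5
  rcases mul_eq_zero.1 e6 with h' | h'
  · exact hκ h'
  · exact hu1 (h.ψ_inj u hu (sub_eq_zero.1 h').symm)

omit [CharP F p] hp in
theorem cj_W {w : G} (hw : w ∈ W) (j : ℤ) (x : G) :
    w * cj T y j x * w⁻¹ = cj T y j (w * x * w⁻¹) := by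
  have h1 : Commute w (y * T 1 * y⁻¹) := by
    have a : Commute w y := h.Wy w hw
    have b : Commute w (T 1) := h.Ws w hw
    exact (a.mul_right b).mul_right a.inv_right
  have h2 := (h1.zpow_right j).eq
  have h3 := (h1.zpow_right (-j)).eq
  have h4 : (y * T 1 * y⁻¹) ^ (-j) * w⁻¹ = w⁻¹ * (y * T 1 * y⁻¹) ^ (-j) := by
    rw [eq_inv_mul_iff_mul_eq, ← mul_assoc, h3]; group
  unfold cj
  calc w * ((y * T 1 * y⁻¹) ^ j * x * (y * T 1 * y⁻¹) ^ (-j)) * w⁻¹
      = (w * (y * T 1 * y⁻¹) ^ j) * x * ((y * T 1 * y⁻¹) ^ (-j) * w⁻¹) := by group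
    _ = _ := by rw [h2, h4]; group

/-- The angles of a triangle are in the prime field, up to a common twist. -/
theorem angles {i j k : ℤ} (hjk : ¬ (p : ℤ) ∣ j - k) {a b c : F} (ha : a ≠ 0)
    (e : cj T y i (T a) * cj T y j (T b) * cj T y k (T c) = 1) :
    ∃ u ∈ U, ∃ κ m l : ℤ, a = κ * ψ (cj T y (-i) u) ∧
      cj T y i (T 1 ^ κ) * cj T y j (T 1 ^ m) * cj T y k (T 1 ^ l) = 1 := by
  obtain ⟨n, v, hv, hav⟩ := h.split a ha
  set u := cj T y i v with hu
  have huU : u ∈ U := h.cj_U i hv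
  have huv : cj T y (-i) u = v := by rw [hu, cj_cj, neg_add_cancel, cj_zero]
  have hu' : u⁻¹ ∈ U := inv_mem huU
  have e1 : u⁻¹ * (cj T y i (T a) * cj T y j (T b) * cj T y k (T c)) * u⁻¹⁻¹ = 1 := by
    rw [e]; group
  have e' : ∀ A B C : G, u⁻¹ * (A * B * C) * u⁻¹⁻¹ =
      (u⁻¹ * A * u⁻¹⁻¹) * (u⁻¹ * B * u⁻¹⁻¹) * (u⁻¹ * C * u⁻¹⁻¹) := by
    intro A B C; group
  rw [e', h.conj_cj hu', h.conj_cj hu', h.conj_cj hu', cj_inv, huv, h.ψ_inv hv, hav] at e1
  have e2 : (ψ v)⁻¹ * (n * ψ v) = n := by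
    have := h.ψ_ne v hv
    field_simp
  rw [e2] at e1
  set b' := ψ (cj T y (-j) u⁻¹) * b with hb'
  set c' := ψ (cj T y (-k) u⁻¹) * c with hc'
  have key : ∀ w ∈ W, w * T b' = T b' * w ∧ w * T c' = T c' * w := by
    intro w hw
    have n1 : w ∈ Subgroup.normalizer (P : Set G) := h.WP hw
    obtain ⟨b'', hb''⟩ := h.T_surj _ ((Subgroup.mem_normalizer_iff.1 n1 _).1 (h.T_mem b'))
    obtain ⟨c'', hc''⟩ := h.T_surj _ ((Subgroup.mem_normalizer_iff.1 n1 _).1 (h.T_mem c'))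
    have e3 : w * (cj T y i (T n) * cj T y j (T b') * cj T y k (T c')) * w⁻¹ = 1 := by
      rw [e1]; group
    have e'' : ∀ A B C : G, w * (A * B * C) * w⁻¹ =
        (w * A * w⁻¹) * ((w * B * w⁻¹) * (w * C * w⁻¹)) := by
      intro A B C; group
    rw [e'', h.cj_W hw, h.cj_W hw, h.cj_W hw, ← hb'', ← hc''] at e3
    have e4 : w * T (n : F) * w⁻¹ = T n := by
      rw [← h.s_zpow]
      have : Commute w (T 1 ^ n) := (show Commute w (T 1) from h.Ws w hw).zpow_right n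
      rw [this.eq]; group
    rw [e4] at e3
    rw [mul_assoc] at e1
    have e5 := mul_left_cancel (e1.trans e3.symm)
    obtain ⟨f1, f2⟩ := h.two_term hjk e5
    rw [← f1] at hb''
    rw [← f2] at hc''
    exact ⟨(eq_mul_inv_iff_mul_eq.1 hb'').symm, (eq_mul_inv_iff_mul_eq.1 hc'').symm⟩
  obtain ⟨m, hm⟩ := h.CPW _ (h.T_mem b') fun w hw => (key w hw).1
  obtain ⟨l, hl⟩ := h.CPW _ (h.T_mem c') fun w hw => (key w hw).2
  refine ⟨u, huU, n, m, l, ?_, ?_⟩
  · rw [huv]; exact hav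
  · rw [h.s_zpow, h.s_zpow, h.s_zpow, ← hm, ← hl]
    exact e1

/-- The main step. -/
theorem estep (hp5 : 5 ≤ p) {u v : G} (hu : u ∈ U) (hv : v ∈ U) (huv : ψ u + ψ v = 2) :
    ∃ w ∈ U, 2 * ψ (cj T y (-3) u) - 1 = ψ w := by
  have nd : ∀ n : ℤ, 0 < n → n < p → ¬ (p : ℤ) ∣ n := fun n h0 h1 h2 =>
    absurd (Int.le_of_dvd h0 h2) (by omega)
  have r1 := h.Qrel' 3 2 0 hu
  have r2 := h.Qrel' 2 1 0 hv
  have r3 := h.Qrel' 3 1 0 (one_mem U)
  simp only [cj_one, h.ψ_one, mul_one, neg_zero, cj_zero, Int.cast_sub, Int.cast_zero, Int.cast_neg,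
    Int.cast_ofNat, Int.cast_one, zero_sub, sub_zero] at r1 r2 r3
  set α3 := ψ (cj T y (-3) u) with hα3
  set α2 := ψ (cj T y (-2) u) with hα2
  set β2 := ψ (cj T y (-2) v) with hβ2
  set β1 := ψ (cj T y (-1) v) with hβ1
  -- T (ψ u) etc.
  have s1 : T (ψ u) = cj T y 3 (T (-2 * α3)) * cj T y 2 (T (3 * α2)) := by
    have : (2 - 3 : F) * ψ u = -ψ u := by ring
    rw [this, h.T_neg, mul_inv_eq_one] at r1
    exact r1.symm
  have s2 : T (ψ v) = cj T y 2 (T (-1 * β2)) * cj T y 1 (T (2 * β1)) := by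
    have : (1 - 2 : F) * ψ v = -ψ v := by ring
    rw [this, h.T_neg, mul_inv_eq_one] at r2
    exact r2.symm
  have s3 : T 2 = cj T y 3 (T (-1)) * cj T y 1 (T 3) := by
    have : (1 - 3 : F) = -2 := by ring
    rw [this, h.T_neg 2, mul_inv_eq_one] at r3
    exact r3.symm
  have R0 : cj T y 3 (T (1 - 2 * α3)) * cj T y 2 (T (3 * α2 - β2)) *
      cj T y 1 (T (2 * β1 - 3)) = 1 := by
    have q1 : T 2 = T (ψ u) * T (ψ v) := by rw [← huv, h.T_add]
    rw [s1, s2, s3] at q1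
    have x1 : T (1 - 2 * α3) = (T (-1))⁻¹ * T (-2 * α3) := by
      rw [← h.T_neg, ← h.T_add]; congr 1; ring
    have x2 : T (3 * α2 - β2) = T (3 * α2) * T (-1 * β2) := by
      rw [← h.T_add]; congr 1; ring
    have x3 : T (2 * β1 - 3) = T (2 * β1) * (T 3)⁻¹ := by
      rw [← h.T_sub]
    rw [x1, x2, x3, cj_mul, cj_mul, cj_mul, cj_inv, cj_inv]
    calc (cj T y 3 (T (-1)))⁻¹ * cj T y 3 (T (-2 * α3)) *
          (cj T y 2 (T (3 * α2)) * cj T y 2 (T (-1 * β2))) *
          (cj T y 1 (T (2 * β1)) * (cj T y 1 (T 3))⁻¹)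
        = (cj T y 3 (T (-1)))⁻¹ * (cj T y 3 (T (-2 * α3)) * cj T y 2 (T (3 * α2)) *
          (cj T y 2 (T (-1 * β2)) * cj T y 1 (T (2 * β1)))) * (cj T y 1 (T 3))⁻¹ := by group
      _ = 1 := by rw [← q1]; group
  have h20 : (2 : F) ≠ 0 := by
    have : ((2 : ℤ) : F) ≠ 0 := by
      rw [Ne, CharP.intCast_eq_zero_iff F p]
      exact nd 2 (by norm_num) (by omega)
    simpa using this
  have ha : (1 - 2 * α3) ≠ 0 := by
    intro h0
    have h1 : α3 = 2⁻¹ := by
      field_simp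
      linear_combination -h0
    have h2 : α3 ^ p = α3 := by
      rw [h1, inv_pow]
      congr 1
      have := map_ofNat (frobenius F p) 2
      simpa [frobenius_def] using this
    have h3 : α3 = 1 := h.U_F _ (h.cj_U _ hu) h2
    rw [h3] at h0
    have : (1 : F) = 0 := by linear_combination -h0
    exact one_ne_zero this
  obtain ⟨w, hw, κ, m, l, e1, e2⟩ := h.angles (nd (2 - 1) (by norm_num) (by omega)) ha R0
  -- κ + m + l = 0
  have e3 : (κ : F) + m + l = 0 := by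
    have := h.rep_mul (h.rep_mul (h.rep_cj 3 κ) (h.rep_cj 2 m)) (h.rep_cj 1 l)
    rw [e2, one_mul, h.s_zpow] at this
    have h1 := h.P_Q _ (h.T_mem _) this (h.T_pow_p _)
    have h2 := h.T_ne _ h1
    push_cast at h2
    linear_combination -h2
  have e4 : cj T y 1 (T 1 ^ (-(-κ))) * T 1 ^ (-κ + -l) * cj T y (-1) (T 1 ^ (-(-l))) = 1 := by
    have e5 : T 1 ^ (-κ + -l) = T 1 ^ m := by
      rw [h.s_zpow, h.s_zpow]
      congr 1
      push_cast
      linear_combination -e3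
    rw [e5, neg_neg, neg_neg]
    have e6 := congrArg (cj T y (-2)) e2
    rw [cj_mul, cj_mul, cj_cj, cj_cj, cj_cj, cj_one] at e6
    simpa [cj_zero] using e6
  have hκ : ((-κ : ℤ) : F) ≠ 0 := by
    intro h0
    apply ha
    rw [e1]
    have : (κ : F) = 0 := by push_cast at h0; linear_combination -h0
    rw [this, zero_mul]
  have e7 := h.quad' hκ e4
  refine ⟨cj T y (-3) w, h.cj_U _ hw, ?_⟩
  have : (κ : F) = -1 := by push_cast at e7; linear_combination -e7
  rw [this] at e1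
  linear_combination -e1

end Cfg

end Cfsg.Agent.PF.AppC
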