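import Cfsg.Agent.PF.AppC4

set_option autoImplicit false

/-! Bender-Glauberman, Appendix C: conclusion `p ≤ q`. -/

namespace Cfsg.Agent.PF.AppC

open Finset

universe u

namespace Cfg

variable {G : Type u} [Group G] {F : Type} [Field F] {p : ℕ} [hp : Fact p.Prime] [CharP F p]
  {P U Q W : Subgroup G} {T : F → G} {ψ : G → F} {y : G}

variable (h : Cfg p P U Q W T ψ y)
include h

/-- `ψ` as a homomorphism into the units. -/
noncomputable def ψH (h : Cfg p P U Q W T ψ y) : U →* Fˣ where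
  toFun u := Units.mk0 (ψ u) (h.ψ_ne _ u.2)
  map_one' := by ext; simpa using h.ψ_one
  map_mul' a b := by ext; simpa using h.ψ_mul _ a.2 _ b.2

omit hp [CharP F p] in
theorem ψH_inj : Function.Injective h.ψH := by
  rw [injective_iff_map_eq_one]
  intro a ha
  have : ψ a = 1 := congrArg Units.val ha
  exact Subtype.ext (h.ψ_inj _ a.2 this)

/-- `E` is closed under inversion (unit version). -/
theorem einv (hp5 : 5 ≤ p) {u v : G} (hu : u ∈ U) (hv : v ∈ U) (huv : ψ u + ψ v = 2) :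
    ∃ w ∈ U, ψ u⁻¹ + ψ w = 2 := by
  have key : ∀ n : ℕ, ∃ w ∈ U, ψ (cj T y (-3 * n) (u ^ ((-1 : ℤ) ^ n))) + ψ w = 2 := by
    intro n
    induction n with
    | zero => exact ⟨v, hv, by simpa [cj_zero] using huv⟩
    | succ n ih =>
      obtain ⟨w, hw, e⟩ := ih
      have hx : cj T y (-3 * n) (u ^ ((-1 : ℤ) ^ n)) ∈ U := h.cj_U _ (Subgroup.zpow_mem _ hu _)
      obtain ⟨w', hw', e'⟩ := h.estep hp5 hx hw e
      rw [cj_cj] at e'
      have e1 : (-3 : ℤ) + -3 * n = -3 * ((n + 1 : ℕ) : ℤ) := by push_cast; ring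
      rw [e1] at e'
      set z := cj T y (-3 * ((n + 1 : ℕ) : ℤ)) (u ^ ((-1 : ℤ) ^ n)) with hz
      have hzU : z ∈ U := h.cj_U _ (Subgroup.zpow_mem _ hu _)
      have e2 : cj T y (-3 * ((n + 1 : ℕ) : ℤ)) (u ^ ((-1 : ℤ) ^ (n + 1))) = z⁻¹ := by
        rw [hz, ← cj_inv, ← zpow_neg]; congr 2; ring
      refine ⟨w' * z⁻¹, mul_mem hw' (inv_mem hzU), ?_⟩
      rw [e2, h.ψ_mul _ hw' _ (inv_mem hzU), h.ψ_inv hzU, ← e']
      have := h.ψ_ne z hzU
      field_simp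
      ring
  obtain ⟨w, hw, e⟩ := key p
  refine ⟨w, hw, ?_⟩
  have e1 : (-3 : ℤ) * p = 0 + p * (-3) := by ring
  have e2 : ((-1 : ℤ) ^ p) = -1 := by
    have : Odd p := hp.1.odd_of_ne_two (by omega)
    exact this.neg_one_pow
  rw [e1, h.cj_p, cj_zero, e2, zpow_neg_one] at e
  exact e

/-- Bender-Glauberman, Appendix C. -/
theorem final [Fintype F] (hp5 : 5 ≤ p) {q : ℕ} (hq : q.Prime) (hq2 : q ≠ 2)
    (hF : Fintype.card F = p ^ q) (hU : Nat.card U = ∑ i ∈ range q, p ^ i) : p ≤ q := by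
  have hH : Nat.card h.ψH.range = ∑ i ∈ range q, p ^ i := by
    rw [← hU]
    exact (Nat.card_congr (MonoidHom.ofInjective h.ψH_inj).toEquiv).symm
  obtain ⟨hiff, x, hx1, hx, hx'⟩ := exists_pair (p := p) (by omega) hq hq2 hF h.ψH.range hH
  set m := ∑ i ∈ range q, p ^ i with hm
  have hm0 : m ≠ 0 := by
    rw [hm]
    have : 0 < ∑ i ∈ range q, p ^ i :=
      Finset.sum_pos (fun i _ => pow_pos hp.1.pos _) ⟨0, by simpa using hq.pos⟩
    omega
  have hiff' : ∀ x : F, x ^ m = 1 ↔ ∃ u ∈ U, ψ u = x := by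
    intro x
    rw [hiff]
    constructor
    · rintro ⟨_, ⟨u, rfl⟩, e⟩
      exact ⟨u, u.2, e⟩
    · rintro ⟨u, hu, e⟩
      exact ⟨_, ⟨⟨u, hu⟩, rfl⟩, e⟩
  have inv : ∀ x : F, x ^ m = 1 → (2 - x) ^ m = 1 → (2 - x⁻¹) ^ m = 1 := by
    intro x hx hx'
    obtain ⟨u, hu, rfl⟩ := (hiff' x).1 hx
    obtain ⟨v, hv, e⟩ := (hiff' _).1 hx'
    obtain ⟨w, hw, e'⟩ := h.einv hp5 hu hv (by rw [e]; ring)
    rw [← h.ψ_inv hu]
    exact (hiff' _).2 ⟨w, hw, by linear_combination e'⟩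
  have hx10 : (1 - x) ≠ 0 := fun e => hx1 (sub_eq_zero.1 e).symm
  set z := (1 - x)⁻¹ with hz
  have hz0 : z ≠ 0 := inv_ne_zero hx10
  have hxz : x = (z - 1) / z := by
    rw [hz]; field_simp; ring
  have key : ∀ k : ℕ, z + k ≠ 0 ∧ ((z + k - 1) / (z + k)) ^ m = 1 ∧
      (2 - (z + k - 1) / (z + k)) ^ m = 1 ∧ (z + k) ^ m = z ^ m := by
    intro k
    induction k with
    | zero =>
      simp only [Nat.cast_zero, add_zero]
      rw [← hxz]
      exact ⟨hz0, hx, hx', trivial⟩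
    | succ k ih =>
      obtain ⟨i1, i2, i3, i4⟩ := ih
      have e1 : 2 - (z + k - 1) / (z + k) = (z + (k + 1 : ℕ)) / (z + k) := by
        push_cast; field_simp; ring
      have n1 : z + (k + 1 : ℕ) ≠ 0 := by
        intro e
        rw [e1, e, zero_div, zero_pow hm0] at i3
        exact zero_ne_one i3
      have e2 : (z + (k + 1 : ℕ) - 1) / (z + (k + 1 : ℕ)) = (2 - (z + k - 1) / (z + k))⁻¹ := by
        rw [e1, inv_div]; congr 1; push_cast; ring
      refine ⟨n1, ?_, ?_, ?_⟩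
      · rw [e2, inv_pow, i3, inv_one]
      · rw [e2]
        exact inv _ i3 (by rw [sub_sub_cancel]; exact i2)
      · rw [e1, div_pow, div_eq_one_iff_eq (pow_ne_zero _ i1)] at i3
        rw [i3, i4]
  exact le_of_norm_const hq.pos z fun k => (key k).2.2.2

end Cfg

end Cfsg.Agent.PF.AppC
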