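import Cfsg.Agent.PF.A9

/-! Part (A) of the blueprint is proved in `A1` - `A9` (helper11).  This file only collects them. -/
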