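import Cfsg.Agent.PF.Char9h
import Cfsg.Agent.H3.Sibley3

set_option autoImplicit false

/-! Number of irreducible members of a given degree, `U` abelian, `H₀ = 1` (helper13). -/

namespace Cfsg.Agent.PF

open Subgroup ComplexConjugate
open Cfsg.Agent.H3
open Cfsg.Agent.L (nz cj)
open Cfsg.Agent.OOT Cfsg.Agent.H21
open IsQ

universe u v

section

variable {G : Type u} [Group G] [Fintype G] {M W₁ U W₂ : Subgroup G} [Fintype ↥M]
  {η : Lin W₁ W₂ → G → ℂ} {μ : Lin W₁ W₂ → ↥M → ℂ} {δ : Lin W₁ W₂ → ℤ}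
  {N C : Subgroup G} {p a : ℕ}
variable {V : Type u} [CommGroup V] {π : ↥(fittingHallOf M) →* V} {ρ : ↥M →* MulAut V}

omit [Fintype ↥M] [Fintype G] in
/-- the stabilizer of `λ` in `M'` -/
theorem st_K (lam : V →* ℂˣ) : st (ρ.comp (jK M)) lam =
    (st ρ lam).subgroupOf (_root_.commutator ↥M) := rfl

/-- translate of `λ` -/
def tr (ρ : ↥M →* MulAut V) (m : ↥M) (lam : V →* ℂˣ) : V →* ℂˣ := lam.comp (ρ m).toMonoidHom

omit [Fintype ↥M] [Fintype G] in
theorem tr_apply (m : ↥M) (lam : V →* ℂˣ) (v : V) : tr ρ m lam v = lam (ρ m v) := rfl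

omit [Fintype ↥M] [Fintype G] in
theorem st_tr (m : ↥M) (lam : V →* ℂˣ) : st ρ (tr ρ m lam) = cj m⁻¹ (st ρ lam) := by
  ext x
  rw [L.mem_cj, mem_st, mem_st, inv_inv]
  constructor
  · intro hx v
    have := hx (ρ m⁻¹ v)
    rw [tr_apply, tr_apply, ρ_inv_apply] at this
    rw [ρ_mul_apply, ρ_mul_apply]
    exact this
  · intro hx v
    have := hx (ρ m v)
    rw [ρ_mul_apply, ρ_mul_apply, ρ_inv_apply'] at this
    rw [tr_apply, tr_apply]
    exact this

omit [Fintype ↥M] [Fintype G] in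
theorem relIndex_tr (m : ↥M) (lam : V →* ℂˣ) :
    (st (ρ.comp (jK M)) (tr ρ m lam)).index = (st (ρ.comp (jK M)) lam).index := by
  rw [st_K, st_K, st_tr]
  change (cj m⁻¹ (st ρ lam)).relIndex (_root_.commutator ↥M) = (st ρ lam).relIndex _
  have hK : (_root_.commutator ↥M).Normal := inferInstance
  have e : cj m⁻¹ (_root_.commutator ↥M) = _root_.commutator ↥M := by
    ext x
    rw [L.mem_cj, inv_inv]
    constructor
    · intro hx
      have := hK.conj_mem _ hx m⁻¹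
      have e2 : m⁻¹ * (m * x * m⁻¹) * m⁻¹⁻¹ = x := by group
      rwa [e2] at this
    · intro hx
      exact hK.conj_mem _ hx m
  conv_lhs => rw [← e]
  exact L.relIndex_cj _ _ _

omit [Fintype ↥M] in
/-- if the stabilizer of `λ` in `M` is not contained in `M'` then the stabilizer in `M'` is `HC`. -/
theorem IsHbar.st_of_not_le (h : IsHbar M W₁ U W₂ N C p) (hQ : IsQ M (fittingHallOf M) N π ρ)
    {lam : V →* ℂˣ} (h1 : lam ≠ 1) (hK : ¬ st ρ lam ≤ _root_.commutator ↥M) :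
    (st (ρ.comp (jK M)) lam).index = C.relIndex U := by
  classical
  have hqf : Fact (Nat.card W₁).Prime := ⟨h.hq⟩
  have hind := index_K9 h.hP
  -- `q ∣ |T|`
  have hqT : Nat.card W₁ ∣ Nat.card (st ρ lam) := by
    have e1 : (_root_.commutator ↥M).relIndex (st ρ lam) ∣ Nat.card (st ρ lam) :=
      Subgroup.relIndex_dvd_card _ _
    have e2 : (_root_.commutator ↥M).relIndex (st ρ lam) ∣ Nat.card W₁ := by
      rw [← hind]
      exact Subgroup.relIndex_dvd_index_of_normal _ _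
    rcases (Nat.dvd_prime h.hq).1 e2 with e | e
    · exact absurd (Subgroup.relIndex_eq_one.1 e) hK
    · rwa [e] at e1
  obtain ⟨y, hy⟩ := exists_prime_orderOf_dvd_card' (Nat.card W₁) hqT
  have hyo : orderOf (y : ↥M) = Nat.card W₁ := by rw [← hy]; exact Subgroup.orderOf_coe y
  -- Sylow
  have hMc : Nat.card ↥M = Nat.card ↥(_root_.commutator ↥M) * Nat.card W₁ := by
    rw [← hind, Subgroup.card_mul_index]
  have hKq : ¬ Nat.card W₁ ∣ Nat.card ↥(_root_.commutator ↥M) := by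
    intro hd
    have h2 := h.hP.coprime_W₁
    rw [← h.hP.card_M', ← card_K9 h.hP] at h2
    exact h.hq.one_lt.ne' (Nat.eq_one_of_dvd_coprimes h2 (dvd_refl _) hd)
  have hfac : (Nat.card ↥M).factorization (Nat.card W₁) = 1 := by
    rw [hMc, Nat.factorization_mul Nat.card_pos.ne' Nat.card_pos.ne', Finsupp.add_apply,
      Nat.factorization_eq_zero_of_not_dvd hKq, h.hq.factorization_self, zero_add]
  let P : Sylow (Nat.card W₁) ↥M := Sylow.ofCard (zpowers (y : ↥M)) (by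
    rw [Nat.card_zpowers, hyo, hfac, pow_one])
  let Q : Sylow (Nat.card W₁) ↥M := Sylow.ofCard (W₁.subgroupOf M) (by
    rw [Nat.card_congr (Subgroup.subgroupOfEquivOfLe h.hP.W₁_le).toEquiv, hfac, pow_one])
  obtain ⟨m, hm⟩ := MulAction.exists_smul_eq ↥M P Q
  have hm2 : cj m (zpowers (y : ↥M)) = W₁.subgroupOf M := by
    have := congrArg (fun S : Sylow (Nat.card W₁) ↥M => (S : Subgroup ↥M)) hm
    exact this
  have hyT : zpowers (y : ↥M) ≤ st ρ lam := by
    rw [zpowers_le]; exact y.2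
  have hWT : W₁.subgroupOf M ≤ st ρ (tr ρ m⁻¹ lam) := by
    rw [st_tr, inv_inv, ← hm2]
    exact L.cj_mono hyT
  have hl1 : tr ρ m⁻¹ lam ≠ 1 := by
    intro e
    apply h1
    ext v
    have := congrArg (fun f : V →* ℂˣ => f (ρ m v)) e
    simp only [tr_apply, ρ_inv_apply'] at this
    rw [this]; rfl
  rw [← relIndex_tr m⁻¹ lam]
  exact h.st_index hQ fun b hb hs => h.st_inv hQ hl1 (fun w hw => hWT hw) hb hs

/-- an irreducible character of degree divisible by `q`, nontrivial on `H`, is in `SH M ⊥`. -/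
theorem IsHbar.mem_SH_of_dvd (h : IsHbar M W₁ U W₂ N C p) (F : IsFrame M W₁ U W₂ η μ δ)
    {χ : ↥M → ℂ} (hχ : IsIrrCharacter ↥M χ) {m : ℕ} (hm : χ 1 = (Nat.card W₁ * m : ℕ))
    (hH : ∃ k : ↥M, (k : G) ∈ fittingHallOf M ∧ χ k ≠ χ 1) : χ ∈ SH M ⊥ := by
  classical
  have hne : ∀ ω, χ ≠ μ ω := by
    rintro ω rfl
    obtain ⟨d, hd0, hd, hdvd⟩ := F.deg ω
    have h1 : d = Nat.card W₁ * m := by
      rw [hd] at hm
      exact_mod_cast hm
    rw [h1] at hdvd
    have h2 : (Nat.card W₁ : ℤ) ∣ δ ω := by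
      have h3 : (Nat.card W₁ : ℤ) ∣ ((Nat.card W₁ * m : ℕ) : ℤ) := ⟨m, by push_cast; ring⟩
      have := dvd_sub h3 hdvd
      rwa [sub_sub_cancel] at this
    have h4 : (Nat.card W₁ : ℤ) ∣ 1 := by
      rcases F.sign ω with e | e
      · rwa [e] at h2
      · rw [e] at h2
        exact (dvd_neg).1 h2
    have h5 : Nat.card W₁ ∣ 1 := by exact_mod_cast h4
    exact h.hq.one_lt.ne' (Nat.dvd_one.1 h5)
  obtain ⟨θ, hθ, e⟩ := F.other_ind χ hχ hne
  refine ⟨θ, hθ, ?_, ?_, e⟩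
  · intro a ha
    have : a = 1 := by
      apply Subtype.ext
      apply Subtype.ext
      exact Subgroup.mem_bot.1 ha
    rw [this]
  · by_contra hcon
    push Not at hcon
    obtain ⟨k, hk, hk2⟩ := hH
    apply hk2
    have hK : (_root_.commutator ↥M).Normal := inferInstance
    have hkK : k ∈ _root_.commutator ↥M := mem_K9.2 (h.hP.H_le' hk)
    have e1 := indFun_restrict_normal hK θ ⟨k, hkK⟩
    have e2 := indFun_restrict_normal hK θ 1
    rw [e]
    have e3 : indFun (_root_.commutator ↥M) θ k = (Nat.card ↥(_root_.commutator ↥M) : ℂ)⁻¹ *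
      ∑ x : ↥M, H3.cj hK x θ ⟨k, hkK⟩ := e1
    have e4 : indFun (_root_.commutator ↥M) θ 1 = (Nat.card ↥(_root_.commutator ↥M) : ℂ)⁻¹ *
      ∑ x : ↥M, H3.cj hK x θ 1 := e2
    rw [e3, e4]
    congr 1
    refine Finset.sum_congr rfl fun x _ => ?_
    rw [cj_one_apply, cj_apply]
    apply hcon
    exact conj_of_le_nz h.M_nz_H x.2 hk

theorem IsHbar.count_all (h : IsHbar M W₁ U W₂ ⊥ C p) (F : IsFrame M W₁ U W₂ η μ δ)
    (hab : IsMulCommutative U) {χ : ↥M → ℂ} (hχ : χ ∈ SH M ⊥) (hirr : IsIrrCharacter ↥M χ)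
    {k t : ℕ} (hk : χ 1 = (Nat.card W₁ * k : ℕ)) (ht : t * k = C.relIndex U) :
    2 * t ≤ Nat.card {φ : ↥M → ℂ // IsIrrCharacter ↥M φ ∧ φ ∈ SH M ⊥ ∧ φ 1 = χ 1} := by
  classical
  have := Fintype.ofFinite ↥(_root_.commutator ↥M)
  obtain ⟨V, _, π, ρ, hQ⟩ := h.exists_Q
  have hfin : Finite {φ : ↥M → ℂ // IsIrrCharacter ↥M φ ∧ φ ∈ SH M ⊥ ∧ φ 1 = χ 1} := by
    have : Finite (IrrCharacter ↥M) := inferInstance
    exact Finite.of_injective (fun χ => (⟨χ.1, χ.2.1⟩ : IrrCharacter ↥M)) fun χ χ' e =>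
      Subtype.ext (congrArg (fun z : IrrCharacter ↥M => (z : ↥M → ℂ)) e)
  have hb : M ≤ nz ((⊥ : Subgroup G) ⊔ ⊥) := by rw [sup_bot_eq]; exact h.N_norm
  have := Fintype.ofFinite (pl (jK M) (fittingHallOf M ⊔ ⊥))
  have := Fintype.ofFinite (pl (MonoidHom.id ↥M) (fittingHallOf M ⊔ ⊥))
  have hcomm : ∀ x : ↥M, (x : G) ∈ U → ∀ y : ↥M, (y : G) ∈ U →
      ((x * y * x⁻¹ * y⁻¹ : ↥M) : G) ∈ (⊥ : Subgroup G) := by
    intro x hx y hy
    rw [Subgroup.mem_bot]
    have := mulComm_iff.1 hab x hx y hy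
    show (x : G) * y * (x : G)⁻¹ * (y : G)⁻¹ = 1
    rw [this]; group
  have hχ' := hχ
  obtain ⟨θ, hθ, hE, hH, e⟩ := hχ'
  obtain ⟨lam, h1, hne⟩ := h.theta_lam hQ bot_le hb hθ
    (fun a ha => hE a (by rwa [sup_bot_eq] at ha)) hH
  have hθ1 := h.theta_eq hQ bot_le hb (fun x hx _ y hy _ => hcomm x hx y hy) hθ hne
  have hq0 : (Nat.card W₁ : ℂ) ≠ 0 := by exact_mod_cast h.hq.ne_zero
  have hkk : (st (ρ.comp (jK M)) lam).index = k := by
    have e2 : χ 1 = (Nat.card W₁ : ℂ) * ((st (ρ.comp (jK M)) lam).index : ℂ) := by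
      rw [e, indFun_one_apply, index_K9 h.hP, hθ1]
    rw [hk] at e2
    push_cast at e2
    have e3 := mul_left_cancel₀ hq0 e2
    exact_mod_cast e3.symm
  have hu0 := h.u_pos
  by_cases hTK : st ρ lam ≤ _root_.commutator ↥M
  swap
  · -- `k = u`
    have hku := h.st_of_not_le hQ h1 hTK
    rw [hkk] at hku
    have ht1 : t = 1 := by
      rw [hku] at ht
      exact Nat.eq_of_mul_eq_mul_right hu0 (by rw [ht, one_mul])
    rw [ht1, mul_one]
    have hcne : conjFun χ ≠ χ := by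
      refine odd_conj_ne F.oddM hirr fun e3 => ?_
      have := hirr
      have hmu : ∀ ω, χ ≠ μ ω := by
        intro ω e4
        have := h.mem_SH_of_dvd F hirr hk
        obtain ⟨d, hd0, hd, hdvd⟩ := F.deg ω
        have h5 : d = Nat.card W₁ * k := by
          rw [e4, hd] at hk
          exact_mod_cast hk
        have h6 : χ 1 = 1 := by rw [e3]
        rw [hk] at h6
        have h7 : Nat.card W₁ * k = 1 := by exact_mod_cast h6
        exact h.hq.one_lt.ne' (Nat.dvd_one.1 ⟨k, h7.symm⟩)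
      exact hmu 1 (by rw [e3, F.mu_one])
    have hc1 : conjFun χ 1 = χ 1 := by
      show conj (χ 1) = χ 1
      rw [hk]; simp
    have hmemc : conjFun χ ∈ SH M ⊥ := by
      refine ⟨conjFun θ, isIrr_conj hθ, fun a ha => ?_, ?_, ?_⟩
      · show conj (θ a) = conj (θ 1)
        rw [hE a ha]
      · obtain ⟨z, hz, hz2⟩ := hH
        exact ⟨z, hz, fun e4 => hz2 (star_injective e4)⟩
      · rw [e, conj_ind]
    let Φ : Bool → {φ : ↥M → ℂ // IsIrrCharacter ↥M φ ∧ φ ∈ SH M ⊥ ∧ φ 1 = χ 1} := fun b =>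
      if b then ⟨χ, hirr, hχ, rfl⟩ else ⟨conjFun χ, isIrr_conj hirr, hmemc, hc1⟩
    have hΦ : Function.Injective Φ := by
      intro b b' hbb
      cases b <;> cases b' <;> simp only [Φ] at hbb ⊢
      · exact absurd (congrArg Subtype.val hbb) hcne
      · exact absurd (congrArg Subtype.val hbb).symm hcne
    have := Nat.card_le_card_of_injective Φ hΦ
    simpa using this
  -- `T ≤ K`
  have hdecM : ∀ lam' : V →* ℂˣ, st (ρ.comp (MonoidHom.id ↥M)) lam' ≤ _root_.commutator ↥M →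
      ∀ s ∈ st (ρ.comp (MonoidHom.id ↥M)) lam',
      ∃ z ∈ pl (MonoidHom.id ↥M) (fittingHallOf M), ∃ b ∈ pl (MonoidHom.id ↥M) U, s = z * b := by
    intro lam' hle s hs
    obtain ⟨x, hx, b, hb, e⟩ := h.K_eq (mem_K9.1 (hle hs))
    exact ⟨⟨x, h.H_le_M hx⟩, hx, ⟨b, h.hP.U_le hb⟩, hb, Subtype.ext e⟩
  have hc := h.chM hQ bot_le hb
  have hone : ∀ lam' : V →* ℂˣ, lam' ≠ 1 → st ρ lam' = st ρ lam →
      Nat.card {φ : ↥M → ℂ // IsIrrCharacter ↥M φ ∧ classInner
        (fun b : pl (MonoidHom.id ↥M) (fittingHallOf M ⊔ ⊥) => φ b) (hc.fB lam') ≠ 0} =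
        t * Nat.card C ∧
      ∀ φ : ↥M → ℂ, IsIrrCharacter ↥M φ → classInner
        (fun b : pl (MonoidHom.id ↥M) (fittingHallOf M ⊔ ⊥) => φ b) (hc.fB lam') ≠ 0 →
        φ ∈ SH M ⊥ ∧ φ 1 = χ 1 := by
    intro lam' hl' hst
    have hidx : (st (ρ.comp (MonoidHom.id ↥M)) lam').index = Nat.card W₁ * k := by
      change (st ρ lam').index = _
      rw [hst, ← Subgroup.relIndex_mul_index hTK, index_K9 h.hP, mul_comm]
      congr 1
    have hle' : st (ρ.comp (MonoidHom.id ↥M)) lam' ≤ _root_.commutator ↥M := by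
      change st ρ lam' ≤ _
      rw [hst]; exact hTK
    have hover : ∀ φ : ↥M → ℂ, IsIrrCharacter ↥M φ → classInner
        (fun b : pl (MonoidHom.id ↥M) (fittingHallOf M ⊔ ⊥) => φ b) (hc.fB lam') ≠ 0 →
        φ 1 = (Nat.card W₁ * k : ℕ) := by
      intro φ hφ hne'
      rw [← hidx]
      exact (hc.over_eq (hdecM lam' hle') (fun x hx _ y hy _ => hcomm x hx y hy) hφ hne').1
    constructor
    · have h2 := hc.count (hdecM lam' hle') (fun x hx _ y hy _ => hcomm x hx y hy)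
      have h3 := Subgroup.card_mul_index (st (ρ.comp (MonoidHom.id ↥M)) lam')
      rw [hidx] at h3
      have h4 : Nat.card ↥M = Nat.card (fittingHallOf M) * (Nat.card C * (t * k)) * Nat.card W₁ := by
        rw [ht, h.card_U, ← card_K9 h.hP, ← index_K9 h.hP, Subgroup.card_mul_index]
      have h5 : Nat.card (pl (MonoidHom.id ↥M) (fittingHallOf M ⊔ ⊥)) =
          Nat.card (fittingHallOf M) := by
        rw [card_pl Function.injective_id (fun x hx => ⟨⟨x, h.H_le_M (by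
          rwa [sup_bot_eq] at hx)⟩, rfl⟩), sup_bot_eq]
      rw [h5] at h2
      have hk0 : 0 < k := Nat.pos_of_ne_zero (by
        rintro rfl
        rw [mul_zero] at ht
        omega)
      have h6 : 0 < Nat.card (fittingHallOf M) * (Nat.card W₁ * k) :=
        Nat.mul_pos Nat.card_pos (Nat.mul_pos h.hq.pos hk0)
      apply Nat.eq_of_mul_eq_mul_left h6
      have h7 : Nat.card (st (ρ.comp (MonoidHom.id ↥M)) lam') * (Nat.card W₁ * k) =
        Nat.card (fittingHallOf M) * (Nat.card C * (t * k)) * Nat.card W₁ := by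
        rw [h3, ← h4]
      rw [← h2] at h7
      calc _ = Nat.card (fittingHallOf M) * _ * (Nat.card W₁ * k) := by ring
        _ = _ := h7
        _ = _ := by ring
    · intro φ hφ hne'
      have h2 := hover φ hφ hne'
      refine ⟨?_, by rw [h2, hk]⟩
      obtain ⟨z, hz⟩ := hc.over_H hl' hφ hne'
      exact h.mem_SH_of_dvd F hφ h2 ⟨z, z.2, hz⟩
  -- `λ⁻¹`
  have hstinv : st ρ lam⁻¹ = st ρ lam := by
    ext x
    rw [mem_st, mem_st]
    constructor
    · intro hx v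
      have := hx v
      rw [MonoidHom.inv_apply, MonoidHom.inv_apply, inv_inj] at this
      exact this
    · intro hx v
      rw [MonoidHom.inv_apply, MonoidHom.inv_apply, hx v]
  have h1i : lam⁻¹ ≠ 1 := by
    intro e3
    apply h1
    ext v
    have e4 := congrArg (fun f : V →* ℂˣ => f v) e3
    have e5 : (lam v)⁻¹ = 1 := e4
    rw [inv_eq_one] at e5
    rw [e5]; rfl
  obtain ⟨n1, m1⟩ := hone lam h1 rfl
  obtain ⟨n2, m2⟩ := hone lam⁻¹ h1i hstinv
  have hdis : ∀ φ : ↥M → ℂ, IsIrrCharacter ↥M φ → classInner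
        (fun b : pl (MonoidHom.id ↥M) (fittingHallOf M ⊔ ⊥) => φ b) (hc.fB lam) ≠ 0 → classInner
        (fun b : pl (MonoidHom.id ↥M) (fittingHallOf M ⊔ ⊥) => φ b) (hc.fB lam⁻¹) ≠ 0 → False := by
    intro φ hφ k1 k2
    obtain ⟨x, hx⟩ := clifford_inner hc.normB hφ (hc.fB_irr lam) k1 (hc.fB_irr lam⁻¹) k2
    rw [hc.cj_fB] at hx
    change ∀ v, lam (ρ x v) = lam⁻¹ v at hx
    have hx2 : x ^ 2 ∈ st ρ lam := by
      intro v
      rw [pow_two, ρ_mul_apply, hx, MonoidHom.inv_apply, hx, MonoidHom.inv_apply, inv_inv]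
    have hx1 : x ∈ st ρ lam := by
      obtain ⟨n, hn⟩ := (F.oddM.of_dvd_nat (orderOf_dvd_natCard x) : Odd (orderOf x))
      have : x = (x ^ 2) ^ (n + 1) := by
        rw [← pow_mul, show 2 * (n + 1) = orderOf x + 1 by omega, pow_succ, pow_orderOf_eq_one,
          one_mul]
      rw [this]
      exact (st ρ lam).pow_mem hx2 _
    apply h1
    ext v
    have h2 : lam v = (lam v)⁻¹ := (hx1 v).symm.trans (hx v)
    have h3 : lam v ^ 2 = 1 := by
      rw [pow_two]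
      nth_rewrite 2 [h2]
      exact mul_inv_cancel _
    have h4 : lam v ^ p = 1 := by rw [← map_pow, (h.act9 hQ).pow, map_one]
    have hpo : Odd p := by
      have hd : p ∣ Nat.card (fittingHallOf M) := by
        rw [h.card]
        exact Dvd.dvd.mul_left (dvd_pow_self p h.hq.ne_zero) _
      exact Odd.of_dvd_nat (odd_of_le h.H_le_M F.oddM) hd
    obtain ⟨n, hn⟩ := hpo
    rw [hn, pow_succ, pow_mul, h3, one_pow, one_mul] at h4
    rw [h4]; rfl
  let A1 := {φ : ↥M → ℂ // IsIrrCharacter ↥M φ ∧ classInner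
        (fun b : pl (MonoidHom.id ↥M) (fittingHallOf M ⊔ ⊥) => φ b) (hc.fB lam) ≠ 0}
  let A2 := {φ : ↥M → ℂ // IsIrrCharacter ↥M φ ∧ classInner
        (fun b : pl (MonoidHom.id ↥M) (fittingHallOf M ⊔ ⊥) => φ b) (hc.fB lam⁻¹) ≠ 0}
  have hfin1 : Finite A1 := by
    have : Finite (IrrCharacter ↥M) := inferInstance
    exact Finite.of_injective (fun χ : A1 => (⟨χ.1, χ.2.1⟩ : IrrCharacter ↥M)) fun χ χ' e =>
      Subtype.ext (congrArg (fun z : IrrCharacter ↥M => (z : ↥M → ℂ)) e)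
  have hfin2 : Finite A2 := by
    have : Finite (IrrCharacter ↥M) := inferInstance
    exact Finite.of_injective (fun χ : A2 => (⟨χ.1, χ.2.1⟩ : IrrCharacter ↥M)) fun χ χ' e =>
      Subtype.ext (congrArg (fun z : IrrCharacter ↥M => (z : ↥M → ℂ)) e)
  let Φ : A1 ⊕ A2 → {φ : ↥M → ℂ // IsIrrCharacter ↥M φ ∧ φ ∈ SH M ⊥ ∧ φ 1 = χ 1} := fun s =>
    match s with
    | Sum.inl φ => ⟨φ.1, φ.2.1, m1 φ.1 φ.2.1 φ.2.2⟩
    | Sum.inr φ => ⟨φ.1, φ.2.1, m2 φ.1 φ.2.1 φ.2.2⟩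
  have hΦ : Function.Injective Φ := by
    rintro (φ | φ) (φ' | φ') e3
    · have e4 : φ.1 = φ'.1 := congrArg
        (fun z : {φ : ↥M → ℂ // IsIrrCharacter ↥M φ ∧ φ ∈ SH M ⊥ ∧ φ 1 = χ 1} => z.1) e3
      exact congrArg Sum.inl (Subtype.ext e4)
    · exfalso
      have e4 : φ.1 = φ'.1 := congrArg
        (fun z : {φ : ↥M → ℂ // IsIrrCharacter ↥M φ ∧ φ ∈ SH M ⊥ ∧ φ 1 = χ 1} => z.1) e3
      exact hdis φ.1 φ.2.1 φ.2.2 (by rw [e4]; exact φ'.2.2)
    · exfalso
      have e4 : φ.1 = φ'.1 := congrArg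
        (fun z : {φ : ↥M → ℂ // IsIrrCharacter ↥M φ ∧ φ ∈ SH M ⊥ ∧ φ 1 = χ 1} => z.1) e3
      exact hdis φ.1 φ.2.1 (by rw [e4]; exact φ'.2.2) φ.2.2
    · have e4 : φ.1 = φ'.1 := congrArg
        (fun z : {φ : ↥M → ℂ // IsIrrCharacter ↥M φ ∧ φ ∈ SH M ⊥ ∧ φ 1 = χ 1} => z.1) e3
      exact congrArg Sum.inr (Subtype.ext e4)
  have h9 := Nat.card_le_card_of_injective Φ hΦ
  rw [Nat.card_sum] at h9
  change Nat.card A1 = _ at n1
  change Nat.card A2 = _ at n2
  rw [n1, n2] at h9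
  have hC1 : 1 ≤ Nat.card C := Nat.card_pos
  nlinarith

end

end Cfsg.Agent.PF
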