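import Cfsg.Agent.PF.Sec9b

set_option autoImplicit false

/-! PF (9.7), non-Galois case, for `IsHbar` (helper13). -/

namespace Cfsg.Agent.PF

open Subgroup
open Cfsg.Agent.L (cj nz)
open Cfsg.Agent.OOT
open Cfsg.Agent.H21
open scoped Pointwise commutatorElement

universe u
variable {G : Type u} [Group G] [Finite G] {M W₁ U W₂ N C : Subgroup G} {p : ℕ}

namespace IsQ

variable {H : Subgroup G} {V : Type u} [CommGroup V] {π : ↥H →* V} {ρ : ↥M →* MulAut V}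

omit [Finite G] in
theorem up_mv (hQ : IsQ M H N π ρ) (hH : M ≤ nz H) (w : M) (X : Subgroup V) :
    up π (mv ρ w X) = cj (w : G) (up π X) := by
  ext x
  rw [L.mem_cj, mem_up, mem_up]
  constructor
  · rintro ⟨h1, h2⟩
    have h3 : (w : G)⁻¹ * x * w ∈ H := conj_of_le_nz' hH w.2 h1
    refine ⟨h3, ?_⟩
    rw [mem_mv, hQ.act w⁻¹ ⟨x, h1⟩ ⟨_, h3⟩ (by push_cast; rw [inv_inv])] at h2
    exact h2
  · rintro ⟨h1, h2⟩
    have h3 : x ∈ H := by
      have := conj_of_le_nz hH w.2 h1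
      have e : (w : G) * ((w : G)⁻¹ * x * w) * (w : G)⁻¹ = x := by group
      rwa [e] at this
    refine ⟨h3, ?_⟩
    rw [mem_mv, hQ.act w⁻¹ ⟨x, h3⟩ ⟨_, h1⟩ (by push_cast; rw [inv_inv])]
    exact h2

omit [Finite G] in
theorem up_sup (hQ : IsQ M H N π ρ) (hNH : N ≤ H) {X Y : Subgroup V} (h : X ⊔ Y = ⊤) :
    up π X ⊔ up π Y = H := by
  apply le_antisymm (sup_le up_le up_le)
  intro x hx
  have h1 : π ⟨x, hx⟩ ∈ X ⊔ Y := by rw [h]; trivial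
  obtain ⟨a, ha, b, hb, hab⟩ := Subgroup.mem_sup.1 h1
  obtain ⟨a', rfl⟩ := hQ.surj a
  obtain ⟨b', rfl⟩ := hQ.surj b
  have h2 : π (⟨x, hx⟩ * (a' * b')⁻¹) = 1 := by
    rw [map_mul, map_inv, map_mul, hab, mul_inv_cancel]
  have h3 := (hQ.ker _).1 h2
  have h4 : x = ((⟨x, hx⟩ * (a' * b')⁻¹ : H) : G) * ((a' : G) * b') := by
    push_cast; group
  rw [h4]
  refine mul_mem ?_ (mul_mem ?_ ?_)
  · exact le_sup_left (a := up π X) (hQ.le_up hNH h3)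
  · exact le_sup_left (a := up π X) (coe_mem_up.2 ha)
  · exact le_sup_right (a := up π X) (coe_mem_up.2 hb)

omit [Finite G] in
theorem le_nz_up (hQ : IsQ M H N π ρ) (hH : M ≤ nz H) {A : Subgroup G} (hA : A ≤ M)
    {X : Subgroup V} (h : Inv9 ρ (A.subgroupOf M) X) : A ≤ nz (up π X) := by
  apply le_nz_of_conj
  intro a ha
  exact (hQ.act_up hH (m := ⟨a, hA ha⟩)).1 (h ⟨a, hA ha⟩ ha)

end IsQ

theorem nonGal_aux (h : IsHbar M W₁ U W₂ N C p) (hodd : Odd (Nat.card M))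
    (hng : ¬ IsGal M U N) : ∃ X Y U₁ a, IsNonGal M W₁ U N C X Y U₁ p a := by
  obtain ⟨V, _, π, ρ, hQ⟩ := h.exists_Q
  have hA := h.act9 hQ
  have hfV := hA.finV
  obtain ⟨X, Y, hN⟩ := hA.nonGal (fun e => hng ((h.gal9 hQ).1 e))
  obtain ⟨hdvd, hne1, g, hg, hgk⟩ := Act9.index_facts hA hN
  set K₁ := (Act9.restrX hN.invX).ker with hK₁
  let U₁ : Subgroup G := (K₁.map (U.subgroupOf M).subtype).map M.subtype
  have hmem : ∀ u : G, u ∈ U₁ ↔ ∃ hu : u ∈ U, ∀ x ∈ X, ρ ⟨u, h.hP.U_le hu⟩ x = x := by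
    intro u
    constructor
    · rintro ⟨_, ⟨u', hu', rfl⟩, rfl⟩
      refine ⟨u'.2, fun x hx => ?_⟩
      have h1 : Act9.restrX hN.invX u' = 1 := hu'
      have h2 := congrArg (fun f : MulAut X => ((f ⟨x, hx⟩ : X) : V)) h1
      exact h2
    · rintro ⟨hu, hx⟩
      refine ⟨⟨u, h.hP.U_le hu⟩, ⟨⟨⟨u, h.hP.U_le hu⟩, hu⟩, ?_, rfl⟩, rfl⟩
      rw [SetLike.mem_coe, hK₁, MonoidHom.mem_ker]
      ext x
      exact hx x x.2
  have hmem2 : ∀ u : G, u ∈ U₁ ↔ u ∈ U ∧ ∀ x ∈ IsQ.up π X, u * x * u⁻¹ * x⁻¹ ∈ N := by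
    intro u
    rw [hmem]
    constructor
    · rintro ⟨hu, h1⟩
      refine ⟨hu, fun x hx => ?_⟩
      obtain ⟨hxH, hx2⟩ := IsQ.mem_up.1 hx
      exact (hQ.act_eq_iff h.M_nz_H (m := ⟨u, h.hP.U_le hu⟩) (x := ⟨x, hxH⟩)).1 (h1 _ hx2)
    · rintro ⟨hu, h1⟩
      refine ⟨hu, fun v hv => ?_⟩
      obtain ⟨x, rfl⟩ := hQ.surj v
      exact (hQ.act_eq_iff h.M_nz_H).2 (h1 x (IsQ.coe_mem_up.2 hv))
  have hU₁U : U₁ ≤ U := fun u hu => ((hmem2 u).1 hu).1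
  have hcardU : Nat.card U = Nat.card U₁ * K₁.index := by
    have e1 : Nat.card U₁ = Nat.card K₁ := by
      rw [Nat.card_congr ((K₁.map (U.subgroupOf M).subtype).equivMapOfInjective _
        M.subtype_injective).symm.toEquiv, Nat.card_congr (K₁.equivMapOfInjective _
        (U.subgroupOf M).subtype_injective).symm.toEquiv]
    rw [e1, Subgroup.card_mul_index]
    exact (Nat.card_congr (Subgroup.subgroupOfEquivOfLe h.hP.U_le).toEquiv).symm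
  have hcX : Nat.card (IsQ.up π X) = Nat.card N * p := by
    rw [hQ.card_up h.N_le, hN.cardX]
  have hlt : 1 < K₁.index := by
    have h0 : K₁.index ≠ 0 := by
      intro e
      rw [e, mul_zero] at hcardU
      exact Nat.card_pos.ne' hcardU
    omega
  refine ⟨IsQ.up π X, IsQ.up π Y, U₁, K₁.index, ?_⟩
  constructor
  · exact hQ.le_up h.N_le
  · exact IsQ.up_le
  · exact hQ.le_nz_up h.M_nz_H h.hP.U_le hN.invX
  · exact hcX
  · exact hQ.le_up h.N_le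
  · exact IsQ.up_le
  · exact hQ.le_nz_up h.M_nz_H h.hP.U_le hN.invY
  · rw [hQ.card_eq h.N_le, hQ.card_up h.N_le, hN.cardY, mul_assoc]
  · intro w hw hw1
    have h1 := hN.mv_le ⟨w, h.hP.W₁_le hw⟩ hw (fun e => hw1 (congrArg Subtype.val e))
    have h2 := hQ.up_mv h.M_nz_H ⟨w, h.hP.W₁_le hw⟩ X
    rw [← h2]
    exact IsQ.up_mono h1
  · rw [← IsQ.up_inf, hN.inf, hQ.up_bot h.N_le]
  · exact hQ.up_sup h.N_le hN.sup
  · intro w hw hw1
    have h1 := hN.supY ⟨w, h.hP.W₁_le hw⟩ hw (fun e => hw1 (congrArg Subtype.val e))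
    have h2 := hQ.up_mv h.M_nz_H ⟨w, h.hP.W₁_le hw⟩ Y
    rw [← h2]
    exact hQ.up_sup h.N_le h1
  · -- gen
    intro Z hZ
    have hNZ : N ≤ Z := by
      have h1 := hZ 1 (one_mem _)
      intro x hx
      apply h1
      rw [L.mem_cj]
      simpa using hQ.le_up h.N_le hx
    have h1 : IsQ.down π Z = ⊤ := by
      apply hN.gen
      intro w hw v hv
      obtain ⟨x, rfl⟩ := hQ.surj v
      rw [hQ.mem_down hNZ]
      apply hZ w hw
      rw [← hQ.up_mv h.M_nz_H]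
      exact IsQ.coe_mem_up.2 hv
    intro x hx
    have h2 : π ⟨x, hx⟩ ∈ IsQ.down π Z := by rw [h1]; trivial
    exact (hQ.mem_down hNZ).1 h2
  · exact hmem2
  · exact hU₁U
  · -- C ≤ U₁
    intro c hc
    rw [hmem2]
    exact ⟨h.C_le hc, fun x hx => ((h.mem_C c).1 hc).2 x (IsQ.up_le hx)⟩
  · -- U normalizes U₁
    apply le_nz_of_conj
    intro a ha u hu
    obtain ⟨hu1, hu2⟩ := (hmem2 u).1 hu
    rw [hmem2]
    refine ⟨mul_mem (mul_mem ha hu1) (inv_mem ha), fun x hx => ?_⟩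
    have hn : U ≤ nz (IsQ.up π X) := hQ.le_nz_up h.M_nz_H h.hP.U_le hN.invX
    have h1 := hu2 _ (conj_of_le_nz' hn ha hx)
    have h2 := conj_of_le_nz h.U_nz_N ha h1
    have h3 : a * (u * (a⁻¹ * x * a) * u⁻¹ * (a⁻¹ * x * a)⁻¹) * a⁻¹ =
      a * u * a⁻¹ * x * (a * u * a⁻¹)⁻¹ * x⁻¹ := by group
    rwa [h3] at h2
  · -- U₁ = C_U(H/Y)
    intro u
    rw [hmem]
    constructor
    · rintro ⟨hu, h1⟩
      refine ⟨hu, fun x hx => ?_⟩
      have h2 := (Act9.cent_iff hN (u := ⟨u, h.hP.U_le hu⟩) hu).1 h1 (π ⟨x, hx⟩)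
      have h3 : u * x * u⁻¹ ∈ fittingHallOf M := conj_of_le_nz h.M_nz_H (h.hP.U_le hu) hx
      rw [hQ.act ⟨u, h.hP.U_le hu⟩ ⟨x, hx⟩ ⟨_, h3⟩ rfl, ← map_inv, ← map_mul,
        ← IsQ.coe_mem_up] at h2
      exact h2
    · rintro ⟨hu, h1⟩
      refine ⟨hu, ?_⟩
      apply (Act9.cent_iff hN (u := ⟨u, h.hP.U_le hu⟩) hu).2
      intro v
      obtain ⟨x, rfl⟩ := hQ.surj v
      have h3 : u * x * u⁻¹ ∈ fittingHallOf M := conj_of_le_nz h.M_nz_H (h.hP.U_le hu) x.2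
      rw [hQ.act ⟨u, h.hP.U_le hu⟩ x ⟨_, h3⟩ rfl, ← map_inv, ← map_mul, ← IsQ.coe_mem_up]
      exact h1 x x.2
  · -- intersection
    intro c hc
    have hcU : c ∈ U := by
      have := hc 1 (one_mem _)
      rw [L.mem_cj] at this
      simpa using hU₁U this
    rw [h.mem_C]
    refine ⟨hcU, ?_⟩
    -- the set of `x` with `[c, x] ∈ N`
    have key : ∀ v : V, ρ ⟨c, h.hP.U_le hcU⟩ v = v := by
      let Z : Subgroup V :=
        { carrier := {v | ρ ⟨c, h.hP.U_le hcU⟩ v = v}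
          one_mem' := map_one _
          mul_mem' := by
            rintro a b (ha : _ = _) (hb : _ = _)
            show ρ _ (a * b) = a * b
            rw [map_mul, ha, hb]
          inv_mem' := by
            rintro a (ha : _ = _)
            show ρ _ a⁻¹ = a⁻¹
            rw [map_inv, ha] }
      have hZ : Z = ⊤ := by
        apply hN.gen
        intro w hw v hv
        show ρ ⟨c, h.hP.U_le hcU⟩ v = v
        have h1 := hc w hw
        rw [L.mem_cj, hmem] at h1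
        obtain ⟨hu, h2⟩ := h1
        rw [mem_mv] at hv
        have h3 := h2 _ hv
        have h4 : (⟨(w : G)⁻¹ * c * w, h.hP.U_le hu⟩ : M) = w⁻¹ * ⟨c, h.hP.U_le hcU⟩ * w :=
          Subtype.ext rfl
        rw [h4, ρ_mul_apply, ρ_mul_apply, ρ_inv_apply] at h3
        exact (ρ w⁻¹).injective h3
      intro v
      have : v ∈ Z := by rw [hZ]; trivial
      exact this
    intro x hx
    exact (hQ.act_eq_iff h.M_nz_H (m := ⟨c, h.hP.U_le hcU⟩) (x := ⟨x, hx⟩)).1 (key _)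
  · exact hcardU
  · exact hdvd
  · exact Odd.of_dvd_nat (odd_of_le h.hP.U_le hodd) (hcardU ▸ Dvd.intro_left _ rfl)
  · exact hlt
  · -- act
    intro u hu
    obtain ⟨k, hk⟩ := Act9.act_pow hN h.hp (u := ⟨u, h.hP.U_le hu⟩) hu
    refine ⟨k, fun x hx => ?_⟩
    obtain ⟨hxH, hx2⟩ := IsQ.mem_up.1 hx
    have h1 := hk _ hx2
    have h3 : u * x * u⁻¹ ∈ fittingHallOf M := conj_of_le_nz h.M_nz_H (h.hP.U_le hu) hxH
    rw [hQ.act ⟨u, h.hP.U_le hu⟩ ⟨x, hxH⟩ ⟨_, h3⟩ rfl, ← map_pow, ← mul_inv_eq_one, ← map_inv,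
      ← map_mul, hQ.ker] at h1
    exact h1
  · -- cyclic
    refine ⟨g, hg, fun u hu => ?_⟩
    obtain ⟨k, hk⟩ := hgk ⟨u, h.hP.U_le hu⟩ hu
    refine ⟨k, ?_⟩
    rw [hmem]
    have hgk' : (g : G) ^ k ∈ U := pow_mem hg k
    refine ⟨mul_mem hu (inv_mem hgk'), fun x hx => ?_⟩
    have h4 : (⟨u * ((g : G) ^ k)⁻¹, h.hP.U_le (mul_mem hu (inv_mem hgk'))⟩ : M) =
        ⟨u, h.hP.U_le hu⟩ * (g ^ k)⁻¹ := Subtype.ext rfl
    rw [h4, ρ_mul_apply]
    have h5 : ρ (g ^ k)⁻¹ x ∈ X := hN.invX _ (inv_mem ((U.subgroupOf M).pow_mem hg k)) x hx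
    rw [hk _ h5, ρ_inv_apply]

theorem IsHbar.dichotomy (h : IsHbar M W₁ U W₂ N C p) (hodd : Odd (Nat.card M)) :
    IsGal M U N ∨ ∃ X Y U₁ a, IsNonGal M W₁ U N C X Y U₁ p a := by
  by_cases hg : IsGal M U N
  · exact Or.inl hg
  · exact Or.inr (nonGal_aux h hodd hg)

end Cfsg.Agent.PF
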