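import Cfsg.Agent.PF.Sec9c
import Cfsg.Agent.S1387

set_option autoImplicit false

/-! PF (9.3)-(9.5): existence of `IsHbar` (helper13). -/

namespace Cfsg.Agent.PF

open Subgroup
open Cfsg.Agent.L (cj nz)
open Cfsg.Agent.OOT
open Cfsg.Agent.H21
open scoped Pointwise commutatorElement

universe u
variable {G : Type u} [Group G] [Finite G] {M W₁ U W₂ N C : Subgroup G} {p : ℕ}

/-- the Frobenius fixed point formula for `U W₁` acting on `X ≤ H`. -/
theorem frob_formula (h : IsTypePWith M W₁ U W₂) (hU : U ≠ ⊥) {X : Subgroup G}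
    (hX : X ≤ fittingHallOf M) (hUX : U ≤ nz X) (hWX : W₁ ≤ nz X) :
    Nat.card ↥(X ⊓ centralizer ((U ⊔ W₁ : Subgroup G) : Set G)) ^ Nat.card W₁ * Nat.card X =
      Nat.card ↥(X ⊓ W₂) ^ Nat.card W₁ * Nat.card ↥(X ⊓ centralizer (U : Set G)) := by
  have hcard : (Nat.card X).Coprime (Nat.card ↥(U ⊔ W₁)) := by
    rw [U_sup_W₁_card h]
    exact Nat.Coprime.mul_right
      (Nat.Coprime.coprime_dvd_left (Subgroup.card_dvd_of_le hX) h.coprime_HU)
      (Nat.Coprime.coprime_dvd_left (Subgroup.card_dvd_of_le hX) h.coprime_HW₁)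
  have hsol : Group.IsSolvable X := by
    have := fhOf_nilpotent M
    exact H1.isSolvable_of_le hX inferInstance
  have key := S1545.result U W₁ X hU h.W₁_ne (U_inf_W₁ h)
    (fun e he u hu => (Subgroup.mem_normalizer_iff.1 (h.U_normal he) _).1 hu)
    (fun e he he1 u hu hc => fix_W₁_U h he he1 hu hc)
    (fun x hx y hy => (Subgroup.mem_normalizer_iff.1 ((sup_le hUX hWX) hx) _).1 hy)
    (H1.inf_eq_bot_of_card_coprime hcard) hsol hcard
  rw [inf_cent_W₁ h (hX.trans h.H_le')] at key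
  exact key

/-- order of `W₂/(W₂ ∩ N)` when `x^p ∈ N` on `W₂` -/
theorem relIndex_dvd_of_pow (hc : IsCyclic W₂) (hpow : ∀ x ∈ W₂, x ^ p ∈ N) :
    (W₂ ⊓ N).relIndex W₂ ∣ p := by
  have hn : ((W₂ ⊓ N).subgroupOf W₂).Normal := by
    constructor
    intro n hn g
    have : g * n * g⁻¹ = n := by
      have := (IsCyclic.commGroup (α := W₂)).mul_comm g n
      have h2 : g * n = n * g := this
      rw [h2, mul_inv_cancel_right]
    rw [this]; exact hn
  have h1 : IsCyclic (↥W₂ ⧸ (W₂ ⊓ N).subgroupOf W₂) :=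
    isCyclic_of_surjective (QuotientGroup.mk' _) (QuotientGroup.mk'_surjective _)
  have h2 : (W₂ ⊓ N).relIndex W₂ = Monoid.exponent (↥W₂ ⧸ (W₂ ⊓ N).subgroupOf W₂) := by
    rw [IsCyclic.exponent_eq_card]
    rfl
  rw [h2]
  apply Monoid.exponent_dvd_of_forall_pow_eq_one
  intro a
  obtain ⟨x, rfl⟩ := QuotientGroup.mk_surjective a
  rw [← QuotientGroup.mk_pow, QuotientGroup.eq_one_iff, Subgroup.mem_subgroupOf]
  exact ⟨(x ^ p).2, hpow x x.2⟩

theorem exists_hbar_core (hP : IsTypePWith M W₁ U W₂) (hU : U ≠ ⊥) (hq : (Nat.card W₁).Prime) :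
    ∃ N C p, IsHbar M W₁ U W₂ N C p ∧ fittingHallOf M ⊓ centralizer (U : Set G) ≤ N := by
  set H := fittingHallOf M with hH
  set D := H ⊓ centralizer (U : Set G) with hD
  have hnilH : Group.IsNilpotent H := fhOf_nilpotent M
  have hMH : M ≤ nz H := le_normalizer_fhOf M
  have hHM : H ≤ M := hP.H_le'.trans (commutator_le_self M)
  have hUH : U ≤ nz H := hP.U_le.trans hMH
  have hWH : W₁ ≤ nz H := hP.W₁_le.trans hMH
  have hDH : D ≠ H := by
    intro e
    have h1 : H ≤ centralizer (U : Set G) := by rw [← e]; exact inf_le_right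
    exact (S1388.result M W₁ U W₂ hP).2 hU (le_cent_comm.1 h1)
  have hHH : ⁅H, H⁆ ≤ H := Subgroup.commutator_le_self H
  have hN₀ : D ⊔ ⁅H, H⁆ ≤ H := sup_le inf_le_left hHH
  have hN₀ne : D ⊔ ⁅H, H⁆ ≠ H := fun e => hDH (nil_sup_commutator' hnilH inf_le_left e)
  have hMHH : M ≤ nz ⁅H, H⁆ := by
    intro x hx
    rw [L.mem_nz_iff, ← cj_commutator, L.mem_nz_iff.1 (hMH hx)]
  have hMN₀ : M ≤ nz (D ⊔ ⁅H, H⁆) := by
    rw [typeP_sup hP]
    have k1 : ∀ {A : Subgroup G}, A ≤ M → ∀ a ∈ A, ∀ x ∈ ⁅H, H⁆, a * x * a⁻¹ ∈ D ⊔ ⁅H, H⁆ :=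
      fun hA a ha x hx => le_sup_right (a := D) (conj_of_le_nz hMHH (hA ha) hx)
    refine sup_le (sup_le ?_ ?_) ?_
    · refine nz_sup_of (fun a ha d hd => ?_) (k1 hHM)
      have h1 : a * d * a⁻¹ = ⁅a, d⁆ * d := by rw [commutatorElement_def]; group
      rw [h1]
      exact mul_mem (le_sup_right (a := D) (Subgroup.commutator_mem_commutator ha hd.1))
        (le_sup_left (a := D) hd)
    · refine nz_sup_of (fun a ha d hd => ?_) (k1 hP.U_le)
      have h1 : a * d * a⁻¹ = d := by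
        rw [← mem_cent_iff.1 hd.2 a ha, mul_inv_cancel_right]
      rw [h1]
      exact le_sup_left (a := D) hd
    · refine nz_sup_of (fun a ha d hd => ?_) (k1 hP.W₁_le)
      refine le_sup_left (a := D) (Subgroup.mem_inf.2 ⟨conj_of_le_nz hWH ha hd.1,
        mem_cent_iff.2 fun x hx => ?_⟩)
      have h1 := mem_cent_iff.1 hd.2 _ (conj_of_le_nz' hP.U_normal ha hx)
      have h2 : a * (d * (a⁻¹ * x * a)) * a⁻¹ = a * ((a⁻¹ * x * a) * d) * a⁻¹ := by rw [h1]
      have h3 : a * (d * (a⁻¹ * x * a)) * a⁻¹ = a * d * a⁻¹ * x := by group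
      have h4 : a * ((a⁻¹ * x * a) * d) * a⁻¹ = x * (a * d * a⁻¹) := by group
      rw [h3, h4] at h2
      exact h2
  -- a maximal `M`-invariant subgroup
  obtain ⟨N, hN₀N, hNmax⟩ := (Set.toFinite {X : Subgroup G | X ≤ H ∧ X ≠ H ∧ M ≤ nz X}).exists_le_maximal
    (show D ⊔ ⁅H, H⁆ ∈ _ from ⟨hN₀, hN₀ne, hMN₀⟩)
  obtain ⟨⟨hNH, hNne, hMN⟩, hmax⟩ := hNmax
  have hmax' : ∀ X : Subgroup G, N ≤ X → X ≤ H → M ≤ nz X → X = N ∨ X = H := by
    intro X h1 h2 h3
    by_cases e : X = H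
    · exact Or.inr e
    · exact Or.inl (le_antisymm (hmax ⟨h2, e, h3⟩ h1) h1)
  have hcomm : ∀ x ∈ H, ∀ y ∈ H, x * y * x⁻¹ * y⁻¹ ∈ N := by
    intro x hx y hy
    have := Subgroup.commutator_mem_commutator hx hy
    rw [commutatorElement_def] at this
    exact hN₀N (le_sup_right (a := D) this)
  have hchief : ∀ X : Subgroup G, N ≤ X → X ≤ H → U ≤ nz X → W₁ ≤ nz X → X = N ∨ X = H := by
    intro X h1 h2 h3 h4
    apply hmax' X h1 h2
    rw [typeP_sup hP]
    refine sup_le (sup_le ?_ h3) h4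
    apply le_nz_of_conj
    intro a ha x hx
    have h5 : a * x * a⁻¹ = (a * x * a⁻¹ * x⁻¹) * x := by group
    rw [h5]
    exact mul_mem (h1 (hcomm a ha x (h2 hx))) hx
  obtain ⟨V, _, π, ρ, hQ⟩ := exists_isQ (M := M) hMH hHM hMN hcomm
  have hfV : Finite V := Finite.of_surjective _ hQ.surj
  have hcV : Nat.card V ≠ 1 := by
    intro e
    apply hNne
    have h1 := hQ.card_eq hNH
    rw [e, mul_one] at h1
    exact L.eq_of_le_of_card_le hNH h1.le
  obtain ⟨p, hp, hpV⟩ := Nat.exists_prime_and_dvd hcV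
  have hpf : Fact p.Prime := ⟨hp⟩
  -- exponent `p`
  have hpow : ∀ x ∈ H, x ^ p ∈ N := by
    let Z : Subgroup V :=
      { carrier := {v | v ^ p = 1}
        one_mem' := one_pow _
        mul_mem' := by
          rintro a b (ha : _ = _) (hb : _ = _)
          show (a * b) ^ p = 1
          rw [mul_pow, ha, hb, one_mul]
        inv_mem' := by
          rintro a (ha : _ = _)
          show a⁻¹ ^ p = 1
          rw [inv_pow, ha, inv_one] }
    have hZM : M ≤ nz (IsQ.up π Z) := by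
      apply le_nz_of_conj
      intro a ha
      refine (hQ.act_up hMH (m := ⟨a, ha⟩)).1 ?_
      intro v (hv : _ = _)
      show (ρ ⟨a, ha⟩ v) ^ p = 1
      rw [← map_pow, hv, map_one]
    rcases hmax' _ (hQ.le_up hNH) IsQ.up_le hZM with e | e
    · exfalso
      have e2 : Z = ⊥ := hQ.up_inj (e.trans (hQ.up_bot hNH).symm)
      obtain ⟨v, hv⟩ := exists_prime_orderOf_dvd_card' p hpV
      have hvZ : v ∈ Z := by
        show v ^ p = 1
        rw [← hv, pow_orderOf_eq_one]
      rw [e2, Subgroup.mem_bot] at hvZ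
      rw [hvZ, orderOf_one] at hv
      exact hp.one_lt.ne hv
    · intro x hx
      have e2 : Z = ⊤ := hQ.up_inj (e.trans IsQ.up_top.symm)
      have hvZ : π ⟨x, hx⟩ ∈ Z := by rw [e2]; trivial
      have h1 : π (⟨x, hx⟩ ^ p) = 1 := by rw [map_pow]; exact hvZ
      exact (hQ.ker _).1 h1
  -- the formula
  have f1 := frob_formula hP hU le_rfl hUH hWH
  have f2 := frob_formula hP hU hNH (hP.U_le.trans hMN) (hP.W₁_le.trans hMN)
  rw [inf_eq_right.2 hP.W₂_le_H] at f1
  have hDN : D ≤ N := le_sup_left.trans hN₀N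
  have e1 : N ⊓ centralizer (U : Set G) = D := by
    apply le_antisymm
    · exact inf_le_inf_right _ hNH
    · exact le_inf hDN inf_le_right
  have e2 : N ⊓ centralizer ((U ⊔ W₁ : Subgroup G) : Set G) =
      H ⊓ centralizer ((U ⊔ W₁ : Subgroup G) : Set G) := by
    apply le_antisymm
    · exact inf_le_inf_right _ hNH
    · refine le_inf ?_ inf_le_right
      refine le_trans ?_ hDN
      exact inf_le_inf_left _
        (Subgroup.centralizer_le (SetLike.coe_subset_coe.2 le_sup_left))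
  rw [e1, e2, inf_comm N W₂] at f2
  rw [← hH, ← hD] at f1
  set E := Nat.card ↥(H ⊓ centralizer ((U ⊔ W₁ : Subgroup G) : Set G)) with hE
  set q := Nat.card W₁ with hqd
  have hEpos : 0 < E ^ q := pow_pos Nat.card_pos _
  have hDpos : 0 < Nat.card D := Nat.card_pos
  have f3 : Nat.card H * Nat.card ↥(W₂ ⊓ N) ^ q = Nat.card W₂ ^ q * Nat.card N := by
    apply Nat.eq_of_mul_eq_mul_left (Nat.mul_pos hEpos hDpos)
    calc E ^ q * Nat.card D * (Nat.card H * Nat.card ↥(W₂ ⊓ N) ^ q)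
        = (E ^ q * Nat.card H) * (Nat.card ↥(W₂ ⊓ N) ^ q * Nat.card D) := by ring
      _ = (Nat.card W₂ ^ q * Nat.card D) * (E ^ q * Nat.card N) := by rw [f1, f2]
      _ = E ^ q * Nat.card D * (Nat.card W₂ ^ q * Nat.card N) := by ring
  have hWc : IsCyclic ↥(W₁ ⊔ W₂) := hP.selfNormalizing.2.2.2.2.1
  have hW₂c : IsCyclic W₂ :=
    isCyclic_of_injective (Subgroup.inclusion (le_sup_right : W₂ ≤ W₁ ⊔ W₂))
      (Subgroup.inclusion_injective _)
  have hr := L.card_mul_relIndex (inf_le_left : W₂ ⊓ N ≤ W₂)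
  have hrp := relIndex_dvd_of_pow (N := N) hW₂c (fun x hx => hpow x (hP.W₂_le_H hx))
  have hposWN : 0 < Nat.card ↥(W₂ ⊓ N) := Nat.card_pos
  have hreq : (W₂ ⊓ N).relIndex W₂ = p := by
    rcases (Nat.dvd_prime hp).1 hrp with e | e
    · exfalso
      rw [e, mul_one] at hr
      rw [← hr, mul_comm] at f3
      have h1 := Nat.eq_of_mul_eq_mul_left (pow_pos hposWN _) f3
      exact hNne (L.eq_of_le_of_card_le hNH h1.le)
    · exact e
  rw [hreq] at hr
  have hcardH : Nat.card H = Nat.card N * p ^ q := by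
    rw [← hr, mul_pow] at f3
    apply Nat.eq_of_mul_eq_mul_left (pow_pos hposWN q)
    calc Nat.card ↥(W₂ ⊓ N) ^ q * Nat.card H = Nat.card H * Nat.card ↥(W₂ ⊓ N) ^ q := by ring
      _ = _ := f3
      _ = _ := by ring
  -- fixed points
  have hfix : ∀ x ∈ H, (∀ u ∈ U, u * x * u⁻¹ * x⁻¹ ∈ N) → x ∈ N := by
    let Z : Subgroup V :=
      { carrier := {v | ∀ u : M, (u : G) ∈ U → ρ u v = v}
        one_mem' := fun u _ => map_one _
        mul_mem' := by
          intro a b ha hb u hu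
          rw [map_mul, ha u hu, hb u hu]
        inv_mem' := by
          intro a ha u hu
          rw [map_inv, ha u hu] }
    have hZU : U ≤ nz (IsQ.up π Z) := by
      refine hQ.le_nz_up hMH hP.U_le ?_
      intro u hu v hv
      rw [hv u hu]
      exact hv
    have hZW : W₁ ≤ nz (IsQ.up π Z) := by
      refine hQ.le_nz_up hMH hP.W₁_le ?_
      intro w hw v hv u hu
      have h1 : ((w⁻¹ * u * w : M) : G) ∈ U := by
        push_cast
        exact conj_of_le_nz' hP.U_normal hw hu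
      have h2 := hv _ h1
      rw [ρ_mul_apply, ρ_mul_apply] at h2
      have h3 := congrArg (ρ w) h2
      rwa [ρ_inv_apply] at h3
    rcases hchief _ (hQ.le_up hNH) IsQ.up_le hZU hZW with e | e
    · intro x hx hux
      have h1 : x ∈ IsQ.up π Z := by
        rw [IsQ.mem_up]
        exact ⟨hx, fun u hu => (hQ.act_eq_iff hMH (m := u) (x := ⟨x, hx⟩)).2 (hux u hu)⟩
      rwa [e] at h1
    · exfalso
      have h1 : ⁅H, U⁆ ≤ N := by
        rw [Subgroup.commutator_le]
        intro x hx u hu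
        have h2 : x ∈ IsQ.up π Z := by rw [e]; exact hx
        obtain ⟨hxH, h3⟩ := IsQ.mem_up.1 h2
        have h4 := (hQ.act_eq_iff hMH (m := ⟨u, hP.U_le hu⟩) (x := ⟨x, hxH⟩)).1
          (h3 ⟨u, hP.U_le hu⟩ hu)
        rw [commutatorElement_def]
        have h5 : x * u * x⁻¹ * u⁻¹ = (u * x * u⁻¹ * x⁻¹)⁻¹ := by group
        rw [h5]
        exact inv_mem h4
      have h2 := H1.commutator_sup_centralizer U H hUH hP.coprime_HU.symm
        (Or.inr (by infer_instance))
      apply hNne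
      apply le_antisymm hNH
      rw [← h2]
      exact sup_le h1 hDN
  refine ⟨N, (ρ.ker ⊓ U.subgroupOf M).map M.subtype, p, ?_, hDN⟩
  constructor
  · exact hP
  · exact hU
  · exact hq
  · exact hp
  · exact hNH
  · exact hMN
  · exact hcardH
  · exact hr.symm
  · exact hcomm
  · exact hpow
  · exact hchief
  · exact hfix
  · intro c
    constructor
    · rintro ⟨c', ⟨h1, h2⟩, rfl⟩
      refine ⟨h2, fun x hx => ?_⟩
      have h3 : ρ c' (π ⟨x, hx⟩) = π ⟨x, hx⟩ := by
        have h4 : ρ c' = 1 := h1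
        rw [h4]; rfl
      exact (hQ.act_eq_iff hMH).1 h3
    · rintro ⟨h1, h2⟩
      refine ⟨⟨c, hP.U_le h1⟩, ⟨?_, h1⟩, rfl⟩
      show ρ _ = 1
      ext v
      obtain ⟨x, rfl⟩ := hQ.surj v
      exact (hQ.act_eq_iff hMH).2 (h2 x x.2)

/-- if `|W₂|` is prime we can take `N = C_H(U)`, `C = C_U(H)`. -/
theorem hbar_of_prime (hP : IsTypePWith M W₁ U W₂) (hU : U ≠ ⊥) (hq : (Nat.card W₁).Prime)
    (hp : (Nat.card W₂).Prime) :
    IsHbar M W₁ U W₂ (fittingHallOf M ⊓ centralizer (U : Set G))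
      (U ⊓ centralizer (fittingHallOf M : Set G)) (Nat.card W₂) := by
  obtain ⟨N, C, p, h, hDN⟩ := exists_hbar_core hP hU hq
  set H := fittingHallOf M with hH
  set D := H ⊓ centralizer (U : Set G) with hD
  have hUH : U ≤ nz H := hP.U_le.trans h.M_nz_H
  have hWH : W₁ ≤ nz H := hP.W₁_le.trans h.M_nz_H
  have f1 := frob_formula hP hU le_rfl hUH hWH
  have f2 := frob_formula hP hU h.N_le h.U_nz_N h.W₁_nz_N
  rw [inf_eq_right.2 hP.W₂_le_H] at f1
  have e1 : N ⊓ centralizer (U : Set G) = D := by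
    apply le_antisymm
    · exact inf_le_inf_right _ h.N_le
    · exact le_inf hDN inf_le_right
  have e2 : N ⊓ centralizer ((U ⊔ W₁ : Subgroup G) : Set G) =
      H ⊓ centralizer ((U ⊔ W₁ : Subgroup G) : Set G) := by
    apply le_antisymm
    · exact inf_le_inf_right _ h.N_le
    · refine le_inf ?_ inf_le_right
      refine le_trans ?_ hDN
      exact inf_le_inf_left _
        (Subgroup.centralizer_le (SetLike.coe_subset_coe.2 le_sup_left))
  rw [e1, e2, inf_comm N W₂] at f2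
  rw [← hH, ← hD] at f1
  set E := Nat.card ↥(H ⊓ centralizer ((U ⊔ W₁ : Subgroup G) : Set G)) with hE
  have hDH : Nat.card D ≠ Nat.card H := by
    intro e
    have e' : D = H := L.eq_of_le_of_card_le inf_le_left e.ge
    have h1 : H ≤ centralizer (U : Set G) := by rw [← e']; exact inf_le_right
    exact (S1388.result M W₁ U W₂ hP).2 hU (le_cent_comm.1 h1)
  have hEd : E ∣ Nat.card W₂ := by
    have h1 : H ⊓ centralizer ((U ⊔ W₁ : Subgroup G) : Set G) ≤ W₂ := by
      have h2 : H ⊓ centralizer ((U ⊔ W₁ : Subgroup G) : Set G) ≤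
          H ⊓ centralizer (W₁ : Set G) := inf_le_inf_left _
        (Subgroup.centralizer_le (SetLike.coe_subset_coe.2 le_sup_right))
      rw [inf_cent_W₁ hP hP.H_le'] at h2
      exact h2.trans inf_le_right
    exact Subgroup.card_dvd_of_le h1
  have hE1 : E = 1 := by
    rcases (Nat.dvd_prime hp).1 hEd with e | e
    · exact e
    · exfalso
      rw [e] at f1
      exact hDH (Nat.eq_of_mul_eq_mul_left (pow_pos Nat.card_pos _) f1).symm
  rw [hE1, one_pow, one_mul] at f1 f2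
  have hWN : Nat.card ↥(W₂ ⊓ N) = 1 := by
    rcases (Nat.dvd_prime hp).1 (Subgroup.card_dvd_of_le (inf_le_left : W₂ ⊓ N ≤ W₂)) with e | e
    · exact e
    · exfalso
      rw [e, ← f1] at f2
      exact h.H_ne_N (L.eq_of_le_of_card_le h.N_le f2.ge).symm
  rw [hWN, one_pow, one_mul] at f2
  have hND : N = D := (L.eq_of_le_of_card_le hDN f2.le).symm
  have hpW : p = Nat.card W₂ := by
    have := h.W₂_card
    rw [hWN, one_mul] at this
    exact this.symm
  have hC : C = U ⊓ centralizer (H : Set G) := by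
    apply le_antisymm
    · refine le_inf h.C_le ?_
      have hCH : C ≤ nz H := h.C_le.trans hUH
      have h1 : ⁅H, C⁆ ≤ N := by
        rw [Subgroup.commutator_le]
        intro x hx c hc
        have h2 := ((h.mem_C c).1 hc).2 x hx
        rw [commutatorElement_def]
        have h5 : x * c * x⁻¹ * c⁻¹ = (c * x * c⁻¹ * x⁻¹)⁻¹ := by group
        rw [h5]
        exact inv_mem h2
      have h2 : N ≤ centralizer (C : Set G) := by
        rw [hND]
        exact inf_le_right.trans (Subgroup.centralizer_le (SetLike.coe_subset_coe.2 h.C_le))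
      have h3 : (Nat.card C).Coprime (Nat.card H) :=
        Nat.Coprime.coprime_dvd_left (Subgroup.card_dvd_of_le h.C_le) hP.coprime_HU.symm
      exact le_cent_comm.1 (H23.le_centralizer_of_commutator_le hCH h3 h1 h2)
    · rintro c ⟨hc, hc2⟩
      rw [h.mem_C]
      refine ⟨hc, fun x hx => ?_⟩
      have h1 := mem_cent_iff.1 hc2 x hx
      have h2 : c * x * c⁻¹ * x⁻¹ = 1 := by rw [h1]; group
      rw [h2]
      exact one_mem _
  rw [← hND, ← hC, ← hpW]
  exact h

/-- the case `C_H(U) = 1`, `|W₂|` prime : then one can take `N = 1`. -/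
theorem hbar_of_fix_bot (hP : IsTypePWith M W₁ U W₂) (hU : U ≠ ⊥) (hq : (Nat.card W₁).Prime)
    (hp : (Nat.card W₂).Prime) (hC : fittingHallOf M ⊓ centralizer (U : Set G) = ⊥) :
    IsHbar M W₁ U W₂ ⊥ (U ⊓ centralizer (fittingHallOf M : Set G)) (Nat.card W₂) := by
  have := hbar_of_prime hP hU hq hp
  rwa [hC] at this

/-- type II : `H/N` any chief factor. -/
theorem exists_hbar_II (hG : IsMinSimpleOddOrder G) (hM : IsCoatom M)
    (hP : IsTypePWith M W₁ U W₂) (hII : IsOfTypeII M) :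
    fittingHallOf M ⊓ centralizer (U : Set G) = ⊥ ∧
      Nat.card (fittingHallOf M) = Nat.card W₂ ^ Nat.card W₁ ∧
      ∃ N C p, IsHbar M W₁ U W₂ N C p := by
  have hs := coatom_sol hG hM
  obtain ⟨hU, hq, -⟩ := typeII_of hs hP hII
  have h1 := (typeII_fix_bot hs hP hII).2
  obtain ⟨N, C, p, h, -⟩ := exists_hbar_core hP hU hq
  refine ⟨h1, ?_, N, C, p, h⟩
  have f1 := frob_formula hP hU le_rfl (hP.U_le.trans h.M_nz_H) (hP.W₁_le.trans h.M_nz_H)
  rw [inf_eq_right.2 hP.W₂_le_H, h1] at f1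
  have e1 : fittingHallOf M ⊓ centralizer ((U ⊔ W₁ : Subgroup G) : Set G) = ⊥ := by
    rw [eq_bot_iff, ← h1]
    exact inf_le_inf_left _ (Subgroup.centralizer_le (SetLike.coe_subset_coe.2 le_sup_left))
  rw [e1] at f1
  simpa using f1

/-- `F(M) = H C_U(H)` is `HC` -/
theorem fitting_eq_III (hP : IsTypePWith M W₁ U W₂) :
    fittingOf M = fittingHallOf M ⊔ (U ⊓ centralizer (fittingHallOf M : Set G)) :=
  S1387.result M W₁ U W₂ hP

end Cfsg.Agent.PF
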