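import Cfsg.Agent.PF.Frame

set_option autoImplicit false

/-! Definitions for PF section 10 (helper1, part (C) of the blueprint). -/

namespace Cfsg.Agent.PF

open Subgroup
open Cfsg.Agent.H3 Cfsg.Agent.H11

universe u

section

variable {G : Type u} [Group G] [Fintype G]

/-- types III, IV, V -/
def Typ345 (M : Subgroup G) : Prop := IsOfTypeIII M ∨ IsOfTypeIV M ∨ IsOfTypeV M

/-- `S(M'')` -/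
def S2 (M : Subgroup G) [Fintype ↥M] : Set (↥M → ℂ) :=
  inducedIrrAbove (commutator ↥M) ⁅commutator ↥M, commutator ↥M⁆

/-- Standing notation of PF section 10: `M` of type III, IV or V, `d = μ_ij(1)`, `e = δ_j` (`j ≠ 0`),
`n |W₁| = d - e`. -/
structure IsTen (M W₁ U W₂ : Subgroup G) [Fintype ↥M] (η : Lin W₁ W₂ → G → ℂ)
    (μ : Lin W₁ W₂ → ↥M → ℂ) (δ : Lin W₁ W₂ → ℤ) (d : ℕ) (e n : ℤ) : Prop where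
  F : IsFrame M W₁ U W₂ η μ δ
  typ : Typ345 M
  prime : (Nat.card W₂).Prime
  sign : e = 1 ∨ e = -1
  mu_one : ∀ ω, ¬ IsI W₁ W₂ ω → μ ω 1 = d
  delta : ∀ ω, ¬ IsI W₁ W₂ ω → δ ω = e
  hn : n * (Nat.card W₁ : ℤ) = d - e
  hd : 1 < d
  odd_d : Odd d
  two_le : 2 ≤ n
  even_n : Even n

/-- `α_ij = μ_ij - δ μ_i0 - n ζ` (`φ` = index i, `ψ` = index j) -/
def alph {M W₁ W₂ : Subgroup G} (μ : Lin W₁ W₂ → ↥M → ℂ) (e n : ℤ) (ζ : ↥M → ℂ)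
    (φ ψ : Lin W₁ W₂) : ↥M → ℂ :=
  μ (φ * ψ) - (e : ℂ) • μ φ - (n : ℂ) • ζ

/-- a conjugation closed set `X ⊆ S(M)` of irreducible characters of degree `|W₁|`, with coherent
extension `τ₁` -/
structure IsXCoh (M W₁ : Subgroup G) [Fintype ↥M] (X : Finset (↥M → ℂ))
    (τ₁ : (↥M → ℂ) → G → ℂ) : Prop where
  sub : (X : Set (↥M → ℂ)) ⊆ SM M ⊥
  irr : ∀ χ ∈ X, IsIrrCharacter ↥M χ
  deg : ∀ χ ∈ X, χ 1 = (Nat.card W₁ : ℂ)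
  conj_mem : ∀ χ ∈ X, conjFun χ ∈ X
  coh : CohMap (X : Set (↥M → ℂ)) (tauM M) τ₁

/-- The function `D'` of (10.5): `τ α_ij = δ (η_ij - η_i0) - n τ₁ ζ + D'` -/
structure TenD (M W₁ W₂ : Subgroup G) [Fintype ↥M] (η : Lin W₁ W₂ → G → ℂ)
    (μ : Lin W₁ W₂ → ↥M → ℂ) (e n : ℤ) (X : Finset (↥M → ℂ)) (τ₁ : (↥M → ℂ) → G → ℂ)
    (ζ : ↥M → ℂ) (D : G → ℂ) (a c : ℤ) (r : Lin W₁ W₂ → ℤ) : Prop where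
  gen : IsGeneralizedCharacter G D
  real : conjFun D = D
  vanish : ∀ v ∈ Vset W₁ W₂, D v = 0
  eq : ∀ φ ψ, IsI W₁ W₂ φ → IsJ W₁ W₂ ψ → ψ ≠ 1 →
    tauM M (alph μ e n ζ φ ψ) = (e : ℂ) • (η (φ * ψ) - η φ) - (n : ℂ) • τ₁ ζ + D
  inX : ∀ χ ∈ X, classInner D (τ₁ χ) = a
  row : ∀ φ, IsI W₁ W₂ φ → classInner D (η φ) = r φ
  grid : ∀ φ ψ, IsI W₁ W₂ φ → IsJ W₁ W₂ ψ → ψ ≠ 1 → classInner D (η (φ * ψ)) = (r φ + c : ℤ)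
  r_one : r 1 = 0
  r_inv : ∀ φ, IsI W₁ W₂ φ → r φ⁻¹ = r φ
  norm : classInner D D = ((2 * n * a - 2 * c * e : ℤ) : ℂ)
  bessel : (X.card : ℤ) * a ^ 2 +
    ∑ φ ∈ idxI W₁ W₂, (r φ ^ 2 + ((Nat.card W₂ : ℤ) - 1) * (r φ + c) ^ 2) ≤
      2 * n * a - 2 * c * e

/-- The function `Γ = τ(μ_0 - ζ)` -/
structure TenG (M W₁ W₂ : Subgroup G) [Fintype ↥M] (η : Lin W₁ W₂ → G → ℂ)
    (μ : Lin W₁ W₂ → ↥M → ℂ) (e n : ℤ) (X : Finset (↥M → ℂ)) (τ₁ : (↥M → ℂ) → G → ℂ)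
    (ζ : ↥M → ℂ) (Γ : G → ℂ) (b s : ℤ) (g : Lin W₁ W₂ → ℤ) : Prop where
  supp : SuppOn (typeA M) (colI μ 1 - ζ)
  eq : tauM M (colI μ 1 - ζ) = Γ
  gen : IsGeneralizedCharacter G Γ
  real : conjFun (Γ + τ₁ ζ) = Γ + τ₁ ζ
  vanish : ∀ v ∈ Vset W₁ W₂, Γ v = 0
  inX : ∀ χ ∈ X, χ ≠ ζ → classInner Γ (τ₁ χ) = b
  inXζ : classInner Γ (τ₁ ζ) = (b - 1 : ℤ)
  row : ∀ φ, IsI W₁ W₂ φ → classInner Γ (η φ) = g φ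
  grid : ∀ φ ψ, IsI W₁ W₂ φ → IsJ W₁ W₂ ψ → ψ ≠ 1 → classInner Γ (η (φ * ψ)) = (g φ + s : ℤ)
  g_one : g 1 = 1
  g_inv : ∀ φ, IsI W₁ W₂ φ → g φ⁻¹ = g φ
  inner : ∀ φ ψ, IsI W₁ W₂ φ → IsJ W₁ W₂ ψ → ψ ≠ 1 →
    classInner Γ (tauM M (alph μ e n ζ φ ψ)) = (n - e : ℤ)
  norm : classInner Γ Γ = ((Nat.card W₁ + 1 : ℤ) : ℂ)
  bessel : ((X.card : ℤ) - 1) * b ^ 2 + (b - 1) ^ 2 +
    ∑ φ ∈ idxI W₁ W₂, (g φ ^ 2 + ((Nat.card W₂ : ℤ) - 1) * (g φ + s) ^ 2) ≤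
      (Nat.card W₁ : ℤ) + 1

end

end Cfsg.Agent.PF
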