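import Cfsg.Agent.PF.TypesW
import Cfsg.Agent.PF.TenDef
import Cfsg.Agent.PF.TypeF
import Cfsg.Agent.H21.OT14c
import Cfsg.Agent.S1351
import Cfsg.Agent.S1352
import Cfsg.Agent.S1365
import Cfsg.Agent.S1366
import Cfsg.Agent.S1368
import Cfsg.Agent.S1369

set_option autoImplicit false

/-! PF section 10: the partner of a maximal subgroup of type P, `|W₂|` prime. -/

namespace Cfsg.Agent.PF

open Subgroup
open Cfsg.Agent.L (cj nz SylIn)
open Cfsg.Agent.H14 (IsPiSub)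
open Cfsg.Agent.OOT
open Cfsg.Agent.H21
open scoped Pointwise

universe u
variable {G : Type u} [Group G] [Finite G] (hG : IsMinSimpleOddOrder G)
variable {M W₁ U W₂ : Subgroup G} (hM : IsCoatom M)

include hG hM

theorem typeP_decomp (hP : IsTypePWith M W₁ U W₂) :
    ∃ U' : Subgroup G, IsSigmaDecomposition M W₁ U' ∧
      sigmaCore M ⊓ centralizer (W₁ : Set G) = W₂ := by
  obtain ⟨K, U₀, hd⟩ := exists_sigmaDecomposition hG hM
  have hK := H14.TY.K_ne_of_typeP hG hM hd.hall hP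
  obtain ⟨h5, -⟩ := Cfsg.Agent.S1365.result hG M hM K U₀ hd hK
  obtain ⟨-, h2, h3, h4, -⟩ := row1355 hG hM
  have hcard : Nat.card W₁ = Nat.card K := by
    have e1 := hP.card_M
    have e2 := complIn_card (dec_compl_K hG hM hd)
    rw [← h5, ← e1, mul_comm] at e2
    exact (Nat.eq_of_mul_eq_mul_left Nat.card_pos e2).symm
  have hW : IsPiHallOf (kappa M) W₁ M := OOT.IsPiHallOf.of_card hd.hall hP.W₁_le hcard
  obtain ⟨⟨U', hU'⟩, -⟩ := Cfsg.Agent.S1352.result hG M hM W₁ hP.W₁_cyclic hW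
  refine ⟨U', hU', ?_⟩
  obtain ⟨w, hw, hw1⟩ := exists_ne_one hP.W₁_ne
  apply le_antisymm
  · rw [← hP.W₂_centralizer w hw hw1]
    refine inf_le_inf h3 ?_
    exact Subgroup.centralizer_le (by simpa using hw)
  · refine le_inf (hP.W₂_le_H.trans h2) ?_
    intro x hx
    exact mem_cent_iff.2 fun y hy => (hP.selfNormalizing.2.2.2.1 y hy x hx).symm

/-- types II-V in terms of the decomposition -/
theorem exists_typeP_data (hI : ¬ H2.WTypeI M) :
    (∃ W₁ U W₂ : Subgroup G, IsTypePWith M W₁ U W₂) ∧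
      (IsOfTypeII M ∨ IsOfTypeIII M ∨ IsOfTypeIV M ∨ IsOfTypeV M) := by
  obtain ⟨A, B, C, hP⟩ := exists_P_of_not_w hG hM hI
  exact ⟨⟨A, B, C, hP⟩, types_of_P hG hM hP⟩

/-- given one choice of data, another cyclic Hall subgroup of the right order extends to data -/
theorem data_of_hall (hI : ¬ H2.WTypeI M) (hW : IsPiHallOf (kappa M) W₁ M) :
    ∃ U : Subgroup G, IsTypePWith M W₁ U (sigmaCore M ⊓ centralizer (W₁ : Set G)) := by
  obtain ⟨⟨A, B, C, hP⟩, -⟩ := exists_typeP_data hG hM hI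
  obtain ⟨U', hd, -⟩ := typeP_decomp hG hM hP
  obtain ⟨m, hm, rfl⟩ := OOT.IsPiHallOf.conj (coatom_sol hG hM) hW hd.hall
  have h1 := isTypePWith_cj m hP
  rw [L.cj_eq_self_of_mem hm] at h1
  obtain ⟨-, -, h2⟩ := typeP_decomp hG hM h1
  exact ⟨_, by rw [h2]; exact h1⟩

theorem exists_partner' (hP : IsTypePWith M W₁ U W₂) :
    ∃ T V : Subgroup G, IsCoatom T ∧ IsTypePWith T W₂ V W₁ ∧
      M ⊓ T = W₁ ⊔ W₂ ∧ (IsOfTypeII M ∨ IsOfTypeII T) ∧
      (IsOfTypeII M ∨ IsOfTypeIII M ∨ IsOfTypeIV M ∨ IsOfTypeV M) ∧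
      (IsOfTypeII T ∨ IsOfTypeIII T ∨ IsOfTypeIV T ∨ IsOfTypeV T) := by
  obtain ⟨U', hd, hW⟩ := typeP_decomp hG hM hP
  obtain ⟨T, ⟨hT, hT1, hT2⟩, -⟩ := Cfsg.Agent.S1366.result hG M hM W₁ U' hd hP.W₁_ne
  have h8 := Cfsg.Agent.S1368.result hG M hM W₁ U' hd hP.W₁_ne T hT hT1 hT2
  have h9 := Cfsg.Agent.S1369.result hG M hM W₁ U' hd hP.W₁_ne T hT hT1 hT2
  have ee : (sigmaCore M : Set G) ⊓ (centralizer (W₁ : Set G) : Set G) =
      ((sigmaCore M ⊓ centralizer (W₁ : Set G) : Subgroup G) : Set G) := rfl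
  rw [ee] at hT1
  rw [hW] at hT1 hT2 h8 h9
  have hW₂c : IsCyclic W₂ := (Cfsg.Agent.S1351.result hG T hT).2 W₂ hT2
  obtain ⟨⟨V', hV'⟩, -⟩ := Cfsg.Agent.S1352.result hG T hT W₂ hW₂c hT2
  have hTI : ¬ H2.WTypeI T := by
    rw [H14.TY.typeI_iff hG hT hV']
    exact fun h => hP.selfNormalizing.2.1 h.1
  obtain ⟨V, hV⟩ := data_of_hall hG hT hTI hT2
  rw [← hT1] at hV
  refine ⟨T, V, hT, hV, h8.1, ?_, types_of_P hG hM hP, types_of_P hG hT hV⟩
  rcases h9.1 with h | h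
  · exact Or.inl ((H14.TY.typeII_iff hG hM hd).2 ⟨hP.W₁_ne, h⟩)
  · exact Or.inr ((H14.TY.typeII_iff hG hT hV').2
      ⟨hP.selfNormalizing.2.1, h V' hV'⟩)

omit hG hM in
/-- type P excludes type I -/
theorem not_typeI_of_P (hs : Group.IsSolvable M) (hP : IsTypePWith M W₁ U W₂) :
    ¬ IsOfTypeI M := by
  intro hI
  obtain ⟨V, hV1, hV2, -, V₀, b1, b2, b3⟩ := typeF_exists hI.1
  have hVc : Nat.card W₁ ∣ Nat.card V := by
    have e1 := complIn_card hV2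
    have e2 : Nat.card W₁ ∣ Nat.card M := Subgroup.card_dvd_of_le hP.W₁_le
    rw [← e1] at e2
    exact (Nat.Coprime.dvd_of_dvd_mul_left hP.coprime_HW₁.symm e2)
  obtain ⟨r, hr, hrW⟩ := Nat.exists_prime_and_dvd
    (n := Nat.card W₁) (fun e => hP.W₁_ne (Subgroup.card_eq_one.1 e))
  have : Fact r.Prime := ⟨hr⟩
  obtain ⟨⟨v, hv⟩, hvo⟩ := exists_prime_orderOf_dvd_card' (G := V) r (hrW.trans hVc)
  have h1 : r ∣ Monoid.exponent V := hvo ▸ Monoid.order_dvd_exponent _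
  rw [← b2] at h1
  have h2 : r ∣ Nat.card V₀ := h1.trans Group.exponent_dvd_nat_card
  obtain ⟨⟨u, hu⟩, huo⟩ := exists_prime_orderOf_dvd_card' (G := V₀) r h2
  rw [Subgroup.orderOf_mk] at huo
  have huM : u ∈ M := hV2.2.1 (b1 hu)
  have hpi : IsPiSub {p | p ∣ Nat.card W₁} (zpowers u) := by
    intro p hp hd
    rw [Nat.card_zpowers, huo] at hd
    rw [(Nat.prime_dvd_prime_iff_eq hp hr).1 hd]
    exact hrW
  obtain ⟨g, hg, hle⟩ := OOT.IsPiHallOf.exists_conj_le hs hP.W₁_isPiHall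
    (K := zpowers u) (by rwa [zpowers_le]) hpi
  have hgu : g * u * g⁻¹ ∈ W₁ := hle (conj_mem_cj.2 (mem_zpowers u))
  obtain ⟨y, hy, hy1⟩ := exists_ne_one hP.selfNormalizing.2.1
  have hyF : g⁻¹ * y * g ∈ fittingHallOf M := by
    have := (Subgroup.mem_normalizer_iff.1 (le_normalizer_fhOf M (inv_mem hg)) y).1 (hP.W₂_le_H hy)
    simpa using this
  have hu1 : u ≠ 1 := by
    rintro rfl
    rw [orderOf_one] at huo
    exact hr.one_lt.ne huo
  have hc : u * (g⁻¹ * y * g) = g⁻¹ * y * g * u := by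
    have := hP.selfNormalizing.2.2.2.1 _ hgu y hy
    have h3 : g⁻¹ * (g * u * g⁻¹ * y) * g = g⁻¹ * (y * (g * u * g⁻¹)) * g := by rw [this]
    simpa [mul_assoc] using h3
  have := b3 u hu hu1 _ hyF hc
  apply hy1
  have h4 : g * (g⁻¹ * y * g) * g⁻¹ = g * 1 * g⁻¹ := by rw [this]
  simpa [mul_assoc] using h4

theorem exists_partner (hP : IsTypePWith M W₁ U W₂) :
    ∃ T V : Subgroup G, IsCoatom T ∧ IsTypePWith T W₂ V W₁ ∧
      M ⊓ T = W₁ ⊔ W₂ ∧ (IsOfTypeII M ∨ IsOfTypeII T) ∧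
      (IsOfTypeII M ∨ IsOfTypeIII M ∨ IsOfTypeIV M ∨ IsOfTypeV M) ∧
      (IsOfTypeII T ∨ IsOfTypeIII T ∨ IsOfTypeIV T ∨ IsOfTypeV T) :=
  exists_partner' hG hM hP

theorem not_I_of_typ345 (h : Typ345 M) : ¬ IsOfTypeI M := by
  rcases h with h | h | h
  · exact not_typeI_of_III hG hM (Or.inl h)
  · exact not_typeI_of_III hG hM (Or.inr h)
  · exact not_typeI_of_V hG hM h

theorem not_II_of_typ345 (h : Typ345 M) : ¬ IsOfTypeII M := by
  intro h2
  rcases h with h | h | h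
  · exact not_III_of_II hG hM h2 (Or.inl h)
  · exact not_III_of_II hG hM h2 (Or.inr h)
  · exact not_V_of_II hG hM h2 h

/-- the partner of a maximal subgroup of type III, IV or V is of type II -/
theorem exists_partnerII (h : Typ345 M) (hP : IsTypePWith M W₁ U W₂) :
    ∃ T V : Subgroup G, IsCoatom T ∧ IsTypePWith T W₂ V W₁ ∧
      M ⊓ T = W₁ ⊔ W₂ ∧ IsOfTypeII T := by
  obtain ⟨T, V, h1, h2, h3, h4, -⟩ := exists_partner' hG hM hP
  exact ⟨T, V, h1, h2, h3, h4.resolve_left (not_II_of_typ345 hG hM h)⟩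

/-- (10.3) first part -/
theorem card_W₂_prime (hP : IsTypePWith M W₁ U W₂) (h : Typ345 M) : (Nat.card W₂).Prime := by
  obtain ⟨T, V, h1, h2, h3, h4⟩ := exists_partnerII hG hM h hP
  exact (typeII_of (coatom_sol hG h1) h2 h4).2.1

end Cfsg.Agent.PF
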