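import Cfsg.Agent.PF.Sec9g
import Cfsg.Agent.PF.Sec9d
import Cfsg.Agent.PF.SecC1

set_option autoImplicit false

/-! PF section 9: `W₂_prime`, `exists_hbar_III`, `SH`, (9.10) `typeII_alt` (helper1). -/

namespace Cfsg.Agent.PF

open Subgroup ComplexConjugate
open Cfsg.Agent.H3 Cfsg.Agent.H11
open Cfsg.Agent.OOT
open Cfsg.Agent.L (nz)

universe u v

section Group

variable {G : Type u} [Group G] [Finite G] {M W₁ U W₂ N C : Subgroup G} {p : ℕ}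

/-- the partner is of type II, so that `|W₂|` is prime -/
theorem W₂_prime (hG : IsMinSimpleOddOrder G) (hM : IsCoatom M) (hP : IsTypePWith M W₁ U W₂)
    (h : ¬ IsOfTypeII M) : (Nat.card W₂).Prime := by
  obtain ⟨T, V, h1, h2, h3, h4, -⟩ := exists_partner' hG hM hP
  exact (typeII_of (coatom_sol hG h1) h2 (h4.resolve_left h)).2.1

/-- types III, IV : `N = C_H(U)`, `C = C_U(H)`, `p = |W₂|`. -/
theorem exists_hbar_III (hG : IsMinSimpleOddOrder G) (hM : IsCoatom M)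
    (hP : IsTypePWith M W₁ U W₂) (h : IsOfTypeIII M ∨ IsOfTypeIV M) :
    IsHbar M W₁ U W₂ (fittingHallOf M ⊓ centralizer (U : Set G))
      (U ⊓ centralizer (fittingHallOf M : Set G)) (Nat.card W₂) := by
  have hs := coatom_sol hG hM
  have hnot : ¬ IsOfTypeII M := fun h2 => not_III_of_II hG hM h2 h
  have hU : U ≠ ⊥ ∧ (Nat.card W₁).Prime := by
    rcases h with h | h
    · exact ⟨(typeIII_of hs hP h).1, (typeIII_of hs hP h).2.1⟩
    · exact ⟨(typeIV_of hs hP h).1, (typeIV_of hs hP h).2.1⟩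
  exact hbar_of_prime hP hU.1 hU.2 (W₂_prime hG hM hP hnot)

end Group

section Chars

variable {G : Type u} [Group G] [Fintype G] {M W₁ U W₂ : Subgroup G} [Fintype ↥M]
  {η : Lin W₁ W₂ → G → ℂ} {μ : Lin W₁ W₂ → ↥M → ℂ} {δ : Lin W₁ W₂ → ℤ}
  {N C X Y U₁ : Subgroup G} {p a : ℕ}

/-- `SH ⊆ SM` -/
theorem IsFrame.SH_sub (F : IsFrame M W₁ U W₂ η μ δ) (A : Subgroup G) :
    SH M A ⊆ SM M (A.subgroupOf M) := by
  rintro χ ⟨θ, h1, h2, ⟨y, hy, hy1⟩, rfl⟩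
  exact ⟨θ, h1, h2, ⟨y, a_fh_le_core F.hP hy, hy1⟩, rfl⟩

theorem IsFrame.SH_sub' (F : IsFrame M W₁ U W₂ η μ δ) (A : Subgroup G) :
    SH M A ⊆ SM M ⊥ := SH_sub_SM F.hP A

theorem SH_eq_II (hG : IsMinSimpleOddOrder G) (hM : IsCoatom M) (hII : IsOfTypeII M)
    (A : Subgroup G) : SM M (A.subgroupOf M) = SH M A := by
  rw [SM, SH, typeCore_II hG hM hII]

theorem SH_conj {A : Subgroup G} {χ : ↥M → ℂ} (h : χ ∈ SH M A) : conjFun χ ∈ SH M A :=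
  SH_conj_mem h

/-- (9.10), precise form -/
theorem IsHbar.typeII_alt (h : IsHbar M W₁ U W₂ N C p) (F : IsFrame M W₁ U W₂ η μ δ)
    (hII : IsOfTypeII M) :
    (IsGal M U N ∧ C = ⊥ ∧ Nat.card U * (p - 1) = p ^ Nat.card W₁ - 1 ∧ IsCyclic U ∧
      ∀ u ∈ U, u ≠ 1 → ∀ x ∈ fittingHallOf M, u * x = x * u → x = 1) ∨
    (IsGal M U N ∧ ∃ χ ∈ SH M (N ⊔ ⁅C, C⁆), IsIrrCharacter ↥M χ) ∨
    ∃ X Y U₁ a, IsNonGal M W₁ U N C X Y U₁ p a := by
  have hodd : Odd (Nat.card M) := F.hG.1.of_dvd_nat (Subgroup.card_subgroup_dvd_card M)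
  rcases h.dichotomy hodd with hgal | hn
  · by_cases hc : C ≠ ⊥ ∨ C.relIndex U * (p - 1) ≠ p ^ Nat.card W₁ - 1
    · exact Or.inr (Or.inl ⟨hgal, h.gal_irr F hgal hc⟩)
    · push Not at hc
      obtain ⟨rfl, hcard⟩ := hc
      rw [Subgroup.relIndex_bot_left] at hcard
      have hcyc : IsCyclic U := by
        obtain ⟨g, hg, hgen⟩ := h.gal_cyclic hgal
        refine ⟨⟨g, hg⟩, fun ⟨u, hu⟩ => ?_⟩
        obtain ⟨k, hk⟩ := hgen u hu
        rw [Subgroup.mem_bot, mul_inv_eq_one] at hk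
        exact ⟨(k : ℤ), Subtype.ext (by simp [hk])⟩
      refine Or.inl ⟨hgal, rfl, hcard, hcyc, ?_⟩
      obtain ⟨-, V₀, b1, b2, b3⟩ := (typeII_fix_bot (coatom_sol F.hG F.hM) F.hP hII).1
      have hV : IsCyclic V₀ := Subgroup.isCyclic_of_le b1
      have e : V₀ = U := by
        refine Subgroup.eq_of_le_of_card_ge b1 ?_
        rw [← IsCyclic.exponent_eq_card (α := ↥U), ← IsCyclic.exponent_eq_card (α := ↥V₀), b2]
      rwa [e] at b3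
  · exact Or.inr (Or.inr hn)

/-- (9.10), with the bridge, for (10.7). -/
theorem typeII_alt (F : IsFrame M W₁ U W₂ η μ δ) (hII : IsOfTypeII M) :
    (∀ u ∈ U, u ≠ 1 → ∀ x ∈ fittingHallOf M, u * x = x * u → x = 1) ∨
      ∃ ψ Y σ χ t, IsBridge M μ ψ Y σ χ t := by
  obtain ⟨-, -, N, C, p, h⟩ := exists_hbar_II F.hG F.hM F.hP hII
  obtain ⟨ψ, hψ, h1, -, hu⟩ := h.exists_col F
  rcases h.typeII_alt F hII with ⟨-, -, -, -, hf⟩ | ⟨hgal, χ, hχ, hirr⟩ | ⟨X, Y, U₁, a, hn⟩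
  · exact Or.inl hf
  · obtain ⟨Y, σ, B⟩ := h.gal_bridge F hgal hχ hirr hψ h1 hu
    exact Or.inr ⟨ψ, Y, σ, χ, 1, B⟩
  · obtain ⟨Y', σ, χ, B, -⟩ := h.nonGal_bridge F hn hψ h1 hu
    exact Or.inr ⟨ψ, Y', σ, χ, _, B⟩

end Chars

end Cfsg.Agent.PF
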