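import Cfsg.Agent.PF.Sec9f
import Cfsg.Agent.PF.Char9i

set_option autoImplicit false

/-! The non-Galois bridge (helper22, helper13). -/

namespace Cfsg.Agent.PF

open Subgroup
open Cfsg.Agent.H3 Cfsg.Agent.H11

universe u

variable {G : Type u} [Group G] [Fintype G] {M W₁ U W₂ : Subgroup G} [Fintype ↥M]
  {η : Lin W₁ W₂ → G → ℂ} {μ : Lin W₁ W₂ → ↥M → ℂ} {δ : Lin W₁ W₂ → ℤ}
  {N C X Y U₁ : Subgroup G} {p a : ℕ}

/-- existence of a bridge, non-Galois case (`t = |U₁ : C|`); `Y` consists of all irreducible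
members of `SH M (H₀U')` of degree `qa`. -/
theorem IsHbar.nonGal_bridge (h : IsHbar M W₁ U W₂ N C p) (F : IsFrame M W₁ U W₂ η μ δ)
    (hn : IsNonGal M W₁ U N C X Y U₁ p a)
    {ψ : Lin W₁ W₂} (hψ : IsJ W₁ W₂ ψ) (h1 : ψ ≠ 1) (hu : μ ψ 1 = (C.relIndex U : ℂ)) :
    ∃ Y' σ χ, IsBridge M μ ψ Y' σ χ (C.relIndex U₁) ∧
      (∀ φ, φ ∈ Y' ↔ IsIrrCharacter ↥M φ ∧ φ ∈ SH M (N ⊔ ⁅U, U⁆) ∧
        φ 1 = (Nat.card W₁ * a : ℕ)) ∧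
      ((p - 1) / a) * (⁅U, U⁆).relIndex U₁ ≤ Y'.card :=
  h.nonGal_bridge_of F hn (h.nonGal_count F hn) hψ h1 hu

end Cfsg.Agent.PF
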