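import Cfsg.Agent.PF.Defs9
import Cfsg.Agent.PF.Sec9c
import Cfsg.Agent.PF.Sec9d
import Cfsg.Agent.PF.Char9i
import Cfsg.Agent.PF.Sec9g
import Cfsg.Agent.PF.Sec9e

set_option autoImplicit false

/-! Part (B) of the blueprint (PF section 9) — complete (helper13, helper22, helper1).

* `IsHbar M W₁ U W₂ N C p` (Hbar.lean): the setting, `N = H₀`, `C = C_U(H/H₀)`;
* `IsGal M U N`, `IsNonGal M W₁ U N C X Y U₁ p a`: the two cases of (9.7);
* `SH M A`: characters of `M` induced from `θ ∈ Irr M'` with `A ≤ ker θ`, `M_F ⊄ ker θ`;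
* `IsBridge … χ t`: irreducible characters `Y` of the same degree, `μ_j(1) = t χ(1)`, `|Y| ≥ 2t`;
  `IsBridge.tau_eq` is the substitute for (9.11). -/
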