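import Cfsg.Agent.PF.BBB

set_option autoImplicit false

/-! From part (B): (9.10) and the bridge, in the form used in (10.7). (helper1, helper13) -/

namespace Cfsg.Agent.PF

open Subgroup
open Cfsg.Agent.H3 Cfsg.Agent.H11

universe u

variable {G : Type u} [Group G] [Fintype G]

variable {M W₁ U W₂ : Subgroup G} [Fintype ↥M]
  {η : Lin W₁ W₂ → G → ℂ} {μ : Lin W₁ W₂ → ↥M → ℂ} {δ : Lin W₁ W₂ → ℤ}

/-- PF (9.10) and the bridge -/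
theorem typeII_bridge' (F : IsFrame M W₁ U W₂ η μ δ) (hII : IsOfTypeII M) :
    (∀ u ∈ U, u ≠ 1 → ∀ x ∈ fittingHallOf M, u * x = x * u → x = 1) ∨
    ∃ (Y : Finset (↥M → ℂ)) (σ : (↥M → ℂ) → G → ℂ) (ψ : ↥M → ℂ) (t x ε : ℤ) (j j' : Lin W₁ W₂),
      (Y : Set (↥M → ℂ)) ⊆ SM M ⊥ ∧ (∀ χ ∈ Y, IsIrrCharacter ↥M χ) ∧
      (∀ χ ∈ Y, conjFun χ ∈ Y) ∧ CohMap (Y : Set (↥M → ℂ)) (tauM M) σ ∧ ψ ∈ Y ∧
      IsJ W₁ W₂ j ∧ j ≠ 1 ∧ IsJ W₁ W₂ j' ∧ j' ≠ 1 ∧ (ε = 1 ∨ ε = -1) ∧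
      (colI μ j) 1 = t * ψ 1 ∧
      tauM M (colI μ j - (t : ℂ) • ψ) =
        (ε : ℂ) • colI η j' - (t : ℂ) • σ ψ + (x : ℂ) • ∑ χ ∈ Y, σ χ := by
  rcases typeII_alt F hII with h | ⟨ψ, Y, σ, χ, t, B⟩
  · exact Or.inl h
  · right
    obtain ⟨ψ', ε, x, h1, -, h3⟩ := B.tau_eq F
    have hinv : ∀ {a : Lin W₁ W₂}, a ≠ 1 → a⁻¹ ≠ 1 := by
      intro a ha h
      apply ha
      have h2 : (a⁻¹)⁻¹ = 1 := by
        ext w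
        rw [MonoidHom.inv_apply, h]; simp
      have h4 : (a⁻¹)⁻¹ = a := by
        ext w
        rw [MonoidHom.inv_apply, MonoidHom.inv_apply]; simp
      rw [← h4, h2]
    have hsub : (Y : Set (↥M → ℂ)) ⊆ SM M ⊥ := fun φ hφ => B.Y_mem φ hφ
    have hε : ε = 1 ∨ ε = -1 := by
      rcases h1 with ⟨-, rfl⟩ | ⟨-, rfl⟩
      · exact F.sign ψ
      · rcases F.sign ψ with h | h <;> rw [h] <;> simp
    have hψ' : IsJ W₁ W₂ ψ' ∧ ψ' ≠ 1 := by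
      rcases h1 with ⟨rfl, -⟩ | ⟨rfl, -⟩
      · exact ⟨B.isJ, B.ne⟩
      · exact ⟨B.isJ.inv, hinv B.ne⟩
    refine ⟨Y, σ, χ, t, x, ε, ψ, ψ', hsub, B.Y_irr, B.Y_conj, B.coh, B.mem, B.isJ, B.ne, hψ'.1,
      hψ'.2, hε, ?_, ?_⟩
    · rw [B.deg]; push_cast; rfl
    · have e1 : (((t : ℤ) : ℂ)) = (t : ℂ) := by push_cast; rfl
      rw [e1]; exact h3

end Cfsg.Agent.PF
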