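import Cfsg.Agent.PF.BBA
import Cfsg.Agent.PF.TenDef
import Cfsg.Agent.PF.SecC20
import Cfsg.Agent.PF.BridgeC

set_option autoImplicit false

/-! Part (C) of the blueprint (PF section 10) : everything is proved in `SecC1`, …, `SecC20`, from
(A) `BBA`, and the bridge `BridgeC` (part (B)) (helper1).

* (10.8) : `ten8` (SecC16)
* (10.10) : `no_typeV'` (SecC20)
* (10.11) : `pair_types` (SecC20)
-/
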