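import Cfsg.Agent.PF.BBB
import Cfsg.Agent.PF.Char9i

/-! `IsHbar.count_all` is proved in `Char9i` (helper13). -/
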