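import Cfsg.Agent.PF.SecC20
import Cfsg.Agent.PF.BBD

set_option autoImplicit false

/-! Statements wanted by (G) from (C) and (D). -/

namespace Cfsg.Agent.PF.BBG

open Subgroup
open Cfsg.Agent.L (cj nz)

universe u
variable {G : Type u} [Group G] [Finite G]

/-- PF (10.10) -/
theorem no_typeV (hG : IsMinSimpleOddOrder G) {M : Subgroup G} (hM : IsCoatom M) :
    ¬ IsOfTypeV M := Cfsg.Agent.PF.no_typeV' hG hM

/-- PF (11.9) -/
theorem no_typeIV (hG : IsMinSimpleOddOrder G) {M : Subgroup G} (hM : IsCoatom M) :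
    ¬ IsOfTypeIV M := Cfsg.Agent.PF.BBD.no_typeIV hG hM

/-- PF section 11, type III: `M_F` is elementary abelian of order `p^q`, `C_U(M_F) = 1`, `p < q`,
and `U` acts irreducibly on `M_F` ("Galois") and freely. -/
theorem typeIII_main (hG : IsMinSimpleOddOrder G) {M W₁ U W₂ : Subgroup G} (hM : IsCoatom M)
    (h : IsTypePWith M W₁ U W₂) (hIII : IsOfTypeIII M) :
    (Nat.card W₂).Prime ∧ Nat.card W₂ < Nat.card W₁ ∧
    IsElementaryAbelian (Nat.card W₂) (fittingHallOf M) ∧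
    Nat.card (fittingHallOf M) = Nat.card W₂ ^ Nat.card W₁ ∧
    U ⊓ centralizer (fittingHallOf M : Set G) = ⊥ ∧
    IsCyclic U ∧
    (∀ u ∈ U, u ≠ 1 → ∀ x ∈ fittingHallOf M, u * x = x * u → x = 1) ∧
    ∀ X : Subgroup G, X ≤ fittingHallOf M → U ≤ nz X → X = ⊥ ∨ X = fittingHallOf M :=
  Cfsg.Agent.PF.BBD.typeIII_main hG hM h hIII

end Cfsg.Agent.PF.BBG
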