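import Cfsg.Agent.PF.BBA

set_option autoImplicit false

/-! The bridge between the irreducible members and the column sums of `S(M)` (lead). -/

namespace Cfsg.Agent.PF

open Subgroup ComplexConjugate
open Cfsg.Agent.H3 Cfsg.Agent.H11

universe u v w

variable {G : Type u} [Group G] [Fintype G] {M W₁ U W₂ : Subgroup G} [Fintype ↥M]
  {η : Lin W₁ W₂ → G → ℂ} {μ : Lin W₁ W₂ → ↥M → ℂ} {δ : Lin W₁ W₂ → ℤ}

theorem brg_mul_one (a : Lin W₁ W₂) : a * 1 = a := mul_one a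
theorem brg_one_mul (a : Lin W₁ W₂) : 1 * a = a := one_mul a
theorem brg_inv_eq_one {a : Lin W₁ W₂} (h : a⁻¹ = 1) : a = 1 := by
  have h2 : a⁻¹ * a = 1 := inv_mul_cancel a
  rw [h, brg_one_mul] at h2
  exact h2

theorem gen_colI {M : Subgroup G} [Fintype ↥M] {μ : Lin W₁ W₂ → ↥M → ℂ}
    (h : ∀ ω, IsIrrCharacter ↥M (μ ω)) (ω : Lin W₁ W₂) :
    IsGeneralizedCharacter ↥M (colI μ ω) :=
  isGen_sum _ _ fun φ _ => isGen_of_irr (h _)

/-- integer inequality behind the bridge -/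
theorem int_col (p : ℕ) (hp : 3 ≤ p) (m d : ℤ) (hd : d = 1 ∨ d = -1) :
    1 ≤ m ^ 2 + (p - 2 : ℤ) * (m - d) ^ 2 ∧
      (m ^ 2 + (p - 2 : ℤ) * (m - d) ^ 2 = 1 → m = d ∨ (m = 0 ∧ p = 3)) := by
  have hp' : (1 : ℤ) ≤ p - 2 := by omega
  constructor
  · by_cases h : m = 0
    · subst h
      rcases hd with rfl | rfl <;> nlinarith
    · have : 1 ≤ m ^ 2 := by
        have := Int.one_le_abs h
        nlinarith [abs_nonneg m, sq_abs m]
      nlinarith [sq_nonneg (m - d)]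
  · intro h
    by_cases h0 : m = 0
    · right
      subst h0
      refine ⟨rfl, ?_⟩
      rcases hd with rfl | rfl <;> [skip; skip] <;> · ring_nf at h; omega
    · left
      have h1 : 1 ≤ m ^ 2 := by
        have := Int.one_le_abs h0
        nlinarith [abs_nonneg m, sq_abs m]
      have h2 : (p - 2 : ℤ) * (m - d) ^ 2 = 0 := by nlinarith [sq_nonneg (m - d)]
      rcases mul_eq_zero.1 h2 with h3 | h3
      · omega
      · have := pow_eq_zero_iff (two_ne_zero) |>.1 h3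
        omega

theorem int_irr (N t : ℕ) (ht : 0 < t) (hN : 2 * t ≤ N) (x : ℤ) :
    (t : ℤ) ^ 2 ≤ (x - t) ^ 2 + (N - 1 : ℤ) * x ^ 2 ∧
      ((x - t) ^ 2 + (N - 1 : ℤ) * x ^ 2 = (t : ℤ) ^ 2 → x = 0 ∨ (x = 1 ∧ N = 2 * t)) := by
  have hN' : (2 * t : ℤ) ≤ N := by exact_mod_cast hN
  have ht' : (1 : ℤ) ≤ t := by exact_mod_cast ht
  have e : (x - t) ^ 2 + (N - 1 : ℤ) * x ^ 2 = t ^ 2 + x * (N * x - 2 * t) := by ring
  rw [e]
  rcases lt_trichotomy x 0 with h | h | h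
  · have h1 : (N : ℤ) * x - 2 * t < 0 := by nlinarith
    have h2 : 0 < x * (N * x - 2 * t) := mul_pos_of_neg_of_neg h h1
    exact ⟨by linarith, fun h3 => by linarith⟩
  · subst h; simp
  · have h1 : 0 ≤ (N : ℤ) * x - 2 * t := by nlinarith
    refine ⟨by nlinarith, fun h3 => Or.inr ?_⟩
    have h4 : x * (N * x - 2 * t) = 0 := by linarith
    rcases mul_eq_zero.1 h4 with h5 | h5
    · omega
    · have h6 : x = 1 := by
        by_contra hx
        have : 2 ≤ x := by omega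
        nlinarith
      subst h6
      refine ⟨rfl, ?_⟩
      omega


theorem sub_smul_mem {S : Set (↥M → ℂ)} {a b : ↥M → ℂ} (t : ℕ) (ha : a ∈ S) (hb : b ∈ S)
    (h : (t : ℂ) * b 1 = a 1) : a - (t : ℂ) • b ∈ zspanOn S ({1}ᶜ : Set ↥M) := by
  rw [zspanOn_one]
  refine ⟨?_, by simp [h]⟩
  have : (t : ℂ) • b = (t : ℤ) • b := by rw [zsmul_eq_smul]; simp
  rw [this]
  exact zspan_sub (zspan_mem ha) (zspan_smul _ (zspan_mem hb))

theorem sub_mem_of_eq {S : Set (↥M → ℂ)} {a b : ↥M → ℂ} (ha : a ∈ S) (hb : b ∈ S)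
    (h : a 1 = b 1) : a - b ∈ zspanOn S ({1}ᶜ : Set ↥M) := by
  rw [zspanOn_one]
  exact ⟨zspan_sub (zspan_mem ha) (zspan_mem hb), by simp [h]⟩

theorem IsFrame.irr_ne_mu (F : IsFrame M W₁ U W₂ η μ δ) {χ : ↥M → ℂ} (hS : χ ∈ SM M ⊥)
    (hirr : IsIrrCharacter ↥M χ) (ω : Lin W₁ W₂) : χ ≠ μ ω := by
  rcases F.SM_cases hS with h | ⟨ψ, hψ, h1, rfl⟩
  · exact h.2 ω
  · intro e
    have h1 := classInner_self_of_irr hirr
    classical
    rw [F.col_inner hψ hψ, if_pos rfl] at h1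
    have h2 : Nat.card W₁ = 1 := by exact_mod_cast h1
    exact F.hP.W₁_ne (Subgroup.card_eq_one.1 h2)

theorem IsFrame.irr_inner_mu (F : IsFrame M W₁ U W₂ η μ δ) {χ : ↥M → ℂ} (hS : χ ∈ SM M ⊥)
    (hirr : IsIrrCharacter ↥M χ) (ω : Lin W₁ W₂) : classInner χ (μ ω) = 0 := by
  rw [classInner_irr hirr (F.irr ω), if_neg (F.irr_ne_mu hS hirr ω)]

theorem IsFrame.irr_inner_col (F : IsFrame M W₁ U W₂ η μ δ) {χ : ↥M → ℂ} (hS : χ ∈ SM M ⊥)
    (hirr : IsIrrCharacter ↥M χ) (ω : Lin W₁ W₂) : classInner χ (colI μ ω) = 0 := by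
  rw [colI, classInner_sum_right]
  exact Finset.sum_eq_zero fun φ _ => F.irr_inner_mu hS hirr _

theorem span_classFun {S : Set (↥M → ℂ)} (hS : ∀ χ ∈ S, IsClassFunction ↥M χ) {α : ↥M → ℂ}
    (h : α ∈ zspan S) : IsClassFunction ↥M α := by
  refine zspan_induction (P := fun α => IsClassFunction ↥M α) hS classFun_zero
    (fun a b _ _ ha hb => classFun_add ha hb) (fun n a _ ha => ?_) h
  rw [zsmul_eq_smul]; exact classFun_smul _ ha

theorem span_gen {S : Set (↥M → ℂ)} (hS : ∀ χ ∈ S, IsGeneralizedCharacter ↥M χ) {α : ↥M → ℂ}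
    (h : α ∈ zspan S) : IsGeneralizedCharacter ↥M α :=
  zspan_induction (P := fun α => IsGeneralizedCharacter ↥M α) hS isGen_zero
    (fun _ _ _ _ ha hb => isGen_add ha hb) (fun n _ _ ha => isGen_zsmul n ha) h

theorem IsFrame.span_gen (F : IsFrame M W₁ U W₂ η μ δ) {α : ↥M → ℂ} (h : α ∈ zspan (SM M ⊥)) :
    IsGeneralizedCharacter ↥M α :=
  PF.span_gen (fun _ hχ => isGen_of_char (F.SM_char hχ)) h

/-- isometry on `Z[S(M)]°` -/
theorem IsFrame.tau_inner' (F : IsFrame M W₁ U W₂ η μ δ) {α β : ↥M → ℂ}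
    (hα : α ∈ zspanOn (SM M ⊥) ({1}ᶜ : Set ↥M)) (hβ : β ∈ zspanOn (SM M ⊥) ({1}ᶜ : Set ↥M)) :
    classInner (tauM M α) (tauM M β) = classInner α β :=
  tau_inner F.hG F.hM (isGen_classFun (F.span_gen hα.1)) (fun x hx => F.span_supp hα x
    (fun h => hx (A_sub_A0 h))) (isGen_classFun (F.span_gen hβ.1)) (fun x hx => F.span_supp hβ x
    (fun h => hx (A_sub_A0 h)))

theorem IsFrame.tau_gen' (F : IsFrame M W₁ U W₂ η μ δ) {α : ↥M → ℂ}
    (hα : α ∈ zspanOn (SM M ⊥) ({1}ᶜ : Set ↥M)) : IsGeneralizedCharacter G (tauM M α) :=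
  tau_gen F.hG F.hM (F.span_gen hα.1) (fun x hx => F.span_supp hα x (fun h => hx (A_sub_A0 h)))

/-- `⟨τ α, η_ij − η_ik⟩ = δ ⟨α, μ_ij − μ_ik⟩` -/
theorem IsFrame.inner_eta_sub (F : IsFrame M W₁ U W₂ η μ δ) (hp : (Nat.card W₂).Prime)
    {α : ↥M → ℂ} (hα : α ∈ zspanOn (SM M ⊥) ({1}ᶜ : Set ↥M)) {φ ψ ψ' : Lin W₁ W₂}
    (hφ : IsI W₁ W₂ φ) (hψ : IsJ W₁ W₂ ψ) (hψ' : IsJ W₁ W₂ ψ') (h1 : ψ ≠ 1) (h1' : ψ' ≠ 1) :
    classInner (tauM M α) (η (φ * ψ)) - classInner (tauM M α) (η (φ * ψ')) =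
      (δ ψ : ℂ) * (classInner α (μ (φ * ψ)) - classInner α (μ (φ * ψ'))) := by
  obtain ⟨g1, g2⟩ := F.galois hp hψ hψ' h1 h1'
  have hI : ∀ ψ : Lin W₁ W₂, IsJ W₁ W₂ ψ → ψ ≠ 1 → ¬ IsI W₁ W₂ (φ * ψ) := by
    intro ψ hψ h1 hI
    have : φ * ψ = (φ * ψ) * 1 := (mul_one (φ * ψ)).symm
    exact h1 (lin_unique F.hW hφ hI hψ IsJ.one this).2
  obtain ⟨k1, k2⟩ := F.tau_mu_sub (ω := φ * ψ) (ω' := φ * ψ') (fun w hw => by
      rw [MonoidHom.mul_apply, MonoidHom.mul_apply, hψ w hw, hψ' w hw]) (hI ψ hψ h1)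
    (hI ψ' hψ' h1') (by rw [F.deg_eq hφ, F.deg_eq hφ, g1])
    (by rw [F.sign_congr φ ψ hφ, F.sign_congr φ ψ' hφ, g2])
  rw [F.sign_congr φ ψ hφ] at k2
  have e := tau_inner F.hG F.hM (isGen_classFun (F.span_gen hα.1)) (fun x hx => F.span_supp hα x
    (fun h => hx (A_sub_A0 h))) (classFun_sub (irr_classFun (F.irr (φ * ψ)))
    (irr_classFun (F.irr (φ * ψ')))) k1
  rw [k2, classInner_smul_right, classInner_sub_right, classInner_sub_right] at e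
  have hs : (δ ψ : ℂ) * conj (δ ψ : ℂ) = 1 := by
    rcases F.sign ψ with h | h <;> rw [h] <;> simp
  rw [← e, ← mul_assoc, hs, one_mul]

theorem IsFrame.p_ge (F : IsFrame M W₁ U W₂ η μ δ) (hp : (Nat.card W₂).Prime) :
    3 ≤ Nat.card W₂ := by
  have h2 := hp.two_le
  have : Odd (Nat.card W₂) := Odd.of_dvd_nat F.oddW (Subgroup.card_dvd_of_le le_sup_right)
  rcases this with ⟨k, hk⟩
  omega


theorem classInner_natCast_smul_right {X : Type v} [Group X] [Fintype X] (t : ℕ) (a b : X → ℂ) :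
    classInner a ((t : ℂ) • b) = t * classInner a b := by
  rw [classInner_smul_right]; simp

theorem IsFrame.bridge_orth (F : IsFrame M W₁ U W₂ η μ δ) {Y : Finset (↥M → ℂ)}
    (hYS : (↑Y : Set (↥M → ℂ)) ⊆ SM M ⊥)
    (hYirr : ∀ χ ∈ Y, IsIrrCharacter ↥M χ) (hYc : ∀ χ ∈ Y, conjFun χ ∈ Y)
    {σ : (↥M → ℂ) → G → ℂ} (hσ : CohMap (↑Y) (tauM M) σ) [DecidableEq (Lin W₁ W₂)]
    [DecidableEq (Lin W₁ W₂ ⊕ (↥M → ℂ))] [Fintype (Lin W₁ W₂)] :
    ∀ i ∈ (Finset.univ : Finset (Lin W₁ W₂)).disjSum Y,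
      ∀ j ∈ (Finset.univ : Finset (Lin W₁ W₂)).disjSum Y,
      classInner (Sum.elim η σ i) (Sum.elim η σ j) = if i = j then ((1 : ℝ) : ℂ) else 0 := by
  classical
  have key : ∀ χ ∈ Y, ∀ ω, classInner (σ χ) (η ω) = 0 := fun χ hχ =>
    (F.coh_irr hYS hYc hσ (by exact_mod_cast hχ) (hYirr χ hχ)).2.2
  intro i hi j hj
  rcases i with ω | χ <;> rcases j with ω' | χ'
  · simp only [Sum.elim_inl]
    rw [F.fam.orthonormal]
    by_cases h : ω = ω'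
    · subst h; simp
    · rw [if_neg h, if_neg (fun h' => h (Sum.inl.inj h'))]
  · have hχ' : χ' ∈ Y := by simpa using hj
    simp only [Sum.elim_inl, Sum.elim_inr]
    rw [← classInner_conj_symm, key χ' hχ' ω, if_neg (by simp)]; simp
  · have hχ : χ ∈ Y := by simpa using hi
    simp only [Sum.elim_inl, Sum.elim_inr]
    rw [key χ hχ ω', if_neg (by simp)]
  · have hχ' : χ' ∈ Y := by simpa using hj
    have hχ : χ ∈ Y := by simpa using hi
    simp only [Sum.elim_inr]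
    rw [hσ.inner (zspan_mem (by exact_mod_cast hχ)) (zspan_mem (by exact_mod_cast hχ')),
      classInner_irr (hYirr χ hχ) (hYirr χ' hχ')]
    by_cases h : χ = χ'
    · subst h; simp
    · rw [if_neg h, if_neg (fun h' => h (Sum.inr.inj h'))]

/-- The bridge. -/
theorem IsFrame.bridge (F : IsFrame M W₁ U W₂ η μ δ) (hp : (Nat.card W₂).Prime)
    {ψ : Lin W₁ W₂} (hψ : IsJ W₁ W₂ ψ) (hψ1 : ψ ≠ 1)
    {Y : Finset (↥M → ℂ)} (hYS : (↑Y : Set (↥M → ℂ)) ⊆ SM M ⊥)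
    (hYirr : ∀ χ ∈ Y, IsIrrCharacter ↥M χ) (hYc : ∀ χ ∈ Y, conjFun χ ∈ Y) {t : ℕ} (ht : 0 < t)
    (hdeg : ∀ χ ∈ Y, (t : ℂ) * χ 1 = colI μ ψ 1) (hN : 2 * t ≤ Y.card)
    {σ : (↥M → ℂ) → G → ℂ} (hσ : CohMap (↑Y) (tauM M) σ) {χ : ↥M → ℂ} (hχ : χ ∈ Y) :
    ∃ x : ℤ, (x = 0 ∨ (x = 1 ∧ Y.card = 2 * t)) ∧
      (tauM M (colI μ ψ - (t : ℂ) • χ) =
          (δ ψ : ℂ) • colI η ψ - (t : ℂ) • σ χ + (x : ℂ) • ∑ χ' ∈ Y, σ χ' ∨
        (Nat.card W₂ = 3 ∧ tauM M (colI μ ψ - (t : ℂ) • χ) =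
          -((δ ψ : ℂ) • colI η ψ⁻¹) - (t : ℂ) • σ χ + (x : ℂ) • ∑ χ' ∈ Y, σ χ')) := by
  classical
  letI : Fintype (Lin W₁ W₂) := Fintype.ofFinite _
  set q := Nat.card W₁ with hq
  set p := Nat.card W₂ with hpdef
  have hp3 : 3 ≤ p := F.p_ge hp
  have hχS : χ ∈ SM M ⊥ := hYS (by exact_mod_cast hχ)
  have hχirr := hYirr χ hχ
  set α := colI μ ψ - (t : ℂ) • χ with hαdef
  have hα : α ∈ zspanOn (SM M ⊥) ({1}ᶜ : Set ↥M) :=
    sub_smul_mem t (F.col_mem hψ hψ1) hχS (hdeg χ hχ)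
  set θ := tauM M α with hθdef
  have hθg : IsGeneralizedCharacter G θ := F.tau_gen' hα
  have hθV : ∀ v ∈ Vset W₁ W₂, θ v = 0 := fun v hv => F.span_V hα hv
  have haex : ∀ ω, ∃ n : ℤ, classInner θ (η ω) = n := fun ω =>
    classInner_gen_int hθg (eta_sirr F.fam ω).isGen
  choose a ha using haex
  have hσirr : ∀ χ' ∈ Y, SIrr (σ χ') := fun χ' h =>
    (F.coh_irr hYS hYc hσ (by exact_mod_cast h) (hYirr χ' h)).1
  -- the coefficients on Y
  obtain ⟨b₀, hb₀⟩ := classInner_gen_int hθg (hσirr χ hχ).isGen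
  set x : ℤ := b₀ + t with hx
  have hcolχ : ∀ χ' ∈ Y, classInner (colI μ ψ) χ' = 0 := by
    intro χ' h
    rw [← classInner_conj_symm, F.irr_inner_col (hYS (by exact_mod_cast h)) (hYirr χ' h)]; simp
  have hb : ∀ χ' ∈ Y, classInner θ (σ χ') = ((if χ' = χ then x - t else x : ℤ) : ℂ) := by
    intro χ' hχ'
    by_cases h : χ' = χ
    · subst h
      rw [if_pos rfl, hb₀, hx]; push_cast; ring
    · rw [if_neg h]
      have hm : χ - χ' ∈ zspanOn (↑Y : Set (↥M → ℂ)) ({1}ᶜ : Set ↥M) := by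
        refine sub_mem_of_eq (by exact_mod_cast hχ) (by exact_mod_cast hχ') ?_
        have h1 := (hdeg χ hχ).trans (hdeg χ' hχ').symm
        exact mul_left_cancel₀ (by exact_mod_cast ht.ne') h1
      have h1 := F.tau_inner' hα (zspanOn_mono hYS hm)
      rw [← hσ.2 _ hm, hσ.sub (zspan_mem (by exact_mod_cast hχ))
        (zspan_mem (by exact_mod_cast hχ')), classInner_sub_right, hb₀, hαdef,
        classInner_sub_left, classInner_sub_right, classInner_sub_right, hcolχ χ hχ,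
        hcolχ χ' hχ', classInner_smul_left, classInner_smul_left,
        classInner_irr hχirr hχirr, if_pos rfl, classInner_irr hχirr (hYirr χ' hχ'),
        if_neg (fun h' => h h'.symm)] at h1
      rw [hx]; push_cast
      linear_combination (-1 : ℂ) * h1
  -- the coefficients on the grid
  have hαmu : ∀ φ ψ', IsI W₁ W₂ φ → IsJ W₁ W₂ ψ' →
      classInner α (μ (φ * ψ')) = if ψ = ψ' then 1 else 0 := by
    intro φ ψ' hφ hψ'
    rw [hαdef, classInner_sub_left, F.col_inner_mu hφ hψ hψ', classInner_smul_left,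
      F.irr_inner_mu hχS hχirr, mul_zero, sub_zero]
  have hcol : ∀ φ ψ', IsI W₁ W₂ φ → IsJ W₁ W₂ ψ' → ψ' ≠ 1 → ψ' ≠ ψ →
      a (φ * ψ') = a (φ * ψ) - δ ψ := by
    intro φ ψ' hφ hψ' h1 h2
    have h3 := F.inner_eta_sub hp hα hφ hψ hψ' hψ1 h1
    rw [← hθdef, ha, ha, hαmu φ ψ hφ hψ, hαmu φ ψ' hφ hψ', if_pos rfl,
      if_neg (fun h' => h2 h'.symm), sub_zero, mul_one] at h3
    have h4 : a (φ * ψ) - a (φ * ψ') = δ ψ := by exact_mod_cast h3
    omega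
  have hgrid : ∀ φ, IsI W₁ W₂ φ → a (φ * ψ) + a 1 = a φ + a ψ := by
    intro φ hφ
    have h1 := grid_add F.fam (isGen_classFun hθg) hθV hφ hψ
    rw [ha, ha, ha, ha] at h1
    exact_mod_cast h1
  -- norm
  have hqcol : classInner (colI μ ψ) (colI μ ψ) = (q : ℂ) := by
    rw [F.col_inner hψ hψ, if_pos rfl]
  have hnorm : classInner θ θ = ((q + t ^ 2 : ℕ) : ℂ) := by
    rw [hθdef, F.tau_inner' hα hα, hαdef, classInner_sub_left, classInner_sub_right,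
      classInner_sub_right, hqcol, classInner_smul_left, classInner_smul_left,
      classInner_smul_right, classInner_smul_right, hcolχ χ hχ, F.irr_inner_col hχS hχirr,
      classInner_irr hχirr hχirr, if_pos rfl]
    simp; ring
  -- Bessel
  set s := (Finset.univ : Finset (Lin W₁ W₂)).disjSum Y with hs
  have horth := F.bridge_orth hYS hYirr hYc hσ
  have hbes := bessel_le s (Sum.elim η σ) (fun _ => (1 : ℝ)) (fun _ _ => one_ne_zero) horth θ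
  have hsum : ∑ i ∈ s, ‖classInner θ (Sum.elim η σ i)‖ ^ 2 / (1 : ℝ) =
      (((∑ φ ∈ idxI W₁ W₂, (a φ ^ 2 + (a (φ * ψ) ^ 2 + (p - 2 : ℤ) * (a (φ * ψ) - δ ψ) ^ 2))) +
        ((x - t) ^ 2 + (Y.card - 1 : ℤ) * x ^ 2) : ℤ) : ℝ) := by
    rw [hs, Finset.sum_disjSum]
    simp only [Sum.elim_inl, Sum.elim_inr, div_one]
    rw [Int.cast_add]
    congr 1
    · have e1 : ∀ ω, ‖classInner θ (η ω)‖ ^ 2 = ((a ω ^ 2 : ℤ) : ℝ) := by
        intro ω; rw [ha]; push_cast; rw [Complex.norm_intCast, sq_abs]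
      rw [Finset.sum_congr rfl fun ω _ => e1 ω, ← Int.cast_sum, sum_lin F.hW]
      congr 1
      refine Finset.sum_congr rfl fun φ hφ => ?_
      rw [mem_idxI] at hφ
      have m1 : (1 : Lin W₁ W₂) ∈ idxJ W₁ W₂ := mem_idxJ.2 IsJ.one
      have m2 : ψ ∈ (idxJ W₁ W₂).erase 1 := Finset.mem_erase.2 ⟨hψ1, mem_idxJ.2 hψ⟩
      rw [← Finset.add_sum_erase _ _ m1, ← Finset.add_sum_erase _ _ m2, brg_mul_one]
      congr 2
      have e2 : ∀ ψ' ∈ ((idxJ W₁ W₂).erase 1).erase ψ, a (φ * ψ') ^ 2 =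
          (a (φ * ψ) - δ ψ) ^ 2 := by
        intro ψ' h
        rw [Finset.mem_erase, Finset.mem_erase, mem_idxJ] at h
        rw [hcol φ ψ' hφ h.2.2 h.2.1 h.1]
      rw [Finset.sum_congr rfl e2, Finset.sum_const, nsmul_eq_mul, Finset.card_erase_of_mem m2,
        Finset.card_erase_of_mem m1, card_idxJ F.hW]
      congr 1
      omega
    · have e1 : ∀ χ' ∈ Y, ‖classInner θ (σ χ')‖ ^ 2 =
          (((if χ' = χ then x - t else x) ^ 2 : ℤ) : ℝ) := by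
        intro χ' h; rw [hb χ' h, Complex.norm_intCast, sq_abs]; push_cast; rfl
      rw [Finset.sum_congr rfl e1, ← Int.cast_sum, ← Finset.add_sum_erase _ _ hχ, if_pos rfl]
      congr 2
      have e2 : ∀ χ' ∈ Y.erase χ, (if χ' = χ then x - t else x) ^ 2 = x ^ 2 := by
        intro χ' h
        rw [if_neg (Finset.mem_erase.1 h).1]
      rw [Finset.sum_congr rfl e2, Finset.sum_const, nsmul_eq_mul, Finset.card_erase_of_mem hχ,
        Nat.cast_sub (Finset.card_pos.2 ⟨χ, hχ⟩)]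
      norm_num
  rw [hsum, hnorm, Complex.natCast_re] at hbes
  have hbes' : (∑ φ ∈ idxI W₁ W₂, (a φ ^ 2 + (a (φ * ψ) ^ 2 + (p - 2 : ℤ) *
      (a (φ * ψ) - δ ψ) ^ 2))) + ((x - t) ^ 2 + (Y.card - 1 : ℤ) * x ^ 2) ≤ ((q + t ^ 2 : ℕ) : ℤ) := by
    exact_mod_cast hbes
  have hirr := int_irr Y.card t ht hN x
  have hcard : (∑ φ ∈ idxI W₁ W₂, (1 : ℤ)) = q := by
    rw [Finset.sum_const, card_idxI F.hW]; simp [hq]
  have hterm : ∀ φ ∈ idxI W₁ W₂, (1 : ℤ) ≤ a φ ^ 2 + (a (φ * ψ) ^ 2 + (p - 2 : ℤ) *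
      (a (φ * ψ) - δ ψ) ^ 2) := fun φ _ => by
    have := (int_col p hp3 (a (φ * ψ)) (δ ψ) (F.sign ψ)).1
    nlinarith [sq_nonneg (a φ)]
  have hge : (q : ℤ) ≤ ∑ φ ∈ idxI W₁ W₂, (a φ ^ 2 + (a (φ * ψ) ^ 2 + (p - 2 : ℤ) *
      (a (φ * ψ) - δ ψ) ^ 2)) := by
    rw [← hcard]; exact Finset.sum_le_sum hterm
  push_cast at hbes'
  have hB : (x - t) ^ 2 + (Y.card - 1 : ℤ) * x ^ 2 = (t : ℤ) ^ 2 := by
    have := hirr.1; linarith
  have hA : ∑ φ ∈ idxI W₁ W₂, (a φ ^ 2 + (a (φ * ψ) ^ 2 + (p - 2 : ℤ) *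
      (a (φ * ψ) - δ ψ) ^ 2)) = ∑ φ ∈ idxI W₁ W₂, (1 : ℤ) := by
    rw [hcard]; linarith
  have hA' := (Finset.sum_eq_sum_iff_of_le hterm).1 hA.symm
  have hA0 : ∀ φ, IsI W₁ W₂ φ → a φ = 0 ∧ (a (φ * ψ) = δ ψ ∨ (a (φ * ψ) = 0 ∧ p = 3)) := by
    intro φ hφ
    have h1 := hA' φ (mem_idxI.2 hφ)
    have h2 := int_col p hp3 (a (φ * ψ)) (δ ψ) (F.sign ψ)
    have h3 : a φ ^ 2 = 0 := by nlinarith [sq_nonneg (a φ), h2.1]
    refine ⟨(pow_eq_zero_iff two_ne_zero).1 h3, h2.2 (by linarith)⟩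
  have ha1 := hA0 1 IsI.one
  rw [brg_one_mul] at ha1
  have hconst : ∀ φ, IsI W₁ W₂ φ → a (φ * ψ) = a ψ := by
    intro φ hφ
    have := hgrid φ hφ
    rw [ha1.1, (hA0 φ hφ).1] at this
    omega
  -- the expansion
  have hexp := bessel_eq_case s (Sum.elim η σ) (fun _ => (1 : ℝ)) (fun _ _ => one_ne_zero) horth θ
    (by rw [hsum, hnorm, Complex.natCast_re, hA, hcard, hB]; push_cast; ring)
  have hexp2 : θ = (∑ φ ∈ idxI W₁ W₂, ∑ ψ' ∈ idxJ W₁ W₂, (a (φ * ψ') : ℂ) • η (φ * ψ')) +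
      ∑ χ' ∈ Y, classInner θ (σ χ') • σ χ' := by
    conv_lhs => rw [hexp]
    rw [hs, Finset.sum_disjSum]
    congr 1
    · simp only [Sum.elim_inl, Complex.ofReal_one, div_one]
      rw [← sum_lin F.hW (fun ω => (a ω : ℂ) • η ω)]
      refine Finset.sum_congr rfl fun ω _ => by rw [ha]
    · simp only [Sum.elim_inr, Complex.ofReal_one, div_one]
  have hY : ∑ χ' ∈ Y, classInner θ (σ χ') • σ χ' =
      -((t : ℂ) • σ χ) + (x : ℂ) • ∑ χ' ∈ Y, σ χ' := by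
    have e1 : ∀ χ' ∈ Y, classInner θ (σ χ') • σ χ' =
        (x : ℂ) • σ χ' + (if χ' = χ then -((t : ℂ) • σ χ) else 0) := by
      intro χ' h
      rw [hb χ' h]
      by_cases h' : χ' = χ
      · subst h'
        rw [if_pos rfl, if_pos rfl]; push_cast
        rw [sub_smul, sub_eq_add_neg]
      · rw [if_neg h', if_neg h', add_zero]
    rw [Finset.sum_congr rfl e1, Finset.sum_add_distrib, ← Finset.smul_sum,
      Finset.sum_ite_eq' Y χ, if_pos hχ, add_comm]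
  refine ⟨x, hirr.2 hB, ?_⟩
  rcases ha1.2 with hm | ⟨hm, hp3'⟩
  · left
    rw [hexp2, hY]
    have e1 : ∀ φ ∈ idxI W₁ W₂, ∑ ψ' ∈ idxJ W₁ W₂, (a (φ * ψ') : ℂ) • η (φ * ψ') =
        (δ ψ : ℂ) • η (φ * ψ) := by
      intro φ hφ
      rw [mem_idxI] at hφ
      rw [Finset.sum_eq_single ψ]
      · rw [hconst φ hφ, hm]
      · intro ψ' hψ' hne
        rw [mem_idxJ] at hψ'
        by_cases h1 : ψ' = 1
        · rw [h1, brg_mul_one, (hA0 φ hφ).1]; simp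
        · rw [hcol φ ψ' hφ hψ' h1 hne, hconst φ hφ, hm]; simp
      · intro h; exact absurd (mem_idxJ.2 hψ) h
    rw [Finset.sum_congr rfl e1, ← Finset.smul_sum, ← add_assoc, ← sub_eq_add_neg]
    rfl
  · right
    refine ⟨hp3', ?_⟩
    rw [hexp2, hY]
    have hinv1 : ψ⁻¹ ≠ 1 := fun h => hψ1 (brg_inv_eq_one h)
    have hinv2 : ψ⁻¹ ≠ ψ := inv_ne_self_lin F.oddW hψ1
    have hJ : idxJ W₁ W₂ = {1, ψ, ψ⁻¹} := by
      symm
      apply Finset.eq_of_subset_of_card_le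
      · intro ω hω
        simp only [Finset.mem_insert, Finset.mem_singleton] at hω
        rw [mem_idxJ]
        rcases hω with rfl | rfl | rfl
        · exact IsJ.one
        · exact hψ
        · exact hψ.inv
      · rw [card_idxJ F.hW, ← hpdef, hp3', Finset.card_insert_of_notMem,
          Finset.card_insert_of_notMem, Finset.card_singleton]
        · rw [Finset.mem_singleton]; exact fun h => hinv2 h.symm
        · simp only [Finset.mem_insert, Finset.mem_singleton, not_or]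
          exact ⟨fun h => hψ1 h.symm, fun h => hinv1 h.symm⟩
    have e1 : ∀ φ ∈ idxI W₁ W₂, ∑ ψ' ∈ idxJ W₁ W₂, (a (φ * ψ') : ℂ) • η (φ * ψ') =
        (-(δ ψ : ℂ)) • η (φ * ψ⁻¹) := by
      intro φ hφ
      rw [mem_idxI] at hφ
      rw [Finset.sum_eq_single ψ⁻¹]
      · rw [hcol φ ψ⁻¹ hφ hψ.inv hinv1 hinv2, hconst φ hφ, hm]; simp
      · intro ψ' hψ' hne
        rw [hJ] at hψ'
        simp only [Finset.mem_insert, Finset.mem_singleton] at hψ'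
        rcases hψ' with h | h | h
        · rw [h, brg_mul_one, (hA0 φ hφ).1]; simp
        · rw [h, hconst φ hφ, hm]; simp
        · exact absurd h hne
      · intro h; exact absurd (mem_idxJ.2 hψ.inv) h
    rw [Finset.sum_congr rfl e1, ← Finset.smul_sum, ← add_assoc, ← sub_eq_add_neg, neg_smul]
    rfl

end Cfsg.Agent.PF
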