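import Cfsg.Agent.PF.Cliff9
import Cfsg.Agent.PF.Act9b

set_option autoImplicit false

/-! Abstract form of the Clifford theory in PF (9.7)-(9.9) (helper13). -/

namespace Cfsg.Agent.PF

open Subgroup ComplexConjugate
open Cfsg.Agent.H3

universe u v

theorem ext_hom {Y : Type u} {Q : Type v} [Group Y] [Group Q] {H A T : Subgroup Y}
    (hH : H.Normal) (hinf : H ⊓ A = ⊥) (hT : ∀ t ∈ T, ∃ h ∈ H, ∃ a ∈ A, t = h * a)
    (φ : H →* Q)
    (hinv : ∀ a ∈ A, ∀ h h' : H, (h' : Y) = a * h * a⁻¹ → φ h' = φ h) :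
    ∃ ψ : T →* Q, ∀ (t : T) (h : H) (a : Y), a ∈ A → (t : Y) = h * a → ψ t = φ h := by
  choose! f hf g hg hfg using hT
  have uniq : ∀ (h h' : H) (a a' : Y), a ∈ A → a' ∈ A → (h : Y) * a = h' * a' → h = h' := by
    intro h h' a a' ha ha' e
    have h1 : (h' : Y)⁻¹ * h = a' * a⁻¹ := by
      rw [inv_mul_eq_iff_eq_mul, ← mul_assoc, eq_mul_inv_iff_mul_eq]
      exact e
    have h2 : (h' : Y)⁻¹ * h ∈ H ⊓ A :=
      ⟨H.mul_mem (H.inv_mem h'.2) h.2, by rw [h1]; exact A.mul_mem ha' (A.inv_mem ha)⟩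
    rw [hinf, Subgroup.mem_bot, inv_mul_eq_one] at h2
    exact (Subtype.ext h2).symm
  let F : T → H := fun t => ⟨f t, hf t t.2⟩
  have key : ∀ (t : T) (h : H) (a : Y), a ∈ A → (t : Y) = h * a → F t = h := by
    intro t h a ha e
    exact uniq _ _ (g t) a (hg t t.2) ha ((hfg t t.2).symm.trans e)
  have hmul : ∀ s t : T, φ (F (s * t)) = φ (F s) * φ (F t) := by
    intro s t
    have e1 := hfg s s.2
    have e2 := hfg t t.2
    let k : H := ⟨g s * f t * (g s)⁻¹, hH.conj_mem _ (hf t t.2) _⟩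
    have e3 : F (s * t) = F s * k := by
      apply key _ _ (g s * g t) (mul_mem (hg s s.2) (hg t t.2))
      show (s : Y) * t = f s * (g s * f t * (g s)⁻¹) * (g s * g t)
      conv_lhs => rw [e1, e2]
      group
    rw [e3, map_mul]
    congr 1
    exact hinv (g s) (hg s s.2) (F t) k rfl
  refine ⟨MonoidHom.mk' (fun t => φ (F t)) hmul, ?_⟩
  intro t h a ha e
  show φ (F t) = φ h
  rw [key t h a ha e]

/-- abstract setting: `V = H/N`, `B = HD`, `E = ND`. -/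
structure Ch9 {Y V : Type u} [Group Y] [CommGroup V] (r : Y →* MulAut V) (H A D B E : Subgroup Y)
    (π : H →* V) : Prop where
  normH : H.Normal
  normB : B.Normal
  normE : E.Normal
  surj : Function.Surjective π
  act : ∀ (y : Y) (h h' : H), (h' : Y) = y * h * y⁻¹ → r y (π h) = π h'
  inf : H ⊓ A = ⊥
  DA : D ≤ A
  Dtriv : ∀ d ∈ D, r d = 1
  mem_B : ∀ b, b ∈ B ↔ ∃ h ∈ H, ∃ d ∈ D, b = h * d
  mem_E : ∀ e, e ∈ E ↔ ∃ h : H, π h = 1 ∧ ∃ d ∈ D, e = h * d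

/-- stabilizer of a linear character of `V` -/
def st {Y V : Type u} [Group Y] [CommGroup V] (r : Y →* MulAut V) (lam : V →* ℂˣ) :
    Subgroup Y where
  carrier := {y | ∀ v, lam (r y v) = lam v}
  one_mem' := fun v => by rw [map_one]; rfl
  mul_mem' := by
    intro a b ha hb v
    rw [ρ_mul_apply, ha, hb]
  inv_mem' := by
    intro a ha v
    have := ha (r a⁻¹ v)
    rw [ρ_inv_apply] at this
    exact this.symm

theorem mem_st {Y V : Type u} [Group Y] [CommGroup V] {r : Y →* MulAut V} {lam : V →* ℂˣ}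
    {y : Y} : y ∈ st r lam ↔ ∀ v, lam (r y v) = lam v := Iff.rfl

namespace Ch9

variable {Y V : Type u} [Group Y] [CommGroup V] {r : Y →* MulAut V} {H A D B E : Subgroup Y}
  {π : H →* V} (h : Ch9 r H A D B E π)

include h

theorem H_le : H ≤ B := fun x hx => (h.mem_B x).2 ⟨x, hx, 1, one_mem _, (mul_one x).symm⟩

theorem D_le : D ≤ B := fun x hx => (h.mem_B x).2 ⟨1, one_mem _, x, hx, (one_mul x).symm⟩

theorem E_le : E ≤ B := by
  intro x hx
  obtain ⟨k, -, d, hd, e⟩ := (h.mem_E x).1 hx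
  exact (h.mem_B x).2 ⟨k, k.2, d, hd, e⟩

theorem r_H {x : Y} (hx : x ∈ H) : r x = 1 := by
  ext v
  obtain ⟨k, rfl⟩ := h.surj v
  rw [h.act x k (⟨x, hx⟩ * k * ⟨x, hx⟩⁻¹) (by push_cast; rfl), map_mul, map_mul, map_inv]
  show _ = π k
  rw [mul_comm (π ⟨x, hx⟩), mul_inv_cancel_right]

theorem r_B {x : Y} (hx : x ∈ B) : r x = 1 := by
  obtain ⟨k, hk, d, hd, rfl⟩ := (h.mem_B x).1 hx
  rw [map_mul, h.r_H hk, h.Dtriv d hd, mul_one]

theorem B_le_st (lam : V →* ℂˣ) : B ≤ st r lam := by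
  intro x hx v
  rw [h.r_B hx]; rfl

/-- the extension of `π` to `B` -/
theorem exists_πB : ∃ πB : B →* V, ∀ (b : B) (k : H) (d : Y), d ∈ D → (b : Y) = k * d →
    πB b = π k := by
  refine ext_hom (A := D) h.normH ?_ ?_ π ?_
  · exact le_bot_iff.1 (le_trans (inf_le_inf_left _ h.DA) h.inf.le)
  · intro t ht
    exact (h.mem_B t).1 ht
  · intro a ha k k' e
    rw [← h.act a k k' e, h.Dtriv a ha]; rfl

noncomputable def πB (h : Ch9 r H A D B E π) : B →* V := h.exists_πB.choose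

theorem πB_eq (b : B) (k : H) (d : Y) (hd : d ∈ D) (e : (b : Y) = k * d) : h.πB b = π k :=
  h.exists_πB.choose_spec b k d hd e

theorem πB_H (k : H) : h.πB ⟨k, h.H_le k.2⟩ = π k :=
  h.πB_eq _ k 1 (one_mem _) (mul_one _).symm

theorem πB_surj : Function.Surjective h.πB := by
  intro v
  obtain ⟨k, rfl⟩ := h.surj v
  exact ⟨_, h.πB_H k⟩

theorem πB_ker (b : B) : h.πB b = 1 ↔ (b : Y) ∈ E := by
  constructor
  · intro e
    obtain ⟨k, hk, d, hd, e2⟩ := (h.mem_B b).1 b.2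
    rw [h.mem_E]
    refine ⟨⟨k, hk⟩, ?_, d, hd, e2⟩
    rw [← h.πB_eq b ⟨k, hk⟩ d hd e2, e]
  · intro hb
    obtain ⟨k, hk, d, hd, e⟩ := (h.mem_E b).1 hb
    rw [h.πB_eq b k d hd e, hk]

theorem act_B (y : Y) (b b' : B) (e : (b' : Y) = y * b * y⁻¹) : r y (h.πB b) = h.πB b' := by
  obtain ⟨k, hk, d, hd, e2⟩ := (h.mem_B b).1 b.2
  let k' : H := ⟨y * k * y⁻¹, h.normH.conj_mem _ hk _⟩
  have e3 : b' = ⟨k', h.H_le k'.2⟩ * ⟨y * d * y⁻¹, h.normB.conj_mem _ (h.D_le hd) _⟩ := by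
    apply Subtype.ext
    rw [e, e2]
    show _ = (y * k * y⁻¹) * (y * d * y⁻¹)
    group
  have e4 : h.πB ⟨y * d * y⁻¹, h.normB.conj_mem _ (h.D_le hd) _⟩ = 1 := by
    rw [h.πB_ker]
    apply h.normE.conj_mem
    rw [h.mem_E]
    exact ⟨1, map_one _, d, hd, (one_mul d).symm⟩
  rw [e3, map_mul, e4, mul_one, h.πB_H, h.πB_eq b ⟨k, hk⟩ d hd e2]
  exact h.act y ⟨k, hk⟩ k' rfl

/-- `λ` as a character of `B` -/
noncomputable def lamB (h : Ch9 r H A D B E π) (lam : V →* ℂˣ) : B →* ℂˣ := lam.comp h.πB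

theorem lamB_apply (lam : V →* ℂˣ) (b : B) : h.lamB lam b = lam (h.πB b) := rfl

/-- `λ` as a function on `B` -/
noncomputable def fB (h : Ch9 r H A D B E π) (lam : V →* ℂˣ) : B → ℂ := fun b => (h.lamB lam b : ℂ)

theorem fB_irr (lam : V →* ℂˣ) : IsIrrCharacter B (h.fB lam) := isIrr_of_hom _

theorem fB_one (lam : V →* ℂˣ) : h.fB lam 1 = 1 := by
  rw [fB, map_one]; rfl

theorem cj_fB (x : Y) (lam lam' : V →* ℂˣ) :
    H3.cj h.normB x (h.fB lam) = h.fB lam' ↔ ∀ v, lam (r x v) = lam' v := by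
  constructor
  · intro e v
    obtain ⟨b, rfl⟩ := h.πB_surj v
    have := congrFun e b
    rw [cj_apply] at this
    have h2 := Units.ext this
    rw [lamB_apply, lamB_apply] at h2
    rw [h.act_B x b ⟨x * b * x⁻¹, h.normB.conj_mem b b.2 x⟩ rfl]
    exact h2
  · intro e
    funext b
    rw [cj_apply]
    show ((h.lamB lam _ : ℂˣ) : ℂ) = (h.lamB lam' b : ℂˣ)
    congr 1
    rw [lamB_apply, lamB_apply, ← e, h.act_B x b ⟨x * b * x⁻¹, h.normB.conj_mem b b.2 x⟩ rfl]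

theorem inertia_eq (lam : V →* ℂˣ) : inertia h.normB (h.fB lam) = st r lam := by
  ext x
  rw [mem_inertia, h.cj_fB]
  rfl

theorem fB_inj {lam lam' : V →* ℂˣ} (e : h.fB lam = h.fB lam') : lam = lam' := by
  have := (h.cj_fB 1 lam lam').1 (by rw [cj_one, e])
  ext v
  rw [← this v, map_one]; rfl

section Fin

variable [Fintype Y] [Fintype B]

theorem over_ker {lam : V →* ℂˣ} {χ : Y → ℂ} (hχ : IsIrrCharacter Y χ)
    (hne : classInner (fun b : B => χ b) (h.fB lam) ≠ 0) {e : Y} (he : e ∈ E) : χ e = χ 1 := by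
  have h1 := clifford_sum h.normB hχ (h.fB_irr lam) hne
  have hc : (Nat.card (inertia h.normB (h.fB lam)) : ℂ) ≠ 0 := by
    exact_mod_cast Nat.card_pos.ne'
  have key : ∀ e : B, (e : Y) ∈ E → (Nat.card (inertia h.normB (h.fB lam)) : ℂ) * χ e =
      classInner (fun b : B => χ b) (h.fB lam) * Fintype.card Y := by
    intro e he
    have h2 := congrFun h1 e
    rw [Pi.smul_apply, Pi.smul_apply, Finset.sum_apply, smul_eq_mul, smul_eq_mul] at h2
    rw [h2]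
    congr 1
    rw [Finset.sum_congr rfl (g := fun _ => (1 : ℂ)), Finset.sum_const, Finset.card_univ]
    · simp
    · intro x _
      rw [cj_apply]
      show ((h.lamB lam _ : ℂˣ) : ℂ) = 1
      rw [lamB_apply, (h.πB_ker _).2 (h.normE.conj_mem _ he _), map_one]; rfl
  have h3 := key ⟨e, h.E_le he⟩ he
  have h4 := key 1 (one_mem _)
  exact mul_left_cancel₀ hc (h3.trans h4.symm)

omit [Fintype Y] in
theorem over_H {lam : V →* ℂˣ} (hlam : lam ≠ 1) {χ : Y → ℂ} (hχ : IsIrrCharacter Y χ)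
    (hne : classInner (fun b : B => χ b) (h.fB lam) ≠ 0) : ∃ k : H, χ k ≠ χ 1 := by
  by_contra hcon
  push Not at hcon
  apply hlam
  ext v
  obtain ⟨k, rfl⟩ := h.surj v
  have h1 := ker_constituent (isChar_restrict B (irr_isChar hχ)) (h.fB_irr lam) hne
    (n := ⟨k, h.H_le k.2⟩) (hcon k)
  rw [h.fB_one] at h1
  have h2 : h.fB lam ⟨k, h.H_le k.2⟩ = (lam (π k) : ℂ) := by
    show ((h.lamB lam _ : ℂˣ) : ℂ) = _
    rw [lamB_apply, h.πB_H]
  rw [← h2, h1]; rfl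

omit [Fintype Y] in
/-- a nontrivial `λ` below `χ` -/
theorem exists_lam {χ : Y → ℂ} (hχ : IsIrrCharacter Y χ) (hE : ∀ e ∈ E, χ e = χ 1)
    (hH : ∃ k ∈ H, χ k ≠ χ 1) :
    ∃ lam : V →* ℂˣ, lam ≠ 1 ∧ classInner (fun b : B => χ b) (h.fB lam) ≠ 0 := by
  classical
  have hch := isChar_restrict B (irr_isChar hχ)
  -- a constituent which is nontrivial on `H`
  have h1 : ∃ φ : B → ℂ, IsIrrCharacter B φ ∧ classInner (fun b : B => χ b) φ ≠ 0 ∧
      ∃ k : B, (k : Y) ∈ H ∧ φ k ≠ φ 1 := by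
    by_contra hcon
    push Not at hcon
    obtain ⟨k, hk, hk2⟩ := hH
    apply hk2
    have := Fintype.ofFinite (IrrCharacter B)
    have e1 := classFun_expand (char_classFun hch)
    have e2 := congrFun e1 ⟨k, h.H_le hk⟩
    have e3 := congrFun e1 1
    rw [Finset.sum_apply] at e2 e3
    have e4 : χ k = ∑ φ : IrrCharacter B, (classInner (fun b : B => χ b) (φ : B → ℂ) • (φ : B → ℂ))
        ⟨k, h.H_le hk⟩ := e2
    have e5 : χ 1 = ∑ φ : IrrCharacter B, (classInner (fun b : B => χ b) (φ : B → ℂ) • (φ : B → ℂ)) 1 :=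
      e3
    rw [e4, e5]
    refine Finset.sum_congr rfl fun φ _ => ?_
    rw [Pi.smul_apply, Pi.smul_apply]
    by_cases e : classInner (fun b : B => χ b) (φ : B → ℂ) = 0
    · rw [e]; simp
    · rw [hcon φ φ.2 e ⟨k, h.H_le hk⟩ hk]
  obtain ⟨φ, hφ, hne, k, hk, hk2⟩ := h1
  have hker : ∀ e : B, (e : Y) ∈ E → φ e = φ 1 := fun e he =>
    ker_constituent hch hφ hne (hE e he)
  have hder : ∀ n ∈ _root_.commutator B, φ n = φ 1 := by
    intro n hn
    apply hker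
    rw [← h.πB_ker]
    have : _root_.commutator B ≤ h.πB.ker := by
      rw [_root_.commutator_def, Subgroup.commutator_le]
      intro x _ y _
      rw [MonoidHom.mem_ker, map_commutatorElement, commutatorElement_eq_one_iff_mul_comm, mul_comm]
    exact this hn
  have hlin := linear_of_derived' hφ hder
  obtain ⟨m, hm⟩ := H27.exists_hom_of_one (irr_isChar hφ) hlin
  have hmker : h.πB.ker ≤ m.ker := by
    intro b hb
    rw [MonoidHom.mem_ker] at hb ⊢
    have h2 := hker b ((h.πB_ker b).1 hb)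
    rw [hlin, hm] at h2
    exact Units.ext h2
  let lam : V →* ℂˣ := (h.πB.liftOfSurjective h.πB_surj) ⟨m, hmker⟩
  have hl : ∀ b, lam (h.πB b) = m b := fun b =>
    MonoidHom.liftOfRightInverse_comp_apply _ _ _ ⟨m, hmker⟩ b
  have hφl : φ = h.fB lam := by
    funext b
    show φ b = ((h.lamB lam b : ℂˣ) : ℂ)
    rw [lamB_apply, hl, hm]
  refine ⟨lam, ?_, by rwa [← hφl]⟩
  intro e
  apply hk2
  rw [hφl]
  show ((h.lamB lam k : ℂˣ) : ℂ) = (h.lamB lam 1 : ℂˣ)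
  rw [lamB_apply, lamB_apply, e]; rfl

theorem over_dvd {lam : V →* ℂˣ} {χ : Y → ℂ} (hχ : IsIrrCharacter Y χ)
    (hne : classInner (fun b : B => χ b) (h.fB lam) ≠ 0) :
    ∃ k : ℕ, 0 < k ∧ χ 1 = ((st r lam).index * k : ℕ) := by
  have := PF.over_dvd h.normB (h.fB_irr lam) (h.fB_one lam) hχ hne
  rwa [h.inertia_eq] at this

theorem over_eq {lam : V →* ℂˣ} (hT : ∀ t ∈ st r lam, ∃ k ∈ H, ∃ a ∈ A, t = k * a)
    (hcomm : ∀ x ∈ A, x ∈ st r lam → ∀ y ∈ A, y ∈ st r lam → x * y * x⁻¹ * y⁻¹ ∈ D)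
    {χ : Y → ℂ} (hχ : IsIrrCharacter Y χ)
    (hne : classInner (fun b : B => χ b) (h.fB lam) ≠ 0) :
    χ 1 = ((st r lam).index : ℂ) ∧ classInner (fun b : B => χ b) (h.fB lam) = 1 := by
  classical
  have := Fintype.ofFinite (st r lam)
  have hT' : ∀ t ∈ st r lam, ∃ k ∈ H, ∃ a ∈ A ⊓ st r lam, t = k * a := by
    intro t ht
    obtain ⟨k, hk, a, ha, e⟩ := hT t ht
    refine ⟨k, hk, a, ⟨ha, ?_⟩, e⟩
    have : a = k⁻¹ * t := by rw [e]; group
    rw [this]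
    exact (st r lam).mul_mem ((st r lam).inv_mem (h.B_le_st lam (h.H_le hk))) ht
  obtain ⟨hat, hhat⟩ := ext_hom (A := A ⊓ st r lam) (T := st r lam) h.normH
    (le_bot_iff.1 (le_trans (inf_le_inf_left _ inf_le_left) h.inf.le)) hT' (lam.comp π) (by
      intro a ha k k' e
      show lam (π k') = lam (π k)
      rw [← h.act a k k' e]
      exact ha.2 _)
  refine over_linear h.normB (h.lamB lam) (st r lam) (h.inertia_eq lam).symm (h.B_le_st lam) hat
    ?_ ?_ hχ hne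
  · intro b
    obtain ⟨k, hk, d, hd, e⟩ := (h.mem_B b).1 b.2
    rw [hhat ⟨b, _⟩ ⟨k, hk⟩ d ⟨h.DA hd, h.B_le_st lam (h.D_le hd)⟩ e, lamB_apply,
      h.πB_eq b ⟨k, hk⟩ d hd e]
    rfl
  · intro x hx y hy
    obtain ⟨k, hk, a, ha, rfl⟩ := hT' x hx
    obtain ⟨k', hk', a', ha', rfl⟩ := hT' y hy
    have hB := h.normB
    have e1 : ∀ z ∈ B, (QuotientGroup.mk' B) z = 1 := fun z hz =>
      (QuotientGroup.eq_one_iff z).2 hz
    rw [← QuotientGroup.eq_one_iff]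
    show (QuotientGroup.mk' B) _ = 1
    simp only [map_mul, map_inv, e1 _ (h.H_le hk), e1 _ (h.H_le hk'), one_mul, mul_one, inv_one,
      mul_inv_rev]
    have e2 := e1 _ (h.D_le (hcomm a ha.1 ha.2 a' ha'.1 ha'.2))
    simp only [map_mul, map_inv] at e2
    exact e2

/-- number of characters over `λ` -/
theorem count {lam : V →* ℂˣ} (hT : ∀ t ∈ st r lam, ∃ k ∈ H, ∃ a ∈ A, t = k * a)
    (hcomm : ∀ x ∈ A, x ∈ st r lam → ∀ y ∈ A, y ∈ st r lam → x * y * x⁻¹ * y⁻¹ ∈ D) :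
    Nat.card B * Nat.card {χ : Y → ℂ // IsIrrCharacter Y χ ∧
      classInner (fun b : B => χ b) (h.fB lam) ≠ 0} = Nat.card (st r lam) := by
  have := count_over h.normB (h.fB_irr lam) (fun χ hχ hne => (h.over_eq hT hcomm hχ hne).2)
  rwa [h.inertia_eq] at this

end Fin

end Ch9

end Cfsg.Agent.PF
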