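import Cfsg.Agent.PF.Char9a
import Cfsg.Agent.PF.Sec9c

set_option autoImplicit false

/-! Instantiation of `Ch9` for a maximal subgroup `M` of type P and for `M'` (helper13). -/

namespace Cfsg.Agent.PF

open Subgroup ComplexConjugate
open Cfsg.Agent.H3
open Cfsg.Agent.L (nz)

universe u v

theorem mem_K9 {G : Type u} [Group G] {M : Subgroup G} {x : ↥M} :
    x ∈ _root_.commutator ↥M ↔ (x : G) ∈ ⁅M, M⁆ := by
  rw [← Subgroup.map_subtype_commutator]
  constructor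
  · intro hx
    exact ⟨x, hx, rfl⟩
  · rintro ⟨y, hy, e⟩
    have : y = x := Subtype.ext e
    rwa [← this]

section Pull

variable {G : Type u} [Group G] {M : Subgroup G} {Y : Type u} [Group Y]

/-- pull back a subgroup of `G` to `Y` -/
def pl (j : Y →* ↥M) (X : Subgroup G) : Subgroup Y := (X.subgroupOf M).comap j

theorem mem_pl {j : Y →* ↥M} {X : Subgroup G} {y : Y} : y ∈ pl j X ↔ ((j y : ↥M) : G) ∈ X :=
  Iff.rfl

theorem pl_mono {j : Y →* ↥M} {X X' : Subgroup G} (h : X ≤ X') : pl j X ≤ pl j X' :=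
  fun _ hx => h hx

theorem pl_normal {j : Y →* ↥M} {X : Subgroup G} (h : M ≤ nz X) : (pl j X).Normal := by
  constructor
  intro n hn g
  rw [mem_pl] at hn ⊢
  rw [map_mul, map_mul, map_inv]
  exact conj_of_le_nz h (j g).2 hn

theorem card_pl {j : Y →* ↥M} (hj : Function.Injective j) {X : Subgroup G}
    (hX : ∀ x ∈ X, ∃ y : Y, ((j y : ↥M) : G) = x) : Nat.card (pl j X) = Nat.card X := by
  have e : Function.Bijective (fun y : pl j X => (⟨((j y : ↥M) : G), y.2⟩ : X)) := by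
    constructor
    · intro a b hab
      apply Subtype.ext
      apply hj
      apply Subtype.ext
      exact congrArg (fun x : X => (x : G)) hab
    · rintro ⟨x, hx⟩
      obtain ⟨y, hy⟩ := hX x hx
      exact ⟨⟨y, by rw [mem_pl, hy]; exact hx⟩, Subtype.ext hy⟩
  exact Nat.card_congr (Equiv.ofBijective _ e)

/-- `π` on `pl j H` -/
def πY {H : Subgroup G} {V : Type u} [CommGroup V] (π : ↥H →* V) (j : Y →* ↥M) :
    ↥(pl j H) →* V where
  toFun y := π ⟨((j y : ↥M) : G), y.2⟩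
  map_one' := by
    rw [← map_one π]
    congr 1
    apply Subtype.ext
    show ((j ((1 : pl j H) : Y) : ↥M) : G) = 1
    rw [Subgroup.coe_one, map_one]; rfl
  map_mul' a b := by
    rw [← map_mul π]
    congr 1
    apply Subtype.ext
    show ((j ((a * b : pl j H) : Y) : ↥M) : G) = _
    rw [Subgroup.coe_mul, map_mul]; rfl

theorem πY_apply {H : Subgroup G} {V : Type u} [CommGroup V] (π : ↥H →* V) (j : Y →* ↥M)
    (y : ↥(pl j H)) : πY π j y = π ⟨((j y : ↥M) : G), y.2⟩ := rfl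

theorem mem_sup_iff9 {H D : Subgroup G} (hD : D ≤ nz H) {x : G} :
    x ∈ H ⊔ D ↔ ∃ a ∈ H, ∃ d ∈ D, x = a * d := by
  rw [H1.mem_sup_iff_of_le_normalizer hD]
  constructor
  · rintro ⟨a, ha, d, hd, rfl⟩
    exact ⟨a, ha, d, hd, rfl⟩
  · rintro ⟨a, ha, d, hd, rfl⟩
    exact ⟨a, ha, d, hd, rfl⟩

end Pull

section Inst

variable {G : Type u} [Group G] [Finite G] {M W₁ U W₂ N C : Subgroup G} {p : ℕ}
variable {V : Type u} [CommGroup V] {π : ↥(fittingHallOf M) →* V} {ρ : ↥M →* MulAut V}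
variable {Y : Type u} [Group Y] {j : Y →* ↥M}

namespace IsHbar

theorem U_nz_H (h : IsHbar M W₁ U W₂ N C p) : U ≤ nz (fittingHallOf M) :=
  h.hP.U_le.trans h.M_nz_H

theorem nz_HD (h : IsHbar M W₁ U W₂ N C p) {D : Subgroup G} (hDn : M ≤ nz (N ⊔ D)) :
    M ≤ nz (fittingHallOf M ⊔ D) := by
  have e : fittingHallOf M ⊔ D = fittingHallOf M ⊔ (N ⊔ D) := by
    rw [← sup_assoc, sup_eq_left.2 h.N_le]
  rw [e]
  apply le_nz_of_conj
  have hcc : ∀ a ∈ M, fittingHallOf M ⊔ (N ⊔ D) ≤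
      (fittingHallOf M ⊔ (N ⊔ D)).comap (MulAut.conj a).toMonoidHom := by
    intro a ha
    refine sup_le ?_ ?_
    · intro x hx
      exact Subgroup.mem_sup_left (conj_of_le_nz h.M_nz_H ha hx)
    · intro x hx
      exact Subgroup.mem_sup_right (conj_of_le_nz hDn ha hx)
  intro a ha x hx
  exact hcc a ha hx

theorem ch9 (h : IsHbar M W₁ U W₂ N C p) (hQ : IsQ M (fittingHallOf M) N π ρ)
    (hj : Function.Injective j) (hjK : ∀ x ∈ ⁅M, M⁆, ∃ y : Y, ((j y : ↥M) : G) = x)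
    {D : Subgroup G} (hD : D ≤ C) (hDn : M ≤ nz (N ⊔ D)) :
    Ch9 (ρ.comp j) (pl j (fittingHallOf M)) (pl j U) (pl j D) (pl j (fittingHallOf M ⊔ D))
      (pl j (N ⊔ D)) (πY π j) := by
  have hDU : D ≤ U := hD.trans h.C_le
  have hDM : ∀ x ∈ D, ∃ y : Y, ((j y : ↥M) : G) = x := fun x hx =>
    hjK x (h.hP.U_le' (hDU hx))
  have hHM : ∀ x ∈ fittingHallOf M, ∃ y : Y, ((j y : ↥M) : G) = x := fun x hx =>
    hjK x (h.hP.H_le' hx)
  have jeq : ∀ {a b : Y}, ((j a : ↥M) : G) = ((j b : ↥M) : G) → a = b := fun e =>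
    hj (Subtype.ext e)
  constructor
  · exact pl_normal h.M_nz_H
  · exact pl_normal (h.nz_HD hDn)
  · exact pl_normal hDn
  · intro v
    obtain ⟨x, rfl⟩ := hQ.surj v
    obtain ⟨y, hy⟩ := hHM x x.2
    refine ⟨⟨y, by rw [mem_pl, hy]; exact x.2⟩, ?_⟩
    rw [πY_apply]
    congr 1
    exact Subtype.ext hy
  · intro y k k' e
    rw [πY_apply, πY_apply]
    refine hQ.act (j y) _ _ ?_
    show ((j k' : ↥M) : G) = _
    rw [e, map_mul, map_mul, map_inv]; rfl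
  · rw [Subgroup.eq_bot_iff_forall]
    rintro x ⟨hx1, hx2⟩
    have h1 : ((j x : ↥M) : G) ∈ fittingHallOf M ⊓ U := ⟨hx1, hx2⟩
    rw [h.hP.U_compl.2.2.1, Subgroup.mem_bot] at h1
    apply jeq
    rw [h1, map_one]; rfl
  · exact pl_mono hDU
  · intro d hd
    show ρ (j d) = 1
    rw [h.ρ_eq_one hQ (hDU hd)]
    exact hD hd
  · intro b
    rw [mem_pl, mem_sup_iff9 (hDU.trans h.U_nz_H)]
    constructor
    · rintro ⟨a, ha, d, hd, e⟩
      obtain ⟨y, rfl⟩ := hHM a ha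
      obtain ⟨z, rfl⟩ := hDM d hd
      exact ⟨y, ha, z, hd, jeq (by rw [e, map_mul]; rfl)⟩
    · rintro ⟨a, ha, d, hd, rfl⟩
      exact ⟨_, ha, _, hd, by rw [map_mul]; rfl⟩
  · intro b
    rw [mem_pl, mem_sup_iff9 (hDU.trans h.U_nz_N)]
    constructor
    · rintro ⟨a, ha, d, hd, e⟩
      obtain ⟨y, rfl⟩ := hHM a (h.N_le ha)
      obtain ⟨z, rfl⟩ := hDM d hd
      refine ⟨⟨y, h.N_le ha⟩, ?_, z, hd, jeq (by rw [e, map_mul]; rfl)⟩
      rw [πY_apply, hQ.ker]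
      exact ha
    · rintro ⟨a, ha, d, hd, rfl⟩
      rw [πY_apply, hQ.ker] at ha
      exact ⟨_, ha, _, hd, by rw [map_mul]; rfl⟩

omit [Finite G] in
/-- elements of `M'` -/
theorem K_eq (h : IsHbar M W₁ U W₂ N C p) {x : G} (hx : x ∈ ⁅M, M⁆) :
    ∃ a ∈ fittingHallOf M, ∃ b ∈ U, x = a * b := h.hP.U_compl.2.2.2 x hx |>.imp fun a ha =>
      ⟨ha.1, by obtain ⟨b, hb, e⟩ := ha.2; exact ⟨b, hb, e⟩⟩

theorem card_HD (h : IsHbar M W₁ U W₂ N C p) {D : Subgroup G} (hD : D ≤ U) :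
    Nat.card ↥(fittingHallOf M ⊔ D) = Nat.card (fittingHallOf M) * Nat.card D := by
  refine H23.card_sup_of_inf_eq_bot (hD.trans h.U_nz_H) ?_
  rw [eq_bot_iff, ← h.hP.U_compl.2.2.1]
  exact fun x hx => ⟨hx.2, hD hx.1⟩

/-- index in `M'` -/
theorem index_pl (h : IsHbar M W₁ U W₂ N C p) {D : Subgroup G} (hD : D ≤ U) :
    (pl (_root_.commutator ↥M).subtype (fittingHallOf M ⊔ D)).index = D.relIndex U := by
  have hj : Function.Injective (_root_.commutator ↥M).subtype := Subtype.val_injective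
  have hsub : fittingHallOf M ⊔ D ≤ ⁅M, M⁆ := sup_le h.hP.H_le' (hD.trans h.hP.U_le')
  have hs : ∀ x ∈ ⁅M, M⁆, ∃ y : ↥(_root_.commutator ↥M),
      (((_root_.commutator ↥M).subtype y : ↥M) : G) = x := fun x hx =>
    ⟨⟨⟨x, commutator_le_self M hx⟩, mem_K9.2 hx⟩, rfl⟩
  have h1 := Subgroup.card_mul_index (pl (_root_.commutator ↥M).subtype (fittingHallOf M ⊔ D))
  rw [card_pl hj (fun x hx => hs x (hsub hx)), h.card_HD hD] at h1
  have h2 : Nat.card ↥(_root_.commutator ↥M) = Nat.card ↥⁅M, M⁆ := by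
    have h3 := card_pl (M := M) hj (X := ⁅M, M⁆) hs
    rw [← h3]
    have h4 : pl (_root_.commutator ↥M).subtype ⁅M, M⁆ = ⊤ := by
      rw [eq_top_iff]
      intro x _
      exact mem_K9.1 x.2
    rw [h4, Subgroup.card_top]
  rw [h2, ← h.hP.card_M', mul_assoc] at h1
  have h3 := Nat.eq_of_mul_eq_mul_left Nat.card_pos h1
  have h4 := L.card_mul_relIndex hD
  exact Nat.eq_of_mul_eq_mul_left Nat.card_pos (h3.trans h4.symm)

end IsHbar

end Inst

end Cfsg.Agent.PF
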