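import Cfsg.Agent.PF.Hbar
import Cfsg.Agent.PF.BBA

set_option autoImplicit false

/-! Definitions for part (B) (PF section 9): `SH M A`, `IsBridge` (helper13). -/

namespace Cfsg.Agent.PF

open Subgroup ComplexConjugate
open Cfsg.Agent.H3 Cfsg.Agent.H11
open Cfsg.Agent.L (nz)

universe u v

/-- characters of `M` induced from `θ ∈ Irr M'` with `A ∩ M' ≤ ker θ`, `M_F ⊄ ker θ` -/
def SH {G : Type u} [Group G] (M : Subgroup G) [Fintype ↥M] (A : Subgroup G) : Set (↥M → ℂ) :=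
  SS (commutator ↥M) ((fittingHallOf M).subgroupOf M) (A.subgroupOf M)

section Chars

variable {G : Type u} [Group G] [Fintype G] {M W₁ U W₂ : Subgroup G} [Fintype ↥M]
  {η : Lin W₁ W₂ → G → ℂ} {μ : Lin W₁ W₂ → ↥M → ℂ} {δ : Lin W₁ W₂ → ℤ}
  {N C X Y U₁ : Subgroup G} {p a : ℕ}

theorem SH_mono {A B : Subgroup G} (h : A ≤ B) : SH M B ⊆ SH M A :=
  SS_mono (fun _ hx => h hx)

/-- `Y` is a set of irreducible characters of `M` of the same degree, `σ` a coherent extension of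
`τ` to `Y`, `χ ∈ Y`, `μ_j(1) = t χ(1)` and `|Y| ≥ 2t`. -/
structure IsBridge (M : Subgroup G) [Fintype ↥M] {W₁ W₂ : Subgroup G} (μ : Lin W₁ W₂ → ↥M → ℂ)
    (ψ : Lin W₁ W₂) (Y : Finset (↥M → ℂ)) (σ : (↥M → ℂ) → G → ℂ) (χ : ↥M → ℂ) (t : ℕ) : Prop where
  isJ : IsJ W₁ W₂ ψ
  ne : ψ ≠ 1
  Y_irr : ∀ φ ∈ Y, IsIrrCharacter ↥M φ
  Y_mem : ∀ φ ∈ Y, φ ∈ SM M ⊥
  Y_conj : ∀ φ ∈ Y, conjFun φ ∈ Y
  Y_deg : ∀ φ ∈ Y, φ 1 = χ 1
  coh : CohMap (Y : Set (↥M → ℂ)) (tauM M) σ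
  mem : χ ∈ Y
  deg : colI μ ψ 1 = t * χ 1
  pos : 0 < t
  big : 2 * t ≤ Y.card

end Chars

end Cfsg.Agent.PF
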