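import Cfsg.Agent.PF.Char9b
import Cfsg.Agent.PF.Sec9d
import Cfsg.Agent.PF.Defs9

set_option autoImplicit false

/-! Degrees (PF (9.8), (9.9)) (helper13). -/

namespace Cfsg.Agent.PF

open Subgroup ComplexConjugate
open Cfsg.Agent.H3
open Cfsg.Agent.L (nz cj)
open IsQ

universe u v

section NG

variable {G : Type u} [Group G] [Finite G] {M W₁ U W₂ N C : Subgroup G} {p a : ℕ}
variable {V : Type u} [CommGroup V] {π : ↥(fittingHallOf M) →* V} {ρ : ↥M →* MulAut V}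
variable {X Y U₁ : Subgroup G}

omit [Finite G] in
theorem IsQ.le_of_up {H : Subgroup G} {π : ↥H →* V} (hQ : IsQ M H N π ρ) {A B : Subgroup V}
    (h : up π A ≤ up π B) : A ≤ B := by
  intro v hv
  obtain ⟨x, rfl⟩ := hQ.surj v
  exact coe_mem_up.1 (h (coe_mem_up.2 hv))

theorem IsNonGal.toNG (hn : IsNonGal M W₁ U N C X Y U₁ p a) (h : IsHbar M W₁ U W₂ N C p)
    (hQ : IsQ M (fittingHallOf M) N π ρ) :
    Act9.NG ρ (U.subgroupOf M) (W₁.subgroupOf M) p (down π X) (down π Y) := by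
  have hfV : Finite V := Finite.of_surjective _ hQ.surj
  have eX : up π (down π X) = X := hQ.up_down hn.N_le_X hn.X_le
  have eY : up π (down π Y) = Y := hQ.up_down hn.N_le_Y hn.Y_le
  constructor
  · intro u hu
    refine (hQ.act_up h.M_nz_H).2 ?_
    rw [eX]
    exact fun x hx => conj_of_le_nz hn.U_le_X hu hx
  · intro u hu
    refine (hQ.act_up h.M_nz_H).2 ?_
    rw [eY]
    exact fun x hx => conj_of_le_nz hn.U_le_Y hu hx
  · have h1 := hQ.card_up h.N_le (down π X)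
    rw [eX, hn.card_X] at h1
    exact (Nat.eq_of_mul_eq_mul_left Nat.card_pos h1).symm
  · have h1 := hQ.card_up h.N_le (down π Y)
    have h2 := hQ.card_eq h.N_le
    rw [hn.card_Y, ← eY, h1, mul_assoc] at h2
    exact (Nat.eq_of_mul_eq_mul_left Nat.card_pos h2).symm
  · intro w hw hw1
    apply hQ.le_of_up
    rw [hQ.up_mv h.M_nz_H, eX, eY]
    exact hn.cj_le_Y w hw (fun e => hw1 (Subtype.ext e))
  · apply hQ.up_inj
    rw [up_inf, eX, eY, hn.inf_XY, hQ.up_bot h.N_le]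
  · rw [eq_top_iff]
    apply hQ.le_of_up
    rw [up_top]
    refine hn.sup_XY.ge.trans (sup_le ?_ ?_)
    · exact eX.ge.trans (up_mono le_sup_left)
    · exact eY.ge.trans (up_mono le_sup_right)
  · intro Z hZ
    rw [eq_top_iff]
    apply hQ.le_of_up
    rw [up_top]
    apply hn.gen
    intro w hw
    have h1 := up_mono (π := π) (hZ ⟨w, h.hP.W₁_le hw⟩ hw)
    rwa [hQ.up_mv h.M_nz_H, eX] at h1
  · intro w hw hw1
    rw [eq_top_iff]
    apply hQ.le_of_up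
    rw [up_top]
    refine (hn.sup_cj_Y w hw (fun e => hw1 (Subtype.ext e))).ge.trans (sup_le ?_ ?_)
    · exact eY.ge.trans (up_mono le_sup_left)
    · have h1 := up_mono (π := π) (le_sup_right : mv ρ w (down π Y) ≤ down π Y ⊔ mv ρ w (down π Y))
      rwa [hQ.up_mv h.M_nz_H, eY] at h1

end NG

section K

variable {G : Type u} [Group G] [Finite G] {M W₁ U W₂ N C : Subgroup G} {p a : ℕ}
variable {V : Type u} [CommGroup V] {π : ↥(fittingHallOf M) →* V} {ρ : ↥M →* MulAut V}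

/-- inclusion of `M'` -/
abbrev jK (M : Subgroup G) : ↥(_root_.commutator ↥M) →* ↥M := (_root_.commutator ↥M).subtype

omit [Finite G] in
theorem jK_inj (M : Subgroup G) : Function.Injective (jK M) := Subtype.val_injective

omit [Finite G] in
theorem jK_surj (M : Subgroup G) : ∀ x ∈ ⁅M, M⁆, ∃ y : ↥(_root_.commutator ↥M), ((jK M y : ↥M) : G) = x :=
  fun x hx => ⟨⟨⟨x, commutator_le_self M hx⟩, mem_K9.2 hx⟩, rfl⟩

omit [Finite G] in
theorem jM_surj (M : Subgroup G) :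
    ∀ x ∈ ⁅M, M⁆, ∃ y : ↥M, ((MonoidHom.id ↥M y : ↥M) : G) = x :=
  fun x hx => ⟨⟨x, commutator_le_self M hx⟩, rfl⟩

namespace IsHbar

theorem chK (h : IsHbar M W₁ U W₂ N C p) (hQ : IsQ M (fittingHallOf M) N π ρ) {D : Subgroup G}
    (hD : D ≤ C) (hDn : M ≤ nz (N ⊔ D)) :
    Ch9 (ρ.comp (jK M)) (pl (jK M) (fittingHallOf M)) (pl (jK M) U) (pl (jK M) D)
      (pl (jK M) (fittingHallOf M ⊔ D)) (pl (jK M) (N ⊔ D)) (πY π (jK M)) :=
  h.ch9 hQ (jK_inj M) (jK_surj M) hD hDn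

theorem chM (h : IsHbar M W₁ U W₂ N C p) (hQ : IsQ M (fittingHallOf M) N π ρ) {D : Subgroup G}
    (hD : D ≤ C) (hDn : M ≤ nz (N ⊔ D)) :
    Ch9 (ρ.comp (MonoidHom.id ↥M)) (pl (MonoidHom.id ↥M) (fittingHallOf M))
      (pl (MonoidHom.id ↥M) U) (pl (MonoidHom.id ↥M) D)
      (pl (MonoidHom.id ↥M) (fittingHallOf M ⊔ D)) (pl (MonoidHom.id ↥M) (N ⊔ D))
      (πY π (MonoidHom.id ↥M)) :=
  h.ch9 hQ Function.injective_id (jM_surj M) hD hDn

/-- decomposition in `M'` -/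
theorem dec (h : IsHbar M W₁ U W₂ N C p) (y : ↥(_root_.commutator ↥M)) :
    ∃ k ∈ pl (jK M) (fittingHallOf M), ∃ b ∈ pl (jK M) U, y = k * b := by
  obtain ⟨x, hx, b, hb, e⟩ := h.K_eq (mem_K9.1 y.2)
  obtain ⟨x', rfl⟩ := jK_surj M x (h.hP.H_le' hx)
  obtain ⟨b', rfl⟩ := jK_surj M b (h.hP.U_le' hb)
  refine ⟨x', hx, b', hb, ?_⟩
  apply Subtype.ext
  apply Subtype.ext
  exact e

theorem norm_C (h : IsHbar M W₁ U W₂ N C p) : M ≤ nz (N ⊔ C) :=
  h.norm_sup le_rfl h.U_le_nz_C h.W₁_le_nz_C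

theorem HC_le_st (h : IsHbar M W₁ U W₂ N C p) (hQ : IsQ M (fittingHallOf M) N π ρ)
    (lam : V →* ℂˣ) : pl (jK M) (fittingHallOf M ⊔ C) ≤ st (ρ.comp (jK M)) lam :=
  (h.chK hQ le_rfl h.norm_C).B_le_st lam

/-- criterion for `st ≤ H D'` -/
theorem st_le (h : IsHbar M W₁ U W₂ N C p) (hQ : IsQ M (fittingHallOf M) N π ρ)
    {lam : V →* ℂˣ} {D' : Subgroup G} (hD' : D' ≤ U)
    (hs : ∀ b : ↥M, (b : G) ∈ U → (∀ v, lam (ρ b v) = lam v) → (b : G) ∈ D') :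
    st (ρ.comp (jK M)) lam ≤ pl (jK M) (fittingHallOf M ⊔ D') := by
  intro y hy
  obtain ⟨k, hk, b, hb, rfl⟩ := h.dec y
  have h1 : b ∈ st (ρ.comp (jK M)) lam := by
    have : b = k⁻¹ * (k * b) := by group
    rw [this]
    exact (st (ρ.comp (jK M)) lam).mul_mem ((st (ρ.comp (jK M)) lam).inv_mem
      ((h.chK hQ le_rfl h.norm_C).B_le_st lam (pl_mono le_sup_left hk))) hy
  have h2 := hs (b : ↥M) hb h1
  rw [mem_pl, map_mul]
  exact mul_mem (Subgroup.mem_sup_left (T := D') hk) (Subgroup.mem_sup_right (S := fittingHallOf M) h2)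

end IsHbar

end K

end Cfsg.Agent.PF
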