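import Cfsg.Agent.PF.Char9c

set_option autoImplicit false

/-! Degrees (PF (9.8), (9.9)) (helper13). -/

namespace Cfsg.Agent.PF

open Subgroup ComplexConjugate
open Cfsg.Agent.H3
open Cfsg.Agent.L (nz cj)
open Cfsg.Agent.OOT Cfsg.Agent.H21
open IsQ

universe u v

section

variable {G : Type u} [Group G] [Finite G] {M W₁ U W₂ N C : Subgroup G} {p a : ℕ}

theorem index_K9 (hP : IsTypePWith M W₁ U W₂) : (_root_.commutator ↥M).index = Nat.card W₁ := by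
  have : _root_.commutator ↥M = (⁅M, M⁆).subgroupOf M := by
    ext x
    exact mem_K9
  rw [this]
  exact complIn_relIndex_left hP.W₁_compl

omit [Finite G] in
theorem nz_comm9 {A B : Subgroup G} (h : A ≤ nz B) : A ≤ nz ⁅B, B⁆ := by
  intro x hx
  rw [L.mem_nz_iff, ← cj_commutator, L.mem_nz_iff.1 (h hx)]

theorem IsHbar.norm_U' (h : IsHbar M W₁ U W₂ N C p) : M ≤ nz (N ⊔ ⁅U, U⁆) :=
  h.norm_sup h.comm_U (nz_comm9 (L.le_nz U)) (nz_comm9 h.hP.U_normal)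

theorem IsHbar.norm_C' (h : IsHbar M W₁ U W₂ N C p) : M ≤ nz (N ⊔ ⁅C, C⁆) :=
  h.norm_sup (Subgroup.commutator_le_self C) (nz_comm9 h.U_le_nz_C) (nz_comm9 h.W₁_le_nz_C)

end

section Theta

variable {G : Type u} [Group G] [Fintype G] {M W₁ U W₂ N C : Subgroup G} {p a : ℕ}
variable {V : Type u} [CommGroup V] {π : ↥(fittingHallOf M) →* V} {ρ : ↥M →* MulAut V}

/-- degree of `θ` above `N ⊔ D` -/
theorem IsHbar.theta_eq (h : IsHbar M W₁ U W₂ N C p) (hQ : IsQ M (fittingHallOf M) N π ρ)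
    {D : Subgroup G} (hD : D ≤ C) (hDn : M ≤ nz (N ⊔ D))
    [Fintype (pl (jK M) (fittingHallOf M ⊔ D))] [Fintype ↥(_root_.commutator ↥M)]
    {lam : V →* ℂˣ}
    (hcomm : ∀ x : ↥M, (x : G) ∈ U → (∀ v, lam (ρ x v) = lam v) →
      ∀ y : ↥M, (y : G) ∈ U → (∀ v, lam (ρ y v) = lam v) → ((x * y * x⁻¹ * y⁻¹ : ↥M) : G) ∈ D)
    {θ : ↥(_root_.commutator ↥M) → ℂ} (hθ : IsIrrCharacter _ θ)
    (hne : classInner (fun b : pl (jK M) (fittingHallOf M ⊔ D) => θ b)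
      ((h.chK hQ hD hDn).fB lam) ≠ 0) :
    θ 1 = ((st (ρ.comp (jK M)) lam).index : ℂ) := by
  refine ((h.chK hQ hD hDn).over_eq (fun t _ => h.dec t) ?_ hθ hne).1
  intro x hx hx2 y hy hy2
  exact hcomm x hx hx2 y hy hy2

/-- there is `λ ≠ 1` below `θ` -/
theorem IsHbar.theta_lam (h : IsHbar M W₁ U W₂ N C p) (hQ : IsQ M (fittingHallOf M) N π ρ)
    {D : Subgroup G} (hD : D ≤ C) (hDn : M ≤ nz (N ⊔ D))
    [Fintype (pl (jK M) (fittingHallOf M ⊔ D))]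
    {θ : ↥(_root_.commutator ↥M) → ℂ} (hθ : IsIrrCharacter _ θ)
    (hE : ∀ a : ↥(_root_.commutator ↥M), (a : ↥M) ∈ (N ⊔ D).subgroupOf M → θ a = θ 1)
    (hH : ∃ k : ↥(_root_.commutator ↥M), (k : ↥M) ∈ (fittingHallOf M).subgroupOf M ∧ θ k ≠ θ 1) :
    ∃ lam : V →* ℂˣ, lam ≠ 1 ∧ classInner (fun b : pl (jK M) (fittingHallOf M ⊔ D) => θ b)
      ((h.chK hQ hD hDn).fB lam) ≠ 0 :=
  (h.chK hQ hD hDn).exists_lam hθ (fun e he => hE e he) hH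

theorem IsHbar.st_dvd (h : IsHbar M W₁ U W₂ N C p) (hQ : IsQ M (fittingHallOf M) N π ρ)
    (lam : V →* ℂˣ) : (st (ρ.comp (jK M)) lam).index ∣ C.relIndex U := by
  rw [← h.index_pl h.C_le]
  exact Subgroup.index_dvd_of_le (h.HC_le_st hQ lam)

theorem IsHbar.st_gal (h : IsHbar M W₁ U W₂ N C p) (hQ : IsQ M (fittingHallOf M) N π ρ)
    (hgal : IsGal M U N) {lam : V →* ℂˣ} (h1 : lam ≠ 1) {b : ↥M} (hb : (b : G) ∈ U)
    (hs : ∀ v, lam (ρ b v) = lam v) : (b : G) ∈ C :=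
  (h.ρ_eq_one hQ hb).1 ((h.act9 hQ).stab_gal ((h.gal9 hQ).2 hgal) h1 hb hs)

theorem IsHbar.st_inv (h : IsHbar M W₁ U W₂ N C p) (hQ : IsQ M (fittingHallOf M) N π ρ)
    {lam : V →* ℂˣ} (h1 : lam ≠ 1) (hw : ∀ w : ↥M, (w : G) ∈ W₁ → ∀ v, lam (ρ w v) = lam v)
    {b : ↥M} (hb : (b : G) ∈ U)
    (hs : ∀ v, lam (ρ b v) = lam v) : (b : G) ∈ C :=
  (h.ρ_eq_one hQ hb).1 ((h.act9 hQ).stab_inv h1 hw hb hs)

theorem IsHbar.st_index (h : IsHbar M W₁ U W₂ N C p) (hQ : IsQ M (fittingHallOf M) N π ρ)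
    {lam : V →* ℂˣ}
    (hC : ∀ b : ↥M, (b : G) ∈ U → (∀ v, lam (ρ b v) = lam v) → (b : G) ∈ C) :
    (st (ρ.comp (jK M)) lam).index = C.relIndex U := by
  rw [← h.index_pl h.C_le]
  congr 1
  exact le_antisymm (h.st_le hQ h.C_le hC) (h.HC_le_st hQ lam)

/-- members of `SH M (H₀U')` -/
theorem IsHbar.theta_dvd (h : IsHbar M W₁ U W₂ N C p) 
    {θ : ↥(_root_.commutator ↥M) → ℂ} (hθ : IsIrrCharacter _ θ)
    (hE : ∀ a : ↥(_root_.commutator ↥M), (a : ↥M) ∈ (N ⊔ ⁅U, U⁆).subgroupOf M → θ a = θ 1)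
    (hH : ∃ k : ↥(_root_.commutator ↥M), (k : ↥M) ∈ (fittingHallOf M).subgroupOf M ∧ θ k ≠ θ 1) :
    ∃ k : ℕ, k ∣ C.relIndex U ∧ θ 1 = (k : ℂ) := by
  classical
  obtain ⟨V, _, π, ρ, hQ⟩ := h.exists_Q
  have := Fintype.ofFinite (pl (jK M) (fittingHallOf M ⊔ ⁅U, U⁆))
  have := Fintype.ofFinite ↥(_root_.commutator ↥M)
  obtain ⟨lam, h1, hne⟩ := h.theta_lam hQ h.comm_U h.norm_U' hθ hE hH
  refine ⟨_, h.st_dvd hQ lam, h.theta_eq hQ h.comm_U h.norm_U' ?_ hθ hne⟩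
  intro x hx _ y hy _
  exact Subgroup.commutator_mem_commutator hx hy

/-- Galois case -/
theorem IsHbar.theta_gal (h : IsHbar M W₁ U W₂ N C p) (hgal : IsGal M U N)
    {θ : ↥(_root_.commutator ↥M) → ℂ} (hθ : IsIrrCharacter _ θ)
    (hE : ∀ a : ↥(_root_.commutator ↥M), (a : ↥M) ∈ (N ⊔ ⁅C, C⁆).subgroupOf M → θ a = θ 1)
    (hH : ∃ k : ↥(_root_.commutator ↥M), (k : ↥M) ∈ (fittingHallOf M).subgroupOf M ∧ θ k ≠ θ 1) :
    θ 1 = (C.relIndex U : ℂ) := by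
  classical
  obtain ⟨V, _, π, ρ, hQ⟩ := h.exists_Q
  have := Fintype.ofFinite (pl (jK M) (fittingHallOf M ⊔ ⁅C, C⁆))
  have := Fintype.ofFinite ↥(_root_.commutator ↥M)
  obtain ⟨lam, h1, hne⟩ := h.theta_lam hQ (Subgroup.commutator_le_self C) h.norm_C' hθ hE hH
  have hC : ∀ b : ↥M, (b : G) ∈ U → (∀ v, lam (ρ b v) = lam v) → (b : G) ∈ C := fun b hb hs =>
    h.st_gal hQ hgal h1 hb hs
  rw [← h.st_index hQ hC]
  refine h.theta_eq hQ (Subgroup.commutator_le_self C) h.norm_C' ?_ hθ hne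
  intro x hx hx2 y hy hy2
  exact Subgroup.commutator_mem_commutator (hC x hx hx2) (hC y hy hy2)

theorem IsNonGal.index_cj {X Y U₁ : Subgroup G} (hn : IsNonGal M W₁ U N C X Y U₁ p a)
    (h : IsHbar M W₁ U W₂ N C p) {w : G} (hw : w ∈ W₁) :
    cj w U₁ ≤ U ∧ (cj w U₁).relIndex U = a := by
  have hU : cj w U = U := (L.mem_nz_iff).1 (h.hP.U_normal hw)
  have h1 : cj w U₁ ≤ U := by
    rw [← hU]; exact L.cj_mono hn.U₁_le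
  refine ⟨h1, ?_⟩
  have h2 := L.card_mul_relIndex h1
  rw [L.card_cj, hn.card_U] at h2
  exact Nat.eq_of_mul_eq_mul_left Nat.card_pos h2

/-- stabilizer in the non-Galois case -/
theorem IsNonGal.st_dvd {X Y U₁ : Subgroup G} (hn : IsNonGal M W₁ U N C X Y U₁ p a)
    (h : IsHbar M W₁ U W₂ N C p) (hQ : IsQ M (fittingHallOf M) N π ρ)
    {lam : V →* ℂˣ} (h1 : lam ≠ 1) : a ∣ (st (ρ.comp (jK M)) lam).index := by
  obtain ⟨w, hw, hst⟩ := (h.act9 hQ).stab_ng (hn.toNG h hQ) h1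
  obtain ⟨k1, k2⟩ := hn.index_cj h hw
  rw [← k2, ← h.index_pl k1]
  apply Subgroup.index_dvd_of_le
  apply h.st_le hQ k1
  intro b hb hs
  have h2 := hst b hb hs
  rw [L.mem_cj, hn.mem_U₁]
  refine ⟨conj_of_le_nz' h.hP.U_normal hw hb, ?_⟩
  intro x hx
  have hxH := hn.X_le hx
  have h3 : ρ (w⁻¹ * b * w) (π ⟨x, hxH⟩) = π ⟨x, hxH⟩ := by
    rw [ρ_mul_apply, ρ_mul_apply, h2, ρ_inv_apply']
    rw [mem_mv, ρ_inv_apply']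
    exact (hQ.mem_down hn.N_le_X).2 hx
  exact (hQ.act_eq_iff h.M_nz_H).1 h3

theorem IsNonGal.theta_dvd {X Y U₁ : Subgroup G} (hn : IsNonGal M W₁ U N C X Y U₁ p a)
    (h : IsHbar M W₁ U W₂ N C p)
    {θ : ↥(_root_.commutator ↥M) → ℂ} (hθ : IsIrrCharacter _ θ)
    (hE : ∀ a : ↥(_root_.commutator ↥M), (a : ↥M) ∈ N.subgroupOf M → θ a = θ 1)
    (hH : ∃ k : ↥(_root_.commutator ↥M), (k : ↥M) ∈ (fittingHallOf M).subgroupOf M ∧ θ k ≠ θ 1) :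
    ∃ k : ℕ, θ 1 = ((a * k : ℕ) : ℂ) := by
  classical
  obtain ⟨V, _, π, ρ, hQ⟩ := h.exists_Q
  have hb : M ≤ nz (N ⊔ ⊥) := by rw [sup_bot_eq]; exact h.N_norm
  have := Fintype.ofFinite (pl (jK M) (fittingHallOf M ⊔ ⊥))
  have := Fintype.ofFinite ↥(_root_.commutator ↥M)
  obtain ⟨lam, h1, hne⟩ := h.theta_lam hQ bot_le hb hθ
    (fun a ha => hE a (by rwa [sup_bot_eq] at ha)) hH
  obtain ⟨k, -, hk⟩ := (h.chK hQ bot_le hb).over_dvd hθ hne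
  obtain ⟨m, hm⟩ := hn.st_dvd h hQ h1
  refine ⟨m * k, ?_⟩
  rw [hk, hm, mul_assoc]

end Theta

section Chars

variable {G : Type u} [Group G] [Fintype G] {M W₁ U W₂ : Subgroup G} [Fintype ↥M]
  {η : Lin W₁ W₂ → G → ℂ} {μ : Lin W₁ W₂ → ↥M → ℂ} {δ : Lin W₁ W₂ → ℤ}
  {N C X Y U₁ : Subgroup G} {p a : ℕ}

/-- members of `SH M (H₀U')` have degree `qk`, `k | u`  -/
theorem IsHbar.deg_dvd (h : IsHbar M W₁ U W₂ N C p) (_F : IsFrame M W₁ U W₂ η μ δ)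
    {χ : ↥M → ℂ} (hχ : χ ∈ SH M (N ⊔ ⁅U, U⁆)) :
    ∃ k : ℕ, k ∣ C.relIndex U ∧ χ 1 = (Nat.card W₁ * k : ℕ) := by
  obtain ⟨θ, hθ, hE, hH, rfl⟩ := hχ
  obtain ⟨k, hk, e⟩ := h.theta_dvd hθ hE hH
  refine ⟨k, hk, ?_⟩
  rw [indFun_one_apply, index_K9 h.hP, e]
  push_cast; rfl

/-- members of `SH M (H₀C)` have degree `qk`, `k | u` -/
theorem IsHbar.deg_dvd_C (h : IsHbar M W₁ U W₂ N C p) (F : IsFrame M W₁ U W₂ η μ δ)
    {χ : ↥M → ℂ} (hχ : χ ∈ SH M (N ⊔ C)) :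
    ∃ k : ℕ, k ∣ C.relIndex U ∧ χ 1 = (Nat.card W₁ * k : ℕ) :=
  h.deg_dvd F (SH_mono (sup_le_sup_left h.comm_U N) hχ)

/-- (9.9) -/
theorem IsHbar.gal_deg (h : IsHbar M W₁ U W₂ N C p) (_F : IsFrame M W₁ U W₂ η μ δ)
    (hgal : IsGal M U N) {χ : ↥M → ℂ} (hχ : χ ∈ SH M (N ⊔ ⁅C, C⁆)) :
    χ 1 = (Nat.card W₁ * C.relIndex U : ℕ) := by
  obtain ⟨θ, hθ, hE, hH, rfl⟩ := hχ
  rw [indFun_one_apply, index_K9 h.hP, h.theta_gal hgal hθ hE hH]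
  push_cast; rfl

/-- (9.8)(b) -/
theorem IsHbar.nonGal_deg (h : IsHbar M W₁ U W₂ N C p) (_F : IsFrame M W₁ U W₂ η μ δ)
    (hn : IsNonGal M W₁ U N C X Y U₁ p a) {χ : ↥M → ℂ} (hχ : χ ∈ SH M N) :
    ∃ k : ℕ, χ 1 = (Nat.card W₁ * a * k : ℕ) := by
  obtain ⟨θ, hθ, hE, hH, rfl⟩ := hχ
  obtain ⟨k, e⟩ := hn.theta_dvd h hθ hE hH
  refine ⟨k, ?_⟩
  rw [indFun_one_apply, index_K9 h.hP, e]
  push_cast; ring

end Chars

end Cfsg.Agent.PF
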