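import Cfsg.Agent.PF.Char9d
import Cfsg.Agent.H3.IndSum

set_option autoImplicit false

/-! The reducible members of `SH M H₀` (PF (9.8)(a)) (helper13). -/

namespace Cfsg.Agent.PF

open Subgroup ComplexConjugate
open Cfsg.Agent.H3
open Cfsg.Agent.L (nz)
open Cfsg.Agent.OOT Cfsg.Agent.H21
open IsQ

universe u v

section Theta

variable {G : Type u} [Group G] [Fintype G] {M W₁ U W₂ N C : Subgroup G} {p a : ℕ}
variable {V : Type u} [CommGroup V] {π : ↥(fittingHallOf M) →* V} {ρ : ↥M →* MulAut V}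
variable [Fintype ↥(_root_.commutator ↥M)]

/-- `Ind_{HC}^{M'} λ` -/
noncomputable def IsHbar.th (h : IsHbar M W₁ U W₂ N C p) (hQ : IsQ M (fittingHallOf M) N π ρ)
    (lam : V →* ℂˣ) : ↥(_root_.commutator ↥M) → ℂ :=
  indFun (pl (jK M) (fittingHallOf M ⊔ C)) ((h.chK hQ le_rfl h.norm_C).fB lam)

/-- `W₁`-invariant -/
def Winv (W₁ : Subgroup G) (ρ : ↥M →* MulAut V) (lam : V →* ℂˣ) : Prop :=
  ∀ w : ↥M, (w : G) ∈ W₁ → ∀ v, lam (ρ w v) = lam v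

namespace IsHbar

variable (h : IsHbar M W₁ U W₂ N C p) (hQ : IsQ M (fittingHallOf M) N π ρ) {lam : V →* ℂˣ}
  (h1 : lam ≠ 1) (hw : Winv W₁ ρ lam)

include h1 hw

theorem th_irr : IsIrrCharacter _ (h.th hQ lam) := by
  refine isIrr_ind_of_inertia_eq (h.chK hQ le_rfl h.norm_C).normB
    ((h.chK hQ le_rfl h.norm_C).fB_irr lam) ?_
  rw [(h.chK hQ le_rfl h.norm_C).inertia_eq]
  exact h.st_le hQ h.C_le fun b hb hs => h.st_inv hQ h1 hw hb hs

omit h1 hw in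
theorem th_one : h.th hQ lam 1 = (C.relIndex U : ℂ) := by
  rw [th, indFun_one_apply, (h.chK hQ le_rfl h.norm_C).fB_one, mul_one, h.index_pl h.C_le]

theorem th_over [Fintype (pl (jK M) (fittingHallOf M ⊔ C))] :
    classInner (fun b : pl (jK M) (fittingHallOf M ⊔ C) => h.th hQ lam b)
      ((h.chK hQ le_rfl h.norm_C).fB lam) ≠ 0 := by
  rw [classInner_restrict_ne (h.th_irr hQ h1 hw) ((h.chK hQ le_rfl h.norm_C).fB_irr lam)]
  change classInner (h.th hQ lam) (h.th hQ lam) ≠ 0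
  rw [classInner_self_of_irr (h.th_irr hQ h1 hw)]
  exact one_ne_zero

theorem th_ker {e : ↥(_root_.commutator ↥M)} (he : (e : ↥M) ∈ (N ⊔ C).subgroupOf M) :
    h.th hQ lam e = h.th hQ lam 1 := by
  classical
  have := Fintype.ofFinite (pl (jK M) (fittingHallOf M ⊔ C))
  exact (h.chK hQ le_rfl h.norm_C).over_ker (h.th_irr hQ h1 hw) (h.th_over hQ h1 hw) he

theorem th_H : ∃ k : ↥(_root_.commutator ↥M), (k : ↥M) ∈ (fittingHallOf M).subgroupOf M ∧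
    h.th hQ lam k ≠ h.th hQ lam 1 := by
  classical
  have := Fintype.ofFinite (pl (jK M) (fittingHallOf M ⊔ C))
  obtain ⟨k, hk⟩ := (h.chK hQ le_rfl h.norm_C).over_H h1 (h.th_irr hQ h1 hw) (h.th_over hQ h1 hw)
  exact ⟨k, k.2, hk⟩

omit [Fintype ↥(_root_.commutator ↥M)] h1 hw in
/-- compatibility of `fB` -/
theorem fB_KM {D : Subgroup G} (hD : D ≤ C) (hDn : M ≤ nz (N ⊔ D))
    (b : pl (jK M) (fittingHallOf M ⊔ D)) :
    (h.chK hQ hD hDn).fB lam b = (h.chM hQ hD hDn).fB lam ⟨(b : ↥M), b.2⟩ := by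
  obtain ⟨k, hk, d, hd, e⟩ := ((h.chK hQ hD hDn).mem_B b).1 b.2
  show ((((h.chK hQ hD hDn).lamB lam b : ℂˣ)) : ℂ) = ((h.chM hQ hD hDn).lamB lam _ : ℂˣ)
  congr 1
  rw [Ch9.lamB_apply, Ch9.lamB_apply, (h.chK hQ hD hDn).πB_eq b ⟨k, hk⟩ d hd e,
    (h.chM hQ hD hDn).πB_eq ⟨(b : ↥M), b.2⟩ ⟨(k : ↥M), hk⟩ (d : ↥M) hd
      (congrArg (fun y : ↥(_root_.commutator ↥M) => (y : ↥M)) e)]
  rfl

omit h1 hw in
theorem ind_th [Fintype ↥M] : indFun (_root_.commutator ↥M) (h.th hQ lam) =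
    indFun (pl (MonoidHom.id ↥M) (fittingHallOf M ⊔ C)) ((h.chM hQ le_rfl h.norm_C).fB lam) := by
  have hle : pl (MonoidHom.id ↥M) (fittingHallOf M ⊔ C) ≤ _root_.commutator ↥M := by
    intro x hx
    rw [mem_K9]
    exact (sup_le h.hP.H_le' (h.C_le.trans h.hP.U_le')) hx
  have e := indFun_trans _ _ hle ((h.chM hQ le_rfl h.norm_C).fB lam)
  rw [← e]
  congr 1
  show indFun _ _ = indFun _ _
  congr 1
  funext b
  exact h.fB_KM hQ le_rfl h.norm_C b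

omit h1 in
theorem th_not_irr [Fintype ↥M] (hq1 : W₁ ≠ ⊥) :
    ¬ IsIrrCharacter ↥M (indFun (_root_.commutator ↥M) (h.th hQ lam)) := by
  classical
  have := Fintype.ofFinite (pl (MonoidHom.id ↥M) (fittingHallOf M ⊔ C))
  intro hirr
  rw [h.ind_th hQ] at hirr
  have h2 := card_inertia_eq_norm (h.chM hQ le_rfl h.norm_C).normB
    ((h.chM hQ le_rfl h.norm_C).fB_irr lam)
  rw [classInner_self_of_irr hirr, mul_one, (h.chM hQ le_rfl h.norm_C).inertia_eq] at h2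
  have h3 : Nat.card (pl (MonoidHom.id ↥M) (fittingHallOf M ⊔ C)) =
      Nat.card (st (ρ.comp (MonoidHom.id ↥M)) lam) := by exact_mod_cast h2
  have h4 := (h.chM hQ le_rfl h.norm_C).B_le_st lam
  have h5 := L.eq_of_le_of_card_le h4 h3.ge
  obtain ⟨w, hwW, hw1⟩ := exists_ne_one hq1
  have h6 : (⟨w, h.hP.W₁_le hwW⟩ : ↥M) ∈ st (ρ.comp (MonoidHom.id ↥M)) lam := hw _ hwW
  rw [← h5] at h6
  have h7 : w ∈ ⁅M, M⁆ := (sup_le h.hP.H_le' (h.C_le.trans h.hP.U_le')) h6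
  have h8 : w ∈ ⁅M, M⁆ ⊓ W₁ := ⟨h7, hwW⟩
  rw [h.hP.W₁_compl.2.2.1] at h8
  exact hw1 h8

omit h1 in
/-- distinct `λ` give distinct `θ` -/
theorem th_inj {lam' : V →* ℂˣ} (h1' : lam' ≠ 1) (hw' : Winv W₁ ρ lam')
    (e : h.th hQ lam = h.th hQ lam') : lam = lam' := by
  classical
  have hc := h.chK hQ le_rfl h.norm_C
  obtain ⟨x, hx⟩ := (ind_eq_iff hc.normB (hc.fB_irr lam) (hc.fB_irr lam')).1 e
  rw [hc.cj_fB] at hx
  obtain ⟨k, hk, b, hb, rfl⟩ := h.dec x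
  have hk1 : (ρ.comp (jK M)) k = 1 := hc.r_H hk
  have h2 : ∀ v, lam' (ρ (b : ↥M) v) = lam v := by
    intro v
    have := hx v
    rw [map_mul, hk1, one_mul] at this
    exact this
  have h3 : ρ (b : ↥M) = 1 := (h.act9 hQ).conj_inv h1' hw' hw hb h2
  ext v
  rw [← h2 v, h3]; rfl

end IsHbar

end Theta

end Cfsg.Agent.PF
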