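import Cfsg.Agent.PF.Char9e

set_option autoImplicit false

/-! The reducible members of `SH M H₀` (PF (9.8)(a)) (helper13). -/

namespace Cfsg.Agent.PF

open Subgroup ComplexConjugate
open Cfsg.Agent.H3
open Cfsg.Agent.L (nz)
open Cfsg.Agent.OOT Cfsg.Agent.H21
open IsQ

universe u v

section J

variable {G : Type u} [Group G] {W₁ W₂ : Subgroup G}

theorem J_ext9 (hW : IsSelfNormalizingCyclic W₁ W₂) {ψ ψ' : Lin W₁ W₂} (hψ : IsJ W₁ W₂ ψ)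
    (hψ' : IsJ W₁ W₂ ψ') (h : ∀ x : ↥(W₁ ⊔ W₂), (x : G) ∈ W₂ → ψ x = ψ' x) : ψ = ψ' := by
  have hn : W₂ ≤ nz W₁ := by
    apply le_nz_of_conj
    intro a ha x hx
    rw [← hW.2.2.2.1 x hx a ha, mul_inv_cancel_right]
    exact hx
  ext w
  obtain ⟨a, ha, b, hb, e⟩ := (mem_sup_iff9 hn).1 w.2
  have e2 : w = ⟨a, Subgroup.mem_sup_left ha⟩ * ⟨b, Subgroup.mem_sup_right hb⟩ := Subtype.ext e
  rw [e2, map_mul, map_mul, hψ _ ha, hψ' _ ha, one_mul, one_mul, h _ hb]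

/-- a generator of `W₂` -/
theorem exists_gen9 [Finite G] (hW : IsSelfNormalizingCyclic W₁ W₂) :
    ∃ g : ↥(W₁ ⊔ W₂), (g : G) ∈ W₂ ∧ ∀ x : ↥(W₁ ⊔ W₂), (x : G) ∈ W₂ → ∃ n : ℕ, x = g ^ n := by
  have := hW.2.2.2.2.1
  have hc : IsCyclic (W₂.subgroupOf (W₁ ⊔ W₂)) := inferInstance
  obtain ⟨⟨g, hg⟩, hgen⟩ := hc
  refine ⟨g, hg, fun x hx => ?_⟩
  obtain ⟨n, hn⟩ := (mem_powers_iff_mem_zpowers).2 (hgen ⟨x, hx⟩)
  exact ⟨n, (congrArg (fun y : W₂.subgroupOf (W₁ ⊔ W₂) => (y : ↥(W₁ ⊔ W₂))) hn).symm⟩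

theorem card_roots9 {p : ℕ} (hp : p.Prime) : Nat.card {z : ℂˣ // z ^ p = 1 ∧ z ≠ 1} ≤ p - 1 ∧
    Finite {z : ℂˣ // z ^ p = 1 ∧ z ≠ 1} := by
  classical
  have : NeZero p := ⟨hp.ne_zero⟩
  have hfin : Finite (rootsOfUnity p ℂ) := Nat.finite_of_card_ne_zero (by
    rw [Complex.card_rootsOfUnity]; exact hp.ne_zero)
  have := Fintype.ofFinite (rootsOfUnity p ℂ)
  let f : {z : ℂˣ // z ^ p = 1 ∧ z ≠ 1} → {z : rootsOfUnity p ℂ // z ≠ 1} := fun z =>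
    ⟨⟨z.1, (mem_rootsOfUnity _ _).2 z.2.1⟩, fun e => z.2.2 (congrArg Subtype.val e)⟩
  have hf : Function.Injective f := by
    intro a b hab
    apply Subtype.ext
    exact congrArg (fun y : {z : rootsOfUnity p ℂ // z ≠ 1} => (y.1 : ℂˣ)) hab
  refine ⟨(Nat.card_le_card_of_injective f hf).trans ?_, Finite.of_injective f hf⟩
  rw [Nat.card_eq_fintype_card]
  simp only [ne_eq]
  rw [Fintype.card_subtype_compl, Fintype.card_subtype_eq, ← Nat.card_eq_fintype_card,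
    Complex.card_rootsOfUnity]

end J

section Cols

variable {G : Type u} [Group G] [Fintype G] {M W₁ U W₂ : Subgroup G} [Fintype ↥M]
  {η : Lin W₁ W₂ → G → ℂ} {μ : Lin W₁ W₂ → ↥M → ℂ} {δ : Lin W₁ W₂ → ℤ}
  {N C X Y U₁ : Subgroup G} {p a : ℕ}

theorem IsFrame.J_ker (F : IsFrame M W₁ U W₂ η μ δ) {ψ : Lin W₁ W₂} {x : ↥(W₁ ⊔ W₂)}
    (hx : (x : G) ∈ W₂) (hxM : (x : G) ∈ M) (hk : μ ψ ⟨x, hxM⟩ = μ ψ 1) : ψ x = 1 := by
  obtain ⟨w, hw, hw1⟩ := exists_ne_one F.hP.W₁_ne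
  have hWi : W₁ ⊓ W₂ = ⊥ := F.hP.selfNormalizing.2.2.1
  have hw2 : w ∉ W₂ := by
    intro h
    have : w ∈ W₁ ⊓ W₂ := ⟨hw, h⟩
    rw [hWi] at this
    exact hw1 this
  let w' : ↥(W₁ ⊔ W₂) := ⟨w, Subgroup.mem_sup_left hw⟩
  have hxw : ((x * w' : ↥(W₁ ⊔ W₂)) : G) ∉ W₂ := by
    intro h
    apply hw2
    have e : w = (x : G)⁻¹ * ((x * w' : ↥(W₁ ⊔ W₂)) : G) := by
      show w = (x : G)⁻¹ * (x * w)
      group
    rw [e]
    exact W₂.mul_mem (W₂.inv_mem hx) h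
  have hwM : w ∈ M := F.hP.W₁_le hw
  have e1 := F.apply_W ψ w' hwM hw2
  have e2 := F.apply_W ψ (x * w') (M.mul_mem hxM hwM) hxw
  have e3 := H27.char_ker_mul (irr_isChar (F.irr ψ)) hk ⟨w, hwM⟩
  have e4 : μ ψ ⟨((x * w' : ↥(W₁ ⊔ W₂)) : G), M.mul_mem hxM hwM⟩ = μ ψ ⟨w, hwM⟩ := e3
  rw [e2] at e4
  rw [show μ ψ ⟨w, hwM⟩ = (δ ψ : ℂ) * (ψ w' : ℂ) from e1] at e4
  have hd : (δ ψ : ℂ) ≠ 0 := by
    rcases F.sign ψ with e | e <;> rw [e] <;> simp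
  have e5 := Units.ext (mul_left_cancel₀ hd e4)
  rw [map_mul] at e5
  exact mul_eq_right.1 e5

variable {V : Type u} [CommGroup V] {π : ↥(fittingHallOf M) →* V} {ρ : ↥M →* MulAut V}

theorem IsHbar.exists_psi (h : IsHbar M W₁ U W₂ N C p) (F : IsFrame M W₁ U W₂ η μ δ)
    (hQ : IsQ M (fittingHallOf M) N π ρ) [Fintype ↥(_root_.commutator ↥M)] {lam : V →* ℂˣ}
    (h1 : lam ≠ 1) (hw : Winv W₁ ρ lam) :
    ∃ ψ : Lin W₁ W₂, IsJ W₁ W₂ ψ ∧ ψ ≠ 1 ∧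
      h.th hQ lam = (fun k : ↥(_root_.commutator ↥M) => μ ψ (k : ↥M)) ∧
      ∀ x : ↥(W₁ ⊔ W₂), (x : G) ∈ W₂ → ψ x ^ p = 1 := by
  rcases F.dich _ (h.th_irr hQ h1 hw) with ⟨ψ, hψ, e⟩ | ⟨h2, -⟩
  swap
  · exact absurd h2 (h.th_not_irr hQ hw h.hP.W₁_ne)
  refine ⟨ψ, hψ, ?_, e, ?_⟩
  · rintro rfl
    obtain ⟨k, -, hk⟩ := h.th_H hQ h1 hw
    apply hk
    rw [e]
    show μ 1 _ = μ 1 _
    rw [F.mu_one]
  · intro x hx
    have hxM : (x : G) ^ p ∈ M := M.pow_mem (h.hP.W₂_le_M hx) p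
    rw [← map_pow]
    refine F.J_ker (x := x ^ p) (W₂.pow_mem hx p) hxM ?_
    have hN : (x : G) ^ p ∈ N := h.pow _ (h.hP.W₂_le_H hx)
    have hK : (⟨(x : G) ^ p, hxM⟩ : ↥M) ∈ _root_.commutator ↥M :=
      mem_K9.2 (h.hP.W₂_le' (W₂.pow_mem hx p))
    have e2 := h.th_ker hQ h1 hw (e := ⟨⟨(x : G) ^ p, hxM⟩, hK⟩)
      (Subgroup.mem_sup_left (T := C) hN)
    rw [e] at e2
    exact e2

/-- every `μ_j` with `ψ_j^p = 1` is obtained. -/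
theorem IsHbar.cols (h : IsHbar M W₁ U W₂ N C p) (F : IsFrame M W₁ U W₂ η μ δ)
    (hQ : IsQ M (fittingHallOf M) N π ρ) [Fintype ↥(_root_.commutator ↥M)] {ψ : Lin W₁ W₂}
    (hψ : IsJ W₁ W₂ ψ) (h1 : ψ ≠ 1) (hp : ∀ x : ↥(W₁ ⊔ W₂), (x : G) ∈ W₂ → ψ x ^ p = 1) :
    ∃ lam : V →* ℂˣ, lam ≠ 1 ∧ Winv W₁ ρ lam ∧
      h.th hQ lam = (fun k : ↥(_root_.commutator ↥M) => μ ψ (k : ↥M)) := by
  have hA := h.act9 hQ
  obtain ⟨lam, hl1, hlw⟩ := hA.exists_inv_char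
  have hlw' : Winv W₁ ρ lam := fun w hw v => hlw w hw v
  have hpow : ∀ k : ℕ, Winv W₁ ρ (lam ^ k) := by
    intro k w hw v
    rw [MonoidHom.pow_apply, MonoidHom.pow_apply, hlw' w hw]
  have hord : orderOf lam = p := by
    have hp' : Fact p.Prime := ⟨h.hp⟩
    apply orderOf_eq_prime _ hl1
    ext v
    rw [MonoidHom.pow_apply, ← map_pow, hA.pow, map_one]; rfl
  have hne : ∀ k : Fin (p - 1), lam ^ ((k : ℕ) + 1) ≠ 1 := by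
    intro k e
    have h2 : orderOf lam ∣ (k : ℕ) + 1 := orderOf_dvd_of_pow_eq_one (by exact e)
    rw [hord] at h2
    have := Nat.le_of_dvd (Nat.succ_pos _) h2
    have := k.2
    omega
  choose f hfJ hf1 hfth hfp using fun k : Fin (p - 1) => h.exists_psi F hQ (hne k) (hpow (k + 1))
  obtain ⟨g, hg, hgen⟩ := exists_gen9 (W₁ := W₁) (W₂ := W₂) h.hP.selfNormalizing
  have hext : ∀ {ψ ψ' : Lin W₁ W₂}, IsJ W₁ W₂ ψ → IsJ W₁ W₂ ψ' → ψ g = ψ' g → ψ = ψ' := by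
    intro ψ ψ' h2 h3 e
    refine J_ext9 h.hP.selfNormalizing h2 h3 fun x hx => ?_
    obtain ⟨n, rfl⟩ := hgen x hx
    rw [map_pow, map_pow, e]
  have hne1 : ∀ {ψ : Lin W₁ W₂}, IsJ W₁ W₂ ψ → ψ ≠ 1 → ψ g ≠ 1 := by
    intro ψ h2 h3 e
    exact h3 (hext h2 IsJ.one (by rw [e]; rfl))
  obtain ⟨hc, hfin⟩ := card_roots9 h.hp
  let Φ : Fin (p - 1) → {z : ℂˣ // z ^ p = 1 ∧ z ≠ 1} := fun k =>
    ⟨f k g, hfp k g hg, hne1 (hfJ k) (hf1 k)⟩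
  have hΦ : Function.Injective Φ := by
    intro k k' e
    have e1 : f k g = f k' g := congrArg Subtype.val e
    have e2 := hext (hfJ k) (hfJ k') e1
    have e3 : h.th hQ (lam ^ ((k : ℕ) + 1)) = h.th hQ (lam ^ ((k' : ℕ) + 1)) := by
      rw [hfth, hfth, e2]
    have e4 := h.th_inj hQ (hpow _) (hne k') (hpow _) e3
    have e5 := pow_injOn_Iio_orderOf (x := lam) (by
      rw [hord, Set.mem_Iio]; have := k.2; omega) (by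
      rw [hord, Set.mem_Iio]; have := k'.2; omega) e4
    exact Fin.ext (by simpa using e5)
  have hbij := hΦ.bijective_of_nat_card_le (by
    rw [Nat.card_eq_fintype_card (α := Fin (p - 1)), Fintype.card_fin]; exact hc)
  obtain ⟨k, hk⟩ := hbij.2 ⟨ψ g, hp g hg, hne1 hψ h1⟩
  have e1 : f k g = ψ g := congrArg Subtype.val hk
  have e2 := hext (hfJ k) hψ e1
  exact ⟨_, hne k, hpow _, by rw [hfth, e2]⟩

theorem IsHbar.th_mem (h : IsHbar M W₁ U W₂ N C p) (F : IsFrame M W₁ U W₂ η μ δ)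
    (hQ : IsQ M (fittingHallOf M) N π ρ) [Fintype ↥(_root_.commutator ↥M)] {lam : V →* ℂˣ}
    (h1 : lam ≠ 1) (hw : Winv W₁ ρ lam) {ψ : Lin W₁ W₂}
    (e : h.th hQ lam = (fun k : ↥(_root_.commutator ↥M) => μ ψ (k : ↥M))) :
    μ ψ 1 = (C.relIndex U : ℂ) ∧ colI μ ψ ∈ SH M (N ⊔ C) := by
  constructor
  · have := h.th_one hQ (lam := lam)
    rw [e] at this
    exact this
  · refine ⟨h.th hQ lam, h.th_irr hQ h1 hw, fun a ha => h.th_ker hQ h1 hw ha,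
      h.th_H hQ h1 hw, ?_⟩
    rw [e, F.ind_res]

/-- if `colI μ ψ` is induced from `θ` then `θ` is the restriction of `μ ψ` -/
theorem IsFrame.col_theta (F : IsFrame M W₁ U W₂ η μ δ) {ψ : Lin W₁ W₂}
    {θ : ↥(_root_.commutator ↥M) → ℂ} (hθ : IsIrrCharacter _ θ)
    (e : colI μ ψ = indFun (_root_.commutator ↥M) θ) :
    θ = fun k : ↥(_root_.commutator ↥M) => μ ψ (k : ↥M) := by
  classical
  rw [← F.ind_res] at e
  obtain ⟨x, hx⟩ := (ind_eq_iff (K := _root_.commutator ↥M) inferInstance hθ (F.res_irr ψ)).1 e.symm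
  rw [← hx]
  exact cj_restrict _ (irr_classFun (F.irr ψ)) x

/-- a reducible member of `SH M H₀` has degree `qu` and is in `SH M (H₀C)` -/
theorem IsHbar.col_deg (h : IsHbar M W₁ U W₂ N C p) (F : IsFrame M W₁ U W₂ η μ δ)
    {ψ : Lin W₁ W₂} (hψ : IsJ W₁ W₂ ψ) (h1 : ψ ≠ 1) (hmem : colI μ ψ ∈ SH M N) :
    μ ψ 1 = (C.relIndex U : ℂ) ∧ colI μ ψ ∈ SH M (N ⊔ C) := by
  classical
  have := Fintype.ofFinite ↥(_root_.commutator ↥M)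
  obtain ⟨θ, hθ, hE, -, e⟩ := hmem
  have e2 := F.col_theta hθ e
  obtain ⟨V, _, π, ρ, hQ⟩ := h.exists_Q
  obtain ⟨lam, hl1, hlw, hth⟩ := h.cols F hQ hψ h1 (by
    intro x hx
    have hxM : (x : G) ^ p ∈ M := M.pow_mem (h.hP.W₂_le_M hx) p
    rw [← map_pow]
    refine F.J_ker (x := x ^ p) (W₂.pow_mem hx p) hxM ?_
    have hN : (x : G) ^ p ∈ N := h.pow _ (h.hP.W₂_le_H hx)
    have hK : (⟨(x : G) ^ p, hxM⟩ : ↥M) ∈ _root_.commutator ↥M :=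
      mem_K9.2 (h.hP.W₂_le' (W₂.pow_mem hx p))
    have e3 := hE ⟨⟨(x : G) ^ p, hxM⟩, hK⟩ hN
    rw [e2] at e3
    exact e3)
  exact h.th_mem F hQ hl1 hlw hth

theorem IsHbar.exists_col (h : IsHbar M W₁ U W₂ N C p) (F : IsFrame M W₁ U W₂ η μ δ) :
    ∃ ψ, IsJ W₁ W₂ ψ ∧ ψ ≠ 1 ∧ colI μ ψ ∈ SH M (N ⊔ C) ∧ μ ψ 1 = (C.relIndex U : ℂ) := by
  classical
  have := Fintype.ofFinite ↥(_root_.commutator ↥M)
  obtain ⟨V, _, π, ρ, hQ⟩ := h.exists_Q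
  obtain ⟨lam, hl1, hlw⟩ := (h.act9 hQ).exists_inv_char
  have hlw' : Winv W₁ ρ lam := fun w hw v => hlw w hw v
  obtain ⟨ψ, hψ, h1, e, -⟩ := h.exists_psi F hQ hl1 hlw'
  obtain ⟨k1, k2⟩ := h.th_mem F hQ hl1 hlw' e
  exact ⟨ψ, hψ, h1, k2, k1⟩

/-- if `|W₂| = p` then all the `μ_j`, `j ≠ 0`, are in `SH M (H₀C)` -/
theorem IsHbar.all_col (h : IsHbar M W₁ U W₂ N C p) (F : IsFrame M W₁ U W₂ η μ δ)
    (hp : Nat.card W₂ = p) {ψ : Lin W₁ W₂} (hψ : IsJ W₁ W₂ ψ) (h1 : ψ ≠ 1) :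
    colI μ ψ ∈ SH M (N ⊔ C) ∧ μ ψ 1 = (C.relIndex U : ℂ) := by
  classical
  have := Fintype.ofFinite ↥(_root_.commutator ↥M)
  obtain ⟨V, _, π, ρ, hQ⟩ := h.exists_Q
  obtain ⟨lam, hl1, hlw, hth⟩ := h.cols F hQ hψ h1 (by
    intro x hx
    have h2 : (⟨(x : G), hx⟩ : W₂) ^ p = 1 := by rw [← hp]; exact pow_card_eq_one'
    have h3 : x ^ p = 1 := Subtype.ext (congrArg (fun y : W₂ => (y : G)) h2)
    rw [← map_pow, h3, map_one])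
  exact (h.th_mem F hQ hl1 hlw hth).symm

/-- `δ_j = 1` for these (as `u ≡ 1 mod q`) -/
theorem IsHbar.col_sign (h : IsHbar M W₁ U W₂ N C p) (F : IsFrame M W₁ U W₂ η μ δ)
    {ψ : Lin W₁ W₂} (hu : μ ψ 1 = (C.relIndex U : ℂ)) : δ ψ = 1 := by
  rcases F.sign ψ with e | e
  · exact e
  exfalso
  obtain ⟨d, hd0, hd, hdvd⟩ := F.deg ψ
  have h1 : d = C.relIndex U := by
    rw [hd] at hu
    exact_mod_cast hu
  have h2 : (Nat.card W₁ : ℤ) ∣ (C.relIndex U : ℤ) - 1 := by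
    have h3 := h.q_dvd
    have h4 : ((C.relIndex U - 1 : ℕ) : ℤ) = (C.relIndex U : ℤ) - 1 := by
      rw [Nat.cast_sub h.u_pos]; rfl
    rw [← h4]
    exact_mod_cast h3
  rw [e, h1] at hdvd
  have h3 : (Nat.card W₁ : ℤ) ∣ 2 := by
    have := dvd_sub hdvd h2
    have e2 : (C.relIndex U : ℤ) - (-1) - ((C.relIndex U : ℤ) - 1) = 2 := by ring
    rwa [e2] at this
  have h4 : Nat.card W₁ ∣ 2 := by exact_mod_cast h3
  have hodd : Odd (Nat.card W₁) := Odd.of_dvd_nat F.oddW (Subgroup.card_dvd_of_le le_sup_left)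
  have h5 := (Nat.dvd_prime Nat.prime_two).1 h4
  rcases h5 with h5 | h5
  · exact h.hq.one_lt.ne' h5
  · rw [h5] at hodd
    exact absurd hodd (by decide)

end Cols

end Cfsg.Agent.PF
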