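import Cfsg.Agent.PF.Char9f

set_option autoImplicit false

/-! Existence and number of irreducible members (PF (9.8)(b), (9.9)) (helper13). -/

namespace Cfsg.Agent.PF

open Subgroup ComplexConjugate
open Cfsg.Agent.H3
open Cfsg.Agent.L (nz cj)
open Cfsg.Agent.OOT Cfsg.Agent.H21
open IsQ

universe u v

section Sum

variable {K : Type u} [Group K] [Fintype K]

open Classical in
/-- characters above `A` and not above `B` -/
noncomputable def Df [Fintype (IrrCharacter K)] (A B : Subgroup K) : Finset (IrrCharacter K) :=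
  Finset.univ.filter fun η => (∀ n ∈ A, (η : K → ℂ) n = (η : K → ℂ) 1) ∧
    ¬ ∀ n ∈ B, (η : K → ℂ) n = (η : K → ℂ) 1

theorem sum_Df [Fintype (IrrCharacter K)] {A B : Subgroup K} (hA : A.Normal) (hB : B.Normal)
    (hAB : A ≤ B) : ∑ η ∈ Df A B, dg (η : K → ℂ) ^ 2 + B.index = A.index := by
  classical
  have h1 := sum_sq_above hA
  have h2 := sum_sq_above hB
  rw [← Finset.sum_filter] at h1 h2
  rw [← h1, ← h2, Df]
  rw [← Finset.sum_union]
  · refine Finset.sum_congr ?_ fun _ _ => rfl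
    ext η
    simp only [Finset.mem_union, Finset.mem_filter, Finset.mem_univ, true_and]
    constructor
    · rintro (h | h)
      · exact h.1
      · exact fun n hn => h n (hAB hn)
    · intro h
      by_cases h3 : ∀ n ∈ B, (η : K → ℂ) n = (η : K → ℂ) 1
      · exact Or.inr h3
      · exact Or.inl ⟨h, h3⟩
  · rw [Finset.disjoint_filter]
    rintro η - ⟨_, h3⟩ h4
    exact h3 h4

theorem card_Df [Fintype (IrrCharacter K)] {A B : Subgroup K} (hA : A.Normal) (hB : B.Normal)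
    (hAB : A ≤ B) {d : ℕ} (hd : ∀ η ∈ Df A B, (η : K → ℂ) 1 = d) :
    (Df A B).card * d ^ 2 + B.index = A.index := by
  rw [← sum_Df hA hB hAB]
  congr 1
  rw [Finset.sum_congr rfl fun η hη => by rw [dg_of_eq (hd η hη)], Finset.sum_const, smul_eq_mul]

end Sum

section

variable {G : Type u} [Group G] [Finite G] {M W₁ U W₂ N C X Y U₁ : Subgroup G} {p a : ℕ}

theorem card_K9 (hP : IsTypePWith M W₁ U W₂) :
    Nat.card ↥(_root_.commutator ↥M) = Nat.card (fittingHallOf M) * Nat.card U := by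
  rw [hP.card_M']
  have h3 := card_pl (M := M) (jK_inj M) (X := ⁅M, M⁆) (jK_surj M)
  rw [← h3]
  have h4 : pl (jK M) ⁅M, M⁆ = ⊤ := by
    rw [eq_top_iff]
    intro x _
    exact mem_K9.1 x.2
  rw [h4, Subgroup.card_top]

omit [Finite G] in
theorem plK_normal {X : Subgroup G} (h : ⁅M, M⁆ ≤ nz X) : (pl (jK M) X).Normal := by
  constructor
  intro n hn g
  rw [mem_pl] at hn ⊢
  rw [map_mul, map_mul, map_inv]
  exact conj_of_le_nz h (mem_K9.1 g.2) hn

theorem IsHbar.index_pl' (h : IsHbar M W₁ U W₂ N C p) {D Z : Subgroup G} {m : ℕ} (hD : D ≤ U)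
    (hZ : Z ≤ fittingHallOf M) (hUZ : U ≤ nz Z)
    (hm : Nat.card (fittingHallOf M) = Nat.card Z * m) :
    (pl (jK M) (Z ⊔ D)).index = m * D.relIndex U := by
  have h1 := Subgroup.card_mul_index (pl (jK M) (Z ⊔ D))
  have h2 : Nat.card ↥(Z ⊔ D) = Nat.card Z * Nat.card D := by
    refine H23.card_sup_of_inf_eq_bot (hD.trans hUZ) ?_
    rw [eq_bot_iff, ← h.hP.U_compl.2.2.1]
    exact fun x hx => ⟨hZ hx.2, hD hx.1⟩
  rw [card_pl (jK_inj M) (fun x hx => jK_surj M x ((sup_le (hZ.trans h.hP.H_le')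
    (hD.trans h.hP.U_le')) hx)), h2, card_K9 h.hP, hm, ← L.card_mul_relIndex hD] at h1
  have h3 : 0 < Nat.card Z * Nat.card D := Nat.mul_pos Nat.card_pos Nat.card_pos
  apply Nat.eq_of_mul_eq_mul_left h3
  rw [h1]; ring

end

section Gal

variable {G : Type u} [Group G] [Fintype G] {M W₁ U W₂ : Subgroup G} [Fintype ↥M]
  {η : Lin W₁ W₂ → G → ℂ} {μ : Lin W₁ W₂ → ↥M → ℂ} {δ : Lin W₁ W₂ → ℤ}
  {N C X Y U₁ : Subgroup G} {p a : ℕ}

/-- at most `p - 1` of the `θ ∈ Irr M'`, `N ≤ ker θ`, `H ⊄ ker θ` are restrictions of `μ_j`. -/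
theorem IsHbar.card_cols_le (h : IsHbar M W₁ U W₂ N C p) (F : IsFrame M W₁ U W₂ η μ δ)
    (S : Finset (IrrCharacter ↥(_root_.commutator ↥M)))
    (hS : ∀ θ ∈ S, (∀ a : ↥(_root_.commutator ↥M), (a : ↥M) ∈ N.subgroupOf M →
        (θ : ↥(_root_.commutator ↥M) → ℂ) a = (θ : ↥(_root_.commutator ↥M) → ℂ) 1) ∧
      (∃ k, (θ : ↥(_root_.commutator ↥M) → ℂ) k ≠ (θ : ↥(_root_.commutator ↥M) → ℂ) 1) ∧
      ∃ ψ, IsJ W₁ W₂ ψ ∧ (θ : ↥(_root_.commutator ↥M) → ℂ) =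
        fun k : ↥(_root_.commutator ↥M) => μ ψ (k : ↥M)) : S.card ≤ p - 1 := by
  classical
  choose! f hfJ hfe using fun θ hθ => (hS θ hθ).2.2
  obtain ⟨g, hg, hgen⟩ := exists_gen9 (W₁ := W₁) (W₂ := W₂) h.hP.selfNormalizing
  have hext : ∀ {ψ ψ' : Lin W₁ W₂}, IsJ W₁ W₂ ψ → IsJ W₁ W₂ ψ' → ψ g = ψ' g → ψ = ψ' := by
    intro ψ ψ' h2 h3 e
    refine J_ext9 h.hP.selfNormalizing h2 h3 fun x hx => ?_
    obtain ⟨n, rfl⟩ := hgen x hx
    rw [map_pow, map_pow, e]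
  obtain ⟨hc, hfin⟩ := card_roots9 h.hp
  refine le_trans ?_ hc
  have e0 : Nat.card {θ : IrrCharacter ↥(_root_.commutator ↥M) // θ ∈ S} = S.card := by simp
  rw [← e0]
  let Φ : {θ : IrrCharacter ↥(_root_.commutator ↥M) // θ ∈ S} → {z : ℂˣ // z ^ p = 1 ∧ z ≠ 1} :=
    fun θ => ⟨f θ.1 g, by
      have hgM : (g : G) ^ p ∈ M := M.pow_mem (h.hP.W₂_le_M hg) p
      rw [← map_pow]
      refine F.J_ker (x := g ^ p) (W₂.pow_mem hg p) hgM ?_
      have hN : (g : G) ^ p ∈ N := h.pow _ (h.hP.W₂_le_H hg)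
      have hK : (⟨(g : G) ^ p, hgM⟩ : ↥M) ∈ _root_.commutator ↥M :=
        mem_K9.2 (h.hP.W₂_le' (W₂.pow_mem hg p))
      have e3 := (hS θ.1 θ.2).1 ⟨⟨(g : G) ^ p, hgM⟩, hK⟩ hN
      rw [hfe θ.1 θ.2] at e3
      exact e3, by
      intro e
      have e2 := hext (hfJ θ.1 θ.2) IsJ.one (by rw [e]; rfl)
      obtain ⟨k, hk⟩ := (hS θ.1 θ.2).2.1
      apply hk
      rw [hfe θ.1 θ.2, e2]
      show μ 1 _ = μ 1 _
      rw [F.mu_one]⟩
  apply Nat.card_le_card_of_injective Φ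
  intro θ θ' e
  have e1 : f θ.1 g = f θ'.1 g := congrArg Subtype.val e
  have e2 := hext (hfJ θ.1 θ.2) (hfJ θ'.1 θ'.2) e1
  apply Subtype.ext
  apply Subtype.ext
  rw [hfe θ.1 θ.2, hfe θ'.1 θ'.2, e2]

/-- Galois case: there is an irreducible member of `SH M (H₀C')`, unless `C = 1` (or `C' = C`),
`u = (p^q-1)/(p-1)`. -/
theorem IsHbar.gal_irr (h : IsHbar M W₁ U W₂ N C p) (F : IsFrame M W₁ U W₂ η μ δ)
    (hgal : IsGal M U N) (hne : C ≠ ⊥ ∨ C.relIndex U * (p - 1) ≠ p ^ Nat.card W₁ - 1) :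
    ∃ χ ∈ SH M (N ⊔ ⁅C, C⁆), IsIrrCharacter ↥M χ := by
  classical
  by_contra hcon
  push Not at hcon
  have := Fintype.ofFinite ↥(_root_.commutator ↥M)
  have := Fintype.ofFinite (IrrCharacter ↥(_root_.commutator ↥M))
  obtain ⟨V, _, π, ρ, hQ⟩ := h.exists_Q
  have hC'C : ⁅C, C⁆ ≤ C := Subgroup.commutator_le_self C
  have hnA : (pl (jK M) (N ⊔ ⁅C, C⁆)).Normal := pl_normal h.norm_C'
  have hnB : (pl (jK M) (fittingHallOf M ⊔ ⁅C, C⁆)).Normal := pl_normal (h.nz_HD h.norm_C')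
  have hAB : pl (jK M) (N ⊔ ⁅C, C⁆) ≤ pl (jK M) (fittingHallOf M ⊔ ⁅C, C⁆) :=
    pl_mono (sup_le_sup_right h.N_le _)
  set S := Df (pl (jK M) (N ⊔ ⁅C, C⁆)) (pl (jK M) (fittingHallOf M ⊔ ⁅C, C⁆)) with hSdef
  have hSA : ∀ θ ∈ S, ∀ a : ↥(_root_.commutator ↥M), (a : ↥M) ∈ (N ⊔ ⁅C, C⁆).subgroupOf M →
      (θ : ↥(_root_.commutator ↥M) → ℂ) a = (θ : ↥(_root_.commutator ↥M) → ℂ) 1 := by
    intro θ hθ a ha
    rw [hSdef, Df, Finset.mem_filter] at hθ
    exact hθ.2.1 a ha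
  have hSH : ∀ θ ∈ S, ∃ k : ↥(_root_.commutator ↥M), (k : ↥M) ∈ (fittingHallOf M).subgroupOf M ∧
      (θ : ↥(_root_.commutator ↥M) → ℂ) k ≠ (θ : ↥(_root_.commutator ↥M) → ℂ) 1 := by
    intro θ hθ
    by_contra hc
    push Not at hc
    have hθ' := hθ
    rw [hSdef, Df, Finset.mem_filter] at hθ'
    apply hθ'.2.2
    intro n hn
    obtain ⟨k, hk, d, hd, rfl⟩ := ((h.chK hQ hC'C h.norm_C').mem_B n).1 hn
    rw [H27.char_ker_mul (irr_isChar θ.2) (hc k hk)]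
    exact hSA θ hθ d (Subgroup.mem_sup_right (S := N) hd)
  have hdeg : ∀ θ ∈ S, (θ : ↥(_root_.commutator ↥M) → ℂ) 1 = (C.relIndex U : ℂ) := fun θ hθ =>
    h.theta_gal hgal θ.2 (hSA θ hθ) (hSH θ hθ)
  have hcard := card_Df hnA hnB hAB hdeg
  rw [← hSdef] at hcard
  have hSle : S.card ≤ p - 1 := by
    refine h.card_cols_le F S fun θ hθ => ⟨fun a ha => hSA θ hθ a
      (Subgroup.mem_sup_left (T := ⁅C, C⁆) ha), ?_, ?_⟩
    · obtain ⟨k, -, hk⟩ := hSH θ hθ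
      exact ⟨k, hk⟩
    · rcases F.dich θ θ.2 with h2 | ⟨h2, -⟩
      · exact h2
      · exact absurd h2 (hcon _ ⟨θ, θ.2, hSA θ hθ, hSH θ hθ, rfl⟩)
  rw [h.index_pl (hC'C.trans h.C_le), h.index_pl' (hC'C.trans h.C_le) h.N_le h.U_nz_N h.card] at hcard
  have h4 : (⁅C, C⁆).relIndex U = (⁅C, C⁆).relIndex C * C.relIndex U :=
    (Subgroup.relIndex_mul_relIndex _ _ _ hC'C h.C_le).symm
  set u := C.relIndex U with hu
  set c := (⁅C, C⁆).relIndex C with hc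
  have hu0 : 0 < u := h.u_pos
  have hc0 : 0 < c := by
    have h12 := L.card_mul_relIndex hC'C
    rw [← hc] at h12
    rcases Nat.eq_zero_or_pos c with e | e
    · rw [e, mul_zero] at h12
      exact absurd h12.symm Nat.card_pos.ne'
    · exact e
  have hdvd := h.gal_dvd hgal
  rw [← hu] at hdvd
  have hp2 := h.hp.two_le
  have hq0 := h.hq.pos
  have hpq : 1 < p ^ Nat.card W₁ := Nat.one_lt_pow h.hq.ne_zero h.hp.one_lt
  have hle := Nat.le_of_dvd (by omega) hdvd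
  rw [h4] at hcard
  -- `S.card * u = (p^q - 1) * c`
  have h5 : S.card * u + c = p ^ Nat.card W₁ * c := by
    apply Nat.eq_of_mul_eq_mul_right hu0
    calc (S.card * u + c) * u = S.card * u ^ 2 + c * u := by ring
      _ = p ^ Nat.card W₁ * (c * u) := hcard
      _ = p ^ Nat.card W₁ * c * u := by ring
  have h6 : S.card * u ≤ (p - 1) * u := Nat.mul_le_mul_right _ hSle
  obtain ⟨P, hP⟩ : ∃ P, p ^ Nat.card W₁ = P + 1 := ⟨p ^ Nat.card W₁ - 1, by omega⟩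
  rw [hP] at h5 hle
  have h7 : S.card * u = P * c := by nlinarith
  have hP0 : 0 < P := by omega
  have h8 : P * c ≤ P := by
    rw [← h7]
    refine h6.trans ?_
    rw [mul_comm]
    simpa using hle
  have h9 : c = 1 := by
    have : c ≤ 1 := by
      by_contra hc2
      push Not at hc2
      nlinarith
    omega
  have h10 : u * (p - 1) = p ^ Nat.card W₁ - 1 := by
    rw [hP]
    rw [h9, mul_one] at h7
    have : P ≤ u * (p - 1) := by rw [← h7, mul_comm u]; exact h6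
    omega
  have h11 : C = ⊥ := by
    have hCn : Group.IsNilpotent C := H1.isNilpotent_of_le h.C_le h.hP.U_nilpotent
    have e1 : ⁅C, C⁆ = C := by
      rw [hc, Subgroup.relIndex_eq_one] at h9
      exact le_antisymm hC'C h9
    have e2 := nil_sup_commutator' (D := ⊥) hCn bot_le (by rw [bot_sup_eq]; exact e1)
    exact e2.symm
  rcases hne with hne | hne
  · exact hne h11
  · exact hne h10

end Gal

end Cfsg.Agent.PF
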