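import Cfsg.Agent.PF.Char9g

set_option autoImplicit false

/-! Number of irreducible members in the non-Galois case (PF (9.8)(b)) (helper13). -/

namespace Cfsg.Agent.PF

open Subgroup ComplexConjugate
open Cfsg.Agent.H3
open Cfsg.Agent.L (nz cj)
open Cfsg.Agent.OOT Cfsg.Agent.H21
open IsQ

universe u v

section NG

variable {G : Type u} [Group G] [Fintype G] {M W₁ U W₂ : Subgroup G} [Fintype ↥M]
  {η : Lin W₁ W₂ → G → ℂ} {μ : Lin W₁ W₂ → ↥M → ℂ} {δ : Lin W₁ W₂ → ℤ}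
  {N C X Y U₁ : Subgroup G} {p a : ℕ}

omit [Fintype ↥M] in
theorem IsNonGal.K_nz (hn : IsNonGal M W₁ U N C X Y U₁ p a) (h : IsHbar M W₁ U W₂ N C p) :
    ⁅M, M⁆ ≤ nz (Y ⊔ ⁅U, U⁆) := by
  have hHU : ⁅M, M⁆ = fittingHallOf M ⊔ U := (complIn_sup h.hP.U_compl).symm
  rw [hHU]
  refine sup_le ?_ ?_
  · refine nz_sup_of ?_ ?_
    · intro x hx y hy
      have h1 := h.comm x hx y (hn.Y_le hy)
      have e : x * y * x⁻¹ = (x * y * x⁻¹ * y⁻¹) * y := by group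
      rw [e]
      exact Subgroup.mem_sup_left (Y.mul_mem (hn.N_le_Y h1) hy)
    · intro x hx d hd
      have h1 := ((h.mem_C d).1 (h.comm_U hd)).2 x hx
      have e : x * d * x⁻¹ = (d * x * d⁻¹ * x⁻¹)⁻¹ * d := by group
      rw [e]
      exact mul_mem (Subgroup.mem_sup_left (hn.N_le_Y (inv_mem h1))) (Subgroup.mem_sup_right hd)
  · refine nz_sup_of ?_ ?_
    · intro x hx y hy
      exact Subgroup.mem_sup_left (conj_of_le_nz hn.U_le_Y hx hy)
    · intro x hx d hd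
      exact Subgroup.mem_sup_right (conj_of_le_nz (nz_comm9 (L.le_nz U)) hx hd)

omit [Fintype ↥M] in
/-- two characters of `M'` above `Y`, not above `H`, which are `M`-conjugate are equal; the
conjugating elements are in `M'`. -/
theorem IsNonGal.conj_mem (hn : IsNonGal M W₁ U N C X Y U₁ p a) (h : IsHbar M W₁ U W₂ N C p)
    {θ θ' : ↥(_root_.commutator ↥M) → ℂ} (_hθ : IsIrrCharacter _ θ) (hθ' : IsIrrCharacter _ θ')
    (hY : ∀ y : ↥(_root_.commutator ↥M), (y : ↥M) ∈ Y.subgroupOf M → θ y = θ 1)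
    (hY' : ∀ y : ↥(_root_.commutator ↥M), (y : ↥M) ∈ Y.subgroupOf M → θ' y = θ' 1)
    (hH' : ∃ k : ↥(_root_.commutator ↥M), (k : ↥M) ∈ (fittingHallOf M).subgroupOf M ∧
      θ' k ≠ θ' 1) (hK : (_root_.commutator ↥M).Normal) {x : ↥M}
    (e : H3.cj hK x θ' = θ) : x ∈ _root_.commutator ↥M := by
  obtain ⟨k, hk, w, hw, hx⟩ := h.hP.W₁_compl.2.2.2 x x.2
  by_cases hw1 : w = 1
  · rw [mem_K9, hx, hw1, mul_one]
    exact hk
  exfalso
  obtain ⟨z, hz, hz2⟩ := hH'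
  apply hz2
  -- the kernel of `θ'` contains `Y` and `Y^w`
  have hchar := irr_isChar hθ'
  have hnorm := H27.charKer_normal hchar
  let T : Subgroup G := ((H27.charKer hchar).map (_root_.commutator ↥M).subtype).map M.subtype
  have hT : ∀ t : ↥(_root_.commutator ↥M), ((t : ↥M) : G) ∈ T ↔ θ' t = θ' 1 := by
    intro t
    rw [← H27.mem_charKer hchar]
    constructor
    · rintro ⟨_, ⟨t', ht', rfl⟩, ht2⟩
      have : t' = t := Subtype.ext (Subtype.ext ht2)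
      rwa [← this]
    · intro ht
      exact ⟨_, ⟨t, ht, rfl⟩, rfl⟩
  have hYT : Y ≤ T := by
    intro y hy
    obtain ⟨y', rfl⟩ := jK_surj M y (h.hP.H_le' (hn.Y_le hy))
    exact (hT y').2 (hY' y' hy)
  have hYwT : cj w Y ≤ T := by
    intro y hy
    have hyH : w⁻¹ * y * w ∈ fittingHallOf M := hn.Y_le (L.mem_cj.1 hy)
    have hyH2 : y ∈ fittingHallOf M := by
      have := conj_of_le_nz h.M_nz_H (h.hP.W₁_le hw) hyH
      have e2 : w * (w⁻¹ * y * w) * w⁻¹ = y := by group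
      rwa [e2] at this
    obtain ⟨y', hy'⟩ := jK_surj M y (h.hP.H_le' hyH2)
    obtain ⟨z', hz'⟩ := jK_surj M _ (h.hP.H_le' hyH)
    obtain ⟨k', hk'⟩ := jK_surj M k hk
    have h1 := congrFun e z'
    have h2 := congrFun e 1
    rw [cj_apply] at h1
    rw [cj_one_apply] at h2
    have hz'Y : (z' : ↥M) ∈ Y.subgroupOf M := by
      show ((z' : ↥M) : G) ∈ Y
      have : ((z' : ↥M) : G) = w⁻¹ * y * w := hz'
      rw [this]
      exact L.mem_cj.1 hy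
    rw [hY z' hz'Y, ← h2] at h1
    -- `x z' x⁻¹ = k y k⁻¹`
    have e3 : (⟨x * z' * x⁻¹, hK.conj_mem z' z'.2 x⟩ : ↥(_root_.commutator ↥M)) =
        k' * y' * k'⁻¹ := by
      apply Subtype.ext
      apply Subtype.ext
      show (x : G) * ((z' : ↥M) : G) * (x : G)⁻¹ = ((k' : ↥M) : G) * ((y' : ↥M) : G) *
        ((k' : ↥M) : G)⁻¹
      have e4 : ((z' : ↥M) : G) = w⁻¹ * y * w := hz'
      have e5 : ((k' : ↥M) : G) = k := hk'
      have e6 : ((y' : ↥M) : G) = y := hy'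
      rw [e4, e5, e6, hx]
      group
    rw [e3, ← H27.mem_charKer hchar] at h1
    have h3 := hnorm.conj_mem _ h1 k'⁻¹
    have e7 : k'⁻¹ * (k' * y' * k'⁻¹) * k'⁻¹⁻¹ = y' := by group
    rw [e7] at h3
    have h4 := (hT y').2 ((H27.mem_charKer hchar).1 h3)
    have e6 : ((y' : ↥M) : G) = y := hy'
    rwa [e6] at h4
  have hHT : fittingHallOf M ≤ T := by
    rw [← hn.sup_cj_Y w hw hw1]
    exact sup_le hYT hYwT
  exact (hT z).1 (hHT hz)

theorem IsHbar.nonGal_count (h : IsHbar M W₁ U W₂ N C p) (_F : IsFrame M W₁ U W₂ η μ δ)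
    (hn : IsNonGal M W₁ U N C X Y U₁ p a) :
    (p - 1) / a * (⁅U, U⁆).relIndex U₁ ≤
      Nat.card {χ : ↥M → ℂ // IsIrrCharacter ↥M χ ∧ χ ∈ SH M (N ⊔ ⁅U, U⁆) ∧
        χ 1 = (Nat.card W₁ * a : ℕ)} := by
  classical
  have := Fintype.ofFinite ↥(_root_.commutator ↥M)
  have := Fintype.ofFinite (IrrCharacter ↥(_root_.commutator ↥M))
  have := Fintype.ofFinite (pl (jK M) (fittingHallOf M ⊔ ⁅U, U⁆))
  obtain ⟨V, _, π, ρ, hQ⟩ := h.exists_Q
  have hUU : ⁅U, U⁆ ≤ U := Subgroup.commutator_le_self U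
  have hnA : (pl (jK M) (Y ⊔ ⁅U, U⁆)).Normal := plK_normal (hn.K_nz h)
  have hnB : (pl (jK M) (fittingHallOf M ⊔ ⁅U, U⁆)).Normal := pl_normal (h.nz_HD h.norm_U')
  have hAB : pl (jK M) (Y ⊔ ⁅U, U⁆) ≤ pl (jK M) (fittingHallOf M ⊔ ⁅U, U⁆) :=
    pl_mono (sup_le_sup_right hn.Y_le _)
  set S := Df (pl (jK M) (Y ⊔ ⁅U, U⁆)) (pl (jK M) (fittingHallOf M ⊔ ⁅U, U⁆)) with hSdef
  have hc := h.chK hQ h.comm_U h.norm_U'
  have hSA : ∀ θ ∈ S, ∀ a : ↥(_root_.commutator ↥M), (a : ↥M) ∈ (Y ⊔ ⁅U, U⁆).subgroupOf M →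
      (θ : ↥(_root_.commutator ↥M) → ℂ) a = (θ : ↥(_root_.commutator ↥M) → ℂ) 1 := by
    intro θ hθ a ha
    rw [hSdef, Df, Finset.mem_filter] at hθ
    exact hθ.2.1 a ha
  have hSE : ∀ θ ∈ S, ∀ a : ↥(_root_.commutator ↥M), (a : ↥M) ∈ (N ⊔ ⁅U, U⁆).subgroupOf M →
      (θ : ↥(_root_.commutator ↥M) → ℂ) a = (θ : ↥(_root_.commutator ↥M) → ℂ) 1 :=
    fun θ hθ a ha => hSA θ hθ a ((sup_le_sup_right hn.N_le_Y _) ha)
  have hSY : ∀ θ ∈ S, ∀ a : ↥(_root_.commutator ↥M), (a : ↥M) ∈ Y.subgroupOf M →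
      (θ : ↥(_root_.commutator ↥M) → ℂ) a = (θ : ↥(_root_.commutator ↥M) → ℂ) 1 :=
    fun θ hθ a ha => hSA θ hθ a (Subgroup.mem_sup_left (T := ⁅U, U⁆) ha)
  have hSH : ∀ θ ∈ S, ∃ k : ↥(_root_.commutator ↥M), (k : ↥M) ∈ (fittingHallOf M).subgroupOf M ∧
      (θ : ↥(_root_.commutator ↥M) → ℂ) k ≠ (θ : ↥(_root_.commutator ↥M) → ℂ) 1 := by
    intro θ hθ
    by_contra hcn
    push Not at hcn
    have hθ' := hθ
    rw [hSdef, Df, Finset.mem_filter] at hθ'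
    apply hθ'.2.2
    intro n hn'
    obtain ⟨k, hk, d, hd, rfl⟩ := (hc.mem_B n).1 hn'
    rw [H27.char_ker_mul (irr_isChar θ.2) (hcn k hk)]
    exact hSA θ hθ d (Subgroup.mem_sup_right (S := Y) hd)
  have hdeg : ∀ θ ∈ S, (θ : ↥(_root_.commutator ↥M) → ℂ) 1 = (a : ℂ) := by
    intro θ hθ
    obtain ⟨lam, h1, hne⟩ := h.theta_lam hQ h.comm_U h.norm_U' θ.2 (hSE θ hθ) (hSH θ hθ)
    rw [h.theta_eq hQ h.comm_U h.norm_U' (fun x hx _ y hy _ =>
      Subgroup.commutator_mem_commutator hx hy) θ.2 hne]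
    -- `lam` is trivial on `Y`
    have hlY : ∀ y ∈ down π Y, lam y = 1 := by
      rintro _ ⟨y, hy, rfl⟩
      obtain ⟨y', hy'⟩ := jK_surj M y (h.hP.H_le' y.2)
      have hyH : y' ∈ pl (jK M) (fittingHallOf M) := by rw [mem_pl, hy']; exact y.2
      have h2 := ker_constituent (isChar_restrict (pl (jK M) (fittingHallOf M ⊔ ⁅U, U⁆))
        (irr_isChar θ.2)) (hc.fB_irr lam) hne (n := ⟨y', hc.H_le hyH⟩) (hSY θ hθ y' (by
          show ((y' : ↥M) : G) ∈ Y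
          have : ((y' : ↥M) : G) = y := hy'
          rw [this]; exact hy))
      rw [hc.fB_one] at h2
      have h3 : hc.fB lam ⟨y', hc.H_le hyH⟩ = (lam (π y) : ℂ) := by
        show ((hc.lamB lam _ : ℂˣ) : ℂ) = _
        have e3 : hc.πB ⟨y', hc.H_le hyH⟩ = πY π (jK M) ⟨y', hyH⟩ := hc.πB_H ⟨y', hyH⟩
        have e4 : (⟨((jK M y' : ↥M) : G), hyH⟩ : ↥(fittingHallOf M)) = y := Subtype.ext hy'
        rw [Ch9.lamB_apply, e3, πY_apply]
        exact congrArg (fun z : ↥(fittingHallOf M) => ((lam (π z) : ℂˣ) : ℂ)) e4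
      rw [h3] at h2
      exact Units.ext h2
    have key : st (ρ.comp (jK M)) lam = pl (jK M) (fittingHallOf M ⊔ U₁) := by
      apply le_antisymm
      · apply h.st_le hQ hn.U₁_le
        intro b hb hs
        have h2 := ((h.act9 hQ).stab_ng_Y (hn.toNG h hQ) h1 hlY hb).1 hs
        rw [hn.mem_U₁]
        refine ⟨hb, fun x hx => ?_⟩
        exact (hQ.act_eq_iff h.M_nz_H (x := ⟨x, hn.X_le hx⟩)).1
          (h2 _ ((hQ.mem_down hn.N_le_X).2 hx))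
      · intro y hy
        rw [mem_pl, mem_sup_iff9 (hn.U₁_le.trans h.U_nz_H)] at hy
        obtain ⟨k, hk, b, hb, e⟩ := hy
        obtain ⟨k', rfl⟩ := jK_surj M k (h.hP.H_le' hk)
        obtain ⟨b', rfl⟩ := jK_surj M b (h.hP.U_le' (hn.U₁_le hb))
        have e2 : y = k' * b' := Subtype.ext (Subtype.ext e)
        rw [e2]
        refine (st (ρ.comp (jK M)) lam).mul_mem (hc.B_le_st lam (hc.H_le hk)) ?_
        refine ((h.act9 hQ).stab_ng_Y (hn.toNG h hQ) h1 hlY (u := (b' : ↥M)) (hn.U₁_le hb)).2 ?_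
        rintro _ ⟨x, hx, rfl⟩
        exact (hQ.act_eq_iff h.M_nz_H).2 (((hn.mem_U₁ _).1 hb).2 x hx)
    rw [key, h.index_pl hn.U₁_le]
    congr 1
    have h2 := L.card_mul_relIndex hn.U₁_le
    rw [hn.card_U] at h2
    exact Nat.eq_of_mul_eq_mul_left Nat.card_pos h2
  have hcard := card_Df hnA hnB hAB hdeg
  rw [← hSdef] at hcard
  have hYp : Nat.card (fittingHallOf M) = Nat.card Y * p := hn.card_Y
  rw [h.index_pl hUU, h.index_pl' hUU hn.Y_le hn.U_le_Y hYp] at hcard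
  have h4 : (⁅U, U⁆).relIndex U = (⁅U, U⁆).relIndex U₁ * a := by
    rw [← Subgroup.relIndex_mul_relIndex _ _ _ (h.comm_U.trans hn.C_le) hn.U₁_le]
    congr 1
    have h2 := L.card_mul_relIndex hn.U₁_le
    rw [hn.card_U] at h2
    exact Nat.eq_of_mul_eq_mul_left Nat.card_pos h2
  rw [h4] at hcard
  have ha0 : 0 < a := lt_trans Nat.zero_lt_one hn.one_lt
  obtain ⟨m, hm⟩ := hn.dvd
  have hp2 := h.hp.two_le
  have hSc : S.card = (p - 1) / a * (⁅U, U⁆).relIndex U₁ := by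
    rw [hm, Nat.mul_div_cancel_left m ha0]
    obtain ⟨P, hP⟩ : ∃ P, p = P + 1 := ⟨p - 1, by omega⟩
    have hm' : P = a * m := by omega
    have h5 : a ^ 2 * S.card = a ^ 2 * (m * (⁅U, U⁆).relIndex U₁) := by
      have h6 : S.card * a ^ 2 + (⁅U, U⁆).relIndex U₁ * a = (a * m + 1) * ((⁅U, U⁆).relIndex U₁ * a) := by
        rw [← hm', ← hP]; exact hcard
      have h7 : S.card * a ^ 2 + (⁅U, U⁆).relIndex U₁ * a =
          a ^ 2 * (m * (⁅U, U⁆).relIndex U₁) + (⁅U, U⁆).relIndex U₁ * a := by rw [h6]; ring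
      have h8 := Nat.add_right_cancel h7
      rw [← h8]; ring
    exact Nat.eq_of_mul_eq_mul_left (pow_pos ha0 2) h5
  rw [← hSc]
  have hK : (_root_.commutator ↥M).Normal := inferInstance
  let Φ : {θ : IrrCharacter ↥(_root_.commutator ↥M) // θ ∈ S} →
      {χ : ↥M → ℂ // IsIrrCharacter ↥M χ ∧ χ ∈ SH M (N ⊔ ⁅U, U⁆) ∧
        χ 1 = (Nat.card W₁ * a : ℕ)} := fun θ =>
    ⟨indFun (_root_.commutator ↥M) (θ.1 : ↥(_root_.commutator ↥M) → ℂ), by
      refine isIrr_ind_of_inertia_eq hK θ.1.2 ?_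
      intro x hx
      exact hn.conj_mem h θ.1.2 θ.1.2 (hSY θ.1 θ.2) (hSY θ.1 θ.2) (hSH θ.1 θ.2) hK hx,
      ⟨θ.1, θ.1.2, hSE θ.1 θ.2, hSH θ.1 θ.2, rfl⟩, by
      rw [indFun_one_apply, index_K9 h.hP, hdeg θ.1 θ.2]
      push_cast; rfl⟩
  have hΦ : Function.Injective Φ := by
    intro θ θ' e
    have e1 : indFun (_root_.commutator ↥M) (θ.1 : ↥(_root_.commutator ↥M) → ℂ) =
        indFun (_root_.commutator ↥M) (θ'.1 : ↥(_root_.commutator ↥M) → ℂ) :=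
      congrArg Subtype.val e
    obtain ⟨x, hx⟩ := (ind_eq_iff hK θ.1.2 θ'.1.2).1 e1
    have hxK := hn.conj_mem h θ.1.2 θ'.1.2 (hSY θ.1 θ.2) (hSY θ'.1 θ'.2) (hSH θ'.1 θ'.2) hK hx
    rw [cj_of_mem hK (irr_classFun θ'.1.2) hxK] at hx
    exact Subtype.ext (Subtype.ext hx.symm)
  have hfin : Finite {χ : ↥M → ℂ // IsIrrCharacter ↥M χ ∧ χ ∈ SH M (N ⊔ ⁅U, U⁆) ∧
        χ 1 = (Nat.card W₁ * a : ℕ)} := by
    have : Finite (IrrCharacter ↥M) := inferInstance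
    exact Finite.of_injective (fun χ => (⟨χ.1, χ.2.1⟩ : IrrCharacter ↥M)) fun χ χ' e =>
      Subtype.ext (congrArg (fun z : IrrCharacter ↥M => (z : ↥M → ℂ)) e)
  have h9 := Nat.card_le_card_of_injective Φ hΦ
  have h10 : Nat.card {θ : IrrCharacter ↥(_root_.commutator ↥M) // θ ∈ S} = S.card := by simp
  rw [h10] at h9
  exact h9

end NG

end Cfsg.Agent.PF
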