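import Cfsg.Agent.H20.ZFpf
import Cfsg.Agent.PF.Data
import Cfsg.Agent.S1545

set_option autoImplicit false

/-! Odd groups acting without fixed points: every subgroup of prime order is normal. -/

namespace Cfsg.Agent.PF

open Subgroup
open Cfsg.Agent.L (cj nz SylIn)
open Cfsg.Agent.H14 (IsPiSub)
open Cfsg.Agent.OOT
open Cfsg.Agent.H21
open scoped Pointwise commutatorElement

universe u
variable {G : Type u} [Group G] [Finite G]

/-- a Frobenius group cannot act without fixed points on a solvable group `≠ 1` -/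
theorem no_frob_fpf {A W H : Subgroup G} (hA : A ≠ ⊥) (hW : W ≠ ⊥) (hWA : W ≤ nz A)
    (hAW : (Nat.card A).Coprime (Nat.card W))
    (hf : ∀ e ∈ W, e ≠ 1 → ∀ u ∈ A, e * u = u * e → u = 1)
    (hH : H ≠ ⊥) (hHs : Group.IsSolvable H) (hn : A ⊔ W ≤ nz H)
    (hcop : (Nat.card ↥(A ⊔ W)).Coprime (Nat.card H))
    (hfpf : ∀ a ∈ A ⊔ W, a ≠ 1 → ∀ u ∈ H, a * u = u * a → u = 1) : False := by
  have key := Cfsg.Agent.S1545.result A W H hA hW (H1.inf_eq_bot_of_card_coprime hAW)
    (fun e he u hu => (Subgroup.mem_normalizer_iff.1 (hWA he) _).1 hu) hf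
    (fun x hx y hy => (Subgroup.mem_normalizer_iff.1 (hn hx) _).1 hy)
    (H1.inf_eq_bot_of_card_coprime hcop.symm) hHs hcop.symm
  have hb : ∀ B : Subgroup G, B ≠ ⊥ → B ≤ A ⊔ W → H ⊓ centralizer (B : Set G) = ⊥ := by
    intro B hB hBA
    obtain ⟨b, hb, hb1⟩ := exists_ne_one hB
    rw [Subgroup.eq_bot_iff_forall]
    rintro x ⟨hx, hx2⟩
    exact hfpf b (hBA hb) hb1 x hx (mem_cent_iff.1 hx2 b hb).symm
  rw [hb A hA le_sup_left, hb W hW le_sup_right,
    hb (A ⊔ W) (fun e => hA (le_bot_iff.1 (e ▸ le_sup_left))) le_rfl] at key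
  rw [Subgroup.card_bot, one_pow, one_mul, one_mul] at key
  exact hH (Subgroup.card_eq_one.1 key)

theorem relIndex_commutator (E : Subgroup G) : (⁅E, E⁆).relIndex E = (commutator ↥E).index := by
  rw [Subgroup.relIndex, Subgroup.subgroupOf, ← Subgroup.map_subtype_commutator,
    Subgroup.comap_map_eq_self_of_injective E.subtype_injective]

/-- In an odd group `E` acting without fixed points on `H ≠ 1`, every subgroup of prime order is
normal. -/
theorem fpf_prime_normal {E H W : Subgroup G} (hodd : Odd (Nat.card E)) (hH : H ≠ ⊥)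
    (hHs : Group.IsSolvable H) (hn : E ≤ nz H)
    (hfpf : ∀ a ∈ E, a ≠ 1 → ∀ u ∈ H, a * u = u * a → u = 1)
    (hcop : (Nat.card E).Coprime (Nat.card H)) (hW : W ≤ E) (hq : (Nat.card W).Prime) :
    E ≤ nz W := by
  have hZ := H20.isZGroup_of_fpf hH hn hfpf hcop hodd
  set D := ⁅E, E⁆ with hD
  have hDE : D ≤ E := commutator_le_self E
  have hDeq : D = (commutator ↥E).map E.subtype := (Subgroup.map_subtype_commutator E).symm
  have hDcyc : IsCyclic D := by
    have h1 := IsZGroup.isCyclic_commutator (G := ↥E)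
    rw [hDeq]
    exact isCyclic_of_surjective _ ((commutator ↥E).equivMapOfInjective _ E.subtype_injective).surjective
  have hDc : (Nat.card D).Coprime (D.relIndex E) := by
    have h1 := IsZGroup.coprime_commutator_index (G := ↥E)
    rw [hD, relIndex_commutator, ← hD, hDeq, H1.card_map_subtype]
    exact h1
  have hEnD : E ≤ nz D := le_nz_commutator E
  set q := Nat.card W with hqdef
  have hfq : Fact q.Prime := ⟨hq⟩
  by_cases hd : q ∣ Nat.card D
  · -- W ≤ D cyclic
    have hWD : W ≤ D := by
      have hDhall : IsPiHallOf {p | p ∣ Nat.card D} D E :=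
        ⟨hDE, fun p _ h => h, fun p hp h1 h2 => hp.one_lt.ne' (Nat.eq_one_of_dvd_coprimes hDc h1 h2)⟩
      have hWpi : IsPiSub {p | p ∣ Nat.card D} W := by
        intro p hp hpd
        rw [(Nat.prime_dvd_prime_iff_eq hp hq).1 hpd]; exact hd
      have hs : Group.IsSolvable E := inferInstance
      obtain ⟨g, hg, hle⟩ := OOT.IsPiHallOf.exists_conj_le hs hDhall hW hWpi
      rw [L.cj_le_iff] at hle
      rwa [L.mem_nz_iff.1 (hEnD (inv_mem hg))] at hle
    intro e he
    rw [L.mem_nz_iff]
    refine eq_of_card_of_cyclic hDcyc ?_ hWD (L.card_cj _ _)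
    have := L.cj_mono (g := e) hWD
    rwa [L.mem_nz_iff.1 (hEnD he)] at this
  · have hcD : (Nat.card W).Coprime (Nat.card D) := (Nat.Prime.coprime_iff_not_dvd hq).2 hd
    have hWnD : W ≤ nz D := hW.trans hEnD
    have hDab : IsMulCommutative D := mulComm_iff.2 (comm_of_cyclic hDcyc)
    set A := ⁅D, W⁆ with hA
    have hAD : A ≤ D := H23.commutator_le_of_le_normalizer hWnD
    have hAi : A ⊓ centralizer (W : Set G) = ⊥ :=
      H23.commutator_inf_centralizer_of_abelian hWnD hcD hDab
    have hWA : W ≤ nz A := H1.right_le_normalizer_commutator D W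
    have hA0 : A = ⊥ := by
      by_contra hA1
      have hWb : W ≠ ⊥ := by
        rintro rfl
        rw [Subgroup.card_bot] at hqdef
        rw [hqdef] at hq
        exact Nat.not_prime_one hq
      have hAWE : A ⊔ W ≤ E := sup_le (hAD.trans hDE) hW
      refine no_frob_fpf hA1 hWb hWA
        (Nat.Coprime.coprime_dvd_left (Subgroup.card_dvd_of_le hAD) hcD.symm) ?_ hH hHs
        (hAWE.trans hn) (Nat.Coprime.coprime_dvd_left (Subgroup.card_dvd_of_le hAWE) hcop)
        (fun a ha => hfpf a (hAWE ha))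
      intro e he he1 u hu hc
      have : u ∈ A ⊓ centralizer (W : Set G) := by
        refine ⟨hu, mem_cent_iff.2 ?_⟩
        have hz : zpowers e = W := by
          refine Subgroup.eq_of_le_of_card_ge ((Subgroup.zpowers_le).2 he) ?_
          have h3 : orderOf e ∣ Nat.card W := Subgroup.orderOf_dvd_natCard _ he
          rw [Nat.card_zpowers]
          rcases (Nat.dvd_prime hq).1 h3 with h | h
          · exact absurd (orderOf_eq_one_iff.1 h) he1
          · exact h.ge
        intro y hy
        rw [← hz] at hy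
        obtain ⟨m, rfl⟩ := hy
        exact ((show Commute u e from hc.symm).zpow_right m).eq
      rwa [hAi, Subgroup.mem_bot] at this
    -- W centralizes D
    have hWD : ∀ w ∈ W, ∀ d ∈ D, w * d = d * w := by
      intro w hw d hd
      have := Subgroup.commutator_mem_commutator hd hw
      rw [← hA, hA0, Subgroup.mem_bot] at this
      exact (commutatorElement_eq_one_iff_mul_comm.1 this).symm
    intro e he
    rw [L.mem_nz_iff]
    refine L.eq_of_le_of_card_le ?_ (by rw [L.card_cj])
    rintro _ ⟨w, hw, rfl⟩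
    change e * w * e⁻¹ ∈ W
    have hdm : w⁻¹ * (e * w * e⁻¹) ∈ D := by
      have := Subgroup.commutator_mem_commutator (inv_mem (hW hw)) he
      rw [commutatorElement_def, inv_inv] at this
      simpa [mul_assoc] using this
    set d := w⁻¹ * (e * w * e⁻¹) with hddef
    have e1 : e * w * e⁻¹ = w * d := by rw [hddef, mul_inv_cancel_left]
    have hwq : w ^ q = 1 := by
      have := pow_card_eq_one' (x := (⟨w, hw⟩ : W))
      exact congrArg Subtype.val this
    have h1 : (e * w * e⁻¹) ^ q = 1 := by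
      rw [conj_pow, hwq, mul_one, mul_inv_cancel]
    rw [e1, (show Commute w d from hWD w hw d hdm).mul_pow, hwq, one_mul] at h1
    have h2 : orderOf d ∣ q := orderOf_dvd_of_pow_eq_one h1
    have h3 : orderOf d ∣ Nat.card D := Subgroup.orderOf_dvd_natCard _ hdm
    have h4 : orderOf d = 1 := Nat.eq_one_of_dvd_coprimes hcD h2 h3
    rw [e1, orderOf_eq_one_iff.1 h4, mul_one]
    exact hw

end Cfsg.Agent.PF
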