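import Cfsg.Agent.H7.T1S
import Cfsg.Agent.H21.OT16a
import Cfsg.Agent.H21.OT16e
import Cfsg.Agent.PF.SuppW

set_option autoImplicit false

/-! The printed forms of S1380, S1385, S1391, S1540 (after PF (12.7): weak type I is type I). -/

namespace Cfsg.Agent.PF

open Subgroup
open Cfsg.Agent.L (cj nz)

universe u
variable {G : Type u} [Group G] [Finite G] (hG : IsMinSimpleOddOrder G)
include hG

theorem row1540 {M : Subgroup G} (hM : IsCoatom M) (hI : IsOfTypeI M) :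
    ∀ x ∈ fittingHallOf M, x ≠ 1 → M ⊓ centralizer ({x} : Set G) ≤ fittingHallOf M :=
  T1.weak_frob hG hM (H2.WTypeI.of_typeI hI)

theorem row1380 {M K U : Subgroup G} (hM : IsCoatom M) (hKU : IsSigmaDecomposition M K U) :
    IsOfTypeI M ↔ (K = ⊥ ∧ U ≠ ⊥) :=
  ⟨fun h => (H14.TY.typeI_iff hG hM hKU).1 (H2.WTypeI.of_typeI h),
    fun h => T1.weak_typeI hG hM ((H14.TY.typeI_iff hG hM hKU).2 h)⟩

theorem row1385 :
    (∀ M : Subgroup G, IsCoatom M → IsOfTypeI M) ∨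
      ∃ W₁ W₂ S T : Subgroup G, IsSelfNormalizingCyclic W₁ W₂ ∧ IsCoatom S ∧ IsCoatom T ∧
        IsComplIn ⁅S, S⁆ W₁ S ∧ IsComplIn ⁅T, T⁆ W₂ T ∧ S ⊓ T = W₁ ⊔ W₂ ∧
        (IsOfTypeII S ∨ IsOfTypeII T) ∧
        (IsOfTypeII S ∨ IsOfTypeIII S ∨ IsOfTypeIV S ∨ IsOfTypeV S) ∧
        (IsOfTypeII T ∨ IsOfTypeIII T ∨ IsOfTypeIV T ∨ IsOfTypeV T) ∧
        ∀ M : Subgroup G, IsCoatom M → IsOfTypeI M ∨ ∃ g : G,
          M = S.map (MulAut.conj g).toMonoidHom ∨ M = T.map (MulAut.conj g).toMonoidHom :=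
  H21.row1385_of hG fun _ hL w => T1.weak_typeI hG hL w

theorem row1391 {M : Subgroup G} (hM : IsCoatom M) {X : Set G}
    (hX : X = typeA M ∨ X = typeA0 M) :
    (∀ x ∈ X, ∀ g : G, g * x * g⁻¹ ∈ X → ∃ m ∈ M, m * x * m⁻¹ = g * x * g⁻¹) ∧
      (∀ x ∈ X, ¬ centralizer ({x} : Set G) ≤ M → x ∈ typeA1 M ∧
        ∃! L : Subgroup G, IsCoatom L ∧ centralizer ({x} : Set G) ≤ L) ∧
      ∀ x ∈ X, ¬ centralizer ({x} : Set G) ≤ M → ∀ L : Subgroup G, IsCoatom L →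
        centralizer ({x} : Set G) ≤ L →
        IsComplIn (fittingHallOf L) (M ⊓ L) L ∧
        centralizer ({x} : Set G) ≤
          normalizer ((fittingHallOf L ⊓ centralizer ({x} : Set G) : Subgroup G) : Set G) ∧
        IsComplIn (fittingHallOf L ⊓ centralizer ({x} : Set G)) (M ⊓ centralizer ({x} : Set G))
          (centralizer ({x} : Set G)) ∧
        (∀ y ∈ X, (Nat.card (fittingHallOf L)).Coprime
          (Nat.card ↥(M ⊓ centralizer ({y} : Set G)))) ∧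
        (x ∈ typeA L ∧ x ∉ typeA1 L) ∧
        (IsOfTypeI L ∨ IsOfTypeII L) ∧
        (IsOfTypeII L → ∃ E : Subgroup ↥M, IsFrobeniusComplement E ∧
          frobeniusKernel E = ((fittingHall ↥M : Subgroup ↥M) : Set ↥M)) :=
  H21.row1391_of hG (fun _ hL w => T1.weak_typeI hG hL w) hM hX

end Cfsg.Agent.PF
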