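import Cfsg.Agent.PF.NormW0
import Cfsg.Agent.PF.FpfC
import Cfsg.Agent.PF.Rows

set_option autoImplicit false

/-! Every maximal subgroup is of type I or conjugate to `S` or `T`. -/

namespace Cfsg.Agent.PF

open Subgroup
open Cfsg.Agent.L (cj nz SylIn)
open Cfsg.Agent.H14 (IsPiSub)
open Cfsg.Agent.OOT
open Cfsg.Agent.H21
open scoped Pointwise

universe u
variable {G : Type u} [Group G] [Finite G]
variable {S T W₁ W₂ U V : Subgroup G} (hG : IsMinSimpleOddOrder G)

theorem IsPair.pq_coprime (h : IsPair S T W₁ W₂ U V) : (Nat.card W₁).Coprime (Nat.card W₂) :=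
  Nat.Coprime.coprime_dvd_right (Subgroup.card_dvd_of_le h.hSP.W₂_le') h.hSP.coprime_W₁

include hG in
theorem IsPair.p_ne_q (h : IsPair S T W₁ W₂ U V) : Nat.card W₁ ≠ Nat.card W₂ := by
  intro e
  have := h.pq_coprime
  rw [e, Nat.coprime_self] at this
  exact (h.p_prime hG).one_lt.ne' this

theorem card_relIndex_commutator (h : IsTypePWith S W₁ U W₂) :
    (⁅S, S⁆).relIndex S = Nat.card W₁ := complIn_relIndex_left h.W₁_compl

theorem relIndex_commutator_cj (g : G) (S : Subgroup G) :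
    (⁅cj g S, cj g S⁆).relIndex (cj g S) = (⁅S, S⁆).relIndex S := by
  rw [cj_commutator, L.relIndex_cj]

include hG in
theorem IsPair.not_conj (h : IsPair S T W₁ W₂ U V) (g : G) : cj g S ≠ T := by
  intro e
  apply h.p_ne_q hG
  have h1 := card_relIndex_commutator h.hSP
  have h2 := card_relIndex_commutator h.hTP
  rw [← e, relIndex_commutator_cj, h1] at h2
  exact h2

include hG in
theorem IsPair.typeI_or_conj (h : IsPair S T W₁ W₂ U V) {M : Subgroup G} (hM : IsCoatom M) :
    IsOfTypeI M ∨ (∃ g : G, M = cj g S) ∨ ∃ g : G, M = cj g T := by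
  have hSI : ¬ IsOfTypeI S := by
    rcases h.S23 hG with k | k
    · exact not_typeI_of_II hG h.hS k
    · exact not_typeI_of_III hG h.hS (Or.inl k)
  have hTI : ¬ IsOfTypeI T := by
    rcases h.symm.S23 hG with k | k
    · exact not_typeI_of_II hG h.hT k
    · exact not_typeI_of_III hG h.hT (Or.inl k)
  rcases row1385 hG with k | ⟨A₁, A₂, S', T', -, hS', hT', -, -, -, -, -, -, k⟩
  · exact absurd (k S h.hS) hSI
  obtain ⟨g, hg⟩ := (k S h.hS).resolve_left hSI
  obtain ⟨g', hg'⟩ := (k T h.hT).resolve_left hTI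
  rcases k M hM with k | ⟨m, hm⟩
  · exact Or.inl k
  right
  -- helper: `cj` relations
  have back : ∀ {A B : Subgroup G} {x : G}, A = cj x B → B = cj x⁻¹ A := by
    intro A B x e; rw [e, L.cj_inv_cj]
  change S = cj g S' ∨ S = cj g T' at hg
  change T = cj g' S' ∨ T = cj g' T' at hg'
  change M = cj m S' ∨ M = cj m T' at hm
  rcases hg with hg | hg <;> rcases hg' with hg' | hg'
  · exfalso
    rw [back hg, L.cj_cj] at hg'
    exact h.not_conj hG _ hg'.symm
  · rcases hm with hm | hm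
    · rw [back hg, L.cj_cj] at hm; exact Or.inl ⟨_, hm⟩
    · rw [back hg', L.cj_cj] at hm; exact Or.inr ⟨_, hm⟩
  · rcases hm with hm | hm
    · rw [back hg', L.cj_cj] at hm; exact Or.inr ⟨_, hm⟩
    · rw [back hg, L.cj_cj] at hm; exact Or.inl ⟨_, hm⟩
  · exfalso
    rw [back hg, L.cj_cj] at hg'
    exact h.not_conj hG _ hg'.symm

/-- `U = [U, W₁]`. -/
theorem commutator_U_W₁ {M : Subgroup G} (h : IsTypePWith M W₁ U W₂) : ⁅U, W₁⁆ = U := by
  have hs : Group.IsSolvable U := by
    have := h.U_nilpotent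
    infer_instance
  have h1 := H23.commutator_sup_centralizer (A := W₁) (G := U) h.U_normal h.coprime_UW₁.symm
    (Or.inr hs)
  have h2 : U ⊓ centralizer (W₁ : Set G) = ⊥ := by
    obtain ⟨w, hw, hw1⟩ := exists_ne_one h.W₁_ne
    rw [Subgroup.eq_bot_iff_forall]
    rintro x ⟨hx, hx2⟩
    exact fix_W₁_U h hw hw1 hx (mem_cent_iff.1 hx2 w hw).symm
  rwa [h2, sup_bot_eq] at h1

end Cfsg.Agent.PF
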