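import Cfsg.Agent.H3.Clifford
import Cfsg.Agent.H3.IndSum
import Cfsg.Agent.H3.IndCoh
import Cfsg.Agent.H27.Kernel
import Cfsg.Agent.H27.Util

set_option autoImplicit false

/-! Clifford theory over linear characters (helper13, for PF section 9). -/

namespace Cfsg.Agent.PF

open Subgroup ComplexConjugate
open Cfsg.Agent.H3

universe u

theorem linear_of_derived' {Y : Type u} [Group Y] [Finite Y] {χ : Y → ℂ}
    (hχ : IsIrrCharacter Y χ) (h : ∀ n ∈ _root_.commutator Y, χ n = χ 1) : χ 1 = 1 := by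
  obtain ⟨ψ, hψ, e⟩ := H27.exists_quotient_irr hχ h
  have hc : IsMulCommutative (Y ⧸ _root_.commutator Y) := by
    refine ⟨⟨fun a b => ?_⟩⟩
    exact mul_comm (G := Abelianization Y) a b
  have := irr_degree_one_of_comm hψ
  rw [e 1]
  exact this

/-- kernel of a constituent -/
theorem ker_constituent {Y : Type u} [Group Y] [Fintype Y] {Θ φ : Y → ℂ} (hΘ : IsCharacter Y Θ)
    (hφ : IsIrrCharacter Y φ) (hne : classInner Θ φ ≠ 0) {n : Y} (hn : Θ n = Θ 1) :
    φ n = φ 1 := by
  have h1 := isChar_sub_irr hΘ hφ hne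
  obtain ⟨a, ha⟩ := char_one_eq_nat (irr_isChar hφ)
  obtain ⟨b, hb⟩ := char_one_eq_nat h1
  have ka : ‖φ n‖ ≤ a := by
    have := H27.norm_char_le (irr_isChar hφ) n
    rw [← H27.char_one_norm (irr_isChar hφ), ha, Complex.norm_natCast] at this
    exact this
  have kb : ‖(Θ - φ) n‖ ≤ b := by
    have := H27.norm_char_le h1 n
    rw [← H27.char_one_norm h1, hb, Complex.norm_natCast] at this
    exact this
  have h2 : φ n + (Θ - φ) n = (a : ℂ) + b := by
    rw [← ha, ← hb]
    simp only [Pi.sub_apply]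
    rw [hn]; ring
  have h3 : (φ n).re + ((Θ - φ) n).re = a + b := by
    have := congrArg Complex.re h2
    simpa using this
  have h4 := (Complex.re_le_norm (φ n)).trans ka
  have h5 := (Complex.re_le_norm ((Θ - φ) n)).trans kb
  have h6 : (φ n).re = a := by linarith
  have h7 : (φ n).im = 0 := by
    have h8 : ‖φ n‖ ^ 2 = (φ n).re ^ 2 + (φ n).im ^ 2 := by
      rw [← Complex.normSq_eq_norm_sq, Complex.normSq_apply]; ring
    have h9 : ‖φ n‖ ^ 2 ≤ (a : ℝ) ^ 2 := pow_le_pow_left₀ (norm_nonneg _) ka 2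
    rw [h8, h6] at h9
    nlinarith [sq_nonneg (φ n).im]
  rw [ha]
  exact Complex.ext (by simpa using h6) (by simpa using h7)

theorem classInner_restrict_ne {G : Type u} [Group G] [Fintype G] {B : Subgroup G} [Fintype B]
    {χ : G → ℂ} (hχ : IsIrrCharacter G χ) {φ : B → ℂ} (hφ : IsIrrCharacter B φ) :
    classInner (fun b : B => χ b) φ ≠ 0 ↔ classInner (indFun B φ) χ ≠ 0 := by
  rw [frobenius_reciprocity B φ (irr_classFun hχ)]
  exact ⟨classInner_ne_zero_symm, classInner_ne_zero_symm⟩

section Lin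

variable {G : Type u} [Group G] [Fintype G] {B : Subgroup G} (hB : B.Normal) [Fintype B]

/-- irreducible characters over a linear character that extends to its inertia group `T`, `T/B`
abelian. -/
theorem over_linear (lam : B →* ℂˣ) (T : Subgroup G) [Fintype T]
    (hT : T = inertia hB (fun b => (lam b : ℂ))) (hBT : B ≤ T) (hat : T →* ℂˣ)
    (hhat : ∀ b : B, hat ⟨b, hBT b.2⟩ = lam b)
    (hcomm : ∀ x ∈ T, ∀ y ∈ T, x * y * x⁻¹ * y⁻¹ ∈ B) {χ : G → ℂ} (hχ : IsIrrCharacter G χ)
    (he : classInner (fun b : B => χ b) (fun b => (lam b : ℂ)) ≠ 0) :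
    χ 1 = T.index ∧ classInner (fun b : B => χ b) (fun b => (lam b : ℂ)) = 1 := by
  have hlam : IsIrrCharacter B (fun b => (lam b : ℂ)) := isIrr_of_hom lam
  obtain ⟨ψ, hψ, hind, -, hres⟩ := clifford_corr hB hχ hlam he T hT hBT
  set e := classInner (fun b : B => χ b) (fun b => (lam b : ℂ)) with hedef
  have hβ := isIrr_mul_hom hψ hat⁻¹
  have hψb : ∀ b : B, ψ ⟨b, hBT b.2⟩ = e * (lam b : ℂ) := fun b => congrFun hres b
  have hψ1 : ψ 1 = e := by
    have := hψb 1
    rw [map_one, Units.val_one, mul_one] at this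
    exact this
  have hβb : ∀ b : B, ((hat⁻¹ ⟨b, hBT b.2⟩ : ℂˣ) : ℂ) * ψ ⟨b, hBT b.2⟩ = e := by
    intro b
    rw [hψb, MonoidHom.inv_apply, hhat, mul_left_comm, Units.inv_mul, mul_one]
  have hlin := linear_of_derived' hβ (by
    intro n hn
    have hnB : (n : G) ∈ B := by
      have h1 : _root_.commutator ↥T ≤ B.subgroupOf T := by
        rw [_root_.commutator_def, Subgroup.commutator_le]
        intro x _ y _
        exact hcomm x x.2 y y.2
      exact h1 hn
    have h2 := hβb ⟨n, hnB⟩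
    have h3 := hβb 1
    exact h2.trans h3.symm)
  have he1 : e = 1 := by
    rw [map_one, Units.val_one, one_mul, hψ1] at hlin
    exact hlin
  refine ⟨?_, he1⟩
  rw [← hind, indFun_one_apply, hψ1, he1, mul_one]

/-- `|G : T|` divides the degree -/
theorem over_dvd {θ : B → ℂ} (hθ : IsIrrCharacter B θ) (h1 : θ 1 = 1) {χ : G → ℂ}
    (hχ : IsIrrCharacter G χ) (he : classInner (fun b : B => χ b) θ ≠ 0) :
    ∃ k : ℕ, 0 < k ∧ χ 1 = ((inertia hB θ).index * k : ℕ) := by
  have h2 := clifford_degree hB hχ hθ he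
  obtain ⟨k, hk⟩ := classInner_char_nat (isChar_restrict B (irr_isChar hχ)) (irr_isChar hθ)
  rw [hk, h1, mul_one] at h2
  refine ⟨k, ?_, ?_⟩
  · rcases Nat.eq_zero_or_pos k with e | e
    · rw [e, Nat.cast_zero] at hk
      exact absurd hk he
    · exact e
  · rw [h2]; push_cast; ring

/-- number of irreducible characters over `θ` when all multiplicities are one -/
theorem count_over {θ : B → ℂ} (hθ : IsIrrCharacter B θ)
    (h1 : ∀ χ : G → ℂ, IsIrrCharacter G χ → classInner (fun b : B => χ b) θ ≠ 0 →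
      classInner (fun b : B => χ b) θ = 1) :
    Nat.card B * Nat.card {χ : G → ℂ // IsIrrCharacter G χ ∧ classInner (fun b : B => χ b) θ ≠ 0} =
      Nat.card (inertia hB θ) := by
  classical
  have := Fintype.ofFinite (IrrCharacter G)
  have h2 := card_inertia_eq_norm hB hθ
  rw [classInner_eq_sum (indFun_classFun B θ)] at h2
  have h3 : ∀ χ : IrrCharacter G, classInner (indFun B θ) (χ : G → ℂ) =
      if classInner (fun b : B => (χ : G → ℂ) b) θ ≠ 0 then 1 else 0 := by
    intro χ
    have h4 : classInner (indFun B θ) (χ : G → ℂ) = classInner (fun b : B => (χ : G → ℂ) b) θ := by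
      rw [frobenius_reciprocity B θ (irr_classFun χ.2)]
      exact classInner_char_symm (irr_isChar hθ) (isChar_restrict B (irr_isChar χ.2))
    rw [h4]
    split_ifs with h5
    · exact h1 χ χ.2 h5
    · exact not_not.1 h5
  have h4 : ∑ χ : IrrCharacter G, classInner (indFun B θ) (χ : G → ℂ) *
      conj (classInner (indFun B θ) (χ : G → ℂ)) =
      ((Finset.univ.filter (fun χ : IrrCharacter G =>
        classInner (fun b : B => (χ : G → ℂ) b) θ ≠ 0)).card : ℂ) := by
    rw [Finset.card_filter, Nat.cast_sum]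
    refine Finset.sum_congr rfl fun χ _ => ?_
    rw [h3]
    split_ifs <;> simp
  rw [h4] at h2
  have h5 : Nat.card {χ : G → ℂ // IsIrrCharacter G χ ∧ classInner (fun b : B => χ b) θ ≠ 0} =
      (Finset.univ.filter (fun χ : IrrCharacter G =>
        classInner (fun b : B => (χ : G → ℂ) b) θ ≠ 0)).card := by
    rw [← Fintype.card_coe, ← Nat.card_eq_fintype_card]
    refine Nat.card_congr
      { toFun := fun χ => ⟨⟨χ.1, χ.2.1⟩, by simpa using χ.2.2⟩
        invFun := fun χ => ⟨χ.1, χ.1.2, (Finset.mem_filter.1 χ.2).2⟩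
        left_inv := fun χ => rfl
        right_inv := fun χ => rfl }
  rw [h5]
  exact_mod_cast h2

end Lin

end Cfsg.Agent.PF
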