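import Cfsg.Agent.PF.Good
import Cfsg.Agent.H11.PF1

set_option autoImplicit false

/-! Masses (lead). -/

namespace Cfsg.Agent.PF

open Subgroup ComplexConjugate
open Cfsg.Agent.H3 Cfsg.Agent.H11

universe u v w

variable {G : Type u} [Group G] [Fintype G]

/-- `A(M)` as a finset of `M` -/
noncomputable def AF (M : Subgroup G) [Fintype ↥M] : Finset ↥M :=
  (Set.toFinite {a : ↥M | (a : G) ∈ typeA M}).toFinset

/-- `A(M) ∖ M_F` as a finset of `M` -/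
noncomputable def BF (M : Subgroup G) [Fintype ↥M] : Finset ↥M :=
  (Set.toFinite {a : ↥M | (a : G) ∈ typeA M ∧ (a : G) ∉ fittingHallOf M}).toFinset

@[simp] theorem mem_AF {M : Subgroup G} [Fintype ↥M] {a : ↥M} :
    a ∈ AF M ↔ (a : G) ∈ typeA M := by simp [AF]

@[simp] theorem mem_BF {M : Subgroup G} [Fintype ↥M] {a : ↥M} :
    a ∈ BF M ↔ (a : G) ∈ typeA M ∧ (a : G) ∉ fittingHallOf M := by simp [BF]

/-- conjugates of elements of `A(M)` -/
def AG (M : Subgroup G) : Set G := {g | ∃ a ∈ typeA M, ∃ y : G, g = y * a * y⁻¹}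

/-- as a finset -/
noncomputable def AGF (M : Subgroup G) : Finset G := (Set.toFinite (AG M)).toFinset

@[simp] theorem mem_AGF {M : Subgroup G} {g : G} : g ∈ AGF M ↔ g ∈ AG M := by simp [AGF]

theorem AG_conj {M : Subgroup G} {g : G} (x : G) (hg : g ∈ AG M) : x * g * x⁻¹ ∈ AG M := by
  obtain ⟨a, ha, y, rfl⟩ := hg
  exact ⟨a, ha, x * y, by group⟩

variable {M W₁ U W₂ : Subgroup G} [Fintype ↥M] {η : Lin W₁ W₂ → G → ℂ}
  {μ : Lin W₁ W₂ → ↥M → ℂ} {δ : Lin W₁ W₂ → ℤ} {u : ℕ}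

/-- coset average on `M` -/
noncomputable def Ec (M : Subgroup G) [Fintype ↥M] (y : ↥M) (f : ↥M → ℂ) : ℂ :=
  letI : Fintype ↥(PM M) := Fintype.ofFinite _
  Eav (fun x : PM M => (x : ↥M) * y) f

namespace IsGood

variable (h : IsGood M W₁ U W₂ η μ δ u)

include h

theorem BF_mul : ∀ x : PM M, ∀ a ∈ BF M, (x : ↥M) * a ∈ BF M := by
  intro x a ha
  rw [mem_BF] at ha ⊢
  have hx : ((x : ↥M) : G) ∈ fittingHallOf M := mem_subgroupOf.1 x.2
  refine ⟨h.coset a ha.1 ha.2 _ hx, fun hxa => ha.2 ?_⟩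
  have := mul_mem (inv_mem hx) hxa
  simpa using this

theorem sum_split (φ : ↥M → ℝ) [Fintype ↥(PM M)] [DecidableEq ↥(PM M)] :
    ∑ a ∈ AF M, φ a =
      ∑ x ∈ (Finset.univ : Finset ↥(PM M)).erase 1, φ (x : ↥M) + ∑ a ∈ BF M, φ a := by
  classical
  have e : AF M = ((Finset.univ : Finset ↥(PM M)).erase 1).map
      ⟨Subtype.val, Subtype.val_injective⟩ ∪ BF M := by
    ext a
    simp only [mem_AF, Finset.mem_union, Finset.mem_map, Finset.mem_erase, Finset.mem_univ,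
      and_true, Function.Embedding.coeFn_mk, mem_BF]
    constructor
    · intro ha
      by_cases hP : (a : G) ∈ fittingHallOf M
      · left
        refine ⟨⟨a, mem_subgroupOf.2 hP⟩, ?_, rfl⟩
        intro e
        have : a = 1 := congrArg Subtype.val e
        rw [this] at ha
        exact h.one_not_A ha
      · right; exact ⟨ha, hP⟩
    · rintro (⟨x, hx, rfl⟩ | ha)
      · exact h.P_sub _ (mem_subgroupOf.1 x.2)
          (fun e => hx (Subtype.ext (Subtype.ext e)))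
      · exact ha.1
  rw [e, Finset.sum_union, Finset.sum_map]
  · rfl
  · rw [Finset.disjoint_left]
    intro a ha ha'
    simp only [Finset.mem_map, Finset.mem_erase, Finset.mem_univ, and_true,
      Function.Embedding.coeFn_mk] at ha
    obtain ⟨x, -, rfl⟩ := ha
    exact (mem_BF.1 ha').2 (mem_subgroupOf.1 x.2)

theorem card_PM_gt : 1 < Nat.card ↥(PM M) := by
  have h1 : Nat.card ↥(PM M) = Nat.card (fittingHallOf M) :=
    Nat.card_congr (subgroupOfEquivOfLe (fhOf_le' M)).toEquiv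
  rw [h1]
  have h2 : W₂ ≤ fittingHallOf M := h.F.hP.W₂_le.trans inf_le_left
  exact lt_of_lt_of_le h.hp.one_lt (Nat.le_of_dvd Nat.card_pos (Subgroup.card_dvd_of_le h2))

theorem card_PM : Nat.card ↥(PM M) = Nat.card (fittingHallOf M) :=
  Nat.card_congr (subgroupOfEquivOfLe (fhOf_le' M)).toEquiv

theorem Ec_zero_irr {χ : ↥M → ℂ} (hχ : χ ∈ SH M ⊥) (hirr : IsIrrCharacter ↥M χ) (y : ↥M) :
    Ec M y χ = 0 := by
  letI : Fintype ↥(PM M) := Fintype.ofFinite _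
  obtain ⟨θ, hθ, -, ⟨x, hx, hx'⟩, rfl⟩ := hχ
  refine Eav_coset_zero (PM_normal M) hirr ?_ y
  by_contra hcon
  push Not at hcon
  -- `P ≤ ker (Ind θ)` implies `P ≤ ker θ`
  have hPn : (PM M).Normal := PM_normal M
  have k1 := PF.ker_ind_iff (H := commutator ↥M) inferInstance hPn h.PM_le (irr_isChar hθ)
  exact hx' (k1.2 hcon x hx)

theorem mu_ker {ψ : Lin W₁ W₂} (hψ : IsJ W₁ W₂ ψ) (h1 : ψ ≠ 1) :
    ∃ x ∈ PM M, μ ψ x ≠ μ ψ 1 := by
  have hmem := h.col ψ hψ h1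
  by_contra hcon
  push Not at hcon
  obtain ⟨θ, hθ, -, ⟨x, hx, hx'⟩, e⟩ := hmem
  have hPn : (PM M).Normal := PM_normal M
  have k1 := PF.ker_ind_iff (H := commutator ↥M) inferInstance hPn h.PM_le (irr_isChar hθ)
  refine hx' (k1.2 (fun a ha => ?_) x hx)
  rw [← e, h.F.col_on _ (h.PM_le ha), h.F.col_on _ (one_mem _), hcon a ha]

theorem Ec_zero_mu {ψ : Lin W₁ W₂} (hψ : IsJ W₁ W₂ ψ) (h1 : ψ ≠ 1) (y : ↥M) :
    Ec M y (μ ψ) = 0 := by
  letI : Fintype ↥(PM M) := Fintype.ofFinite _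
  exact Eav_coset_zero (PM_normal M) (h.F.irr ψ) (h.mu_ker hψ h1) y

/-- lower bound for the mass -/
theorem mass_ge {f f₀ : ↥M → ℂ} {κ : ℂ} (h0 : ∀ y : ↥M, Ec M y f₀ = 0)
    (h1 : ∀ x ∈ PM M, x ≠ 1 → f x - f₀ x = κ)
    (h2 : ∀ x ∈ PM M, ∀ y : ↥M, (y : G) ∈ typeA M → (y : G) ∉ fittingHallOf M →
      f (x * y) - f₀ (x * y) = f y - f₀ y) :
    ∑ a ∈ AF M, ‖f₀ a‖ ^ 2 - ‖f₀ 1‖ ^ 2 / ((Nat.card (fittingHallOf M) : ℝ) - 1) +
      ∑ a ∈ BF M, ‖Ec M a f‖ ^ 2 ≤ ∑ a ∈ AF M, ‖f a‖ ^ 2 := by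
  classical
  letI : Fintype ↥(PM M) := Fintype.ofFinite _
  have hc : Fintype.card ↥(PM M) = Nat.card (fittingHallOf M) := by
    rw [← h.card_PM, Nat.card_eq_fintype_card]
  have hc1 : 1 < Fintype.card ↥(PM M) := by
    rw [← Nat.card_eq_fintype_card]; exact h.card_PM_gt
  rw [h.sum_split, h.sum_split]
  have k1 := coset_eqn h.BF_mul (f := f) (f₀ := f₀) (fun a _ => h0 a)
    (fun x a ha => h2 x x.2 a (mem_BF.1 ha).1 (mem_BF.1 ha).2)
  have k2 : ∑ a ∈ BF M, ‖Ec M a f‖ ^ 2 =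
      ∑ a ∈ BF M, ‖Eav (fun x : PM M => (x : ↥M) * a) f‖ ^ 2 := rfl
  have k3 : ∑ x : PM M, f₀ x = 0 := by
    have := h0 1
    rw [Ec, Eav, mul_eq_zero] at this
    rcases this with h3 | h3
    · exact absurd h3 (inv_ne_zero (by exact_mod_cast Fintype.card_ne_zero))
    · simpa using h3
  have k4 := P_sum k3 κ hc1
  rw [hc] at k4
  have k5 : ∀ x ∈ (Finset.univ : Finset ↥(PM M)).erase 1, ‖f (x : ↥M)‖ ^ 2 =
      ‖f₀ (x : ↥M) + κ‖ ^ 2 := by
    intro x hx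
    rw [← h1 x x.2 (fun e => (Finset.mem_erase.1 hx).1 (Subtype.ext e))]
    congr 2; ring
  rw [Finset.sum_congr rfl k5, k1, k2]
  linarith

theorem mass_eq0 {f : ↥M → ℂ} {κ : ℂ} (h1 : ∀ x ∈ PM M, x ≠ 1 → f x = κ) :
    ((Nat.card (fittingHallOf M) : ℝ) - 1) * ‖κ‖ ^ 2 + ∑ a ∈ BF M, ‖Ec M a f‖ ^ 2 ≤
      ∑ a ∈ AF M, ‖f a‖ ^ 2 := by
  classical
  letI : Fintype ↥(PM M) := Fintype.ofFinite _
  have hc : Fintype.card ↥(PM M) = Nat.card (fittingHallOf M) := by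
    rw [← h.card_PM, Nat.card_eq_fintype_card]
  have hc1 : 1 < Fintype.card ↥(PM M) := by
    rw [← Nat.card_eq_fintype_card]; exact h.card_PM_gt
  rw [h.sum_split]
  have k5 : ∀ x ∈ (Finset.univ : Finset ↥(PM M)).erase 1, ‖f (x : ↥M)‖ ^ 2 = ‖κ‖ ^ 2 := by
    intro x hx
    rw [h1 x x.2 (fun e => (Finset.mem_erase.1 hx).1 (Subtype.ext e))]
  rw [Finset.sum_congr rfl k5, Finset.sum_const, Finset.card_erase_of_mem (Finset.mem_univ _),
    Finset.card_univ, nsmul_eq_mul, Nat.cast_sub hc1.le, hc, Nat.cast_one]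
  have := coset_cs h.BF_mul f
  have k2 : ∑ a ∈ BF M, ‖Ec M a f‖ ^ 2 =
      ∑ a ∈ BF M, ‖Eav (fun x : PM M => (x : ↥M) * a) f‖ ^ 2 := rfl
  rw [k2]
  linarith

theorem mass_cs (f : ↥M → ℂ) : ∑ a ∈ BF M, ‖Ec M a f‖ ^ 2 ≤ ∑ a ∈ AF M, ‖f a‖ ^ 2 := by
  classical
  letI : Fintype ↥(PM M) := Fintype.ofFinite _
  rw [h.sum_split]
  have := coset_cs h.BF_mul f
  have k2 : ∑ a ∈ BF M, ‖Ec M a f‖ ^ 2 =
      ∑ a ∈ BF M, ‖Eav (fun x : PM M => (x : ↥M) * a) f‖ ^ 2 := rfl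
  rw [k2]
  have k3 : 0 ≤ ∑ x ∈ (Finset.univ : Finset ↥(PM M)).erase 1, ‖f (x : ↥M)‖ ^ 2 :=
    Finset.sum_nonneg fun _ _ => by positivity
  linarith

theorem card_AF : (AF M).card = (Nat.card (fittingHallOf M) - 1) + (BF M).card := by
  classical
  letI : Fintype ↥(PM M) := Fintype.ofFinite _
  have hc : Fintype.card ↥(PM M) = Nat.card (fittingHallOf M) := by
    rw [← h.card_PM, Nat.card_eq_fintype_card]
  have := h.sum_split (fun _ => (1 : ℝ))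
  simp only [Finset.sum_const, nsmul_eq_mul, mul_one] at this
  rw [Finset.card_erase_of_mem (Finset.mem_univ _), Finset.card_univ, hc] at this
  exact_mod_cast this

/-! ### The Dade map -/

theorem rho_eq {F : G → ℂ} {a : ↥M} (ha : (a : G) ∈ typeA0 M) : rhoM M F a = F a := by
  rw [rhoM, h.supp _ ha]
  simp

theorem tau_restr {α : ↥M → ℂ} (hα : IsClassFunction ↥M α) (hαA : SuppOn (typeA0 M) α)
    {χ : G → ℂ} (hχ : IsClassFunction G χ) :
    classInner (tauM M α) χ = classInner α (fun x : ↥M => χ x) := by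
  rw [tau_inner_rho h.F.hG h.F.hM hα hαA hχ, classInner, classInner]
  congr 1
  refine Finset.sum_congr rfl fun x _ => ?_
  by_cases hx : (x : G) ∈ typeA0 M
  · rw [h.rho_eq hx]
  · rw [hαA x hx]; simp

theorem restr_tau {α : ↥M → ℂ} (hα : IsClassFunction ↥M α) (hαA : SuppOn (typeA0 M) α)
    {χ : G → ℂ} (hχ : IsClassFunction G χ) :
    classInner (fun x : ↥M => χ x) α = classInner χ (tauM M α) := by
  rw [← classInner_conj_symm, ← h.tau_restr hα hαA hχ, classInner_conj_symm]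

theorem tau_on {α : ↥M → ℂ} (hα : IsClassFunction ↥M α) {a : ↥M} (ha : (a : G) ∈ typeA0 M) :
    tauM M α a = α a := by
  have := tau_apply h.F.hG h.F.hM hα ha (u := 1) (y := 1) (one_mem _)
  simpa using this

theorem tilde_sub {g : G} (hg : g ∈ tildeOf M (typeA M)) : g ∈ AG M := by
  obtain ⟨a, ha, r, hr, y, rfl⟩ := hg
  rw [h.supp a (A_sub_A0 ha), Subgroup.mem_bot] at hr
  exact ⟨a, ha, y, by rw [hr, mul_one]⟩

theorem tau_off {α : ↥M → ℂ} (hα : IsClassFunction ↥M α) (hαA : SuppOn (typeA M) α) {g : G}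
    (hg : g ∉ AG M) : tauM M α g = 0 :=
  tau_supp h.F.hG h.F.hM A_sub_A0 hα hαA (fun k => hg (h.tilde_sub k))

/-- sums over the conjugates of `A(M)` -/
theorem sum_AG {F : G → ℝ} (hF : ∀ g x, F (x * g * x⁻¹) = F g) :
    (Nat.card M : ℝ) * ∑ g ∈ AGF M, F g = Nat.card G * ∑ a ∈ AF M, F (a : G) := by
  classical
  let α : ↥M → ℂ := fun a => if (a : G) ∈ typeA M then 1 else 0
  have hα : IsClassFunction ↥M α := by
    intro g x
    simp only [α]
    have e2 := h.A_conj_iff g x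
    by_cases hA : (g : G) ∈ typeA M
    · rw [if_pos (e2.2 hA), if_pos hA]
    · rw [if_neg (fun e => hA (e2.1 e)), if_neg hA]
  have hαA : SuppOn (typeA M) α := fun x hx => by simp only [α]; rw [if_neg hx]
  have hαA0 : SuppOn (typeA0 M) α := fun x hx => hαA x (fun k => hx (A_sub_A0 k))
  let F' : G → ℂ := fun g => (F g : ℂ)
  have hF' : IsClassFunction G F' := fun g x => by simp only [F']; rw [hF]
  have key := h.tau_restr hα hαA0 hF'
  have e1 : classInner (tauM M α) F' = (Nat.card G : ℂ)⁻¹ * ((∑ g ∈ AGF M, F g : ℝ) : ℂ) := by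
    rw [classInner]
    congr 1
    rw [Complex.ofReal_sum, ← Finset.sum_subset (Finset.subset_univ (AGF M))]
    · refine Finset.sum_congr rfl fun g hg => ?_
      rw [mem_AGF] at hg
      obtain ⟨a, ha, y, rfl⟩ := hg
      have haM : a ∈ M := (dadeHyp h.F.hG h.F.hM (Or.inr (Or.inl rfl))).subset ha
      have := tau_apply h.F.hG h.F.hM hα (a := ⟨a, haM⟩) (A_sub_A0 ha) (u := 1) (y := y)
        (one_mem _)
      rw [mul_one] at this
      simp only [F', α] at this ⊢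
      rw [this, if_pos ha, one_mul, Complex.conj_ofReal]
    · intro g _ hg
      rw [mem_AGF] at hg
      rw [h.tau_off hα hαA hg, zero_mul]
  have e2 : classInner α (fun x : ↥M => F' x) =
      (Nat.card M : ℂ)⁻¹ * ((∑ a ∈ AF M, F (a : G) : ℝ) : ℂ) := by
    rw [classInner]
    congr 1
    rw [Complex.ofReal_sum, ← Finset.sum_subset (Finset.subset_univ (AF M))]
    · refine Finset.sum_congr rfl fun a ha => ?_
      rw [mem_AF] at ha
      simp only [F', α]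
      rw [if_pos ha, one_mul, Complex.conj_ofReal]
    · intro a _ ha
      rw [mem_AF] at ha
      simp only [α]
      rw [if_neg ha, zero_mul]
  rw [e1, e2] at key
  have hG0 : (Nat.card G : ℂ) ≠ 0 := by exact_mod_cast Nat.card_pos.ne'
  have hM0 : (Nat.card M : ℂ) ≠ 0 := by exact_mod_cast Nat.card_pos.ne'
  have : ((Nat.card M : ℂ)) * ((∑ g ∈ AGF M, F g : ℝ) : ℂ) =
      (Nat.card G : ℂ) * ((∑ a ∈ AF M, F (a : G) : ℝ) : ℂ) := by
    field_simp at key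
    linear_combination key
  exact_mod_cast this

theorem card_AG : (Nat.card M : ℝ) * (AGF M).card = Nat.card G * (AF M).card := by
  have := h.sum_AG (F := fun _ => 1) (fun _ _ => rfl)
  simpa using this

/-! ### Coherence -/

theorem Yset_conj {n : ℂ} (hn : conj n = n) {φ : ↥M → ℂ} (hφ : φ ∈ Yset M n) :
    conjFun φ ∈ Yset M n := by
  rw [mem_Yset] at hφ ⊢
  refine ⟨isIrr_conj hφ.1, SH_conj hφ.2.1, ?_⟩
  rw [conjFun, hφ.2.2, hn]

theorem exists_coh {lam : ↥M → ℂ} (hl : lam ∈ SH M ⊥) (hirr : IsIrrCharacter ↥M lam) :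
    ∃ σ : (↥M → ℂ) → G → ℂ, CohMap (↑(Yset M (lam 1)) : Set (↥M → ℂ)) (tauM M) σ := by
  obtain ⟨R, hR, -, -⟩ := h.F.cohSys
  have hn : conj (lam 1) = lam 1 := by
    obtain ⟨t, ht, ht1, -⟩ := h.cliff lam hl hirr
    have ht0 : (t : ℂ) ≠ 0 := by exact_mod_cast ht.ne'
    have h2 := congrArg conj ht1
    rw [map_mul, Complex.conj_natCast, Complex.conj_natCast, ← ht1] at h2
    exact mul_left_cancel₀ ht0 h2
  have hsys := cohSys_mono (S₁ := (↑(Yset M (lam 1)) : Set (↥M → ℂ))) hR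
    ⟨lam, by rw [Finset.mem_coe, mem_Yset]; exact ⟨hirr, hl, rfl⟩⟩
    (fun φ hφ => by
      rw [Finset.mem_coe, mem_Yset] at hφ
      exact h.F.SH_sub' _ hφ.2.1)
    (fun φ hφ => by
      rw [Finset.mem_coe] at hφ ⊢
      exact h.Yset_conj hn hφ)
  exact pf57 hsys (fun φ hφ ψ hψ => by
    rw [Finset.mem_coe, mem_Yset] at hφ hψ
    rw [hφ.2.2, hψ.2.2])

end IsGood

theorem coh_coh_orth {S₁ S₂ : Set (↥M → ℂ)} (F : IsFrame M W₁ U W₂ η μ δ) (h₁ : S₁ ⊆ SM M ⊥)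
    (h₂ : S₂ ⊆ SM M ⊥) {σ₁ σ₂ : (↥M → ℂ) → G → ℂ} (hσ₁ : CohMap S₁ (tauM M) σ₁)
    (hσ₂ : CohMap S₂ (tauM M) σ₂) {φ χ : ↥M → ℂ} (hφ : φ ∈ S₁) (hφc : conjFun φ ∈ S₁)
    (hχ : χ ∈ S₂) (hχc : conjFun χ ∈ S₂) (hne : χ ≠ φ) (hne' : conjFun χ ≠ φ) :
    classInner (σ₁ φ) (σ₂ χ) = 0 := by
  obtain ⟨R, hR, -, -⟩ := F.cohSys
  have e1 := coh_orth hR h₁ hσ₁ hφ hφc (h₂ hχ) hne hne'
  rw [coh_mem_span hR h₂ hσ₂ hχ hχc, classInner_sum_right]
  refine Finset.sum_eq_zero fun α hα => ?_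
  rw [classInner_smul_right, e1 α hα, mul_zero]

end Cfsg.Agent.PF
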