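import Cfsg.Agent.PF.Classes
import Cfsg.Agent.PF.Good2

set_option autoImplicit false

/-! The covering of `G` by the conjugates of `A(S)`, `A(T)`, `V` and elements of order prime to
`pq` (lead). -/

namespace Cfsg.Agent.PF

open Subgroup
open Cfsg.Agent.L (cj nz SylIn)
open Cfsg.Agent.OOT
open Cfsg.Agent.H21

universe u
variable {G : Type u} [Group G] [Finite G]
variable {S T W₁ W₂ U V : Subgroup G} (hG : IsMinSimpleOddOrder G)

include hG in
theorem IsPair.not_typeI (h : IsPair S T W₁ W₂ U V) : ¬ IsOfTypeI S := by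
  rcases h.S23 hG with k | k
  · exact not_typeI_of_II hG h.hS k
  · exact not_typeI_of_III hG h.hS (Or.inl k)

include hG in
theorem IsPair.P_le_core (h : IsPair S T W₁ W₂ U V) : fittingHallOf S ≤ typeCore S := by
  rw [typeCore]
  split_ifs
  · exact h.hSP.H_le'
  · exact le_rfl

include hG in
theorem IsPair.core_le (h : IsPair S T W₁ W₂ U V) : typeCore S ≤ ⁅S, S⁆ := by
  rw [typeCore]
  split_ifs
  · exact le_rfl
  · exact h.hSP.H_le'

include hG in
theorem IsPair.mem_typeA (h : IsPair S T W₁ W₂ U V) {a : G} :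
    a ∈ typeA S ↔ a ∈ ⁅S, S⁆ ∧ a ≠ 1 ∧ ∃ x ∈ typeCore S, x ≠ 1 ∧ a * x = x * a := by
  rw [typeA, if_neg (h.not_typeI hG)]; rfl

include hG in
theorem IsPair.mem_typeA_of (h : IsPair S T W₁ W₂ U V) {a x : G} (ha : a ∈ ⁅S, S⁆) (ha1 : a ≠ 1)
    (hx : x ∈ fittingHallOf S) (hx1 : x ≠ 1) (hax : a * x = x * a) : a ∈ typeA S :=
  (h.mem_typeA hG).2 ⟨ha, ha1, x, h.P_le_core hG hx, hx1, hax⟩

include hG in
theorem IsPair.P_sub (h : IsPair S T W₁ W₂ U V) {x : G} (hx : x ∈ fittingHallOf S)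
    (hx1 : x ≠ 1) : x ∈ typeA S :=
  h.mem_typeA_of hG (h.hSP.H_le' hx) hx1 hx hx1 rfl

include hG in
theorem IsPair.coset (h : IsPair S T W₁ W₂ U V) {a : G} (ha : a ∈ typeA S)
    (haP : a ∉ fittingHallOf S) {x : G} (hx : x ∈ fittingHallOf S) : x * a ∈ typeA S := by
  obtain ⟨a1, a2, y, hy, hy1, e⟩ := (h.mem_typeA hG).1 ha
  have hxa : x * a ∈ ⁅S, S⁆ := mul_mem (h.hSP.H_le' hx) a1
  have hxa1 : x * a ≠ 1 := by
    intro k
    apply haP
    have : a = x⁻¹ := eq_inv_of_mul_eq_one_right k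
    rw [this]; exact inv_mem hx
  rcases h.S23 hG with k | k
  · -- type II : `typeCore = P`
    have hc : typeCore S = fittingHallOf S := typeCore_II hG h.hS k
    rw [hc] at hy
    refine (h.mem_typeA hG).2 ⟨hxa, hxa1, y, h.P_le_core hG hy, hy1, ?_⟩
    have e1 := h.P_comm hG hx hy
    calc x * a * y = x * (a * y) := by group
      _ = x * y * a := by rw [e]; group
      _ = y * x * a := by rw [e1]
      _ = y * (x * a) := by group
  · have hc : typeCore S = ⁅S, S⁆ := by rw [typeCore, if_pos (Or.inl k)]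
    exact (h.mem_typeA hG).2 ⟨hxa, hxa1, x * a, by rw [hc]; exact hxa, hxa1, rfl⟩

include hG in
theorem IsPair.cent_A (h : IsPair S T W₁ W₂ U V) {a : G} (ha : a ∈ typeA S) :
    centralizer ({a} : Set G) ≤ S :=
  cent_le_of_mem_A0 hG h.hS h.hSP (A_sub_A0 ha)

theorem supportR_bot {M : Subgroup G} {a : G} (h : centralizer ({a} : Set G) ≤ M) :
    supportR M a = ⊥ := by
  rw [supportR, dif_neg]
  rintro ⟨k, -⟩
  exact k h

include hG in
theorem IsPair.supp (h : IsPair S T W₁ W₂ U V) {a : G} (ha : a ∈ typeA0 S) :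
    supportR S a = ⊥ := supportR_bot (cent_le_of_mem_A0 hG h.hS h.hSP ha)

include hG in
/-- `P` is a Sylow `p`-subgroup of `G` -/
theorem IsPair.P_sylow (h : IsPair S T W₁ W₂ U V) :
    SylIn (Nat.card W₂) (fittingHallOf S) (⊤ : Subgroup G) := by
  have : Fact (Nat.card W₂).Prime := ⟨h.p_prime hG⟩
  obtain ⟨⟨-, hel⟩, hcard⟩ := h.P_struct hG
  have hPp : IsPGroup (Nat.card W₂) (fittingHallOf S) := IsPGroup.of_card hcard
  have hP1 : fittingHallOf S ≠ ⊥ := by
    intro e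
    have := h.hSP.W₂_le_H
    rw [e, le_bot_iff] at this
    exact h.hSP.selfNormalizing.2.1 this
  have hnz : nz (fittingHallOf S) ≤ S := by
    have h1 := le_normalizer_fhOf S
    have h2 : nz (fittingHallOf S) ≠ ⊤ := by
      intro e
      have h3 : (fittingHallOf S).Normal := Subgroup.normalizer_eq_top_iff.1 e
      have hs : IsSimpleGroup G := hG.2.1
      rcases hs.eq_bot_or_eq_top_of_normal (fittingHallOf S) h3 with k | k
      · exact hP1 k
      · exact h.hS.1 (top_le_iff.1 (k ▸ fhOf_le S))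
    rcases h.hS.le_iff.1 h1 with k | k
    · exact absurd k h2
    · exact k.le
  obtain ⟨R, hR, hPR⟩ := L.exists_sylIn_ge hPp (le_top)
  rcases hPR.eq_or_lt with e | hlt
  · rw [e]; exact hR
  exfalso
  have h1 := L.lt_inf_nz hR.isPGroup hlt
  have h2 : R ⊓ nz (fittingHallOf S) ≤ S := inf_le_right.trans hnz
  have hX : IsPGroup (Nat.card W₂) ↥(R ⊓ nz (fittingHallOf S)) := hR.isPGroup.to_le inf_le_left
  obtain ⟨k, hk⟩ := hX.exists_card_eq
  have h3 : Nat.card ↥(R ⊓ nz (fittingHallOf S)) ∣ Nat.card S := Subgroup.card_dvd_of_le h2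
  have h4 : Nat.card S = Nat.card (fittingHallOf S) * (fittingHallOf S).relIndex S :=
    (L.card_mul_relIndex (fhOf_le S)).symm
  have h5 := fhOf_coprime S
  have h6 : (Nat.card ↥(R ⊓ nz (fittingHallOf S))).Coprime ((fittingHallOf S).relIndex S) := by
    rw [hk]
    apply Nat.Coprime.pow_left
    rw [hcard] at h5
    exact (Nat.coprime_pow_left_iff (h.q_prime hG).pos _ _).1 h5
  rw [h4] at h3
  have h7 := h6.dvd_of_dvd_mul_right h3
  have h8 := Nat.le_of_dvd Nat.card_pos h7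
  have h9 := L.card_lt_of_lt h1
  omega

include hG in
/-- elements of order `p` are conjugate to elements of `P` -/
theorem IsPair.conj_P (h : IsPair S T W₁ W₂ U V) {x : G} (hx : orderOf x = Nat.card W₂) :
    ∃ y : G, y * x * y⁻¹ ∈ fittingHallOf S := by
  have : Fact (Nat.card W₂).Prime := ⟨h.p_prime hG⟩
  have hX : IsPGroup (Nat.card W₂) (zpowers x) :=
    IsPGroup.of_card (n := 1) (by rw [Nat.card_zpowers, hx, pow_one])
  obtain ⟨y, -, hy⟩ := (h.P_sylow hG).exists_conj_le hX le_top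
  exact ⟨y, hy (L.conj_mem_cj (mem_zpowers x))⟩

/-- decomposition of elements of `W` -/
theorem mem_W (hW : IsSelfNormalizingCyclic W₁ W₂) {w : G} (hw : w ∈ W₁ ⊔ W₂) :
    ∃ a ∈ W₁, ∃ b ∈ W₂, w = a * b := by
  have hn : W₂ ≤ normalizer (W₁ : Set G) := by
    intro b hb
    rw [mem_normalizer_iff]
    intro a
    constructor
    · intro ha
      rw [← hW.2.2.2.1 a ha b hb]; simpa using ha
    · intro ha
      have e := hW.2.2.2.1 _ ha b hb
      have : a = b * a * b⁻¹ := by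
        have h2 : b * (b * a * b⁻¹) = b * a := by rw [← e]; group
        exact (mul_left_cancel h2).symm
      rw [this]; exact ha
  obtain ⟨a, ha, b, hb, e⟩ := (H1.mem_sup_iff_of_le_normalizer hn).1 hw
  exact ⟨a, ha, b, hb, e.symm⟩

theorem orderOf_dvd_card_of_mem {A : Subgroup G} {x : G} (hx : x ∈ A) :
    orderOf x ∣ Nat.card A := by
  have := orderOf_dvd_natCard (⟨x, hx⟩ : A)
  rwa [Subgroup.orderOf_mk] at this

theorem mem_comm_iff_cov {M : Subgroup G} {x : ↥M} : x ∈ commutator ↥M ↔ (x : G) ∈ ⁅M, M⁆ := by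
  rw [← Subgroup.map_subtype_commutator, Subgroup.mem_map]
  constructor
  · intro h; exact ⟨x, h, rfl⟩
  · rintro ⟨y, hy, e⟩
    have : y = x := Subtype.ext e
    rwa [← this]

end Cfsg.Agent.PF

namespace Cfsg.Agent.PF

open Subgroup
open Cfsg.Agent.L (cj nz SylIn)
open Cfsg.Agent.OOT
open Cfsg.Agent.H21

universe u
variable {G : Type u} [Group G] [Fintype G]
variable {S T W₁ W₂ U V : Subgroup G} [Fintype ↥S] [Fintype ↥T] (hG : IsMinSimpleOddOrder G)
  {η : Lin W₁ W₂ → G → ℂ} {μ : Lin W₁ W₂ → ↥S → ℂ} {δ : Lin W₁ W₂ → ℤ}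

include hG in
theorem IsPair.cover (h : IsPair S T W₁ W₂ U V) (F : IsFrame S W₁ U W₂ η μ δ) {g : G}
    (hg1 : g ≠ 1) (hp : Nat.card W₂ ∣ orderOf g) :
    g ∈ AG S ∨ ∃ y : G, y * g * y⁻¹ ∈ Vset W₁ W₂ := by
  have hp' := h.p_prime hG
  set x := g ^ (orderOf g / Nat.card W₂) with hx
  have hox : orderOf x = Nat.card W₂ := by
    rw [hx, orderOf_pow_of_dvd]
    · exact Nat.div_div_self hp (orderOf_pos g).ne'
    · exact (Nat.div_pos (Nat.le_of_dvd (orderOf_pos g) hp) hp'.pos).ne'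
    · exact Nat.div_dvd_of_dvd hp
  obtain ⟨y, hy⟩ := h.conj_P hG hox
  have hcomm : (y * g * y⁻¹) * (y * x * y⁻¹) = (y * x * y⁻¹) * (y * g * y⁻¹) := by
    have : g * x = x * g := by rw [hx]; exact (Commute.self_pow g _).eq
    calc (y * g * y⁻¹) * (y * x * y⁻¹) = y * (g * x) * y⁻¹ := by group
      _ = y * (x * g) * y⁻¹ := by rw [this]
      _ = _ := by group
  have hx1 : y * x * y⁻¹ ≠ 1 := by
    intro e
    have : x = 1 := by
      have h2 : x = y⁻¹ * (y * x * y⁻¹) * y := by group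
      rw [h2, e]; group
    rw [this, orderOf_one] at hox
    exact hp'.one_lt.ne hox
  set g' := y * g * y⁻¹ with hg'
  have hg1' : g' ≠ 1 := by
    intro e
    apply hg1
    have h2 : g = y⁻¹ * g' * y := by rw [hg']; group
    rw [h2, e]; group
  have hgS : g' ∈ S := (h.cent_A hG (h.P_sub hG hy hx1)) (mem_cent_singleton.2 hcomm)
  by_cases hc : g' ∈ ⁅S, S⁆
  · left
    refine ⟨g', h.mem_typeA_of hG hc hg1' hy hx1 hcomm, y⁻¹, by rw [hg']; group⟩
  · right
    have hc' : (⟨g', hgS⟩ : ↥S) ∉ commutator ↥S := fun k => hc (mem_comm_iff_cov.1 k)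
    obtain ⟨t, w, hw, hw2, e⟩ := F.conj_W hc'
    have e' : (t : G) * g' * (t : G)⁻¹ = w := by rw [← e]; rfl
    refine ⟨t * y, ?_⟩
    have e2 : (t : G) * y * g * ((t : G) * y)⁻¹ = w := by rw [← e', hg']; group
    rw [e2]
    refine ⟨hw, fun hw1 => ?_, hw2⟩
    have o1 : orderOf w = orderOf g := by
      rw [← e2]
      exact orderOf_injective (MulAut.conj ((t : G) * y)).toMonoidHom
        (MulAut.conj ((t : G) * y)).injective g
    have o2 : Nat.card W₂ ∣ Nat.card W₁ := by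
      rw [← o1] at hp
      exact hp.trans (orderOf_dvd_card_of_mem hw1)
    exact hp'.one_lt.ne' (Nat.eq_one_of_dvd_coprimes h.pq_coprime o2 dvd_rfl)

include hG in
/-- `A(S)` and `A(T)` have no conjugate elements -/
theorem IsPair.disj (h : IsPair S T W₁ W₂ U V) {η' : Lin W₂ W₁ → G → ℂ}
    {ν : Lin W₂ W₁ → ↥T → ℂ} {ε : Lin W₂ W₁ → ℤ} (F : IsFrame T W₂ V W₁ η' ν ε)
    (hII : IsOfTypeII S) : ∀ g ∈ AG S, g ∉ AG T := by
  rintro g ⟨a, ha, y, rfl⟩ ⟨b, hb, z, e⟩
  have hp' := h.p_prime hG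
  obtain ⟨a1, a2, x, hx, hx1, hax⟩ := (h.mem_typeA hG).1 ha
  rw [typeCore_II hG h.hS hII] at hx
  -- move to `b`
  set c := z⁻¹ * y with hc
  have hb' : b = c * a * c⁻¹ := by
    have : b = z⁻¹ * (z * b * z⁻¹) * z := by group
    rw [this, ← e, hc]; group
  set x' := c * x * c⁻¹ with hx'
  have hcomm : b * x' = x' * b := by
    rw [hb', hx']
    calc c * a * c⁻¹ * (c * x * c⁻¹) = c * (a * x) * c⁻¹ := by group
      _ = c * (x * a) * c⁻¹ := by rw [hax]
      _ = _ := by group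
  have hx'T : x' ∈ T := (h.symm.cent_A hG hb) (mem_cent_singleton.2 hcomm.symm)
  have ox : orderOf x = Nat.card W₂ := by
    have := orderOf_dvd_of_pow_eq_one ((h.P_struct hG).1.2 x hx)
    rcases (Nat.dvd_prime hp').1 this with k | k
    · exact absurd (orderOf_eq_one_iff.1 k) hx1
    · exact k
  have ox' : orderOf x' = Nat.card W₂ := by
    rw [hx', ← ox]
    exact orderOf_injective (MulAut.conj c).toMonoidHom (MulAut.conj c).injective x
  have hx'c : (⟨x', hx'T⟩ : ↥T) ∉ commutator ↥T := by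
    intro k
    have k' : x' ∈ ⁅T, T⁆ := mem_comm_iff_cov.1 k
    have h1 := orderOf_dvd_card_of_mem k'
    rw [ox'] at h1
    exact hp'.one_lt.ne' (Nat.eq_one_of_dvd_coprimes h.hTP.coprime_W₁ dvd_rfl h1)
  obtain ⟨t, w, hw, hw2, et⟩ := F.conj_W hx'c
  have et' : (t : G) * x' * (t : G)⁻¹ = w := by rw [← et]; rfl
  have ow : orderOf w = Nat.card W₂ := by
    rw [← et', ← ox']
    exact orderOf_injective (MulAut.conj (t : G)).toMonoidHom (MulAut.conj (t : G)).injective x'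
  obtain ⟨w₂, hw₂, w₁, hw₁, ew⟩ := mem_W F.hW hw
  have hcw : Commute w₂ w₁ := F.hW.2.2.2.1 w₂ hw₂ w₁ hw₁
  have hw₁1 : w₁ = 1 := by
    have h1 : w ^ Nat.card W₂ = 1 := by rw [← ow]; exact pow_orderOf_eq_one w
    have h2 : w₂ ^ Nat.card W₂ = 1 := orderOf_dvd_iff_pow_eq_one.1 (orderOf_dvd_card_of_mem hw₂)
    rw [ew, hcw.mul_pow, h2, one_mul] at h1
    have h3 := orderOf_dvd_of_pow_eq_one h1
    have h4 := orderOf_dvd_card_of_mem hw₁
    exact orderOf_eq_one_iff.1 (Nat.eq_one_of_dvd_coprimes h.pq_coprime h4 h3)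
  rw [hw₁1, mul_one] at ew
  have hwW₂ : w ∈ W₂ := by rw [ew]; exact hw₂
  have hw1 : w ≠ 1 := by
    rintro rfl
    rw [orderOf_one] at ow
    exact hp'.one_lt.ne ow
  -- `b' = t b t⁻¹` lies in `W₁`
  have hbT : b ∈ ⁅T, T⁆ := ((h.symm.mem_typeA hG).1 hb).1
  have hbT' : (t : G) * b * (t : G)⁻¹ ∈ ⁅T, T⁆ := by
    have := le_nz_commutator T t.2
    exact (mem_normalizer_iff.1 this b).1 hbT
  have hcomm' : w * ((t : G) * b * (t : G)⁻¹) = ((t : G) * b * (t : G)⁻¹) * w := by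
    rw [← et']
    calc (t : G) * x' * (t : G)⁻¹ * ((t : G) * b * (t : G)⁻¹) = (t : G) * (x' * b) * (t : G)⁻¹ := by
          group
      _ = (t : G) * (b * x') * (t : G)⁻¹ := by rw [hcomm]
      _ = _ := by group
  have hbW : (t : G) * b * (t : G)⁻¹ ∈ W₁ := by
    rw [← h.hTP.W₂_centralizer w hwW₂ hw1]
    exact ⟨hbT', mem_cent_singleton.2 hcomm'.symm⟩
  have o1 := orderOf_dvd_card_of_mem hbW
  have o2 : orderOf ((t : G) * b * (t : G)⁻¹) = orderOf a := by
    have : (t : G) * b * (t : G)⁻¹ = ((t : G) * c) * a * ((t : G) * c)⁻¹ := by rw [hb']; group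
    rw [this]
    exact orderOf_injective (MulAut.conj ((t : G) * c)).toMonoidHom
      (MulAut.conj ((t : G) * c)).injective a
  rw [o2] at o1
  have o3 := orderOf_dvd_card_of_mem a1
  exact a2 (orderOf_eq_one_iff.1 (Nat.eq_one_of_dvd_coprimes h.hSP.coprime_W₁ o1 o3))

end Cfsg.Agent.PF
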