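import Cfsg.Agent.PF.G6
import Cfsg.Agent.PF.Cover
import Cfsg.Agent.S1378
import Cfsg.Agent.H14.Types

set_option autoImplicit false

/-! The covering of `G ∖ 1`, including the type I maximal subgroups (lead). -/

namespace Cfsg.Agent.PF

open Subgroup
open Cfsg.Agent.L (cj nz SylIn)
open Cfsg.Agent.OOT
open Cfsg.Agent.H21

universe u
variable {G : Type u} [Group G] [Finite G]
variable {S T W₁ W₂ U V N N' : Subgroup G} (hG : IsMinSimpleOddOrder G)

include hG in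
/-- `C_{S'}(x) ≤ P` for `x ∈ P#` -/
theorem IsPair.mem_P_of_comm (h : IsPair S T W₁ W₂ U V) {a x : G} (ha : a ∈ ⁅S, S⁆)
    (hx : x ∈ fittingHallOf S) (hx1 : x ≠ 1) (hc : a * x = x * a) : a ∈ fittingHallOf S := by
  obtain ⟨p₀, hp₀, u₀, hu₀, e⟩ := h.hSP.U_compl.2.2.2 a ha
  by_cases hu1 : u₀ = 1
  · rw [hu1, mul_one] at e
    rw [e]; exact hp₀
  exfalso
  apply hx1
  have h1 := h.P_comm hG hp₀ hx
  refine h.U_free hG hu₀ hu1 hx ?_
  have h2 : p₀ * (u₀ * x) = p₀ * (x * u₀) := by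
    calc p₀ * (u₀ * x) = a * x := by rw [e]; group
      _ = x * a := hc
      _ = x * p₀ * u₀ := by rw [e]; group
      _ = p₀ * x * u₀ := by rw [h1]
      _ = p₀ * (x * u₀) := by group
  exact mul_left_cancel h2

include hG in
theorem IsPair.typeA_II (h : IsPair S T W₁ W₂ U V) (hII : IsOfTypeII S) :
    typeA S = (fittingHallOf S : Set G) \ {1} := by
  ext a
  rw [h.mem_typeA hG, typeCore_II hG h.hS hII]
  constructor
  · rintro ⟨h1, h2, x, hx, hx1, hc⟩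
    exact ⟨h.mem_P_of_comm hG h1 hx hx1 hc, h2⟩
  · rintro ⟨h1, h2⟩
    exact ⟨h.hSP.H_le' h1, h2, a, h1, h2, rfl⟩

include hG in
theorem mem_typeA0_I (hN : IsCoatom N) (hI : IsOfTypeI N) {x : G} (hx : x ∈ fittingHallOf N)
    (hx1 : x ≠ 1) : x ∈ typeA0 N := by
  have h1 : x ∈ typeA1 N := ⟨by rw [typeCore_I hG hN hI]; exact hx, hx1⟩
  exact Or.inl (A1_sub_A' hG hN h1)

include hG in
theorem IsPair.cent_I (h : IsPair S T W₁ W₂ U V) (hN : IsCoatom N) (hI : IsOfTypeI N) {x : G}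
    (hx : x ∈ fittingHallOf N) (hx1 : x ≠ 1) : centralizer ({x} : Set G) ≤ N := by
  by_contra hc
  obtain ⟨L, hL, hxL⟩ := cent_singleton_le_coatom hG hx1
  have hxA := mem_typeA0_I hG hN hI hx hx1
  have hII := typeII_of_supports hG hN hxA hc hL hxL
  obtain ⟨-, -, h3⟩ := row1391 hG hN (X := typeA0 N) (Or.inr rfl)
  obtain ⟨-, -, -, -, ⟨k1, k2⟩, -⟩ := h3 x hxA hc L hL hxL
  apply k2
  rw [typeA, if_neg (not_typeI_of_II hG hL hII)] at k1
  obtain ⟨a1, a2, y, hy, hy1, hxy⟩ := k1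
  rw [typeCore_II hG hL hII] at hy
  refine ⟨?_, hx1⟩
  rw [typeCore_II hG hL hII]
  have key : ∀ {S T W₁ W₂ U V : Subgroup G} (_ : IsPair S T W₁ W₂ U V) (g : G), L = cj g S →
      x ∈ fittingHallOf L := by
    intro S T W₁ W₂ U V h g e
    subst e
    rw [← cj_fhOf] at hy ⊢
    rw [mem_cj] at hy ⊢
    rw [cj_commutator, mem_cj] at a1
    refine h.mem_P_of_comm hG a1 hy (fun e => hy1 ?_) ?_
    · have : y = g * (g⁻¹ * y * g) * g⁻¹ := by group
      rw [this, e]; group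
    · calc g⁻¹ * x * g * (g⁻¹ * y * g) = g⁻¹ * (x * y) * g := by group
        _ = g⁻¹ * (y * x) * g := by rw [hxy]
        _ = _ := by group
  rcases h.typeI_or_conj hG hL with k | ⟨g, k⟩ | ⟨g, k⟩
  · exact absurd k (not_typeI_of_II hG hL hII)
  · exact key h g k
  · exact key h.symm g k

include hG in
/-- `H#` is TI with normalizer `N` -/
theorem IsPair.H_TI (h : IsPair S T W₁ W₂ U V) (hN : IsCoatom N) (hI : IsOfTypeI N) {x g : G}
    (hx : x ∈ fittingHallOf N) (hx1 : x ≠ 1) (hg : g * x * g⁻¹ ∈ fittingHallOf N) : g ∈ N := by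
  obtain ⟨h1, -, -⟩ := row1391 hG hN (X := typeA0 N) (Or.inr rfl)
  have hg1 : g * x * g⁻¹ ≠ 1 := by
    intro e
    apply hx1
    have : x = g⁻¹ * (g * x * g⁻¹) * g := by group
    rw [this, e]; group
  obtain ⟨m, hm, e⟩ := h1 x (mem_typeA0_I hG hN hI hx hx1) g (mem_typeA0_I hG hN hI hg hg1)
  have : m⁻¹ * g ∈ centralizer ({x} : Set G) := by
    rw [mem_cent_singleton]
    have h2 : m⁻¹ * (m * x * m⁻¹) * g = m⁻¹ * (g * x * g⁻¹) * g := by rw [e]
    have h3 : x * (m⁻¹ * g) = m⁻¹ * g * x := by simpa [mul_assoc] using h2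
    exact h3.symm
  have h2 := h.cent_I hG hN hI hx hx1 this
  have h3 := mul_mem hm h2
  rwa [mul_inv_cancel_left] at h3

include hG in
theorem H_eq_sigma (hN : IsCoatom N) (hI : IsOfTypeI N) : fittingHallOf N = sigmaCore N := by
  rw [← H14.TY.typeCore_eq hG hN, typeCore_I hG hN hI]

include hG in
/-- `N_σ` and `M_σ` for non-conjugate `M`, `N`: no conjugate elements -/
theorem core_disj (hN : IsCoatom N) (hN' : IsCoatom N') (hnc : ∀ g : G, N' ≠ cj g N) {x : G}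
    (hx : x ∈ typeCore N) (hx1 : x ≠ 1) (g : G) : g * x * g⁻¹ ∉ typeCore N' := by
  intro hg
  rw [H14.TY.typeCore_eq hG hN] at hx
  rw [H14.TY.typeCore_eq hG hN'] at hg
  obtain ⟨r, hr, hd⟩ := Nat.exists_prime_and_dvd (n := orderOf x)
    (fun e => hx1 (orderOf_eq_one_iff.1 e))
  have h1 := ms_pi hG hN hx r hr hd
  have h2 := ms_pi hG hN' hg r hr (by
    have : orderOf (g * x * g⁻¹) = orderOf x :=
      orderOf_injective (MulAut.conj g).toMonoidHom (MulAut.conj g).injective x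
    rw [this]; exact hd)
  obtain ⟨y, hy⟩ := sigma_conj hG hN hN' h1 h2
  exact hnc y hy

include hG in
/-- every `g ≠ 1` commutes with a conjugate of an element of some `N_σ` -/
theorem exists_core (g : G) (hg1 : g ≠ 1) : ∃ N : Subgroup G, IsCoatom N ∧ ∃ (y x : G),
    y * x * y⁻¹ ∈ typeCore N ∧ x ≠ 1 ∧ g * x = x * g ∧ x ∈ zpowers g := by
  obtain ⟨r, hr, hd⟩ := Nat.exists_prime_and_dvd (n := orderOf g)
    (fun e => hg1 (orderOf_eq_one_iff.1 e))
  have hfr : Fact r.Prime := ⟨hr⟩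
  set x := g ^ (orderOf g / r) with hx
  have hox : orderOf x = r := by
    rw [hx, orderOf_pow_of_dvd]
    · exact Nat.div_div_self hd (orderOf_pos g).ne'
    · exact (Nat.div_pos (Nat.le_of_dvd (orderOf_pos g) hd) hr.pos).ne'
    · exact Nat.div_dvd_of_dvd hd
  obtain ⟨N, hN, hσ⟩ := exists_sigma hG hr (hd.trans (orderOf_dvd_natCard g))
  refine ⟨N, hN, ?_⟩
  -- a Sylow `r`-subgroup of `N_σ` is one of `G`
  obtain ⟨hpi, hidx⟩ := ms_hallG hG hN
  obtain ⟨R, hR⟩ := L.exists_sylIn (p := r) (sigmaCore N)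
  have hRG : SylIn r R (⊤ : Subgroup G) := by
    refine ⟨le_top, hR.isPGroup, fun hdv => ?_⟩
    rw [← Subgroup.relIndex_mul_relIndex R (sigmaCore N) ⊤ hR.le le_top] at hdv
    rcases hr.dvd_mul.1 hdv with k | k
    · exact hR.not_dvd k
    · rw [Subgroup.relIndex_top_right] at k
      exact hidx r hr hσ k
  have hX : IsPGroup r (zpowers x) :=
    IsPGroup.of_card (n := 1) (by rw [Nat.card_zpowers, hox, pow_one])
  obtain ⟨y, -, hy⟩ := hRG.exists_conj_le hX le_top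
  refine ⟨y, x, ?_, ?_, ?_, ?_⟩
  · rw [H14.TY.typeCore_eq hG hN]
    exact hR.le (hy (L.conj_mem_cj (mem_zpowers x)))
  · intro e
    rw [e, orderOf_one] at hox
    exact hr.one_lt.ne hox
  · rw [hx]; exact (Commute.self_pow g _).eq
  · exact ⟨(orderOf g / r : ℕ), by rw [hx]; exact zpow_natCast g _⟩

/-- the union of the conjugates of `H_N#`, `N` of type I -/
def HG (N : Subgroup G) : Set G := {g | g ≠ 1 ∧ ∃ y : G, y * g * y⁻¹ ∈ fittingHallOf N}

omit [Finite G] in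
theorem conj_pow_mem {g x y : G} {H : Subgroup G} (hx : y * g * y⁻¹ ∈ H) (h : x ∈ zpowers g) :
    y * x * y⁻¹ ∈ H := by
  obtain ⟨k, rfl⟩ := h
  have : y * g ^ k * y⁻¹ = (y * g * y⁻¹) ^ k := by rw [conj_zpow]
  rw [this]
  exact zpow_mem hx k

omit [Finite G] in
theorem conj_comm_of {g x y : G} (h : g * x = x * g) :
    (y * g * y⁻¹) * (y * x * y⁻¹) = (y * x * y⁻¹) * (y * g * y⁻¹) := by
  calc (y * g * y⁻¹) * (y * x * y⁻¹) = y * (g * x) * y⁻¹ := by group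
    _ = y * (x * g) * y⁻¹ := by rw [h]
    _ = _ := by group

omit [Finite G] in
theorem conj_ne_one_of {g y : G} (h : g ≠ 1) : y * g * y⁻¹ ≠ 1 := by
  intro e
  apply h
  have : g = y⁻¹ * (y * g * y⁻¹) * y := by group
  rw [this, e]; group

/-- **(D), covering**: every `g ≠ 1` is conjugate to an element of `A(S)`, `A(T)`, `V` or of `H_N`
for some maximal subgroup `N` of type I -/
theorem IsPair.cover_all {G : Type u} [Group G] [Fintype G] (hG : IsMinSimpleOddOrder G)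
    {S T W₁ W₂ U V : Subgroup G} [Fintype ↥S] [Fintype ↥T] (h : IsPair S T W₁ W₂ U V)
    {η : Lin W₁ W₂ → G → ℂ} {μ : Lin W₁ W₂ → ↥S → ℂ} {δ : Lin W₁ W₂ → ℤ}
    (F : IsFrame S W₁ U W₂ η μ δ) {ν : Lin W₂ W₁ → ↥T → ℂ} {ε : Lin W₂ W₁ → ℤ}
    (F' : IsFrame T W₂ V W₁ (swF η) ν ε) {g : G} (hg1 : g ≠ 1) :
    g ∈ AG S ∨ g ∈ AG T ∨ (∃ y : G, y * g * y⁻¹ ∈ Vset W₁ W₂) ∨
      ∃ N : Subgroup G, IsCoatom N ∧ IsOfTypeI N ∧ g ∈ HG N := by
  by_cases hp : Nat.card W₂ ∣ orderOf g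
  · rcases h.cover hG F hg1 hp with k | k
    · exact Or.inl k
    · exact Or.inr (Or.inr (Or.inl k))
  by_cases hq : Nat.card W₁ ∣ orderOf g
  · rcases h.symm.cover hG F' hg1 hq with k | ⟨y, k1, k2, k3⟩
    · exact Or.inr (Or.inl k)
    · exact Or.inr (Or.inr (Or.inl ⟨y, by rw [sup_comm]; exact k1, k3, k2⟩))
  obtain ⟨N, hN, y, x, hx, hx1, hgx, hxg⟩ := exists_core hG g hg1
  have key : ∀ {S T W₁ W₂ U V : Subgroup G} (_ : IsPair S T W₁ W₂ U V),
      (¬ Nat.card W₂ ∣ orderOf g) → (¬ Nat.card W₁ ∣ orderOf g) →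
      (∃ z, N = cj z S) → g ∈ AG S := by
    rintro S T W₁ W₂ U V h hp hq ⟨z, rfl⟩
    -- move everything into `S`
    have hx' : (z⁻¹ * y) * x * (z⁻¹ * y)⁻¹ ∈ typeCore S := by
      have h1 := hx
      rw [H14.TY.typeCore_eq hG hN, sigmaCore_cj, mem_cj, ← H14.TY.typeCore_eq hG h.hS] at h1
      have e : (z⁻¹ * y) * x * (z⁻¹ * y)⁻¹ = z⁻¹ * (y * x * y⁻¹) * z := by group
      rw [e]; exact h1
    set w := z⁻¹ * y with hw
    have hx1' := conj_ne_one_of (y := w) hx1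
    have hgx' := conj_comm_of (y := w) hgx
    have hg1' := conj_ne_one_of (y := w) hg1
    have hxA : w * x * w⁻¹ ∈ typeA S := A1_sub_A' hG h.hS ⟨hx', hx1'⟩
    have hgS : w * g * w⁻¹ ∈ S := (h.cent_A hG hxA) (mem_cent_singleton.2 hgx')
    have hog : orderOf (w * g * w⁻¹) = orderOf g :=
      orderOf_injective (MulAut.conj w).toMonoidHom (MulAut.conj w).injective g
    have hgS' : w * g * w⁻¹ ∈ ⁅S, S⁆ := by
      refine (le_commutator_of_coprime h.hSP (X := zpowers (w * g * w⁻¹)) ?_ ?_) (mem_zpowers _)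
      · rwa [zpowers_le]
      · rw [Nat.card_zpowers, hog]
        exact ((h.q_prime hG).coprime_iff_not_dvd.2 hq).symm
    refine ⟨w * g * w⁻¹, (h.mem_typeA hG).2 ⟨hgS', hg1', _, hx', hx1', hgx'⟩, w⁻¹, by group⟩
  rcases h.typeI_or_conj hG hN with hI | hz | hz
  · right; right; right
    refine ⟨N, hN, hI, hg1, y, ?_⟩
    have hx1' := conj_ne_one_of (y := y) hx1
    rw [typeCore_I hG hN hI] at hx
    have hgN : y * g * y⁻¹ ∈ N :=
      (h.cent_I hG hN hI hx hx1') (mem_cent_singleton.2 (conj_comm_of hgx))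
    exact row1540 hG hN hI _ hx hx1'
      ⟨hgN, mem_cent_singleton.2 (conj_comm_of hgx)⟩
  · exact Or.inl (key h hp hq hz)
  · exact Or.inr (Or.inl (key h.symm hq hp hz))

include hG in
/-- if `g ∈ H_N#` commutes with `x ≠ 1`, `x` in a conjugate of `M_σ`, then `M` is conjugate to `N` -/
theorem IsPair.HG_comm (h : IsPair S T W₁ W₂ U V) {M : Subgroup G} (hM : IsCoatom M)
    (hN : IsCoatom N) (hI : IsOfTypeI N) {g x : G} (hg : g ∈ HG N) (hx : x ∈ typeCore M)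
    (hx1 : x ≠ 1) (hc : g * x = x * g) : ∃ y : G, N = cj y M := by
  obtain ⟨hg1, y, hy⟩ := hg
  by_contra hcon
  push Not at hcon
  have hg1' := conj_ne_one_of (y := y) hg1
  have h1 : y * x * y⁻¹ ∈ N :=
    (h.cent_I hG hN hI hy hg1') (mem_cent_singleton.2 (conj_comm_of hc).symm)
  have h2 : y * x * y⁻¹ ∈ fittingHallOf N :=
    row1540 hG hN hI _ hy hg1' ⟨h1, mem_cent_singleton.2 (conj_comm_of hc).symm⟩
  rw [← typeCore_I hG hN hI] at h2
  exact core_disj hG hM hN hcon hx hx1 y h2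

include hG in
theorem IsPair.HG_disj (h : IsPair S T W₁ W₂ U V) (hN : IsCoatom N) (hI : IsOfTypeI N)
    (hN' : IsCoatom N') (hI' : IsOfTypeI N') (hnc : ∀ g : G, N' ≠ cj g N) {g : G}
    (hg : g ∈ HG N) : g ∉ HG N' := by
  intro hg'
  obtain ⟨hg1, y, hy⟩ := hg'
  obtain ⟨z, hz⟩ := h.HG_comm hG (M := N') hN' hN hI (x := y * g * y⁻¹)
    (g := y * g * y⁻¹) ⟨conj_ne_one_of hg1, by
      obtain ⟨-, w, hw⟩ := hg
      exact ⟨w * y⁻¹, by
        have e : w * y⁻¹ * (y * g * y⁻¹) * (w * y⁻¹)⁻¹ = w * g * w⁻¹ := by group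
        rw [e]; exact hw⟩⟩ (by rw [typeCore_I hG hN' hI']; exact hy) (conj_ne_one_of hg1) rfl
  apply hnc z⁻¹
  rw [hz, L.cj_inv_cj]

include hG in
theorem IsPair.HG_disj_S (h : IsPair S T W₁ W₂ U V) (hN : IsCoatom N) (hI : IsOfTypeI N) {g : G}
    (hg : g ∈ HG N) (m : G) : m * g * m⁻¹ ∉ typeA0 S := by
  intro hA
  have hg' : m * g * m⁻¹ ∈ HG N := by
    obtain ⟨hg1, w, hw⟩ := hg
    refine ⟨conj_ne_one_of hg1, w * m⁻¹, ?_⟩
    have e : w * m⁻¹ * (m * g * m⁻¹) * (w * m⁻¹)⁻¹ = w * g * w⁻¹ := by group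
    rw [e]; exact hw
  have hne : ¬ ∃ y : G, N = cj y S := by
    rintro ⟨y, rfl⟩
    exact not_wtypeI_of_P hG hN (isTypePWith_cj y h.hSP) (H2.WTypeI.of_typeI hI)
  rcases hA with hA | ⟨-, A₁, B, A₂, hP, s, hs, w, hw, hw1, hw2, e⟩
  · obtain ⟨-, -, x, hx, hx1, hc⟩ := (h.mem_typeA hG).1 hA
    exact hne (h.HG_comm hG h.hS hN hI hg' hx hx1 hc)
  · obtain ⟨w₁, hw₁, w₂, hw₂, ew⟩ := mem_W hP.selfNormalizing hw
    have hw₂1 : w₂ ≠ 1 := by
      rintro rfl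
      rw [mul_one] at ew
      exact hw1 (by rw [ew]; exact hw₁)
    have hc : w * w₂ = w₂ * w := by
      rw [ew]
      have := hP.selfNormalizing.2.2.2.1 w₁ hw₁ w₂ hw₂
      calc w₁ * w₂ * w₂ = (w₁ * w₂) * w₂ := by group
        _ = (w₂ * w₁) * w₂ := by rw [this]
        _ = w₂ * (w₁ * w₂) := by group
    refine hne (h.HG_comm hG h.hS hN hI hg' (x := s * w₂ * s⁻¹) ?_ (conj_ne_one_of hw₂1) ?_)
    · apply h.P_le_core hG
      exact (mem_normalizer_iff.1 (le_normalizer_fhOf S hs) w₂).1 (hP.W₂_le_H hw₂)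
    · rw [e]; exact conj_comm_of hc

end Cfsg.Agent.PF
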