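import Cfsg.Agent.PF.IrrField
import Cfsg.Agent.L.SylIn
import Cfsg.Agent.H21.FHall
import Cfsg.Prelude.Def_OddOrderLocal
import Cfsg.Prelude.Def_Transfer
import Mathlib.FieldTheory.Finite.GaloisField

/-! The field lemma (end of S1544): a one dimensional semilinear description of `P` and `U`. (helper6) -/

set_option autoImplicit false

namespace Cfsg.Agent.PF

open Subgroup
open Cfsg.Agent.L (nz)

universe u v

section
variable {A : Type u} {ι : Type v} [AddCommGroup A] [Finite A] [Nontrivial A]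
  (c : ι → AddMonoid.End A)

theorem field_abs (hcomm : ∀ i j, c i * c j = c j * c i)
    (hirr : ∀ X : AddSubgroup A, (∀ i, ∀ x ∈ X, c i x ∈ X) → X = ⊥ ∨ X = ⊤)
    {p n : ℕ} (hp : p.Prime) (hn : n ≠ 0) (hA : Nat.card A = p ^ n) {a : A} (ha : a ≠ 0) :
    ∃ (F : Type) (_ : Field F) (_ : Fintype F) (e : A ≃+ F) (ψ : ι → F),
      Fintype.card F = p ^ n ∧ CharP F p ∧ e a = 1 ∧ ∀ i x, e (c i x) = ψ i * e x := by
  classical
  have hpF : Fact p.Prime := ⟨hp⟩
  have hF := genRing_isField c hcomm hirr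
  let _ : Field (genRing c) := hF.toField
  have : Finite (AddMonoid.End A) :=
    Finite.of_injective (fun f : AddMonoid.End A => (f : A → A)) DFunLike.coe_injective
  have hfin : Finite (genRing c) := inferInstance
  let _ : Fintype (genRing c) := Fintype.ofFinite _
  have hKcard : Nat.card (genRing c) = p ^ n := by
    rw [genRing_card c hcomm hirr, ← hA]
  let _ : Fintype (GaloisField p n) := Fintype.ofFinite _
  have hcc : Fintype.card (genRing c) = Fintype.card (GaloisField p n) := by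
    rw [← Nat.card_eq_fintype_card, ← Nat.card_eq_fintype_card, GaloisField.card p n hn, hKcard]
  let E : genRing c ≃+* GaloisField p n := FiniteField.ringEquivOfCardEq hcc
  let ev : genRing c →+ A :=
    { toFun := fun s => s.1 a
      map_zero' := rfl
      map_add' := fun s t => rfl }
  have hev : Function.Bijective ev := by
    constructor
    · rw [injective_iff_map_eq_zero]
      intro s hs
      by_contra h0
      exact ha (genRing_inj c hcomm hirr s.2 (fun h => h0 (Subtype.ext h)) hs)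
    · intro b
      obtain ⟨s, hs, hsb⟩ := genRing_surj c hirr ha b
      exact ⟨⟨s, hs⟩, hsb⟩
  let e0 : genRing c ≃+ A := AddEquiv.ofBijective ev hev
  have he0 : ∀ s, e0 s = s.1 a := fun s => rfl
  refine ⟨GaloisField p n, inferInstance, inferInstance, e0.symm.trans E.toAddEquiv,
    fun i => E ⟨c i, Subring.subset_closure ⟨i, rfl⟩⟩, ?_, inferInstance, ?_, ?_⟩
  · rw [← hcc, ← hKcard, Nat.card_eq_fintype_card]
  · have h1 : e0.symm a = 1 := by
      rw [AddEquiv.symm_apply_eq, he0]; rfl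
    change E (e0.symm a) = 1
    rw [h1, map_one]
  · intro i x
    change E (e0.symm (c i x)) = E _ * E (e0.symm x)
    rw [← map_mul]
    congr 1
    rw [AddEquiv.symm_apply_eq, he0]
    obtain ⟨s, rfl⟩ := e0.surjective x
    rw [AddEquiv.symm_apply_apply, he0]
    rfl

end

variable {G : Type u} [Group G]

/-- the elements `y` with `y^p = y` in characteristic `p` are the multiples of `1`. -/
theorem exists_nat_of_pow_eq {F : Type} [Field F] [Fintype F] {p : ℕ} [Fact p.Prime] [CharP F p] {y : F} (h : y ^ p = y) :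
    ∃ k : ℕ, y = k := by
  classical
  by_contra hne
  push Not at hne
  have hp : p.Prime := Fact.out
  let S : Finset F := (Finset.range p).image (fun k : ℕ => (k : F))
  have hS : S.card = p := by
    rw [Finset.card_image_of_injOn, Finset.card_range]
    intro a ha b hb hab
    have ha' := Finset.mem_range.1 ha
    have hb' := Finset.mem_range.1 hb
    exact CharP.natCast_injOn_Iio F p ha' hb' hab
  have hyS : y ∉ S := by
    intro hy
    obtain ⟨k, -, hk⟩ := Finset.mem_image.1 hy
    exact hne k hk.symm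
  let f : Polynomial F := Polynomial.X ^ p - Polynomial.X
  have hf : f ≠ 0 := FiniteField.X_pow_card_sub_X_ne_zero F hp.one_lt
  have hdeg : f.natDegree = p := FiniteField.X_pow_card_sub_X_natDegree_eq F hp.one_lt
  have hsub : insert y S ⊆ f.roots.toFinset := by
    intro z hz
    rw [Multiset.mem_toFinset, Polynomial.mem_roots hf]
    change Polynomial.eval z (Polynomial.X ^ p - Polynomial.X) = 0
    rw [Polynomial.eval_sub, Polynomial.eval_pow, Polynomial.eval_X, sub_eq_zero]
    rcases Finset.mem_insert.1 hz with rfl | hz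
    · exact h
    · obtain ⟨k, -, rfl⟩ := Finset.mem_image.1 hz
      have := map_natCast (frobenius F p) k
      rw [frobenius_def] at this
      exact this
  have h1 := Finset.card_le_card hsub
  rw [Finset.card_insert_of_notMem hyS, hS] at h1
  have h2 := Multiset.toFinset_card_le f.roots
  have h3 := Polynomial.card_roots' f
  omega

/-- abstract form of the field lemma -/
theorem field_lemma' [Finite G] {P U W : Subgroup G} {n : ℕ} (hp : (Nat.card W).Prime) (hn : n ≠ 0)
    (hcard : Nat.card P = Nat.card W ^ n) (hel : IsElementaryAbelian (Nat.card W) P)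
    (hUP : U ≤ nz P) (hUc : ∀ u ∈ U, ∀ u' ∈ U, u * u' = u' * u)
    (hC : U ⊓ centralizer (P : Set G) = ⊥) (hW : W ≤ P)
    (hgal : ∀ X : Subgroup G, X ≤ P → U ≤ nz X → X = ⊥ ∨ X = P) :
    ∃ (F : Type) (_ : Field F) (_ : Fintype F) (f : G → F) (ψ : G → F),
      Fintype.card F = Nat.card W ^ n ∧ Set.BijOn f (P : Set G) Set.univ ∧
      (∀ x ∈ P, ∀ x' ∈ P, f (x * x') = f x + f x') ∧
      (∀ u ∈ U, ψ u ≠ 0 ∧ ∀ x ∈ P, f (u * x * u⁻¹) = ψ u * f x) ∧
      (∀ u ∈ U, ∀ u' ∈ U, ψ (u * u') = ψ u * ψ u') ∧ Set.InjOn ψ (U : Set G) ∧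
      (∀ x ∈ P, x ∈ W ↔ f x ^ Nat.card W = f x) := by
  classical
  have hc : ∀ x ∈ P, ∀ y ∈ P, x * y = y * x := fun x hx y hy =>
    congrArg Subtype.val (hel.1.is_comm.comm ⟨x, hx⟩ ⟨y, hy⟩)
  let _ : CommGroup P := { (inferInstance : Group P) with mul_comm := fun a b => Subtype.ext (hc a a.2 b b.2) }
  have hcj : ∀ u ∈ U, ∀ x ∈ P, u * x * u⁻¹ ∈ P := fun u hu x hx => (Subgroup.mem_normalizer_iff.1 (hUP hu) x).1 hx
  let c : U → AddMonoid.End (Additive P) := fun u =>
    { toFun := fun x => Additive.ofMul ⟨u * (x.toMul : P) * (u : G)⁻¹, hcj u u.2 _ x.toMul.2⟩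
      map_zero' := by
        apply Additive.toMul.injective
        apply Subtype.ext
        change (u : G) * 1 * (u : G)⁻¹ = 1
        group
      map_add' := fun x y => by
        apply Additive.toMul.injective
        apply Subtype.ext
        change (u : G) * ((x.toMul : P) * (y.toMul : P)) * (u : G)⁻¹ =
          (u * (x.toMul : P) * (u : G)⁻¹) * (u * (y.toMul : P) * (u : G)⁻¹)
        group }
  have hcv : ∀ (u : U) (x : Additive P), (((c u x).toMul : P) : G) = u * (x.toMul : P) * (u : G)⁻¹ := fun u x => rfl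
  have hcomm : ∀ i j, c i * c j = c j * c i := by
    intro i j
    refine AddMonoidHom.ext fun x => ?_
    apply Additive.toMul.injective
    refine Subtype.ext ?_
    change (((c i (c j x)).toMul : P) : G) = (((c j (c i x)).toMul : P) : G)
    rw [hcv, hcv, hcv, hcv]
    have h1 := hUc i i.2 j j.2
    calc _ = ((i : G) * j) * (x.toMul : P) * ((i : G) * j)⁻¹ := by group
      _ = ((j : G) * i) * (x.toMul : P) * ((j : G) * i)⁻¹ := by rw [h1]
      _ = _ := by group
  have h1c : 1 < Nat.card P := by rw [hcard]; exact Nat.one_lt_pow hn hp.one_lt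
  have hnt : Nontrivial P := (Finite.one_lt_card_iff_nontrivial).1 h1c
  have hirr : ∀ X : AddSubgroup (Additive P), (∀ i, ∀ x ∈ X, c i x ∈ X) → X = ⊥ ∨ X = ⊤ := by
    intro X hX
    let Y : Subgroup P := AddSubgroup.toSubgroup X
    have hZ : U ≤ nz (Y.map P.subtype) := by
      have key : ∀ u ∈ U, ∀ y ∈ Y.map P.subtype, u * y * u⁻¹ ∈ Y.map P.subtype := by
        rintro u hu _ ⟨y, hy, rfl⟩
        exact ⟨⟨u * y * u⁻¹, hcj u hu y y.2⟩, hX ⟨u, hu⟩ (Additive.ofMul y) hy, rfl⟩
      intro u hu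
      rw [Subgroup.mem_normalizer_iff]
      intro y
      refine ⟨key u hu y, fun h => ?_⟩
      have := key u⁻¹ (inv_mem hu) _ h
      convert this using 1
      group
    rcases hgal (Y.map P.subtype) (Subgroup.map_subtype_le Y) hZ with h | h
    · left
      rw [eq_bot_iff]
      intro x hx
      have : ((x.toMul : P) : G) ∈ Y.map P.subtype := ⟨x.toMul, hx, rfl⟩
      rw [h, Subgroup.mem_bot] at this
      exact (congrArg Additive.ofMul (Subtype.ext this : (x.toMul : P) = 1) : _)
    · right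
      rw [eq_top_iff]
      intro x _
      have : ((x.toMul : P) : G) ∈ Y.map P.subtype := by rw [h]; exact x.toMul.2
      obtain ⟨y, hy, hyx⟩ := this
      have hyx' : y = x.toMul := Subtype.ext hyx
      rw [hyx'] at hy
      exact hy
  have hWne : ∃ w : P, (w : G) ∈ W ∧ w ≠ 1 := by
    have : Nontrivial W := (Finite.one_lt_card_iff_nontrivial).1 hp.one_lt
    obtain ⟨w, hw⟩ := exists_ne (1 : W)
    exact ⟨⟨w, hW w.2⟩, w.2, fun h => hw (by
      have h2 := Subtype.ext_iff.1 h
      exact Subtype.ext h2)⟩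
  obtain ⟨w, hwW, hw1⟩ := hWne
  have hw1' : (⟨(w : G), hwW⟩ : W) ≠ 1 := by
    intro h
    have h2 : (w : G) = 1 := Subtype.ext_iff.1 h
    exact hw1 (Subtype.ext h2)
  obtain ⟨F, iF, iFi, e, ψ, hcF, hch, hea, hec⟩ := field_abs c hcomm hirr (n := n) hp hn
    (by rw [← hcard]; rfl) (a := Additive.ofMul w) (fun h => hw1 (congrArg Additive.toMul h))
  obtain ⟨p, hpe⟩ : ∃ p, p = Nat.card W := ⟨_, rfl⟩
  have hpF : Fact p.Prime := ⟨hpe ▸ hp⟩
  have hch' : CharP F p := hpe ▸ hch
  let f : G → F := fun g => if h : g ∈ P then e (Additive.ofMul ⟨g, h⟩) else 0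
  let ψ' : G → F := fun g => if h : g ∈ U then ψ ⟨g, h⟩ else 0
  have hf : ∀ (g : G) (h : g ∈ P), f g = e (Additive.ofMul ⟨g, h⟩) := fun g h => dif_pos h
  have hψ : ∀ (g : G) (h : g ∈ U), ψ' g = ψ ⟨g, h⟩ := fun g h => dif_pos h
  have hact : ∀ u ∈ U, ∀ x ∈ P, f (u * x * u⁻¹) = ψ' u * f x := by
    intro u hu x hx
    rw [hf _ (hcj u hu x hx), hf x hx, hψ u hu, ← hec]
    rfl
  have hinj : ∀ x ∈ P, ∀ y ∈ P, f x = f y → x = y := by
    intro x hx y hy h
    rw [hf x hx, hf y hy] at h
    exact congrArg Subtype.val (congrArg Additive.toMul (e.injective h))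
  have hfw : f w = 1 := by rw [hf _ w.2]; exact hea
  have hψw : ∀ u ∈ U, ψ' u = f (u * w * u⁻¹) := by
    intro u hu
    rw [hact u hu w w.2, hfw, mul_one]
  have hψ1 : ∀ u ∈ U, ∀ v ∈ U, ψ' u = ψ' v → u = v := by
    intro u hu v hv h
    have h1 : ∀ x ∈ P, u * x * u⁻¹ = v * x * v⁻¹ := fun x hx =>
      hinj _ (hcj u hu x hx) _ (hcj v hv x hx) (by rw [hact u hu x hx, hact v hv x hx, h])
    have h2 : v⁻¹ * u ∈ U ⊓ centralizer (P : Set G) := by
      refine Subgroup.mem_inf.2 ⟨mul_mem (inv_mem hv) hu, ?_⟩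
      rw [Subgroup.mem_centralizer_iff]
      intro x hx
      have h3 := h1 x hx
      calc x * (v⁻¹ * u) = v⁻¹ * (v * x * v⁻¹) * u := by group
        _ = v⁻¹ * (u * x * u⁻¹) * u := by rw [h3]
        _ = v⁻¹ * u * x := by group
    rw [hC, Subgroup.mem_bot] at h2
    exact (inv_mul_eq_one.1 h2).symm
  refine ⟨F, iF, iFi, f, ψ', hcF, ⟨fun _ _ => Set.mem_univ _, fun x hx y hy h => hinj x hx y hy h, ?_⟩, ?_, ?_, ?_,
    fun u hu v hv h => hψ1 u hu v hv h, ?_⟩
  · intro y _
    obtain ⟨x, hx⟩ := e.surjective y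
    exact ⟨(x.toMul : P), x.toMul.2, by rw [hf _ x.toMul.2]; exact hx⟩
  · intro x hx x' hx'
    rw [hf _ (mul_mem hx hx'), hf x hx, hf x' hx', ← map_add]
    rfl
  · intro u hu
    refine ⟨?_, hact u hu⟩
    intro h0
    have h1 := hψw u hu
    rw [h0] at h1
    have h2 : f 1 = 0 := by rw [hf 1 (one_mem P)]; exact map_zero e
    have h3 := hinj _ (hcj u hu w w.2) 1 (one_mem P) (by rw [h2, ← h1])
    apply hw1
    apply Subtype.ext
    have h4 : (w : G) = u⁻¹ * (u * w * u⁻¹) * u := by group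
    rw [h4, h3]
    change u⁻¹ * 1 * u = 1
    group
  · intro u hu u' hu'
    rw [hψw _ (mul_mem hu hu'), hψw u' hu', ← hact u hu _ (hcj u' hu' w w.2)]
    congr 1
    group
  · have hpow : ∀ k : ℕ, f ((w : G) ^ k) = k := by
      intro k
      induction k with
      | zero => rw [pow_zero, Nat.cast_zero, hf 1 (one_mem P)]; exact map_zero e
      | succ k ih =>
        have h1 : f ((w : G) ^ k * w) = f ((w : G) ^ k) + f w := by
          rw [hf _ (mul_mem (pow_mem w.2 k) w.2), hf _ (pow_mem w.2 k), hf _ w.2, ← map_add]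
          rfl
        rw [pow_succ, h1, ih, hfw, Nat.cast_succ]
    intro x hx
    rw [← hpe]
    constructor
    · intro hxW
      have hord : orderOf (⟨w, hwW⟩ : W) = Nat.card W := by
        rcases (Nat.dvd_prime hp).1 (orderOf_dvd_natCard (⟨w, hwW⟩ : W)) with h | h
        · rw [orderOf_eq_one_iff] at h
          exact absurd h hw1'
        · exact h
      have h1 := mem_powers_of_prime_card (G := W) (p := Nat.card W) (hp := ⟨hp⟩) rfl
        (g := ⟨w, hwW⟩) (g' := ⟨x, hxW⟩) hw1'
      obtain ⟨k, hk⟩ := h1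
      have h2 : (w : G) ^ k = x := congrArg Subtype.val hk
      rw [← h2, hpow]
      have := map_natCast (frobenius F p) k
      rw [frobenius_def] at this
      exact this
    · intro h
      obtain ⟨k, hk⟩ := exists_nat_of_pow_eq (p := p) h
      rw [← hpow k] at hk
      rw [hinj x hx _ (pow_mem w.2 k) hk]
      exact pow_mem hwW k

/-- the field lemma -/
theorem field_lemma [Finite G] {S W₁ U W₂ : Subgroup G} (hP : IsTypePWith S W₁ U W₂)
    (hp : (Nat.card W₂).Prime) (hq : (Nat.card W₁).Prime)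
    (hcard : Nat.card (fittingHallOf S) = Nat.card W₂ ^ Nat.card W₁)
    (hel : IsElementaryAbelian (Nat.card W₂) (fittingHallOf S))
    (hUc : IsMulCommutative U) (hC : U ⊓ centralizer (fittingHallOf S : Set G) = ⊥)
    (hgal : ∀ X : Subgroup G, X ≤ fittingHallOf S → U ≤ nz X → X = ⊥ ∨ X = fittingHallOf S) :
    ∃ (F : Type) (_ : Field F) (_ : Fintype F) (f : G → F) (ψ : G → F),
      Fintype.card F = Nat.card W₂ ^ Nat.card W₁ ∧
      Set.BijOn f (fittingHallOf S : Set G) Set.univ ∧
      (∀ x ∈ fittingHallOf S, ∀ x' ∈ fittingHallOf S, f (x * x') = f x + f x') ∧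
      (∀ u ∈ U, ψ u ≠ 0 ∧ ∀ x ∈ fittingHallOf S, f (u * x * u⁻¹) = ψ u * f x) ∧
      (∀ u ∈ U, ∀ u' ∈ U, ψ (u * u') = ψ u * ψ u') ∧ Set.InjOn ψ (U : Set G) ∧
      (∀ x ∈ fittingHallOf S, x ∈ W₂ ↔ f x ^ Nat.card W₂ = f x) := by
  refine field_lemma' hp hq.ne_zero hcard hel ?_ (fun u hu u' hu' =>
    congrArg Subtype.val (hUc.is_comm.comm ⟨u, hu⟩ ⟨u', hu'⟩)) hC (hP.W₂_le.trans inf_le_left) hgal
  have h1 : U ≤ S := hP.U_compl.2.1.trans (Subgroup.commutator_le_self S)
  exact h1.trans (Cfsg.Agent.H21.le_normalizer_fhOf S)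

/-- `U` is cyclic and acts freely -/
theorem field_cyclic_free [Finite G] {S W₁ U W₂ : Subgroup G} (hP : IsTypePWith S W₁ U W₂)
    (hp : (Nat.card W₂).Prime) (hq : (Nat.card W₁).Prime)
    (hcard : Nat.card (fittingHallOf S) = Nat.card W₂ ^ Nat.card W₁)
    (hel : IsElementaryAbelian (Nat.card W₂) (fittingHallOf S))
    (hUc : IsMulCommutative U) (hC : U ⊓ centralizer (fittingHallOf S : Set G) = ⊥)
    (hgal : ∀ X : Subgroup G, X ≤ fittingHallOf S → U ≤ nz X → X = ⊥ ∨ X = fittingHallOf S) :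
    IsCyclic U ∧ ∀ u ∈ U, u ≠ 1 → ∀ x ∈ fittingHallOf S, u * x = x * u → x = 1 := by
  obtain ⟨F, iF, iFi, f, ψ, hcF, hbij, hadd, hact, hmul, hinj, -⟩ :=
    field_lemma hP hp hq hcard hel hUc hC hgal
  have h11 : ψ 1 = 1 := by
    have h1 := hmul 1 (one_mem U) 1 (one_mem U)
    rw [mul_one] at h1
    have h2 := (hact 1 (one_mem U)).1
    exact (mul_left_cancel₀ h2 (by rw [← h1, mul_one])).symm
  constructor
  · let g : U →* F := { toFun := fun u => ψ u, map_one' := h11, map_mul' := fun u v => hmul u u.2 v v.2 }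
    exact isCyclic_of_subgroup_isDomain g (fun a b h => Subtype.ext (hinj a.2 b.2 h))
  · intro u hu hu1 x hx hux
    have hP1 : u * x * u⁻¹ = x := by rw [hux]; group
    have h1 := (hact u hu).2 x hx
    rw [hP1] at h1
    have h2 : (ψ u - 1) * f x = 0 := by rw [sub_mul, one_mul, ← h1, sub_self]
    have h0 : f 1 = 0 := by
      have := hadd 1 (one_mem _) 1 (one_mem _)
      rw [mul_one] at this
      exact left_eq_add.1 this
    rcases mul_eq_zero.1 h2 with h3 | h3
    · exact absurd (hinj hu (one_mem U) (by rw [h11]; exact sub_eq_zero.1 h3)) hu1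
    · exact hbij.2.1 hx (one_mem _) (by rw [h3, h0])

end Cfsg.Agent.PF
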