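import Cfsg.Agent.PF.AppC
import Cfsg.Agent.PF.Data
import Cfsg.Agent.OOT.Base

set_option autoImplicit false

/-! The Odd Order Theorem from rows 1385, 1541 and 1544 (as hypotheses). -/

namespace Cfsg.Agent.PF

open Subgroup
open Cfsg.Agent.L (cj nz SylIn)
open Cfsg.Agent.OOT
open Cfsg.Agent.H21

universe u
variable {G : Type u} [Group G]

theorem isSNC_symm {W₁ W₂ : Subgroup G} (h : IsSelfNormalizingCyclic W₁ W₂) :
    IsSelfNormalizingCyclic W₂ W₁ := by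
  obtain ⟨h1, h2, h3, h4, h5, h6⟩ := h
  refine ⟨h2, h1, by rw [inf_comm]; exact h3, fun a ha b hb => (h4 b hb a ha).symm,
    by rw [sup_comm]; exact h5, ?_⟩
  intro X hX hne
  rw [sup_comm, Set.union_comm] at hX
  rw [sup_comm]
  exact h6 X hX hne

/-- In a cyclic group, subgroups with trivial intersection have coprime orders. -/
theorem coprime_of_cyclic [Finite G] {A B : Subgroup G} (h : A ⊓ B = ⊥) (hc : IsCyclic ↥(A ⊔ B)) :
    (Nat.card A).Coprime (Nat.card B) := by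
  classical
  letI : Fintype ↥(A ⊔ B) := Fintype.ofFinite _
  by_contra hcon
  obtain ⟨r, hr, hrA, hrB⟩ := Nat.Prime.not_coprime_iff_dvd.1 hcon
  haveI : Fact r.Prime := ⟨hr⟩
  obtain ⟨a, ha⟩ := exists_prime_orderOf_dvd_card' r hrA
  obtain ⟨b, hb⟩ := exists_prime_orderOf_dvd_card' r hrB
  let a' : ↥(A ⊔ B) := ⟨a, le_sup_left (a := A) (b := B) a.2⟩
  let b' : ↥(A ⊔ B) := ⟨b, le_sup_right (a := A) (b := B) b.2⟩
  have ha' : orderOf a' = r := by
    rw [← ha, ← Subgroup.orderOf_coe a, ← Subgroup.orderOf_coe a']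
  have hb' : orderOf b' = r := by
    rw [← hb, ← Subgroup.orderOf_coe b, ← Subgroup.orderOf_coe b']
  have h1 : (Finset.univ.filter fun x : ↥(A ⊔ B) => x ^ r = 1).card ≤ r :=
    IsCyclic.card_pow_eq_one_le hr.pos
  have h2 : (Finset.univ.filter fun x : ↥(A ⊔ B) => x ∈ Subgroup.zpowers a').card = r := by
    rw [← Fintype.card_subtype, ← Nat.card_eq_fintype_card, ← ha']
    exact Nat.card_zpowers a'
  have h3 : (Finset.univ.filter fun x : ↥(A ⊔ B) => x ∈ Subgroup.zpowers a') ⊆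
      (Finset.univ.filter fun x : ↥(A ⊔ B) => x ^ r = 1) := by
    intro x hx
    rw [Finset.mem_filter] at hx ⊢
    refine ⟨Finset.mem_univ _, ?_⟩
    rw [← orderOf_dvd_iff_pow_eq_one, ← ha']
    exact orderOf_dvd_of_mem_zpowers hx.2
  have h4 := Finset.eq_of_subset_of_card_le h3 (by rw [h2]; exact h1)
  have h5 : b' ∈ Subgroup.zpowers a' := by
    have : b' ∈ (Finset.univ.filter fun x : ↥(A ⊔ B) => x ^ r = 1) := by
      rw [Finset.mem_filter]
      exact ⟨Finset.mem_univ _, by rw [← hb', pow_orderOf_eq_one]⟩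
    rw [← h4, Finset.mem_filter] at this
    exact this.2
  obtain ⟨n, hn⟩ := Subgroup.mem_zpowers_iff.1 h5
  have h6 : (b : G) ∈ A := by
    have : ((a' ^ n : ↥(A ⊔ B)) : G) = b' := congrArg Subtype.val hn
    have h7 : ((a' ^ n : ↥(A ⊔ B)) : G) = (a : G) ^ n := by simp [a']
    rw [h7] at this
    change (a : G) ^ n = (b : G) at this
    rw [← this]
    exact Subgroup.zpow_mem _ a.2 n
  have h7 : (b : G) ∈ A ⊓ B := ⟨h6, b.2⟩
  rw [h, Subgroup.mem_bot] at h7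
  have h8 : b = 1 := Subtype.ext h7
  rw [h8, orderOf_one] at hb
  exact hr.one_lt.ne hb

variable [Finite G]

/-- The type-P data of `S` can be chosen with the given `W₁`, `W₂`. -/
theorem data_of {S W₁ W₂ : Subgroup G} (hs : Group.IsSolvable S)
    (hself : IsSelfNormalizingCyclic W₁ W₂) (hc : IsComplIn ⁅S, S⁆ W₁ S) (hW : W₁ ⊔ W₂ ≤ S)
    (hP : IsOfTypeP S) : ∃ U, IsTypePWith S W₁ U W₂ := by
  obtain ⟨A₁, B, A₂, h⟩ := hP
  have hcard : Nat.card A₁ = Nat.card W₁ := by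
    have := h.card_M.trans (complIn_card hc).symm
    exact Nat.eq_of_mul_eq_mul_left Nat.card_pos this
  have a1 : IsPiHallOf {p | p ∣ Nat.card A₁} W₁ S := by
    refine ⟨hc.2.1, fun p _ hd => by rw [Set.mem_setOf_eq, hcard]; exact hd, fun p hp hd hi => ?_⟩
    rw [complIn_relIndex_right hc] at hi
    exact hp.one_lt.ne' (Nat.eq_one_of_dvd_coprimes h.coprime_W₁ hd hi)
  obtain ⟨m, hm, e1⟩ := IsPiHallOf.conj hs a1 h.W₁_isPiHall
  have hm' := isTypePWith_cj m h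
  rw [L.cj_eq_self_of_mem hm, e1] at hm'
  obtain ⟨x, hx, hx1⟩ := exists_ne_one hm'.W₁_ne
  obtain ⟨z, hz, hz1⟩ := exists_ne_one hself.2.1
  have hcop := coprime_of_cyclic hself.2.2.1 hself.2.2.2.2.1
  -- W₂ ≤ S'
  have hW₂' : W₂ ≤ ⁅S, S⁆ := by
    intro b hb
    have hbS : b ∈ S := hW (le_sup_right (a := W₁) (b := W₂) hb)
    have hn : ((⁅S, S⁆ : Subgroup G).subgroupOf S).Normal :=
      Subgroup.normal_subgroupOf_of_le_normalizer (le_nz_commutator S)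
    have hidx : ((⁅S, S⁆ : Subgroup G).subgroupOf S).index = Nat.card W₁ := by
      have := complIn_relIndex_left hc
      exact this
    have h1 : (⟨b, hbS⟩ : S) ^ Nat.card W₁ ∈ (⁅S, S⁆ : Subgroup G).subgroupOf S := by
      rw [← hidx]
      exact Subgroup.pow_index_mem _ _
    have h2 : b ^ Nat.card W₁ ∈ ⁅S, S⁆ := h1
    have h3 : b ^ Nat.card W₂ = 1 := by
      have : (⟨b, hb⟩ : W₂) ^ Nat.card W₂ = 1 := pow_card_eq_one'
      exact congrArg Subtype.val this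
    have hbez := Nat.gcd_eq_gcd_ab (Nat.card W₁) (Nat.card W₂)
    rw [hcop.gcd_eq_one] at hbez
    have h4 : b = (b ^ Nat.card W₁) ^ (Nat.gcdA (Nat.card W₁) (Nat.card W₂)) := by
      conv_lhs => rw [← zpow_one b, show (1 : ℤ) = ((1 : ℕ) : ℤ) from rfl, hbez, zpow_add,
        zpow_mul, zpow_mul, zpow_natCast, zpow_natCast, h3, one_zpow, mul_one]
    rw [h4]
    exact Subgroup.zpow_mem _ h2 _
  have hcomm := hself.2.2.2.1
  have hW₂X : W₂ ≤ cj m A₂ := by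
    intro b hb
    rw [← hm'.W₂_centralizer x hx hx1]
    refine ⟨hW₂' hb, ?_⟩
    refine Subgroup.mem_centralizer_iff.2 ?_
    rintro _ rfl
    exact hcomm _ hx b hb
  -- the element x * z
  have hv1 : x * z ∉ W₁ := by
    intro h0
    have h1 : z ∈ W₁ ⊓ W₂ := ⟨(Subgroup.mul_mem_cancel_left W₁ hx).1 h0, hz⟩
    rw [hself.2.2.1, Subgroup.mem_bot] at h1
    exact hz1 h1
  have hv2 : x * z ∉ W₂ := by
    intro h0
    have h1 : x ∈ W₁ ⊓ W₂ := ⟨hx, (Subgroup.mul_mem_cancel_right W₂ hz).1 h0⟩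
    rw [hself.2.2.1, Subgroup.mem_bot] at h1
    exact hx1 h1
  have hv3 : x * z ∉ cj m A₂ := by
    intro h0
    have h1 : x ∈ W₁ ⊓ cj m A₂ := ⟨hx, (Subgroup.mul_mem_cancel_right _ (hW₂X hz)).1 h0⟩
    rw [hm'.selfNormalizing.2.2.1, Subgroup.mem_bot] at h1
    exact hx1 h1
  have n1 := hself.2.2.2.2.2 {x * z} (by
    rintro _ rfl
    refine ⟨mul_mem (le_sup_left (a := W₁) (b := W₂) hx) (le_sup_right (a := W₁) (b := W₂) hz), ?_⟩
    rintro (h | h)
    · exact hv1 h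
    · exact hv2 h) (Set.singleton_nonempty _)
  have n2 := hm'.selfNormalizing.2.2.2.2.2 {x * z} (by
    rintro _ rfl
    refine ⟨mul_mem (le_sup_left (a := W₁) (b := cj m A₂) hx)
      (le_sup_right (a := W₁) (b := cj m A₂) (hW₂X hz)), ?_⟩
    rintro (h | h)
    · exact hv1 h
    · exact hv3 h) (Set.singleton_nonempty _)
  have hXW : cj m A₂ ≤ W₁ ⊔ W₂ := by
    rw [← n1, n2]; exact le_sup_right
  have hX : cj m A₂ = W₂ := by
    apply le_antisymm _ hW₂X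
    intro b hb
    have hb' := hXW hb
    obtain ⟨a, ha, c, hc', rfl⟩ : ∃ a ∈ W₁, ∃ c ∈ W₂, a * c = b := by
      haveI hn : W₁ ≤ Subgroup.normalizer (W₂ : Set G) := by
        intro a ha
        rw [Subgroup.mem_normalizer_iff]
        intro n
        constructor
        · intro hn; rw [hcomm a ha n hn]; simpa using hn
        · intro hn
          have := hcomm a ha _ hn
          have h2 : a * n * a⁻¹ = n := by
            have h3 : a * (a * n * a⁻¹) = a * n := by rw [this]; group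
            exact mul_left_cancel h3
          rwa [h2] at hn
      have := Subgroup.sup_eq_closure_mul W₁ W₂
      have h5 := Subgroup.coe_mul_of_left_le_normalizer_right W₁ W₂ hn
      rw [← SetLike.mem_coe, h5] at hb'
      obtain ⟨a, ha, c, hc, e⟩ := hb'
      exact ⟨a, ha, c, hc, e⟩
    have h1 : a ∈ W₁ ⊓ cj m A₂ := ⟨ha, (Subgroup.mul_mem_cancel_right _ (hW₂X hc')).1 hb⟩
    rw [hm'.selfNormalizing.2.2.1, Subgroup.mem_bot] at h1
    rw [h1, one_mul]; exact hc'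
  rw [hX] at hm'
  exact ⟨_, hm'⟩

theorem typeP_of_types {S : Subgroup G}
    (h : IsOfTypeII S ∨ IsOfTypeIII S ∨ IsOfTypeIV S ∨ IsOfTypeV S) : IsOfTypeP S := by
  rcases h with h | h | h | h <;>
  · obtain ⟨W₁, U, W₂, h, _⟩ := h
    exact ⟨W₁, U, W₂, h⟩

theorem no_min_simple (hG : IsMinSimpleOddOrder G)
    (h1385 : (∀ M : Subgroup G, IsCoatom M → Cfsg.IsOfTypeI M) ∨
      ∃ W₁ W₂ S T : Subgroup G, Cfsg.IsSelfNormalizingCyclic W₁ W₂ ∧ IsCoatom S ∧ IsCoatom T ∧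
        Cfsg.IsComplIn ⁅S, S⁆ W₁ S ∧ Cfsg.IsComplIn ⁅T, T⁆ W₂ T ∧ S ⊓ T = W₁ ⊔ W₂ ∧
        (Cfsg.IsOfTypeII S ∨ Cfsg.IsOfTypeII T) ∧
        (Cfsg.IsOfTypeII S ∨ Cfsg.IsOfTypeIII S ∨ Cfsg.IsOfTypeIV S ∨ Cfsg.IsOfTypeV S) ∧
        (Cfsg.IsOfTypeII T ∨ Cfsg.IsOfTypeIII T ∨ Cfsg.IsOfTypeIV T ∨ Cfsg.IsOfTypeV T) ∧
        ∀ M : Subgroup G, IsCoatom M → Cfsg.IsOfTypeI M ∨ ∃ g : G, M = S.map (MulAut.conj g).toMonoidHom ∨ M = T.map (MulAut.conj g).toMonoidHom)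
    (h1541 : ∃ M : Subgroup G, IsCoatom M ∧ ¬ Cfsg.IsOfTypeI M)
    (h1544 : ∀ (S T W₁ W₂ U V : Subgroup G) (_ : IsCoatom S) (_ : IsCoatom T)
      (_ : Cfsg.IsTypePWith S W₁ U W₂) (_ : Cfsg.IsTypePWith T W₂ V W₁)
      (_ : S ⊓ T = W₁ ⊔ W₂) (_ : Cfsg.IsOfTypeII S ∨ Cfsg.IsOfTypeII T)
      (_ : Cfsg.IsOfTypeII S ∨ Cfsg.IsOfTypeIII S ∨ Cfsg.IsOfTypeIV S ∨ Cfsg.IsOfTypeV S)
      (_ : Cfsg.IsOfTypeII T ∨ Cfsg.IsOfTypeIII T ∨ Cfsg.IsOfTypeIV T ∨ Cfsg.IsOfTypeV T)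
      (_ : Nat.card W₁ < Nat.card W₂), (Nat.card W₁).Prime ∧ (Nat.card W₂).Prime ∧ Cfsg.IsElementaryAbelian (Nat.card W₂) (Cfsg.fittingHallOf S) ∧ Nat.card (Cfsg.fittingHallOf S) = Nat.card W₂ ^ Nat.card W₁ ∧ IsCyclic U ∧ Nat.card U * (Nat.card W₂ - 1) = Nat.card W₂ ^ Nat.card W₁ - 1 ∧ (∀ u ∈ U, u ≠ 1 → ∀ x ∈ Cfsg.fittingHallOf S, u * x = x * u → x = 1) ∧ Nat.Coprime ((Nat.card W₂ ^ Nat.card W₁ - 1) / (Nat.card W₂ - 1)) (Nat.card W₂ - 1) ∧ U ≤ Subgroup.normalizer (Cfsg.fittingHallOf S : Set G) ∧ (Nat.card (Cfsg.fittingHallOf T)).Coprime (Nat.card W₂) ∧ Cfsg.IsElementaryAbelian (Nat.card W₁) (Cfsg.fittingHallOf T) ∧ W₂ ≤ Subgroup.normalizer (Cfsg.fittingHallOf T : Set G) ∧ ∃ y ∈ Cfsg.fittingHallOf T, W₂.map (MulAut.conj y).toMonoidHom ≤ Subgroup.normalizer (U : Set G) ∧ ∃ (F : Type) (_ : Field F) (_ : Fintype F) (f : G → F) (ψ : G → F), Fintype.card F = Nat.card W₂ ^ Nat.card W₁ ∧ Set.BijOn f (Cfsg.fittingHallOf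 S : Set G) Set.univ ∧ (∀ x ∈ Cfsg.fittingHallOf S, ∀ x' ∈ Cfsg.fittingHallOf S, f (x * x') = f x + f x') ∧ (∀ u ∈ U, ψ u ≠ 0 ∧ ∀ x ∈ Cfsg.fittingHallOf S, f (u * x * u⁻¹) = ψ u * f x) ∧ (∀ u ∈ U, ∀ u' ∈ U, ψ (u * u') = ψ u * ψ u') ∧ Set.InjOn ψ (U : Set G) ∧ (∀ x ∈ Cfsg.fittingHallOf S, x ∈ W₂ ↔ f x ^ Nat.card W₂ = f x)) : False := by
  rcases h1385 with h | h
  · obtain ⟨M, hM, hI⟩ := h1541
    exact hI (h M hM)
  obtain ⟨W₁, W₂, S, T, hself, hS, hT, hcS, hcT, hST, hII, hS25, hT25, -⟩ := h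
  have hWS : W₁ ⊔ W₂ ≤ S := hST ▸ inf_le_left
  have hWT : W₂ ⊔ W₁ ≤ T := by rw [sup_comm]; exact hST ▸ inf_le_right
  obtain ⟨U, hSP⟩ := data_of (coatom_sol hG hS) hself hcS hWS (typeP_of_types hS25)
  obtain ⟨V, hTP⟩ := data_of (coatom_sol hG hT) (isSNC_symm hself) hcT hWT (typeP_of_types hT25)
  have hcop := coprime_of_cyclic hself.2.2.1 hself.2.2.2.2.1
  have hne : Nat.card W₁ ≠ Nat.card W₂ := by
    intro e
    rw [e, Nat.coprime_self] at hcop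
    exact hself.2.1 (Subgroup.card_eq_one.1 hcop)
  rcases lt_or_gt_of_ne hne with hlt | hlt
  · obtain ⟨c1, c2, c3, -, -, c6, c7, c8, -, c10, c11, c12, c13⟩ :=
      h1544 S T W₁ W₂ U V hS hT hSP hTP hST hII hS25 hT25 hlt
    exact appC hG.1 S T W₁ W₂ U V hSP hTP hlt c1 c2 c3 c6 c7 c8 c10 c11 c12 c13
  · have hTS : T ⊓ S = W₂ ⊔ W₁ := by rw [inf_comm, hST, sup_comm]
    obtain ⟨c1, c2, c3, -, -, c6, c7, c8, -, c10, c11, c12, c13⟩ :=
      h1544 T S W₂ W₁ V U hT hS hTP hSP hTS hII.symm hT25 hS25 hlt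
    exact appC hG.1 T S W₂ W₁ V U hTP hSP hlt c1 c2 c3 c6 c7 c8 c10 c11 c12 c13

omit [Finite G] in
/-- The reduction of the Odd Order Theorem to minimal simple groups. -/
theorem solvable_of_no_min (hno : ∀ (H : Type u) [Group H] [Finite H], ¬ IsMinSimpleOddOrder H) :
    ∀ (n : ℕ) (H : Type u) [Group H] [Finite H], Nat.card H = n → Odd (Nat.card H) →
      Group.IsSolvable H := by
  intro n
  induction n using Nat.strong_induction_on with
  | _ n ih =>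
    intro H _ _ hn hodd
    by_contra hns
    have hnt : Nontrivial H := by
      by_contra h
      rw [not_nontrivial_iff_subsingleton] at h
      exact hns inferInstance
    have hsub : ∀ K : Subgroup H, K ≠ ⊤ → Group.IsSolvable K := by
      intro K hK
      refine ih _ ?_ K rfl (Odd.of_dvd_nat hodd (Subgroup.card_subgroup_dvd_card K))
      rw [← hn]
      have h1 := Subgroup.card_subgroup_dvd_card K
      have h2 := Nat.le_of_dvd Nat.card_pos h1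
      have h3 : Nat.card K ≠ Nat.card H := fun e => hK (Subgroup.card_eq_iff_eq_top K |>.1 e)
      omega
    have hquo : ∀ N : Subgroup H, ∀ hN : N.Normal, N ≠ ⊥ → Group.IsSolvable (H ⧸ N) := by
      intro N hN hN1
      have hc : Nat.card (H ⧸ N) * Nat.card N = Nat.card H :=
        (Subgroup.card_eq_card_quotient_mul_card_subgroup N).symm
      refine ih _ ?_ (H ⧸ N) rfl (Odd.of_dvd_nat hodd ⟨_, hc.symm⟩)
      rw [← hn, ← hc]
      have h1 : 1 < Nat.card N := by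
        have h2 : Nat.card N ≠ 1 := fun e => hN1 (Subgroup.card_eq_one.1 e)
        have h3 : 0 < Nat.card N := Nat.card_pos
        omega
      have h4 : 0 < Nat.card (H ⧸ N) := Nat.card_pos
      nlinarith
    refine hno H ⟨hodd, ⟨fun N hN => ?_⟩, ?_, hsub⟩
    · by_contra hcon
      push Not at hcon
      haveI h1 := hsub N hcon.2
      haveI h2 := hquo N hN hcon.1
      exact hns (Group.isSolvable_of_ker_le_range N.subtype (QuotientGroup.mk' N) (by simp))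
    · intro hc
      exact hns (Group.isSolvable_of_comm (fun a b => hc.is_comm.comm a b))

end Cfsg.Agent.PF
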