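import Cfsg.Agent.PF.TypesW
import Cfsg.Agent.H11.PF20
import Cfsg.Agent.H3.CohI

set_option autoImplicit false

/-! Definitions for the character theory of a maximal subgroup of type P (PF sections 3-5, 7).
(helper11, part (A) of the blueprint) -/

namespace Cfsg.Agent.PF

open Subgroup ComplexConjugate
open Cfsg.Agent.H3 Cfsg.Agent.H11

universe u v

section Lin

variable {G : Type u} [Group G]

/-- linear characters of `W₁ ⊔ W₂` -/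
abbrev Lin (W₁ W₂ : Subgroup G) : Type u := ↥(W₁ ⊔ W₂) →* ℂˣ

/-- "index i": the linear characters of `W₁ ⊔ W₂` trivial on `W₂`. -/
def IsI (W₁ W₂ : Subgroup G) (φ : Lin W₁ W₂) : Prop :=
  ∀ w : ↥(W₁ ⊔ W₂), (w : G) ∈ W₂ → φ w = 1

/-- "index j": the linear characters of `W₁ ⊔ W₂` trivial on `W₁`. -/
def IsJ (W₁ W₂ : Subgroup G) (ψ : Lin W₁ W₂) : Prop :=
  ∀ w : ↥(W₁ ⊔ W₂), (w : G) ∈ W₁ → ψ w = 1

/-- `V = W ∖ (W₁ ∪ W₂)` -/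
def Vset (W₁ W₂ : Subgroup G) : Set G := {w | w ∈ W₁ ⊔ W₂ ∧ w ∉ W₁ ∧ w ∉ W₂}

theorem finite_hom (W : Type u) [Group W] [Finite W] : Finite (W →* ℂˣ) := by
  have hn : NeZero (Nat.card W) := ⟨Nat.card_pos.ne'⟩
  refine Finite.of_injective
    (fun f : W →* ℂˣ => fun w => (⟨f w, by
      rw [mem_rootsOfUnity, ← map_pow, pow_card_eq_one', map_one]⟩ : rootsOfUnity (Nat.card W) ℂ)) ?_
  intro f g h
  ext w
  have := congrFun h w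
  simp only [Subtype.mk.injEq] at this
  rw [this]

instance instFiniteLin [Finite G] (W₁ W₂ : Subgroup G) : Finite (Lin W₁ W₂) := finite_hom _

/-- the finite set of the indices `i` -/
noncomputable def idxI [Finite G] (W₁ W₂ : Subgroup G) : Finset (Lin W₁ W₂) :=
  (Set.toFinite {φ : Lin W₁ W₂ | IsI W₁ W₂ φ}).toFinset

/-- the finite set of the indices `j` -/
noncomputable def idxJ [Finite G] (W₁ W₂ : Subgroup G) : Finset (Lin W₁ W₂) :=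
  (Set.toFinite {ψ : Lin W₁ W₂ | IsJ W₁ W₂ ψ}).toFinset

@[simp] theorem mem_idxI [Finite G] {W₁ W₂ : Subgroup G} {φ : Lin W₁ W₂} :
    φ ∈ idxI W₁ W₂ ↔ IsI W₁ W₂ φ := by
  simp [idxI]

@[simp] theorem mem_idxJ [Finite G] {W₁ W₂ : Subgroup G} {ψ : Lin W₁ W₂} :
    ψ ∈ idxJ W₁ W₂ ↔ IsJ W₁ W₂ ψ := by
  simp [idxJ]

/-- column sum `Σ_i f_ij`, where `j` is the index of `ω` -/
noncomputable def colI [Finite G] {W₁ W₂ : Subgroup G} {X : Type v} (f : Lin W₁ W₂ → X → ℂ)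
    (ω : Lin W₁ W₂) : X → ℂ := ∑ φ ∈ idxI W₁ W₂, f (φ * ω)

/-- row sum `Σ_j f_ij`, where `i` is the index of `ω` -/
noncomputable def rowJ [Finite G] {W₁ W₂ : Subgroup G} {X : Type v} (f : Lin W₁ W₂ → X → ℂ)
    (ω : Lin W₁ W₂) : X → ℂ := ∑ ψ ∈ idxJ W₁ W₂, f (ω * ψ)

/-- transport of a linear character of `W₂ ⊔ W₁` to `W₁ ⊔ W₂` -/
def swL {W₁ W₂ : Subgroup G} (ω : Lin W₂ W₁) : Lin W₁ W₂ :=
  ω.comp (MulEquiv.subgroupCongr (sup_comm W₁ W₂)).toMonoidHom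

/-- the family `η` indexed by the linear characters of `W₂ ⊔ W₁` (for the partner) -/
def swF {W₁ W₂ : Subgroup G} {X : Type v} (η : Lin W₁ W₂ → X → ℂ) : Lin W₂ W₁ → X → ℂ :=
  fun ω => η (swL ω)

end Lin

section Defs

variable {G : Type u} [Group G]

/-- `α` vanishes outside `A` -/
def SuppOn {M : Subgroup G} (A : Set G) (α : ↥M → ℂ) : Prop := ∀ x : ↥M, (x : G) ∉ A → α x = 0

/-- the map `τ_M` (Dade map from `A₀(M)`) -/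
noncomputable abbrev tauM (M : Subgroup G) : (↥M → ℂ) → G → ℂ :=
  dadeIsometry (typeA0 M) M (supportR M)

/-- `χ^ρ` : the average of `χ` over `a R(a)` -/
noncomputable def rhoM (M : Subgroup G) (χ : G → ℂ) : ↥M → ℂ :=
  fun a => (Nat.card (supportR M (a : G)) : ℂ)⁻¹ * ∑ᶠ u ∈ (supportR M (a : G) : Set G), χ (a * u)

/-- the functions on `L` induced from the irreducible characters `θ` of `K` with `A ∩ K ≤ ker θ` and
`H ∩ K ⊄ ker θ`. -/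
def SS {L : Type u} [Group L] [Fintype L] (K H A : Subgroup L) : Set (L → ℂ) :=
  {φ | ∃ θ : ↥K → ℂ, IsIrrCharacter ↥K θ ∧ (∀ a : ↥K, (a : L) ∈ A → θ a = θ 1) ∧
    (∃ h : ↥K, (h : L) ∈ H ∧ θ h ≠ θ 1) ∧ φ = indFun K θ}

/-- `calS(A)` for a maximal subgroup of type P -/
def SM (M : Subgroup G) [Fintype ↥M] (A : Subgroup ↥M) : Set (↥M → ℂ) :=
  SS (commutator ↥M) ((typeCore M).subgroupOf M) A

/-- The frame of a maximal subgroup `M` of type P: `η` is the family of `G`, `μ` the corresponding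
irreducible characters of `M`, `δ` the signs.  `ω : Lin W₁ W₂` is the pair of indices `(i,j)`:
`ω = φ * ψ`, with `IsI φ`, `IsJ ψ`. -/
structure IsFrame [Fintype G] (M W₁ U W₂ : Subgroup G) [Fintype ↥M] (η : Lin W₁ W₂ → G → ℂ)
    (μ : Lin W₁ W₂ → ↥M → ℂ) (δ : Lin W₁ W₂ → ℤ) : Prop where
  hG : IsMinSimpleOddOrder G
  hM : IsCoatom M
  hP : IsTypePWith M W₁ U W₂
  fam : IsCyclicTIFamily W₁ W₂ η
  irr : ∀ ω, IsIrrCharacter ↥M (μ ω)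
  inj : Function.Injective μ
  sign : ∀ ω, δ ω = 1 ∨ δ ω = -1
  /-- the sign depends only on the index `j` -/
  sign_congr : ∀ φ ω, IsI W₁ W₂ φ → δ (φ * ω) = δ ω
  sign_one : ∀ φ, IsI W₁ W₂ φ → δ φ = 1
  sign_inv : ∀ ω, δ ω⁻¹ = δ ω
  mu_one : μ 1 = fun _ => 1
  /-- values on `W ∖ W₂` -/
  apply_W : ∀ (ω : Lin W₁ W₂) (w : ↥(W₁ ⊔ W₂)) (hw : (w : G) ∈ M), (w : G) ∉ W₂ →
    μ ω ⟨w, hw⟩ = (δ ω : ℂ) * (ω w : ℂ)
  /-- the other irreducible characters vanish off `M'` -/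
  vanish : ∀ θ, IsIrrCharacter ↥M θ → (∀ ω, θ ≠ μ ω) → ∀ x : ↥M, x ∉ commutator ↥M → θ x = 0
  /-- and are induced from `M'` -/
  other_ind : ∀ θ, IsIrrCharacter ↥M θ → (∀ ω, θ ≠ μ ω) →
    ∃ ϑ : ↥(commutator ↥M) → ℂ, IsIrrCharacter _ ϑ ∧ θ = indFun (commutator ↥M) ϑ
  /-- `μ_i0` are the linear characters of `M/M'` -/
  lin : ∀ φ, IsI W₁ W₂ φ → ∀ (k : ↥M) (w : ↥(W₁ ⊔ W₂)) (hw : (w : G) ∈ M),
    k ∈ commutator ↥M → μ φ (k * ⟨w, hw⟩) = (φ w : ℂ)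
  deg : ∀ ω, ∃ d : ℕ, 0 < d ∧ μ ω 1 = d ∧ (Nat.card W₁ : ℤ) ∣ (d : ℤ) - δ ω
  /-- `θ_j` -/
  res_irr : ∀ ω, IsIrrCharacter ↥(commutator ↥M) (fun k => μ ω k)
  res_eq : ∀ φ ω, IsI W₁ W₂ φ → ∀ k : ↥M, k ∈ commutator ↥M → μ (φ * ω) k = μ ω k
  res_inj : ∀ ψ ψ', IsJ W₁ W₂ ψ → IsJ W₁ W₂ ψ' →
    (∀ k : ↥M, k ∈ commutator ↥M → μ ψ k = μ ψ' k) → ψ = ψ'
  ind_res : ∀ ω, indFun (commutator ↥M) (fun k => μ ω k) = colI μ ω
  /-- an irreducible character of `M'` is a `θ_j` or induces irreducibly (to a character which is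
  not a `μ_ij`) -/
  dich : ∀ θ : ↥(commutator ↥M) → ℂ, IsIrrCharacter _ θ →
    (∃ ψ, IsJ W₁ W₂ ψ ∧ θ = fun k : ↥(commutator ↥M) => μ ψ (k : ↥M)) ∨
      (IsIrrCharacter ↥M (indFun (commutator ↥M) θ) ∧ ∀ ω, indFun (commutator ↥M) θ ≠ μ ω)
  conj_mu : ∀ ω, conjFun (μ ω) = μ ω⁻¹
  conj_eta : ∀ ω, conjFun (η ω) = η ω⁻¹

end Defs

end Cfsg.Agent.PF
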