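import Cfsg.Agent.PF.TypeF
import Cfsg.Agent.S1545

set_option autoImplicit false

/-! The Frobenius group `U W₁` acting on `H = M_F`. -/

namespace Cfsg.Agent.PF

open Subgroup
open Cfsg.Agent.L (cj nz SylIn)
open Cfsg.Agent.H14 (IsPiSub)
open Cfsg.Agent.OOT
open Cfsg.Agent.H21
open scoped Pointwise

universe u
variable {G : Type u} [Group G] [Finite G]
variable {M W₁ U W₂ : Subgroup G}

theorem U_inf_W₁ (h : IsTypePWith M W₁ U W₂) : U ⊓ W₁ = ⊥ :=
  H1.inf_eq_bot_of_card_coprime h.coprime_UW₁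

omit [Finite G] in
theorem fix_W₁_U (h : IsTypePWith M W₁ U W₂) {e : G} (he : e ∈ W₁) (he1 : e ≠ 1) {u : G}
    (hu : u ∈ U) (hc : e * u = u * e) : u = 1 := by
  have : u ∈ W₂ := by
    rw [← h.W₂_centralizer e he he1]
    exact ⟨h.U_le' hu, mem_cent_singleton.2 hc.symm⟩
  have h2 : u ∈ fittingHallOf M ⊓ U := ⟨h.W₂_le_H this, hu⟩
  rwa [h.U_compl.2.2.1, Subgroup.mem_bot] at h2

omit [Finite G] in
theorem W₂_comm (h : IsTypePWith M W₁ U W₂) {a b : G} (ha : a ∈ W₁) (hb : b ∈ W₂) :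
    a * b = b * a := h.selfNormalizing.2.2.2.1 a ha b hb

omit [Finite G] in
theorem inf_cent_W₁ (h : IsTypePWith M W₁ U W₂) {X : Subgroup G} (hX : X ≤ ⁅M, M⁆) :
    X ⊓ centralizer (W₁ : Set G) = X ⊓ W₂ := by
  obtain ⟨w, hw, hw1⟩ := exists_ne_one h.W₁_ne
  apply le_antisymm
  · rintro x ⟨hx, hx2⟩
    refine ⟨hx, ?_⟩
    rw [← h.W₂_centralizer w hw hw1]
    exact ⟨hX hx, mem_cent_singleton.2 (mem_cent_iff.1 hx2 w hw)⟩
  · rintro x ⟨hx, hx2⟩
    exact ⟨hx, mem_cent_iff.2 fun y hy => (W₂_comm h hy hx2).symm⟩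

theorem U_sup_W₁_card (h : IsTypePWith M W₁ U W₂) :
    Nat.card ↥(U ⊔ W₁) = Nat.card U * Nat.card W₁ := by
  have h1 := complIn_of_sup (A := U) (B := W₁) h.U_normal (U_inf_W₁ h) rfl
  exact (complIn_card h1).symm

/-- If `X ≤ H` is invariant under `U W₁` and `C_X(U) = 1` then `|X| = |X ∩ W₂|^|W₁|`. -/
theorem card_of_fix_bot (h : IsTypePWith M W₁ U W₂) (hU : U ≠ ⊥) {X : Subgroup G}
    (hX : X ≤ fittingHallOf M) (hUX : U ≤ nz X) (hWX : W₁ ≤ nz X)
    (hC : X ⊓ centralizer (U : Set G) = ⊥) :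
    Nat.card X = Nat.card ↥(X ⊓ W₂) ^ Nat.card W₁ := by
  have hcard : (Nat.card X).Coprime (Nat.card ↥(U ⊔ W₁)) := by
    rw [U_sup_W₁_card h]
    exact Nat.Coprime.mul_right
      (Nat.Coprime.coprime_dvd_left (Subgroup.card_dvd_of_le hX) h.coprime_HU)
      (Nat.Coprime.coprime_dvd_left (Subgroup.card_dvd_of_le hX) h.coprime_HW₁)
  have hsol : Group.IsSolvable X := by
    have := fhOf_nilpotent M
    exact H1.isSolvable_of_le hX inferInstance
  have key := Cfsg.Agent.S1545.result U W₁ X hU h.W₁_ne (U_inf_W₁ h)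
    (fun e he u hu => (Subgroup.mem_normalizer_iff.1 (h.U_normal he) _).1 hu)
    (fun e he he1 u hu hc => fix_W₁_U h he he1 hu hc)
    (fun x hx y hy => (Subgroup.mem_normalizer_iff.1 ((sup_le hUX hWX) hx) _).1 hy)
    (H1.inf_eq_bot_of_card_coprime hcard) hsol hcard
  have e1 : X ⊓ centralizer ((U ⊔ W₁ : Subgroup G) : Set G) = ⊥ := by
    rw [eq_bot_iff, ← hC]
    exact inf_le_inf_left _ (Subgroup.centralizer_le (SetLike.coe_subset_coe.2 le_sup_left))
  rw [e1, hC, inf_cent_W₁ h (hX.trans h.H_le')] at key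
  simpa using key

/-- If `C_H(U) = 1` and `|W₂|` is prime, a `U W₁`-invariant subgroup of `H` is `1` or `H`. -/
theorem eq_bot_or_H (h : IsTypePWith M W₁ U W₂) (hU : U ≠ ⊥) (hp : (Nat.card W₂).Prime)
    (hC : fittingHallOf M ⊓ centralizer (U : Set G) = ⊥) {X : Subgroup G}
    (hX : X ≤ fittingHallOf M) (hUX : U ≤ nz X) (hWX : W₁ ≤ nz X) :
    X = ⊥ ∨ X = fittingHallOf M := by
  have hC' : X ⊓ centralizer (U : Set G) = ⊥ := by
    rw [eq_bot_iff, ← hC]; exact inf_le_inf_right _ hX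
  have k1 := card_of_fix_bot h hU hX hUX hWX hC'
  have k2 := card_of_fix_bot h hU le_rfl (h.U_le.trans (le_normalizer_fhOf M))
    (h.W₁_le.trans (le_normalizer_fhOf M)) hC
  rw [inf_eq_right.2 h.W₂_le_H] at k2
  have hd : Nat.card ↥(X ⊓ W₂) ∣ Nat.card W₂ := Subgroup.card_dvd_of_le inf_le_right
  rcases (Nat.dvd_prime hp).1 hd with e | e
  · left
    rw [e, one_pow] at k1
    exact Subgroup.card_eq_one.1 k1
  · right
    rw [e, ← k2] at k1
    exact Subgroup.eq_of_le_of_card_ge hX k1.ge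

theorem H_struct (h : IsTypePWith M W₁ U W₂) (hU : U ≠ ⊥) (hp : (Nat.card W₂).Prime)
    (hC : fittingHallOf M ⊓ centralizer (U : Set G) = ⊥) :
    IsElementaryAbelian (Nat.card W₂) (fittingHallOf M) ∧
      Nat.card (fittingHallOf M) = Nat.card W₂ ^ Nat.card W₁ := by
  have k2 := card_of_fix_bot h hU le_rfl (h.U_le.trans (le_normalizer_fhOf M))
    (h.W₁_le.trans (le_normalizer_fhOf M)) hC
  rw [inf_eq_right.2 h.W₂_le_H] at k2
  refine ⟨?_, k2⟩
  set H := fittingHallOf M with hH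
  have hHb : H ≠ ⊥ := fun e => h.H_not_cyclic (by rw [← hH, e]; infer_instance)
  have hUH : U ≤ nz H := h.U_le.trans (le_normalizer_fhOf M)
  have hWH : W₁ ≤ nz H := h.W₁_le.trans (le_normalizer_fhOf M)
  have hcomm : ∀ a ∈ H, ∀ b ∈ H, a * b = b * a := by
    have hn := fhOf_nilpotent M
    have h1 : ⁅H, H⁆ ≤ H := Subgroup.commutator_le_self H
    have hnz : ∀ {A : Subgroup G}, A ≤ nz H → A ≤ nz ⁅H, H⁆ := by
      intro A hA x hx
      rw [L.mem_nz_iff, ← cj_commutator, L.mem_nz_iff.1 (hA hx)]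
    rcases eq_bot_or_H h hU hp hC h1 (hnz hUH) (hnz hWH) with e | e
    · intro a ha b hb
      have := Subgroup.commutator_mem_commutator ha hb
      rw [e, Subgroup.mem_bot] at this
      exact commutatorElement_eq_one_iff_mul_comm.1 this
    · exfalso
      apply hHb
      exact H1.eq_bot_of_commutator_eq_self hn le_rfl e.ge
  have hp' : Fact (Nat.card W₂).Prime := ⟨hp⟩
  have hpow : ∀ a ∈ H, a ^ Nat.card W₂ = 1 := by
    let Om : Subgroup G :=
      { carrier := {x | x ∈ H ∧ x ^ Nat.card W₂ = 1}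
        one_mem' := ⟨one_mem _, one_pow _⟩
        mul_mem' := by
          rintro a b ⟨ha, ha'⟩ ⟨hb, hb'⟩
          refine ⟨mul_mem ha hb, ?_⟩
          rw [(show Commute a b from hcomm a ha b hb).mul_pow, ha', hb', one_mul]
        inv_mem' := by
          rintro a ⟨ha, ha'⟩
          exact ⟨inv_mem ha, by rw [inv_pow, ha', inv_one]⟩ }
    have hO : Om ≤ H := fun x hx => hx.1
    have hnz : ∀ {A : Subgroup G}, A ≤ nz H → A ≤ nz Om := by
      intro A hA x hx
      rw [L.mem_nz_iff]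
      refine L.eq_of_le_of_card_le ?_ (by rw [L.card_cj])
      intro y hy
      rw [L.mem_cj] at hy
      have hy1 : y ∈ cj x H := L.mem_cj.2 hy.1
      rw [L.mem_nz_iff.1 (hA hx)] at hy1
      refine ⟨hy1, ?_⟩
      have := hy.2
      have e : (x⁻¹ * y * x) ^ Nat.card W₂ = x⁻¹ * y ^ Nat.card W₂ * x := by
        have := conj_pow (a := x⁻¹) (b := y) (i := Nat.card W₂)
        simpa using this
      rw [e] at this
      have h2 : x * (x⁻¹ * y ^ Nat.card W₂ * x) * x⁻¹ = x * 1 * x⁻¹ := by rw [this]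
      simpa [mul_assoc] using h2
    rcases eq_bot_or_H h hU hp hC hO (hnz hUH) (hnz hWH) with e | e
    · exfalso
      have hW : W₂ ≤ Om := fun x hx => ⟨h.W₂_le_H hx, by
        have := pow_card_eq_one' (x := (⟨x, hx⟩ : W₂))
        exact congrArg Subtype.val this⟩
      rw [e, le_bot_iff] at hW
      exact h.selfNormalizing.2.1 hW
    · intro a ha
      have : a ∈ Om := by rw [e]; exact ha
      exact this.2
  exact ⟨mulComm_iff.2 hcomm, hpow⟩

end Cfsg.Agent.PF
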