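import Cfsg.Agent.PF.Good2
import Cfsg.Agent.H18.FTI3

set_option autoImplicit false
set_option linter.style.haveILetI false
set_option linter.unusedSectionVars false

/-! The type I side of S1544 (notes/PF_G5G6.md), abstract form: `X = H#^G`, `Z i = σ λ_i`,
`m i = λ_i(1) / e`, `Φ = τ φ`, `k = |H|`. (helper7) -/

namespace Cfsg.Agent.PF

open Subgroup ComplexConjugate
open Cfsg.Agent.H3

universe u v w

variable {G : Type u} [Group G] [Fintype G]

/-- The type I side. -/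
structure IsLam (X : Set G) (e k : ℕ) {ι : Type v} [Fintype ι] (Z : ι → G → ℂ) (m : ι → ℕ)
    (i₀ : ι) (Φ : G → ℂ) : Prop where
  odd : Odd (Nat.card G)
  e_pos : 0 < e
  conj_mem : ∀ g ∈ X, ∀ y : G, y * g * y⁻¹ ∈ X
  sirr : ∀ i, SIrr (Z i)
  orth : ∀ i j, i ≠ j → classInner (Z i) (Z j) = 0
  cjj : ∀ i, ∃ j, j ≠ i ∧ Z j = conjFun (Z i) ∧ m j = m i
  m₀ : m i₀ = 1
  mpos : ∀ i, 0 < m i
  sum : (∑ i, m i ^ 2) * e + 1 = k
  van : ∀ i, ∀ g, g ∉ X → Z i g = (m i : ℂ) * Z i₀ g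
  gen : IsGeneralizedCharacter G Φ
  real : conjFun (Φ + Z i₀) = Φ + Z i₀
  one : classInner Φ (fun _ => 1) = 1
  norm : classInner Φ Φ = e + 1
  vanΦ : ∀ g, g ∉ X → Φ g = 0
  inΦ : ∀ i, i ≠ i₀ → classInner Φ (Z i) = m i * (classInner Φ (Z i₀) + 1)
  ind : ∀ g ∈ X, ((k : ℂ) - 1) * Φ g - e * ∑ i, (m i : ℂ) * (Z i g - m i * Z i₀ g) = e * k

theorem inner_swap_zero {a b : G → ℂ} (h : classInner a b = 0) : classInner b a = 0 := by
  rw [← classInner_conj_symm, h, map_zero]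

theorem inner_swap_int {a b : G → ℂ} {n : ℤ} (h : classInner a b = n) : classInner b a = n := by
  rw [← classInner_conj_symm, h]; simp

theorem inner_of_disj {X Y : Set G} (hd : Disjoint X Y) {a b : G → ℂ} (ha : ∀ g, g ∉ X → a g = 0)
    (hb : ∀ g, g ∉ Y → b g = 0) : classInner a b = 0 := by
  unfold classInner
  rw [Finset.sum_eq_zero, mul_zero]
  intro x _
  by_cases hx : x ∈ X
  · rw [hb x (Set.disjoint_left.1 hd hx)]; simp
  · rw [ha x hx, zero_mul]

theorem gen_one_conj {f : G → ℂ} (hf : IsGeneralizedCharacter G f) : conjFun f 1 = f 1 := by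
  obtain ⟨χ, ψ, h1, h2, rfl⟩ := hf
  obtain ⟨a, ha⟩ := char_one_eq_nat h1
  obtain ⟨b, hb⟩ := char_one_eq_nat h2
  simp [conjFun, ha, hb]

theorem sum_ge_two' {ι : Type v} [Fintype ι] {m : ι → ℕ} {i j : ι}
    (hij : i ≠ j) (hi : m i = 1) (hj : m j = 1) : 2 ≤ ∑ i, m i ^ 2 := by
  classical
  have h1 : ∑ a ∈ ({i, j} : Finset ι), m a ^ 2 ≤ ∑ a, m a ^ 2 :=
    Finset.sum_le_sum_of_subset (Finset.subset_univ _)
  rw [Finset.sum_pair hij, hi, hj] at h1
  simpa using h1

namespace IsLam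

variable {X : Set G} {e k : ℕ} {ι : Type v} [Fintype ι] {Z : ι → G → ℂ} {m : ι → ℕ}
  {i₀ : ι} {Φ : G → ℂ} (h : IsLam X e k Z m i₀ Φ)

include h

theorem cls (i : ι) : IsClassFunction G (Z i) := isGen_classFun (h.sirr i).isGen

theorem clsΦ : IsClassFunction G Φ := isGen_classFun h.gen

/-- two signed irreducible characters of the two sides are orthogonal -/
theorem orth_of_van (i : ι) {a b : G → ℂ} (ha : SIrr a) (hb : SIrr b)
    (hba : b = conjFun a) (hab : classInner a b = 0)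
    (h0 : classInner (Z i - conjFun (Z i)) (a - b) = 0) : classInner (Z i) a = 0 := by
  obtain ⟨j, hji, hj, -⟩ := h.cjj i
  have e0 : classInner (Z i) (Z j) = 0 := h.orth i j hji.symm
  rw [← hj] at h0
  refine (signed_orth4 (u := 1) (v := 1) (h.sirr i) (h.sirr j) ha hb one_ne_zero one_ne_zero
    e0 hab (by simpa using h0) ?_ ?_).1
  · rw [hj]; exact (gen_one_conj (h.sirr i).isGen).symm
  · rw [hba]; simpa using (gen_one_conj ha.isGen).symm

theorem sub_conj_van (i : ι) {g : G} (hg : g ∉ X) : (Z i - conjFun (Z i)) g = 0 := by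
  obtain ⟨j, -, hj, hm⟩ := h.cjj i
  rw [← hj, Pi.sub_apply, h.van i g hg, h.van j g hg, hm, sub_self]

/-- `Z i ⊥ 1` -/
theorem Z_one (i : ι) : classInner (Z i) (fun _ => 1) = 0 := by
  obtain ⟨j, hji, hj, -⟩ := h.cjj i
  by_contra hne
  have h1 : classInner (Z i) (Z j) = 0 := h.orth i j hji.symm
  rcases (h.sirr i).dichotomy (Or.inl isIrr_one : SIrr (fun _ : G => (1 : ℂ))) with
    h2 | ⟨s, hs, h2⟩
  · exact hne h2
  · have e1 : Z j = Z i := by
      rw [hj, h2]
      funext x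
      simp [conjFun]
    rw [e1, (h.sirr i).norm] at h1
    exact one_ne_zero h1

theorem N_ge : 2 ≤ ∑ i, m i ^ 2 := by
  obtain ⟨j, hj, -, hm⟩ := h.cjj i₀
  exact sum_ge_two' hj.symm h.m₀ (hm.trans h.m₀)

theorem exists_x : ∃ x : ℤ, classInner Φ (Z i₀) = x - 1 ∧
    ∀ i, i ≠ i₀ → classInner Φ (Z i) = m i * x := by
  obtain ⟨n, hn⟩ := classInner_gen_int h.gen (h.sirr i₀).isGen
  refine ⟨n + 1, by rw [hn]; push_cast; ring, fun i hi => ?_⟩
  rw [h.inΦ i hi, hn]; push_cast; ring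

theorem int_sq_norm (z : ℂ) (n : ℤ) (hz : z = n) : ‖z‖ ^ 2 = (n : ℝ) ^ 2 := by
  rw [hz, Complex.norm_intCast, sq_abs]

/-- Fact (B), general form. -/
theorem bessel {κ : Type w} (S : Finset κ) (f : κ → G → ℂ)
    (hf : ∀ a ∈ S, classInner (f a) (f a) = 1)
    (hff : ∀ a ∈ S, ∀ b ∈ S, a ≠ b → classInner (f a) (f b) = 0)
    (hf1 : ∀ a ∈ S, classInner (f a) (fun _ => 1) = 0)
    (hfZ : ∀ a ∈ S, ∀ i, classInner (f a) (Z i) = 0) :
    ∑ a ∈ S, ‖classInner Φ (f a)‖ ^ 2 ≤ (e : ℝ) - 1 := by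
  classical
  obtain ⟨x, hx0, hx⟩ := h.exists_x
  let T : Finset ((κ ⊕ ι) ⊕ Unit) := (S.disjSum Finset.univ).disjSum Finset.univ
  let E : (κ ⊕ ι) ⊕ Unit → G → ℂ := Sum.elim (Sum.elim f Z) (fun _ => fun _ => 1)
  have hE : ∀ i ∈ T, ∀ j ∈ T, classInner (E i) (E j) = if i = j then ((1 : ℝ) : ℂ) else 0 := by
    intro i hi j hj
    simp only [T, Finset.mem_disjSum] at hi hj
    rcases hi with ⟨_, (⟨a, ha, rfl⟩ | ⟨a, -, rfl⟩), rfl⟩ | ⟨⟨⟩, -, rfl⟩ <;>
      rcases hj with ⟨_, (⟨b, hb, rfl⟩ | ⟨b, -, rfl⟩), rfl⟩ | ⟨⟨⟩, -, rfl⟩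
    · simp only [E, Sum.elim_inl, Sum.inl.injEq]
      by_cases hab : a = b
      · subst hab; simp [hf a ha]
      · rw [if_neg hab, hff a ha b hb hab]
    · simp only [E, Sum.elim_inl, Sum.elim_inr, Sum.inl.injEq, reduceCtorEq, if_false]
      exact hfZ a ha b
    · simp only [E, Sum.elim_inl, Sum.elim_inr, reduceCtorEq, if_false]
      exact hf1 a ha
    · simp only [E, Sum.elim_inl, Sum.elim_inr, Sum.inl.injEq, reduceCtorEq, if_false]
      exact inner_swap_zero (hfZ b hb a)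
    · simp only [E, Sum.elim_inl, Sum.elim_inr, Sum.inl.injEq, Sum.inr.injEq]
      by_cases hab : a = b
      · subst hab; simp [(h.sirr a).norm]
      · rw [if_neg hab, h.orth a b hab]
    · simp only [E, Sum.elim_inl, Sum.elim_inr, reduceCtorEq, if_false]
      exact h.Z_one a
    · simp only [E, Sum.elim_inl, Sum.elim_inr, reduceCtorEq, if_false]
      exact inner_swap_zero (hf1 b hb)
    · simp only [E, Sum.elim_inl, Sum.elim_inr, reduceCtorEq, if_false]
      exact inner_swap_zero (h.Z_one b)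
    · simp only [E, Sum.elim_inr, if_true]
      rw [classInner_self_of_irr isIrr_one]; simp
  have hB := bessel_le T E (fun _ => 1) (fun _ _ => one_ne_zero) hE Φ
  simp only [T, E, Finset.sum_disjSum, Sum.elim_inl, Sum.elim_inr, div_one, Finset.univ_unique,
    Finset.sum_singleton, h.one, h.norm, norm_one, one_pow] at hB
  have hs : ∑ i, ‖classInner Φ (Z i)‖ ^ 2 = (x : ℝ) ^ 2 * (∑ i, m i ^ 2 : ℕ) - 2 * x + 1 := by
    rw [← Finset.add_sum_erase _ _ (Finset.mem_univ i₀)]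
    have e1 : ‖classInner Φ (Z i₀)‖ ^ 2 = ((x - 1 : ℤ) : ℝ) ^ 2 :=
      h.int_sq_norm _ _ (by rw [hx0]; push_cast; ring)
    have e2 : ∀ i ∈ Finset.univ.erase i₀, ‖classInner Φ (Z i)‖ ^ 2 = (x : ℝ) ^ 2 * (m i : ℝ) ^ 2 := by
      intro i hi
      rw [Finset.mem_erase] at hi
      rw [h.int_sq_norm _ (m i * x) (by rw [hx i hi.1]; push_cast; ring)]
      push_cast; ring
    have e3 : ((∑ i, m i ^ 2 : ℕ) : ℝ) = 1 + ∑ i ∈ Finset.univ.erase i₀, (m i : ℝ) ^ 2 := by
      rw [← Finset.add_sum_erase _ _ (Finset.mem_univ i₀), h.m₀]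
      push_cast; ring
    rw [e1, Finset.sum_congr rfl e2, ← Finset.mul_sum, e3]
    push_cast; ring
  have hN : (2 : ℤ) ≤ (∑ i, m i ^ 2 : ℕ) := by exact_mod_cast h.N_ge
  have hx2 : (0 : ℤ) ≤ x ^ 2 * (∑ i, m i ^ 2 : ℕ) - 2 * x := by
    rcases le_or_gt x 0 with h0 | h0
    · nlinarith [sq_nonneg x]
    · nlinarith
  have hx3 : (0 : ℝ) ≤ (x : ℝ) ^ 2 * (∑ i, m i ^ 2 : ℕ) - 2 * x := by exact_mod_cast hx2
  rw [hs] at hB
  have hre : ((e : ℂ) + 1).re = (e : ℝ) + 1 := by simp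
  rw [hre] at hB
  linarith

/-- the real part `Δ` -/
theorem del : IsGeneralizedCharacter G (Φ - (fun _ => 1) + Z i₀) ∧
    conjFun (Φ - (fun _ => 1) + Z i₀) = Φ - (fun _ => 1) + Z i₀ ∧
      classInner (Φ - (fun _ => 1) + Z i₀) (fun _ => 1) = 0 := by
  refine ⟨isGen_add (isGen_sub h.gen isGen_one) (h.sirr i₀).isGen, ?_, ?_⟩
  · have e1 : Φ - (fun _ => 1) + Z i₀ = (Φ + Z i₀) - fun _ => 1 := by abel
    have e2 : ∀ a b : G → ℂ, conjFun (a - b) = conjFun a - conjFun b := by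
      intro a b; funext x; simp [conjFun]
    rw [e1, e2, h.real]
    congr 1
    funext x; simp [conjFun]
  · rw [classInner_add_left, classInner_sub_left, h.one, h.Z_one,
      classInner_self_of_irr isIrr_one]
    ring

end IsLam

section Two

variable {X X' : Set G} {e k e' k' : ℕ} {ι : Type v} [Fintype ι] {Z : ι → G → ℂ} {m : ι → ℕ}
  {i₀ : ι} {Φ : G → ℂ} {ι' : Type w} [Fintype ι'] {Z' : ι' → G → ℂ} {m' : ι' → ℕ}
  {i₀' : ι'} {Φ' : G → ℂ}

namespace IsLam

theorem cross (h : IsLam X e k Z m i₀ Φ) (h' : IsLam X' e' k' Z' m' i₀' Φ')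
    (hd : Disjoint X X') (i : ι) (j : ι') : classInner (Z i) (Z' j) = 0 := by
  obtain ⟨l, hl, hl', -⟩ := h'.cjj j
  refine h.orth_of_van i (h'.sirr j) (h'.sirr l) hl' (h'.orth j l hl.symm) ?_
  refine inner_of_disj hd (fun g hg => h.sub_conj_van i hg) (fun g hg => ?_)
  rw [hl']; exact h'.sub_conj_van j hg

/-- `⟨Z i, Φ'⟩ = m_i ⟨Z i₀, Φ'⟩` -/
theorem cross_Φ (h : IsLam X e k Z m i₀ Φ) (h' : IsLam X' e' k' Z' m' i₀' Φ')
    (hd : Disjoint X X') (i : ι) : classInner (Z i) Φ' = m i * classInner (Z i₀) Φ' := by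
  have h1 : classInner (Z i - (m i : ℂ) • Z i₀) Φ' = 0 := by
    refine inner_of_disj hd (fun g hg => ?_) h'.vanΦ
    rw [Pi.sub_apply, h.van i g hg, Pi.smul_apply, smul_eq_mul, sub_self]
  rw [classInner_sub_left, classInner_smul_left] at h1
  linear_combination h1

/-- parity -/
theorem cross_odd (h : IsLam X e k Z m i₀ Φ) (h' : IsLam X' e' k' Z' m' i₀' Φ')
    (hd : Disjoint X X') : ∃ a b : ℤ, classInner (Z i₀) Φ' = a ∧ classInner (Z' i₀') Φ = b ∧
      Odd (a + b) := by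
  obtain ⟨a, ha⟩ := classInner_gen_int (h.sirr i₀).isGen h'.gen
  obtain ⟨b, hb⟩ := classInner_gen_int (h'.sirr i₀').isGen h.gen
  refine ⟨a, b, ha, hb, ?_⟩
  obtain ⟨g1, r1, o1⟩ := h.del
  obtain ⟨g2, r2, o2⟩ := h'.del
  obtain ⟨c, hc⟩ := Cfsg.Agent.H18.even_inner h.odd g1 g2 r1 r2 o1
  have e0 : classInner Φ Φ' = 0 := inner_of_disj hd h.vanΦ h'.vanΦ
  have e1 : classInner (Z i₀) (Z' i₀') = 0 := h.cross h' hd _ _
  have e2 : classInner Φ (Z' i₀') = b := inner_swap_int hb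
  have e3 : classInner (fun _ : G => (1 : ℂ)) Φ' = 1 := by
    rw [← classInner_conj_symm, h'.one]; simp
  have e4 : classInner (fun _ : G => (1 : ℂ)) (Z' i₀') = 0 := inner_swap_zero (h'.Z_one _)
  rw [classInner_add_left, classInner_sub_left, classInner_add_right, classInner_sub_right,
    classInner_add_right, classInner_sub_right, classInner_add_right, classInner_sub_right,
    e0, e1, e2, ha, e3, e4, h.one, h.Z_one, classInner_self_of_irr isIrr_one] at hc
  have e5 : a + b = 2 * c + 1 := by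
    have : ((a + b : ℤ) : ℂ) = ((2 * c + 1 : ℤ) : ℂ) := by
      push_cast at hc ⊢
      linear_combination hc
    exact_mod_cast this
  exact ⟨c, e5⟩

/-- Fact (F), general form: if `⟨Z i₀, Φ'⟩ ≠ 0` then `(k - 1)/e ≤ e' - 1 - ‖others‖²`. -/
theorem cross_le (h : IsLam X e k Z m i₀ Φ) (h' : IsLam X' e' k' Z' m' i₀' Φ')
    (hd : Disjoint X X') (hne : classInner (Z i₀) Φ' ≠ 0) {κ : Type*} (S : Finset κ)
    (f : κ → G → ℂ) (hf : ∀ a ∈ S, classInner (f a) (f a) = 1)
    (hff : ∀ a ∈ S, ∀ b ∈ S, a ≠ b → classInner (f a) (f b) = 0)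
    (hf1 : ∀ a ∈ S, classInner (f a) (fun _ => 1) = 0)
    (hfZ : ∀ a ∈ S, ∀ i, classInner (f a) (Z i) = 0)
    (hfZ' : ∀ a ∈ S, ∀ i, classInner (f a) (Z' i) = 0) :
    ((∑ i, m i ^ 2 : ℕ) : ℝ) + ∑ a ∈ S, ‖classInner Φ' (f a)‖ ^ 2 ≤ (e' : ℝ) - 1 := by
  classical
  obtain ⟨c, hc⟩ := classInner_gen_int (h.sirr i₀).isGen h'.gen
  have hc0 : c ≠ 0 := by rintro rfl; exact hne (by rw [hc]; simp)
  have h1 := h'.bessel (κ := ι ⊕ κ) (Finset.univ.disjSum S) (Sum.elim Z f) (by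
      intro a ha
      simp only [Finset.mem_disjSum] at ha
      rcases ha with ⟨a, -, rfl⟩ | ⟨a, ha, rfl⟩
      · exact (h.sirr a).norm
      · exact hf a ha) (by
      intro a ha b hb hab
      simp only [Finset.mem_disjSum] at ha hb
      rcases ha with ⟨a, -, rfl⟩ | ⟨a, ha, rfl⟩ <;> rcases hb with ⟨b, -, rfl⟩ | ⟨b, hb, rfl⟩
      · exact h.orth a b (fun e => hab (by rw [e]))
      · exact inner_swap_zero (hfZ b hb a)
      · exact hfZ a ha b
      · exact hff a ha b hb (fun e => hab (by rw [e]))) (by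
      intro a ha
      simp only [Finset.mem_disjSum] at ha
      rcases ha with ⟨a, -, rfl⟩ | ⟨a, ha, rfl⟩
      · exact h.Z_one a
      · exact hf1 a ha) (by
      intro a ha i
      simp only [Finset.mem_disjSum] at ha
      rcases ha with ⟨a, -, rfl⟩ | ⟨a, ha, rfl⟩
      · exact h.cross h' hd a i
      · exact hfZ' a ha i)
  rw [Finset.sum_disjSum] at h1
  simp only [Sum.elim_inl, Sum.elim_inr] at h1
  have h2 : ∑ i, ‖classInner Φ' (Z i)‖ ^ 2 = ((∑ i, m i ^ 2 : ℕ) : ℝ) * (c : ℝ) ^ 2 := by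
    push_cast
    rw [Finset.sum_mul]
    refine Finset.sum_congr rfl fun i _ => ?_
    rw [h.int_sq_norm _ (m i * c) (by
      rw [← classInner_conj_symm, h.cross_Φ h' hd i, hc]; simp)]
    push_cast; ring
  have h3 : (1 : ℝ) ≤ (c : ℝ) ^ 2 := by
    have : 0 < c ^ 2 := by positivity
    exact_mod_cast this
  have h4 : (0 : ℝ) ≤ ((∑ i, m i ^ 2 : ℕ) : ℝ) := by positivity
  rw [h2] at h1
  nlinarith

end IsLam

end Two

section Mass

/-- the norm of the restriction of `a` to `X` -/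
noncomputable def massOn (X : Set G) (a : G → ℂ) : ℝ :=
  (classInner (X.indicator a) (X.indicator a)).re

theorem classInner_self_eq' (a : G → ℂ) :
    classInner a a = (((Nat.card G : ℝ)⁻¹ * ∑ g, ‖a g‖ ^ 2 : ℝ) : ℂ) := by
  have h1 : ∀ g, a g * conj (a g) = ((‖a g‖ ^ 2 : ℝ) : ℂ) := by
    intro g
    rw [Complex.mul_conj, Complex.normSq_eq_norm_sq]
  unfold classInner
  rw [Finset.sum_congr rfl fun g _ => h1 g]
  push_cast
  rfl

theorem classInner_indicator {X : Set G} {a F : G → ℂ} (hF : ∀ g, g ∉ X → F g = 0) :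
    classInner (X.indicator a) F = classInner a F := by
  unfold classInner
  congr 1
  refine Finset.sum_congr rfl fun g _ => ?_
  by_cases hg : g ∈ X
  · rw [Set.indicator_of_mem hg]
  · rw [hF g hg]; simp

theorem massOn_ge {X : Set G} {a F : G → ℂ} {n c : ℝ} (hn : 0 ≤ n) (hF : ∀ g, g ∉ X → F g = 0)
    (hFF : classInner F F = (n : ℂ)) (hc : classInner a F = (c : ℂ)) (hcn : c ^ 2 = n * n ∨ 0 < n) :
    c ^ 2 ≤ n * massOn X a := by
  classical
  by_cases h0 : n = 0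
  · rw [h0] at hcn ⊢
    rcases hcn with h1 | h1
    · rw [h1]; simp
    · exact absurd h1 (lt_irrefl 0)
  · have hb := bessel_le (Finset.univ : Finset Unit) (fun _ => F) (fun _ => n) (fun _ _ => h0)
      (fun _ _ _ _ => by simpa using hFF) (X.indicator a)
    rw [Finset.univ_unique, Finset.sum_singleton, classInner_indicator hF, hc, Complex.norm_real,
      Real.norm_eq_abs, sq_abs, div_le_iff₀ (lt_of_le_of_ne hn (Ne.symm h0))] at hb
    unfold massOn
    linarith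

theorem massOn_sum_le {κ : Type w} (S : Finset κ) (X : κ → Set G)
    (hd : ∀ s ∈ S, ∀ t ∈ S, s ≠ t → Disjoint (X s) (X t)) (a : G → ℂ) :
    ∑ t ∈ S, massOn (X t) a ≤ (classInner a a).re := by
  classical
  have h1 : ∀ t, massOn (X t) a =
      (Nat.card G : ℝ)⁻¹ * ∑ g, if g ∈ X t then ‖a g‖ ^ 2 else 0 := by
    intro t
    unfold massOn
    rw [classInner_self_eq', Complex.ofReal_re]
    congr 1
    refine Finset.sum_congr rfl fun g _ => ?_
    by_cases hg : g ∈ X t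
    · rw [Set.indicator_of_mem hg, if_pos hg]
    · rw [Set.indicator_of_notMem hg, if_neg hg]; simp
  rw [Finset.sum_congr rfl fun t _ => h1 t, ← Finset.mul_sum, Finset.sum_comm,
    classInner_self_eq', Complex.ofReal_re]
  refine mul_le_mul_of_nonneg_left (Finset.sum_le_sum fun g _ => ?_) (by positivity)
  by_cases hg : ∃ t ∈ S, g ∈ X t
  · obtain ⟨t, ht, hgt⟩ := hg
    rw [Finset.sum_eq_single_of_mem t ht, if_pos hgt]
    intro s hs hst
    rw [if_neg]
    exact Set.disjoint_left.1 (hd t ht s hs hst.symm) hgt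
  · push Not at hg
    rw [Finset.sum_eq_zero]
    · positivity
    · intro t ht
      rw [if_neg (hg t ht)]

namespace IsLam

variable {X : Set G} {e k : ℕ} {ι : Type v} [Fintype ι] {Z : ι → G → ℂ} {m : ι → ℕ}
  {i₀ : ι} {Φ : G → ℂ} (h : IsLam X e k Z m i₀ Φ)

include h

theorem k_pos : 0 < k := by have := h.sum; omega

/-- the indicator function of `X` -/
theorem one_eq : ((e : ℂ) * k) • X.indicator (fun _ => (1 : ℂ)) =
    ((k : ℂ) - 1) • Φ - (e : ℂ) • ∑ i, (m i : ℂ) • (Z i - (m i : ℂ) • Z i₀) := by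
  funext g
  simp only [Pi.smul_apply, Pi.sub_apply, Finset.sum_apply, smul_eq_mul]
  by_cases hg : g ∈ X
  · rw [Set.indicator_of_mem hg, h.ind g hg]; ring
  · rw [Set.indicator_of_notMem hg, h.vanΦ g hg, Finset.sum_eq_zero]
    · ring
    · intro i _
      rw [h.van i g hg]; ring

theorem one_van {g : G} (hg : g ∉ X) : X.indicator (fun _ => (1 : ℂ)) g = 0 :=
  Set.indicator_of_notMem hg _

theorem inner_one (a : G → ℂ) : ((e : ℂ) * k) * classInner a (X.indicator (fun _ => (1 : ℂ))) =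
    ((k : ℂ) - 1) * classInner a Φ -
      e * ∑ i, (m i : ℂ) * (classInner a (Z i) - m i * classInner a (Z i₀)) := by
  have h1 : classInner a (((e : ℂ) * k) • X.indicator (fun _ => (1 : ℂ))) =
      ((e : ℂ) * k) * classInner a (X.indicator (fun _ => (1 : ℂ))) := by
    rw [classInner_smul_right]; simp
  rw [← h1, h.one_eq, classInner_sub_right, classInner_smul_right, classInner_smul_right,
    classInner_sum_right]
  have h2 : ∀ i, classInner a ((m i : ℂ) • (Z i - (m i : ℂ) • Z i₀)) =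
      (m i : ℂ) * (classInner a (Z i) - m i * classInner a (Z i₀)) := by
    intro i
    rw [classInner_smul_right, classInner_sub_right, classInner_smul_right]; simp
  rw [Finset.sum_congr rfl fun i _ => h2 i]
  simp

theorem ek_ne : ((e : ℂ) * k) ≠ 0 :=
  mul_ne_zero (by exact_mod_cast h.e_pos.ne') (by exact_mod_cast h.k_pos.ne')

theorem one_one : classInner (X.indicator (fun _ => (1 : ℂ))) (X.indicator (fun _ => (1 : ℂ))) =
    (((k : ℝ) - 1) / (e * k) : ℝ) := by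
  have h0 : classInner (X.indicator (fun _ => (1 : ℂ))) (X.indicator (fun _ => (1 : ℂ))) =
      classInner (fun _ : G => (1 : ℂ)) (X.indicator (fun _ => (1 : ℂ))) :=
    classInner_indicator (fun g hg => Set.indicator_of_notMem hg _)
  have h1 := h.inner_one (fun _ => 1)
  have h2 : classInner (fun _ : G => (1 : ℂ)) Φ = 1 := by
    rw [← classInner_conj_symm, h.one]; simp
  have h3 : ∀ i, classInner (fun _ : G => (1 : ℂ)) (Z i) = 0 := fun i =>
    inner_swap_zero (h.Z_one i)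
  rw [h2, Finset.sum_eq_zero (fun i _ => by rw [h3, h3]; ring)] at h1
  rw [h0]
  have h4 := h.ek_ne
  push_cast
  rw [eq_div_iff h4]
  linear_combination h1

/-- `|X| / |G| = (1 - 1/k) / e` -/
theorem card_X : (Nat.card X : ℝ) / Nat.card G = ((k : ℝ) - 1) / (e * k) := by
  classical
  have h1 := h.one_one
  rw [classInner_self_eq', Complex.ofReal_inj] at h1
  have h2 : ∑ g : G, ‖X.indicator (fun _ => (1 : ℂ)) g‖ ^ 2 = (Nat.card X : ℝ) := by
    have : ∀ g : G, ‖X.indicator (fun _ => (1 : ℂ)) g‖ ^ 2 = if g ∈ X then (1 : ℝ) else 0 := by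
      intro g
      by_cases hg : g ∈ X
      · rw [Set.indicator_of_mem hg, if_pos hg]; simp
      · rw [Set.indicator_of_notMem hg, if_neg hg]; simp
    rw [Finset.sum_congr rfl fun g _ => this g, Finset.sum_boole, Nat.card_eq_fintype_card,
      Fintype.card_subtype]
  rw [h2] at h1
  rw [← h1]
  ring

theorem one_inner_Φ : classInner (X.indicator (fun _ => (1 : ℂ))) Φ = 1 := by
  rw [classInner_indicator (fun g hg => h.vanΦ g hg), ← classInner_conj_symm, h.one]; simp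

theorem one_inner_Φ' : classInner Φ (X.indicator (fun _ => (1 : ℂ))) = 1 := by
  rw [← classInner_conj_symm, h.one_inner_Φ]; simp

theorem k_gt : 1 < k := by
  have h1 := h.sum
  have h2 := h.N_ge
  have h3 := h.e_pos
  nlinarith

/-- the mass of `σ λ` on `H#^G` is at least `1 - e / (|H| - 1)` -/
theorem mass_self : 1 - (e : ℝ) / (k - 1) ≤ massOn X (Z i₀) := by
  classical
  obtain ⟨x, hx0, -⟩ := h.exists_x
  have hk1 : (1 : ℝ) < k := by exact_mod_cast h.k_gt
  have he : (0 : ℝ) < e := by exact_mod_cast h.e_pos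
  have hek : (0 : ℝ) < e * k := by positivity
  have hekC : ((e : ℂ) * k) ≠ 0 := h.ek_ne
  -- `⟨Z, Φ⟩`
  have a1 : classInner (Z i₀) Φ = ((x - 1 : ℤ) : ℂ) :=
    inner_swap_int (by rw [hx0]; push_cast; ring)
  -- `⟨Z, 1_X⟩`
  have a2 : classInner (Z i₀) (X.indicator (fun _ => (1 : ℂ))) =
      ((((k : ℝ) - 1) * x - e) / (e * k) : ℝ) := by
    have h1 := h.inner_one (Z i₀)
    have h2 : ∑ i, (m i : ℂ) * (classInner (Z i₀) (Z i) - m i * classInner (Z i₀) (Z i₀)) =
        1 - ∑ i, (m i : ℂ) ^ 2 := by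
      rw [(h.sirr i₀).norm, ← Finset.add_sum_erase _ _ (Finset.mem_univ i₀),
        ← Finset.add_sum_erase _ (fun i => (m i : ℂ) ^ 2) (Finset.mem_univ i₀), h.m₀,
        (h.sirr i₀).norm]
      have h3 : ∀ i ∈ Finset.univ.erase i₀, (m i : ℂ) * (classInner (Z i₀) (Z i) - m i * 1) =
          - (m i : ℂ) ^ 2 := by
        intro i hi
        rw [Finset.mem_erase] at hi
        rw [h.orth i₀ i hi.1.symm]; ring
      rw [Finset.sum_congr rfl h3, Finset.sum_neg_distrib]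
      push_cast; ring
    have h4 : (∑ i, (m i : ℂ) ^ 2) * e + 1 = k := by exact_mod_cast h.sum
    rw [h2, a1] at h1
    push_cast at h1 ⊢
    rw [eq_div_iff hekC]
    linear_combination h1 + h4
  have b1 := h.one_one
  have b2 := h.one_inner_Φ
  have b3 := h.one_inner_Φ'
  have b4 := h.norm
  set O : G → ℂ := X.indicator (fun _ => (1 : ℂ)) with hO
  set c : ℝ := (e : ℝ) + x with hc
  set n : ℝ := c ^ 2 * (((k : ℝ) - 1) / (e * k)) - 2 * c + e + 1 with hn
  have hF : classInner ((c : ℂ) • O - Φ) ((c : ℂ) • O - Φ) = (n : ℂ) := by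
    rw [classInner_sub_left, classInner_sub_right, classInner_sub_right, classInner_smul_left,
      classInner_smul_right, classInner_smul_right, classInner_smul_left, b1, b2, b3, b4,
      Complex.conj_ofReal, hn]
    push_cast; ring
  have hZ : classInner (Z i₀) ((c : ℂ) • O - Φ) = (n : ℂ) := by
    rw [classInner_sub_right, classInner_smul_right, a1, a2, Complex.conj_ofReal, hn, hc]
    push_cast
    have hk0 : (k : ℂ) ≠ 0 := by exact_mod_cast h.k_pos.ne'
    have he0 : (e : ℂ) ≠ 0 := by exact_mod_cast h.e_pos.ne'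
    field_simp
    ring
  have hn1 : 1 - (e : ℝ) / (k - 1) ≤ n := by
    have hk2 : (0 : ℝ) < (k : ℝ) - 1 := by linarith
    have e1 : n - (1 - (e : ℝ) / (k - 1)) = (c * (k - 1) - e * k) ^ 2 / (e * k * (k - 1)) := by
      rw [hn]
      have hk0 : (k : ℝ) ≠ 0 := by positivity
      field_simp
      ring
    have e2 : 0 ≤ (c * (k - 1) - e * k) ^ 2 / (e * k * (k - 1)) := by positivity
    linarith
  have hn0 : 0 ≤ n := by
    have := classInner_self_re_nonneg ((c : ℂ) • O - Φ)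
    rwa [hF, Complex.ofReal_re] at this
  have hm := massOn_ge (X := X) (a := Z i₀) (F := (c : ℂ) • O - Φ) hn0 (fun g hg => by
    rw [Pi.sub_apply, Pi.smul_apply, h.vanΦ g hg, hO, Set.indicator_of_notMem hg]; simp) hF hZ
    (Or.inl (by ring))
  rcases eq_or_lt_of_le hn0 with h0 | h0
  · rw [← h0] at hn1
    have : 0 ≤ massOn X (Z i₀) := classInner_self_re_nonneg _
    linarith
  · have : n ≤ massOn X (Z i₀) := by
      rw [sq] at hm
      exact le_of_mul_le_mul_left hm h0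
    linarith

/-- the mass of a function orthogonal to all `Z i` on `H#^G` -/
theorem mass_other {a : G → ℂ} {c : ℤ} (ha : ∀ i, classInner a (Z i) = 0)
    (hc : classInner a Φ = c) (hc0 : c ≠ 0) : ((k : ℝ) - 1) / (e * k) ≤ massOn X a := by
  have hk1 : (1 : ℝ) < k := by exact_mod_cast h.k_gt
  have he : (0 : ℝ) < e := by exact_mod_cast h.e_pos
  have hekC : ((e : ℂ) * k) ≠ 0 := h.ek_ne
  have hk2 : (0 : ℝ) < (k : ℝ) - 1 := by linarith
  have hpos : 0 < ((k : ℝ) - 1) / (e * k) := by positivity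
  have a2 : classInner a (X.indicator (fun _ => (1 : ℂ))) =
      (((k : ℝ) - 1) / (e * k) * c : ℝ) := by
    have h1 := h.inner_one a
    rw [Finset.sum_eq_zero (fun i _ => by rw [ha, ha]; ring), hc] at h1
    push_cast at h1 ⊢
    rw [div_mul_eq_mul_div, eq_div_iff hekC]
    linear_combination h1
  have hm := massOn_ge (X := X) (a := a) (F := X.indicator (fun _ => (1 : ℂ))) hpos.le
    (fun g hg => Set.indicator_of_notMem hg _) h.one_one a2 (Or.inr hpos)
  have hc2 : (1 : ℝ) ≤ (c : ℝ) ^ 2 := by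
    have : 0 < c ^ 2 := by positivity
    exact_mod_cast this
  rw [mul_pow, sq, mul_assoc] at hm
  have h3 := le_of_mul_le_mul_left hm hpos
  nlinarith

end IsLam

/-- Fact (D), general form. -/
theorem lam_density {κ : Type w} (S : Finset κ) (t₀ : κ) (ht₀ : t₀ ∈ S) (X : κ → Set G)
    (e k : κ → ℕ) (ι : κ → Type v) [∀ t, Fintype (ι t)] (Z : ∀ t, ι t → G → ℂ)
    (m : ∀ t, ι t → ℕ) (i₀ : ∀ t, ι t) (Φ : κ → G → ℂ)
    (h : ∀ t ∈ S, IsLam (X t) (e t) (k t) (Z t) (m t) (i₀ t) (Φ t))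
    (hd : ∀ s ∈ S, ∀ t ∈ S, s ≠ t → Disjoint (X s) (X t))
    (hz : ∀ t ∈ S, t ≠ t₀ → classInner (Z t (i₀ t)) (Φ t₀) = 0) [DecidableEq κ] :
    ∑ t ∈ S.erase t₀, ((k t : ℝ) - 1) / (e t * k t) ≤ (e t₀ : ℝ) / (k t₀ - 1) := by
  have h1 := massOn_sum_le S X hd (Z t₀ (i₀ t₀))
  rw [((h t₀ ht₀).sirr _).norm, Complex.one_re, ← Finset.add_sum_erase _ _ ht₀] at h1
  have h2 := (h t₀ ht₀).mass_self
  have h3 : ∑ t ∈ S.erase t₀, ((k t : ℝ) - 1) / (e t * k t) ≤
      ∑ t ∈ S.erase t₀, massOn (X t) (Z t₀ (i₀ t₀)) := by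
    refine Finset.sum_le_sum fun t ht => ?_
    rw [Finset.mem_erase] at ht
    have hdt := hd t₀ ht₀ t ht.2 ht.1.symm
    obtain ⟨a, b, ha, hb, hab⟩ := (h t₀ ht₀).cross_odd (h t ht.2) hdt
    rw [hz t ht.2 ht.1] at hb
    have hb0 : b = 0 := by exact_mod_cast hb.symm
    rw [hb0, add_zero] at hab
    refine (h t ht.2).mass_other (fun i => (h t₀ ht₀).cross (h t ht.2) hdt _ i) ha ?_
    rintro rfl
    simp at hab
  linarith

end Mass

end Cfsg.Agent.PF
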