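import Mathlib

set_option autoImplicit false

/-! Numerics for S1544 (lead). -/

namespace Cfsg.Agent.PF.G6

/-- contribution of the grid -/
def grid (p q : ℕ) (r s : ℤ) : ℤ :=
  ((p : ℤ) - 1) * s ^ 2 + ((q : ℤ) - 1) * r ^ 2 + ((p : ℤ) - 1) * ((q : ℤ) - 1) * (r + s - 1) ^ 2

/-- the density inequality -/
def Dens (p q u h e g aT : ℝ) (n : ℕ) : Prop :=
  1 - 1 / g - (p ^ n - 1) / (p ^ n * u * q) - aT - (1 - 1 / p) * (1 - 1 / q) - (1 - 1 / h) / e ≤
    e / (h - 1)

theorem pow_swap {p q : ℕ} (hq : 3 ≤ q) (hqp : q ≤ p) : p ^ q ≤ q ^ p := by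
  have hq0 : (0 : ℝ) < q := by
    have : 0 < q := by omega
    exact_mod_cast this
  have hp0 : (0 : ℝ) < p := by
    have : 0 < p := by omega
    exact_mod_cast this
  have he : Real.exp 1 ≤ 3 := by
    have := Real.exp_one_lt_d9
    linarith
  have hq' : Real.exp 1 ≤ (q : ℝ) := he.trans (by exact_mod_cast hq)
  have hqp' : (q : ℝ) ≤ p := by exact_mod_cast hqp
  have h := Real.log_div_self_antitoneOn (Set.mem_setOf.2 hq') (Set.mem_setOf.2 (hq'.trans hqp'))
    hqp'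
  simp only at h
  rw [div_le_div_iff₀ hp0 hq0] at h
  have h2 : Real.log ((p : ℝ) ^ q) ≤ Real.log ((q : ℝ) ^ p) := by
    rw [Real.log_pow, Real.log_pow]; linarith
  have h3 := (Real.log_le_log_iff (by positivity) (by positivity)).1 h2
  exact_mod_cast h3

/-- `p (u - 1) < q (v - 1)` -/
theorem vu {p q u v : ℕ} (hq : 3 ≤ q) (hqp : q < p) (hu1 : 1 ≤ u) (hu : u * (p - 1) ≤ p ^ q - 1)
    (hv : v * (q - 1) = q ^ p - 1) : p * (u - 1) < q * (v - 1) := by
  have hpw := pow_swap hq hqp.le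
  have hP : 1 ≤ p ^ q := Nat.one_le_pow _ _ (by omega)
  have hQ : 1 ≤ q ^ p := Nat.one_le_pow _ _ (by omega)
  have hv1 : 1 ≤ v := by
    rcases Nat.eq_zero_or_pos v with e | e
    · rw [e, zero_mul] at hv
      have : 1 < q ^ p := Nat.one_lt_pow (by omega) (by omega)
      omega
    · exact e
  zify [hu1, hv1, (show 1 ≤ p by omega), (show 1 ≤ q by omega), hP, hQ] at *
  set P : ℤ := (p : ℤ) ^ q
  set Q : ℤ := (q : ℤ) ^ p
  have p1 : (0 : ℤ) < (p : ℤ) - 1 := by linarith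
  have q1 : (0 : ℤ) < (q : ℤ) - 1 := by linarith
  have e1 : (p : ℤ) * (u - 1) * (p - 1) ≤ p * P - p ^ 2 := by nlinarith
  have e2 : (q : ℤ) * (v - 1) * (q - 1) = q * Q - q ^ 2 := by
    have : (q : ℤ) * (v - 1) * (q - 1) = q * (v * (q - 1)) - q * (q - 1) := by ring
    rw [this, hv]; ring
  have key : ((p : ℤ) * P - p ^ 2) * (q - 1) < (q * Q - q ^ 2) * (p - 1) := by
    have h1 : (p : ℤ) * P * (q - 1) ≤ p * Q * (q - 1) := by
      have := mul_le_mul_of_nonneg_left hpw (show (0 : ℤ) ≤ p * (q - 1) by positivity)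
      nlinarith
    have hQ0 : (0 : ℤ) < Q := pow_pos (by linarith) p
    have h2 : (0 : ℤ) < Q * (p - q) := by
      apply mul_pos hQ0; linarith
    nlinarith [mul_pos (show (0:ℤ) < p - q by linarith) (show (0:ℤ) < p * q - p - q by nlinarith)]
  have h3 : (p : ℤ) * (u - 1) * ((p - 1) * (q - 1)) < q * (v - 1) * ((p - 1) * (q - 1)) := by
    calc (p : ℤ) * (u - 1) * ((p - 1) * (q - 1)) = (p * (u - 1) * (p - 1)) * (q - 1) := by ring
      _ ≤ (p * P - p ^ 2) * (q - 1) := mul_le_mul_of_nonneg_right e1 q1.le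
      _ < (q * Q - q ^ 2) * (p - 1) := key
      _ = q * (v - 1) * ((p - 1) * (q - 1)) := by rw [← e2]; ring
  exact lt_of_mul_lt_mul_right h3 (mul_pos p1 q1).le

/-- the hypotheses on `u` and `v` -/
structure UV (p q u v : ℕ) : Prop where
  hp : p.Prime
  hq : q.Prime
  q3 : 3 ≤ q
  hqp : q < p
  u_ne : p % q ≠ 1 → u * (p - 1) = p ^ q - 1
  u_eq : p % q = 1 → u * q * (p - 1) = p ^ q - 1
  hv : v * (q - 1) = q ^ p - 1

theorem UV.u_pos {p q u v : ℕ} (h : UV p q u v) : 1 ≤ u := by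
  have hP : 1 < p ^ q := Nat.one_lt_pow h.hq.ne_zero h.hp.one_lt
  rcases Nat.eq_zero_or_pos u with e | e
  · by_cases hm : p % q = 1
    · have := h.u_eq hm
      rw [e] at this
      simp at this
      omega
    · have := h.u_ne hm
      rw [e] at this
      simp at this
      omega
  · exact e

theorem UV.u_le {p q u v : ℕ} (h : UV p q u v) : u * (p - 1) ≤ p ^ q - 1 := by
  by_cases hm : p % q = 1
  · rw [← h.u_eq hm]
    calc u * (p - 1) = u * 1 * (p - 1) := by ring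
      _ ≤ u * q * (p - 1) := Nat.mul_le_mul_right _ (Nat.mul_le_mul_left _ (by have := h.q3; omega))
  · rw [h.u_ne hm]

theorem UV.vu {p q u v : ℕ} (h : UV p q u v) : p * (u - 1) < q * (v - 1) :=
  G6.vu h.q3 h.hqp h.u_pos h.u_le h.hv

/-- `u q ≥ (p^q-1)/(p-1)` -/
theorem UV.uq {p q u v : ℕ} (h : UV p q u v) : p ^ q - 1 ≤ u * q * (p - 1) := by
  by_cases hm : p % q = 1
  · rw [h.u_eq hm]
  · rw [← h.u_ne hm]
    calc u * (p - 1) = u * 1 * (p - 1) := by ring
      _ ≤ u * q * (p - 1) := Nat.mul_le_mul_right _ (Nat.mul_le_mul_left _ (by have := h.q3; omega))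

theorem UV.p5 {p q u v : ℕ} (h : UV p q u v) : 5 ≤ p := by
  have h1 := h.q3
  have h2 := h.hqp
  have : p ≠ 4 := by
    rintro rfl
    exact absurd h.hp (by norm_num)
  omega

theorem UV.q_cases {p q u v : ℕ} (h : UV p q u v) : q = 3 ∨ (5 ≤ q ∧ 7 ≤ p) := by
  have h1 := h.q3
  have h2 := h.hqp
  have h3 := h.hq
  have h4 := h.hp
  by_cases e : q = 3
  · exact Or.inl e
  · right
    have : q ≠ 4 := by rintro rfl; norm_num at h3
    have : p ≠ 6 := by rintro rfl; norm_num at h4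
    omega

/-- for `q ≥ 5`: `u q ≥ p^4 + p` -/
theorem UV.u5 {p q u v : ℕ} (h : UV p q u v) (hq : 5 ≤ q) : p ^ 4 + p ^ 3 ≤ u * q := by
  have h1 := h.uq
  have hp1 := h.hp.one_lt
  have h2 : (p ^ 4 + p ^ 3) * (p - 1) ≤ p ^ 5 - 1 := by
    obtain ⟨m, rfl⟩ : ∃ m, p = m + 1 := ⟨p - 1, by omega⟩
    have : (m + 1) ^ 5 - 1 = ((m + 1) ^ 4 + (m + 1) ^ 3 + (m + 1) ^ 2 + (m + 1) + 1) * m := by
      have : (m + 1) ^ 5 = ((m + 1) ^ 4 + (m + 1) ^ 3 + (m + 1) ^ 2 + (m + 1) + 1) * m + 1 := by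
        ring
      omega
    rw [this, Nat.add_sub_cancel]
    apply Nat.mul_le_mul_right
    omega
  have h3 : p ^ 5 ≤ p ^ q := Nat.pow_le_pow_right (by omega) hq
  have h4 : (p ^ 4 + p ^ 3) * (p - 1) ≤ u * q * (p - 1) := by omega
  exact Nat.le_of_mul_le_mul_right h4 (by omega)

/-- for `q = 3` -/
theorem UV.u3 {p u v : ℕ} (h : UV p 3 u v) :
    (p % 3 ≠ 1 → u = p ^ 2 + p + 1) ∧ (p % 3 = 1 → 3 * u = p ^ 2 + p + 1) := by
  have hp1 := h.hp.one_lt
  have h2 : p ^ 3 - 1 = (p ^ 2 + p + 1) * (p - 1) := by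
    obtain ⟨m, rfl⟩ : ∃ m, p = m + 1 := ⟨p - 1, by omega⟩
    have : (m + 1) ^ 3 = ((m + 1) ^ 2 + (m + 1) + 1) * m + 1 := by ring
    rw [Nat.add_sub_cancel]
    omega
  constructor
  · intro hm
    have h3 := h.u_ne hm
    rw [h2] at h3
    exact Nat.eq_of_mul_eq_mul_right (by omega) h3
  · intro hm
    have h3 := h.u_eq hm
    rw [h2] at h3
    have := Nat.eq_of_mul_eq_mul_right (by omega) h3
    omega

theorem UV.v_ge {p q u v : ℕ} (h : UV p q u v) : q ^ (p - 1) + 1 ≤ v := by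
  have h1 := h.hv
  have q3 := h.q3
  have p5 := h.p5
  obtain ⟨m, rfl⟩ : ∃ m, q = m + 1 := ⟨q - 1, by omega⟩
  obtain ⟨n, rfl⟩ : ∃ n, p = n + 2 := ⟨p - 2, by omega⟩
  have e1 : n + 2 - 1 = n + 1 := by omega
  rw [e1]
  rw [Nat.add_sub_cancel] at h1
  have hQ : 1 ≤ (m + 1) ^ n := Nat.one_le_pow _ _ (by omega)
  have h2 : ((m + 1) ^ (n + 1) + 1) * m ≤ (m + 1) ^ (n + 2) - 1 := by
    have h3 : ((m + 1) ^ (n + 1) + 1) * m + 1 ≤ (m + 1) ^ (n + 2) := by
      have e2 : (m + 1) ^ (n + 2) = (m + 1) ^ (n + 1) * m + (m + 1) ^ (n + 1) := by ring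
      have e3 : (m + 1) ^ (n + 1) = (m + 1) ^ n * (m + 1) := by ring
      have e4 : 1 * (m + 1) ≤ (m + 1) ^ n * (m + 1) := Nat.mul_le_mul_right _ hQ
      have e5 : ((m + 1) ^ (n + 1) + 1) * m = (m + 1) ^ (n + 1) * m + m := by ring
      omega
    omega
  rw [← h1] at h2
  exact Nat.le_of_mul_le_mul_right h2 (by omega)

theorem three_pow_ge {p : ℕ} (hp : 5 ≤ p) : p ^ 2 ≤ 3 ^ (p - 2) := by
  obtain ⟨n, rfl⟩ : ∃ n, p = n + 5 := ⟨p - 5, by omega⟩
  have e : n + 5 - 2 = n + 3 := by omega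
  rw [e]
  clear hp e
  induction n with
  | zero => norm_num
  | succ n ih =>
    have e1 : (3 : ℕ) ^ (n + 1 + 3) = 3 * 3 ^ (n + 3) := by ring
    have e2 : 3 * (n + 5) ^ 2 = (n + 1 + 5) ^ 2 + (2 * n ^ 2 + 18 * n + 39) := by ring
    rw [e1]
    calc (n + 1 + 5) ^ 2 ≤ 3 * (n + 5) ^ 2 := by rw [e2]; exact Nat.le_add_right _ _
      _ ≤ 3 * 3 ^ (n + 3) := Nat.mul_le_mul_left _ ih

/-- grid estimates -/
theorem grid_nonneg {p q : ℕ} (hp : 1 ≤ p) (hq : 1 ≤ q) (r s : ℤ) : 0 ≤ grid p q r s := by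
  have h1 : (0 : ℤ) ≤ (p : ℤ) - 1 := by omega
  have h2 : (0 : ℤ) ≤ (q : ℤ) - 1 := by omega
  unfold grid
  positivity

theorem sq_ge_one {x : ℤ} (h : x ≠ 0) : 1 ≤ x ^ 2 := by
  have : 0 < x ^ 2 := by positivity
  omega

theorem odd_ne_zero {x : ℤ} (h : Odd x) : x ≠ 0 := by
  rintro rfl
  exact absurd h (by decide)

theorem grid_odd {p q : ℕ} (hp : 1 ≤ p) (hq : 1 ≤ q) {r s : ℤ} (hs : Odd s) :
    (p : ℤ) - 1 ≤ grid p q r s := by
  have h1 : (0 : ℤ) ≤ (p : ℤ) - 1 := by omega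
  have h2 : (0 : ℤ) ≤ (q : ℤ) - 1 := by omega
  have h3 := sq_ge_one (odd_ne_zero hs)
  have h4 : 0 ≤ ((q : ℤ) - 1) * r ^ 2 := by positivity
  have h5 : 0 ≤ ((p : ℤ) - 1) * ((q : ℤ) - 1) * (r + s - 1) ^ 2 := by positivity
  have h6 : ((p : ℤ) - 1) * 1 ≤ ((p : ℤ) - 1) * s ^ 2 := mul_le_mul_of_nonneg_left h3 h1
  unfold grid
  linarith

/-- `e = q`: then `s = 0` -/
theorem s_zero {p q : ℕ} (hq : 3 ≤ q) (hqp : q < p) {r s : ℤ} (h : grid p q r s ≤ (q : ℤ) - 1) :
    s = 0 := by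
  by_contra hs
  have h3 := sq_ge_one hs
  have h1 : (0 : ℤ) ≤ (p : ℤ) - 1 := by omega
  have h2 : (0 : ℤ) ≤ (q : ℤ) - 1 := by omega
  have h4 : 0 ≤ ((q : ℤ) - 1) * r ^ 2 := by positivity
  have h5 : 0 ≤ ((p : ℤ) - 1) * ((q : ℤ) - 1) * (r + s - 1) ^ 2 := by positivity
  have h6 : ((p : ℤ) - 1) * 1 ≤ ((p : ℤ) - 1) * s ^ 2 := mul_le_mul_of_nonneg_left h3 h1
  unfold grid at h
  have : (q : ℤ) < p := by exact_mod_cast hqp
  linarith

/-- `e = p`: then `s = 0` or `r = 0` -/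
theorem s_or_r_zero {p q : ℕ} (hq : 3 ≤ q) (hqp : q < p) {r s : ℤ}
    (h : grid p q r s ≤ (p : ℤ) - 1) : s = 0 ∨ r = 0 := by
  by_contra hcon
  push Not at hcon
  have h3 := sq_ge_one hcon.1
  have h3' := sq_ge_one hcon.2
  have h1 : (0 : ℤ) ≤ (p : ℤ) - 1 := by omega
  have h2 : (0 : ℤ) < (q : ℤ) - 1 := by omega
  have h5 : 0 ≤ ((p : ℤ) - 1) * ((q : ℤ) - 1) * (r + s - 1) ^ 2 := by positivity
  have h6 : ((p : ℤ) - 1) * 1 ≤ ((p : ℤ) - 1) * s ^ 2 := mul_le_mul_of_nonneg_left h3 h1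
  have h7 : ((q : ℤ) - 1) * 1 ≤ ((q : ℤ) - 1) * r ^ 2 := mul_le_mul_of_nonneg_left h3' h2.le
  unfold grid at h
  linarith

/-- type III: first alternative -/
theorem UV.e1 {p q u v h : ℕ} (U : UV p q u v) (hlow : p * (u - 1) < h - 1)
    (hup : h - 1 ≤ p * q * (p - q)) : False := by
  have h1 : p * (u - 1) < p * (q * (p - q)) := by
    calc p * (u - 1) < h - 1 := hlow
      _ ≤ p * q * (p - q) := hup
      _ = p * (q * (p - q)) := by ring
  have h2 := Nat.lt_of_mul_lt_mul_left h1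
  have hp5 := U.p5
  rcases U.q_cases with rfl | ⟨hq5, hp7⟩
  · obtain ⟨a, b⟩ := U.u3
    have hqp := U.hqp
    by_cases hm : p % 3 = 1
    · have h3 := b hm
      zify [show 3 ≤ p by omega, U.u_pos] at *
      nlinarith
    · have h3 := a hm
      zify [show 3 ≤ p by omega, U.u_pos] at *
      nlinarith
  · have h3 := U.u5 hq5
    have hqp := U.hqp
    have hu := U.u_pos
    have h4 : u - 1 < q * p := lt_of_lt_of_le h2 (Nat.mul_le_mul_left _ (Nat.sub_le _ _))
    have h5 : u ≤ q * p := by omega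
    have h6 : u * q ≤ p * p * p := by
      calc u * q ≤ (q * p) * q := Nat.mul_le_mul_right _ h5
        _ ≤ (p * p) * p := Nat.mul_le_mul (Nat.mul_le_mul_right _ hqp.le) hqp.le
    have h7 : p * p * p < p ^ 4 + p ^ 3 := by
      have : 0 < p ^ 4 := by positivity
      have e : p * p * p = p ^ 3 := by ring
      omega
    omega

/-- `v - 1 ≤ p² (q - 1)` is impossible -/
theorem UV.e2 {p q u v : ℕ} (U : UV p q u v) (h : v - 1 ≤ p * (p * q - p)) : False := by
  have h1 := U.v_ge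
  have h2 := three_pow_ge U.p5
  have hq3 := U.q3
  have hp5 := U.p5
  have h3 : p ^ 2 * q ≤ q ^ (p - 1) := by
    have e : p - 1 = (p - 2) + 1 := by omega
    rw [e, pow_succ]
    apply Nat.mul_le_mul_right
    exact h2.trans (Nat.pow_le_pow_left hq3 _)
  have h4 : p * (p * q - p) < p ^ 2 * q := by
    have e : p * (p * q - p) = p ^ 2 * q - p ^ 2 := by
      rw [Nat.mul_sub]; ring_nf
    have h5 : 0 < p ^ 2 := by positivity
    have h6 : p ^ 2 * 1 ≤ p ^ 2 * q := Nat.mul_le_mul_left _ (by omega)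
    omega
  omega

/-- **F, first alternative** -/
theorem UV.f1 {p q u v h : ℕ} (U : UV p q u v) (hlow : p * (u - 1) < h - 1)
    (hup : h - 1 ≤ p * q * (p * q - 1)) (hd : u ∣ h) (hm : 2 * (p * q) ∣ h - 1) : False := by
  have h1 : p * (u - 1) < p * (q * (p * q - 1)) := by
    calc p * (u - 1) < h - 1 := hlow
      _ ≤ p * q * (p * q - 1) := hup
      _ = p * (q * (p * q - 1)) := by ring
  have h2 := Nat.lt_of_mul_lt_mul_left h1
  have hp5 := U.p5
  have hu := U.u_pos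
  have hh : 1 ≤ h := by omega
  rcases U.q_cases with rfl | ⟨hq5, hp7⟩
  · obtain ⟨a, b⟩ := U.u3
    have hp := U.hp
    by_cases hm3 : p % 3 = 1
    · have h3 := b hm3
      have hp26 : p < 26 := by
        by_contra hcon
        push Not at hcon
        have h4 : 3 * u ≤ 27 * p := by
          have : u - 1 < 3 * (p * 3) := lt_of_lt_of_le h2 (by
            apply Nat.mul_le_mul_left; omega)
          omega
        rw [h3] at h4
        nlinarith
      have hp3 : p = 7 ∨ p = 13 ∨ p = 19 := by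
        interval_cases p <;> first | omega | (exfalso; revert hp; norm_num)
      rcases hp3 with rfl | rfl | rfl
      · have : u = 19 := by omega
        subst this
        omega
      · have : u = 61 := by omega
        subst this
        omega
      · have : u = 127 := by omega
        subst this
        omega
    · have h3 := a hm3
      have hp8 : p < 8 := by
        by_contra hcon
        push Not at hcon
        have h4 : u ≤ 9 * p - 3 := by omega
        rw [h3] at h4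
        have h5 : p ^ 2 + p + 4 ≤ 9 * p := by omega
        nlinarith
      have hp3 : p = 5 := by
        interval_cases p <;> first | omega | (exfalso; revert hp; norm_num)
      subst hp3
      have : u = 31 := by omega
      subst this
      omega
  · have h3 := U.u5 hq5
    have hqp := U.hqp
    have h4 : u - 1 < q * (p * q) := lt_of_lt_of_le h2 (Nat.mul_le_mul_left _ (Nat.sub_le _ _))
    have h5 : u ≤ q * (p * q) := by omega
    have h6 : u * q ≤ p * (p * p) * p := by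
      calc u * q ≤ (q * (p * q)) * q := Nat.mul_le_mul_right _ h5
        _ ≤ (p * (p * p)) * p := Nat.mul_le_mul
            (Nat.mul_le_mul hqp.le (Nat.mul_le_mul_left _ hqp.le)) hqp.le
    have h7 : p * (p * p) * p < p ^ 4 + p ^ 3 := by
      have : 0 < p ^ 3 := by positivity
      have e : p * (p * p) * p = p ^ 4 := by ring
      omega
    omega

/-- **F, second alternative** -/
theorem UV.f2 {p q u v h : ℕ} (U : UV p q u v) (hlow : p * (u - 1) < h - 1)
    (hv : v - 1 ≤ p * q * (p * q - p)) (hup : h - 1 ≤ q * (v - 1)) (hd : u ∣ h)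
    (hm : 2 * (p * q) ∣ h - 1) : False := by
  have h1 := U.v_ge
  have hq3 := U.q3
  have hp5 := U.p5
  have hqp := U.hqp
  have hp := U.hp
  have hq := U.hq
  -- `3 ^ (p - 3) < p ^ 2`
  have h2 : q ^ (p - 1) < p ^ 2 * q ^ 2 := by
    have h3 : p * q * (p * q - p) < p ^ 2 * q ^ 2 := by
      have e : p * q * (p * q - p) = p ^ 2 * q ^ 2 - p ^ 2 * q := by
        rw [Nat.mul_sub]; ring_nf
      have h5 : 0 < p ^ 2 * q := by positivity
      have h6 : 0 < p ^ 2 * q ^ 2 := by positivity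
      omega
    omega
  have h3 : q ^ (p - 3) < p ^ 2 := by
    have e : p - 1 = (p - 3) + 2 := by omega
    rw [e, pow_add] at h2
    exact Nat.lt_of_mul_lt_mul_right h2
  have h4 : 3 ^ (p - 3) < p ^ 2 := lt_of_le_of_lt (Nat.pow_le_pow_left hq3 _) h3
  have h7 : p < 7 := by
    by_contra hcon
    push Not at hcon
    obtain ⟨n, rfl⟩ : ∃ n, p = n + 7 := ⟨p - 7, by omega⟩
    have key : (n + 7) ^ 2 ≤ 3 ^ (n + 4) := by
      clear * -
      induction n with
      | zero => norm_num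
      | succ n ih =>
        have e1 : (3 : ℕ) ^ (n + 1 + 4) = 3 * 3 ^ (n + 4) := by ring
        have e2 : 3 * (n + 7) ^ 2 = (n + 1 + 7) ^ 2 + (2 * n ^ 2 + 26 * n + 83) := by ring
        rw [e1]
        calc (n + 1 + 7) ^ 2 ≤ 3 * (n + 7) ^ 2 := by rw [e2]; exact Nat.le_add_right _ _
          _ ≤ 3 * 3 ^ (n + 4) := Nat.mul_le_mul_left _ ih
    have e : n + 7 - 3 = n + 4 := by omega
    rw [e] at h4
    omega
  have hp5' : p = 5 := by
    have : p ≠ 6 := by rintro rfl; norm_num at hp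
    omega
  subst hp5'
  have hq3' : q = 3 := by
    have : q ≠ 4 := by rintro rfl; norm_num at hq
    omega
  subst hq3'
  obtain ⟨a, -⟩ := U.u3
  have hu : u = 31 := by
    have := a (by norm_num)
    omega
  have hv' := U.hv
  norm_num at hv'
  have : v = 121 := by omega
  subst this
  subst hu
  omega

/-- **D**: the density inequality is impossible -/
theorem UV.dens {p q u v : ℕ} (U : UV p q u v) {h g t aT : ℝ} (hlow : (p : ℝ) * (u - 1) < h - 1)
    (ht : 0 < t) (htg : t ≤ g) (haT : aT ≤ 1 / p - 1 / t)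
    (hD : Dens p q u h (p * q) g aT q) : False := by
  have hp5 : (5 : ℝ) ≤ p := by exact_mod_cast U.p5
  have hq3 : (3 : ℝ) ≤ q := by exact_mod_cast U.q3
  have hqp : (q : ℝ) < p := by exact_mod_cast U.hqp
  have hu7 : 19 ≤ u := by
    rcases U.q_cases with e | ⟨hq5, hp7⟩
    · subst e
      obtain ⟨a, b⟩ := U.u3
      have hp5 := U.p5
      by_cases hm3 : p % 3 = 1
      · have h3 := b hm3
        have : 7 ≤ p := by omega
        nlinarith
      · have h3 := a hm3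
        nlinarith
    · have h3 := U.u5 hq5
      have h4 := U.hqp
      by_contra hcon
      push Not at hcon
      have h5 : u * q ≤ 18 * p := Nat.mul_le_mul (by omega) h4.le
      have h6 : 7 ^ 3 * p ≤ p ^ 3 * p := Nat.mul_le_mul_right _ (Nat.pow_le_pow_left hp7 3)
      have e : p ^ 3 * p = p ^ 4 := by ring
      omega
  have hu1 : (19 : ℝ) ≤ u := by exact_mod_cast hu7
  -- the key estimate `q^2/(u-1) + 1/u ≤ (p-2)/p`
  have key : (q : ℝ) ^ 2 / (u - 1) + 1 / u ≤ (p - 2) / p := by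
    have k1 : (1 : ℝ) / u ≤ 1 / 19 := by
      rw [div_le_div_iff₀ (by linarith) (by norm_num)]; linarith
    rcases U.q_cases with e | ⟨hq5, hp7⟩
    · have k2 : (q : ℝ) ^ 2 / (u - 1) ≤ 9 / 18 := by
        rw [e, div_le_div_iff₀ (by linarith) (by norm_num)]
        push_cast
        linarith
      have k3 : (3 : ℝ) / 5 ≤ (p - 2) / p := by
        rw [div_le_div_iff₀ (by norm_num) (by linarith)]; linarith
      linarith
    · have h3 : (p : ℝ) ^ 4 + (p : ℝ) ^ 3 ≤ u * q := by exact_mod_cast U.u5 hq5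
      have hp7' : (7 : ℝ) ≤ p := by exact_mod_cast hp7
      have k2 : (q : ℝ) ^ 2 / (u - 1) ≤ 1 / p := by
        rw [div_le_div_iff₀ (by linarith) (by linarith)]
        have h4 : (p : ℝ) ^ 4 ≤ (u - 1) * q := by
          have : (q : ℝ) ≤ p ^ 3 := by nlinarith [sq_nonneg (p : ℝ)]
          nlinarith
        have h5 : (q : ℝ) ^ 2 * p * q ≤ p ^ 4 := by
          have h6 : (q : ℝ) ^ 3 ≤ p ^ 3 := pow_le_pow_left₀ (by linarith) hqp.le 3
          have h7 := mul_le_mul_of_nonneg_right h6 (show (0 : ℝ) ≤ p by linarith)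
          nlinarith
        have h6 : (q : ℝ) ^ 2 * p * q ≤ (u - 1) * q := h5.trans h4
        have h7 := le_of_mul_le_mul_right h6 (by linarith)
        linarith
      have k4 : (1 : ℝ) / p ≤ 1 / 7 := by
        rw [div_le_div_iff₀ (by linarith) (by norm_num)]; linarith
      have k3 : (5 : ℝ) / 7 ≤ (p - 2) / p := by
        rw [div_le_div_iff₀ (by norm_num) (by linarith)]; linarith
      linarith
  have hh : 0 < h - 1 := lt_of_le_of_lt (by
    apply mul_nonneg <;> linarith) hlow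
  have e1 : ((p : ℝ) * q) / (h - 1) < q / (u - 1) := by
    rw [div_lt_div_iff₀ hh (by linarith)]
    have : (q : ℝ) * (p * (u - 1)) < q * (h - 1) := mul_lt_mul_of_pos_left hlow (by linarith)
    linarith
  unfold Dens at hD
  have p0 : (0 : ℝ) < p := by linarith
  have q0 : (0 : ℝ) < q := by linarith
  have u0 : (0 : ℝ) < u := by linarith
  have h0 : (0 : ℝ) < h := by linarith
  have hP : (0 : ℝ) < (p : ℝ) ^ q := pow_pos p0 q
  have f1 : ((p : ℝ) ^ q - 1) / ((p : ℝ) ^ q * u * q) ≤ 1 / (u * q) := by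
    rw [div_le_div_iff₀ (by positivity) (by positivity)]
    nlinarith [mul_pos u0 q0]
  have f2 : 1 / g ≤ 1 / t := one_div_le_one_div_of_le ht htg
  have f3 : 0 < 1 / (h : ℝ) := by positivity
  have f4 : (1 - 1 / (h : ℝ)) / (p * q) ≤ 1 / (p * q) := by
    apply div_le_div_of_nonneg_right _ (by positivity)
    linarith
  have f5 : (1 : ℝ) - (1 - 1 / p) * (1 - 1 / q) = 1 / p + 1 / q - 1 / (p * q) := by
    field_simp
    ring
  have f6 : 1 / (q : ℝ) - 1 / (p * q) - 1 / (p * q) - 1 / (u * q) < q / (u - 1) := by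
    linarith
  have f7 : (q : ℝ) * (1 / q - 1 / (p * q) - 1 / (p * q) - 1 / (u * q)) =
      (p - 2) / p - 1 / u := by
    field_simp
    ring
  have f8 : (q : ℝ) * (q / (u - 1)) = q ^ 2 / (u - 1) := by ring
  have f9 := mul_lt_mul_of_pos_left f6 q0
  rw [f7, f8] at f9
  linarith

end Cfsg.Agent.PF.G6
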