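import Cfsg.Agent.PF.Good5
import Cfsg.Agent.H21.OBasic

set_option autoImplicit false

/-! The inequality (13.10') (lead). -/

namespace Cfsg.Agent.PF

open Subgroup ComplexConjugate
open Cfsg.Agent.H3 Cfsg.Agent.H11

universe u v w

variable {G : Type u} [Group G] [Fintype G]

theorem sum_norm_sirr {f : G → ℂ} (hf : SIrr f) : ∑ g : G, ‖f g‖ ^ 2 = (Nat.card G : ℝ) := by
  have e1 := hf.norm
  rw [classInner_self_eq] at e1
  have e2 : (Nat.card G : ℝ)⁻¹ * ∑ k : G, ‖f k‖ ^ 2 = 1 := by exact_mod_cast e1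
  have hK : (Nat.card G : ℝ) ≠ 0 := by exact_mod_cast Nat.card_pos.ne'
  field_simp at e2
  exact e2

variable {M W₁ U W₂ : Subgroup G} [Fintype ↥M] {η : Lin W₁ W₂ → G → ℂ}
  {μ : Lin W₁ W₂ → ↥M → ℂ} {δ : Lin W₁ W₂ → ℤ} {u : ℕ}

theorem exJ (hW : IsSelfNormalizingCyclic W₁ W₂) : ∃ ψ : Lin W₁ W₂, IsJ W₁ W₂ ψ ∧ ψ ≠ 1 := by
  obtain ⟨ψ, h1, h2⟩ := (PF.exists_ne_one hW).2
  exact ⟨ψ, fun w hw => h1 w (mem_subgroupOf.2 hw), h2⟩

theorem exI (hW : IsSelfNormalizingCyclic W₁ W₂) : ∃ φ : Lin W₁ W₂, IsI W₁ W₂ φ ∧ φ ≠ 1 := by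
  obtain ⟨ψ, h1, h2⟩ := (PF.exists_ne_one hW).1
  exact ⟨ψ, fun w hw => h1 w (mem_subgroupOf.2 hw), h2⟩

theorem linI_pow_card {φ : Lin W₁ W₂} (hφ : IsI W₁ W₂ φ) : φ ^ Nat.card W₁ = 1 := by
  have h1 : (⊤ : Subgroup ↥(W₁ ⊔ W₂)) ≤ (φ ^ Nat.card W₁).ker := by
    rw [← PF.sub_top (W₁ := W₁) (W₂ := W₂), sup_le_iff]
    constructor
    · intro w hw
      rw [mem_subgroupOf] at hw
      rw [MonoidHom.mem_ker, MonoidHom.pow_apply, ← map_pow]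
      have : w ^ Nat.card W₁ = 1 := by
        apply Subtype.ext
        have h2 : orderOf (w : G) ∣ Nat.card W₁ := by
          have := orderOf_dvd_natCard (⟨(w : G), hw⟩ : W₁)
          rwa [Subgroup.orderOf_mk] at this
        exact orderOf_dvd_iff_pow_eq_one.1 h2
      rw [this, map_one]
    · intro w hw
      rw [mem_subgroupOf] at hw
      rw [MonoidHom.mem_ker, MonoidHom.pow_apply, hφ w hw, one_pow]
  apply MonoidHom.ext
  intro w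
  exact MonoidHom.mem_ker.1 (h1 (mem_top w))

theorem unit_norm {z : ℂˣ} {N : ℕ} (hN : N ≠ 0) (h : z ^ N = 1) : ‖(z : ℂ)‖ = 1 := by
  have h1 : (z : ℂ) ^ N = 1 := by rw [← Units.val_pow_eq_pow_val, h]; rfl
  exact Complex.norm_eq_one_of_pow_eq_one h1 hN

theorem lin_norm (ω : Lin W₁ W₂) (w : ↥(W₁ ⊔ W₂)) : ‖((ω w : ℂˣ) : ℂ)‖ = 1 := by
  refine unit_norm (N := Nat.card ↥(W₁ ⊔ W₂)) Nat.card_pos.ne' ?_
  rw [← map_pow, pow_card_eq_one', map_one]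

namespace IsGood

variable (h : IsGood M W₁ U W₂ η μ δ u)

include h

theorem coprime_pq : (Nat.card W₂).Coprime (Nat.card W₁) :=
  (Nat.Coprime.coprime_dvd_right (Subgroup.card_dvd_of_le h.F.hP.W₂_le') h.F.hP.coprime_W₁).symm

/-- `η_φ` is nonzero on `M_F ∖ 1` -/
theorem kappa {φ : Lin W₁ W₂} (hφ : IsI W₁ W₂ φ) :
    ∃ κ : ℂ, 1 ≤ ‖κ‖ ^ 2 ∧ ∀ x ∈ PM M, x ≠ 1 → η φ (x : ↥M) = κ := by
  obtain ⟨ψ₁, hψ₁, h1⟩ := exJ h.F.hW
  obtain ⟨κ, hκ⟩ := h.etaI_const hφ hψ₁ h1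
  refine ⟨κ, ?_, hκ⟩
  have hW₂P : W₂ ≤ fittingHallOf M := h.F.hP.W₂_le.trans inf_le_left
  obtain ⟨x₀, hx₀, hx₁⟩ := H21.exists_ne_one h.F.hW.2.1
  obtain ⟨w₀, hw₀, hw₁⟩ := H21.exists_ne_one h.F.hW.1
  have hx₀M : x₀ ∈ M := fhOf_le' M (hW₂P hx₀)
  have e1 : η φ x₀ = κ := hκ ⟨x₀, hx₀M⟩ (mem_subgroupOf.2 (hW₂P hx₀))
    (fun e => hx₁ (congrArg Subtype.val e))
  have ox : orderOf x₀ ∣ Nat.card W₂ := by
    have := orderOf_dvd_natCard (⟨x₀, hx₀⟩ : W₂)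
    rwa [Subgroup.orderOf_mk] at this
  have ow : orderOf w₀ = Nat.card W₁ := by
    have h2 := orderOf_dvd_natCard (⟨w₀, hw₀⟩ : W₁)
    rw [Subgroup.orderOf_mk] at h2
    rcases (Nat.dvd_prime h.hq).1 h2 with h3 | h3
    · exact absurd (orderOf_eq_one_iff.1 h3) hw₁
    · exact h3
  have oφ : orderOf φ ∣ Nat.card W₁ := orderOf_dvd_of_pow_eq_one (linI_pow_card hφ)
  have hint : ∃ n : ℤ, η φ x₀ = n := eta_int h.F.hW h.F.fam h.F.oddW φ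
    (Nat.Coprime.coprime_dvd_left ox (Nat.Coprime.coprime_dvd_right oφ h.coprime_pq))
  rw [← e1]
  refine int_norm_ge hint fun h0 => ?_
  have hcomm : w₀ * x₀ = x₀ * w₀ := h.F.hW.2.2.2.1 w₀ hw₀ x₀ hx₀
  obtain ⟨ω, hω, hω'⟩ := Cfsg.Agent.S1494.result (η φ) (eta_sirr h.F.fam φ).isGen (Nat.card W₁)
    h.hq w₀ x₀ ow hcomm
  have hwW : w₀ * x₀ ∈ W₁ ⊔ W₂ := mul_mem (mem_sup_left hw₀) (mem_sup_right hx₀)
  have n1 : w₀ * x₀ ∉ W₁ := by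
    intro k
    have : x₀ ∈ W₁ ⊓ W₂ := ⟨by simpa using mul_mem (inv_mem hw₀) k, hx₀⟩
    rw [h.F.hW.2.2.1, Subgroup.mem_bot] at this
    exact hx₁ this
  have n2 : w₀ * x₀ ∉ W₂ := by
    intro k
    have : w₀ ∈ W₁ ⊓ W₂ := ⟨hw₀, by simpa using mul_mem k (inv_mem hx₀)⟩
    rw [h.F.hW.2.2.1, Subgroup.mem_bot] at this
    exact hw₁ this
  have e2 := h.F.fam.eq_on φ ⟨w₀ * x₀, hwW⟩ n1 n2
  simp only at e2
  rw [e2, h0, sub_zero] at hω'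
  set z : ℂˣ := φ ⟨w₀ * x₀, hwW⟩ with hz
  have hzN : z ^ Nat.card ↥(W₁ ⊔ W₂) = 1 := by rw [hz, ← map_pow, pow_card_eq_one', map_one]
  have hzi : z⁻¹ ^ Nat.card ↥(W₁ ⊔ W₂) = 1 := by rw [inv_pow, hzN, inv_one]
  have hzint : IsIntegral ℤ ((z⁻¹ : ℂˣ) : ℂ) := by
    refine H27.isIntegral_of_pow_eq_one (n := Nat.card ↥(W₁ ⊔ W₂)) Nat.card_pos.ne' ?_
    rw [← Units.val_pow_eq_pow_val, hzi]; rfl
  have e3 : ((1 : ℤ) : ℂ) = (1 - Complex.exp (2 * Real.pi * Complex.I / (Nat.card W₁ : ℕ))) *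
      (ω * ((z⁻¹ : ℂˣ) : ℂ)) := by
    rw [← mul_assoc, ← hω']; simp
  have := Cfsg.Agent.S1495.result (Nat.card W₁) h.hq 1 _ (hω.mul hzint) e3
  have h2 := Int.le_of_dvd (by norm_num) this
  have := h.hq.two_le
  omega

/-- the lower bound for the masses of `σλ` and `η_φ` on `A(S)^G` -/
theorem mass_S {lam : ↥M → ℂ} (hl : lam ∈ SH M ⊥) (hirr : IsIrrCharacter ↥M lam)
    {σ : (↥M → ℂ) → G → ℂ} (hσ : CohMap (↑(Yset M (lam 1))) (tauM M) σ)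
    {φ : Lin W₁ W₂} (hφ : IsI W₁ W₂ φ) (hφ1 : φ ≠ 1)
    (hord : ∀ a ∈ typeA M, ¬ Nat.card W₁ ∣ orderOf a) :
    (Nat.card M : ℝ) - ‖lam 1‖ ^ 2 - ‖lam 1‖ ^ 2 / ((Nat.card (fittingHallOf M) : ℝ) - 1) +
      (AF M).card ≤ ∑ a ∈ AF M, (‖σ lam (a : G)‖ ^ 2 + ‖η φ (a : G)‖ ^ 2) := by
  classical
  letI : Fintype ↥(PM M) := Fintype.ofFinite _
  obtain ⟨ψ₁, hψ₁, h1⟩ := exJ h.F.hW
  obtain ⟨f₀, κ, k1, k2, k3, k4, k5, k6⟩ := h.sigma_const hl hirr hσ hψ₁ h1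
  obtain ⟨κ', k7, k8⟩ := h.kappa hφ
  have m1 := h.mass_ge (f := fun x : ↥M => σ lam x) k1 k5 k6
  have m2 := h.mass_eq0 (f := fun x : ↥M => η φ x) k8
  have m3 : ∀ a ∈ BF M, 1 ≤ ‖Ec M a (fun x : ↥M => σ lam x)‖ ^ 2 +
      ‖Ec M a (fun x : ↥M => η φ x)‖ ^ 2 := by
    intro a ha
    have := h.dich hl hirr hσ (cos M a) hφ hφ1 hψ₁ h1
      (fun i φ' ψ' hφ' hψ' => eta_grid_val h.F.fam
        (fun z => h.A_not_V (h.cos_mem ha i) z) hφ' hψ')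
      (fun f hf => h.cos_int a hf)
      (fun φ' hφ' hφ1' => h.cos_I ha hord hφ hφ1 hφ' hφ1')
      (fun ψ' hψ' hψ1' => h.cos_J ha hψ₁ h1 hψ' hψ1')
      (fun χ hχ hχirr t ht1 => h.cos_tau ha hψ₁ h1 hχ hχirr ht1)
    rwa [h.Eav_cos, h.Eav_cos] at this
  have m4 : ((BF M).card : ℝ) ≤ ∑ a ∈ BF M, (‖Ec M a (fun x : ↥M => σ lam x)‖ ^ 2 +
      ‖Ec M a (fun x : ↥M => η φ x)‖ ^ 2) := by
    have := Finset.sum_le_sum m3
    simpa using this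
  rw [Finset.sum_add_distrib] at m4
  -- the sum of `f₀`
  have m5 : ∑ a ∈ AF M, ‖f₀ a‖ ^ 2 = (Nat.card M : ℝ) - ‖lam 1‖ ^ 2 := by
    rw [classInner_self_eq] at k3
    have e2 : (Nat.card M : ℝ)⁻¹ * ∑ k : ↥M, ‖f₀ k‖ ^ 2 = 1 := by exact_mod_cast k3
    have hK : (Nat.card M : ℝ) ≠ 0 := by exact_mod_cast Nat.card_pos.ne'
    have e3 : ∑ k : ↥M, ‖f₀ k‖ ^ 2 = (Nat.card M : ℝ) := by
      field_simp at e2; exact e2
    have h1A : (1 : ↥M) ∉ AF M := by rw [mem_AF]; exact h.one_not_A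
    have e4 : ∑ k ∈ insert 1 (AF M), ‖f₀ k‖ ^ 2 = ∑ k : ↥M, ‖f₀ k‖ ^ 2 := by
      refine Finset.sum_subset (Finset.subset_univ _) fun x _ hx => ?_
      rw [Finset.mem_insert, not_or, mem_AF] at hx
      rw [k4 x hx.1 hx.2]; simp
    rw [Finset.sum_insert h1A, k2, e3] at e4
    linarith
  have hc := h.card_AF
  have hP1 : 1 ≤ Nat.card (fittingHallOf M) := Nat.card_pos
  have hc' : ((AF M).card : ℝ) = ((Nat.card (fittingHallOf M) : ℝ) - 1) + (BF M).card := by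
    rw [hc]; push_cast [Nat.cast_sub hP1]; ring
  have hP0 : (0 : ℝ) ≤ (Nat.card (fittingHallOf M) : ℝ) - 1 := by
    have : (1 : ℝ) ≤ Nat.card (fittingHallOf M) := by exact_mod_cast hP1
    linarith
  rw [Finset.sum_add_distrib, hc']
  rw [k2, m5] at m1
  have m6 := mul_le_mul_of_nonneg_left k7 hP0
  linarith

end IsGood

section Pair

variable {S T W₁ W₂ U V : Subgroup G} [Fintype ↥S] [Fintype ↥T] {η : Lin W₁ W₂ → G → ℂ}
  {μ : Lin W₁ W₂ → ↥S → ℂ} {δ : Lin W₁ W₂ → ℤ} {u : ℕ} {ν : Lin W₂ W₁ → ↥T → ℂ}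
  {ε : Lin W₂ W₁ → ℤ} {v : ℕ}

/-- the lower bound for the masses of `σλ` and `η_φ` on `A(T)^G` -/
theorem mass_T (hS : IsGood S W₁ U W₂ η μ δ u) (hT : IsGood T W₂ V W₁ (swF η) ν ε v)
    (hdisj : ∀ g ∈ AG T, g ∉ AG S) {lam : ↥S → ℂ} (hl : lam ∈ SH S ⊥)
    (hirr : IsIrrCharacter ↥S lam)
    {σ : (↥S → ℂ) → G → ℂ} (hσ : CohMap (↑(Yset S (lam 1))) (tauM S) σ)
    {φ : Lin W₁ W₂} (hφ : IsI W₁ W₂ φ) (hφ1 : φ ≠ 1)
    (hord : ∀ a ∈ typeA T, ¬ Nat.card W₂ ∣ orderOf a) :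
    (Nat.card (commutator ↥T) : ℝ) - (v : ℝ) ^ 2 -
      (v : ℝ) ^ 2 / ((Nat.card (fittingHallOf T) : ℝ) - 1) -
        ((Nat.card (fittingHallOf T) : ℝ) - 1) + (AF T).card ≤
      ∑ a ∈ AF T, (‖σ lam (a : G)‖ ^ 2 + ‖η φ (a : G)‖ ^ 2) := by
  classical
  letI : Fintype ↥(PM T) := Fintype.ofFinite _
  have hsw : ∀ {φ : Lin W₁ W₂}, IsI W₁ W₂ φ → IsJ W₂ W₁ (swL φ) := fun {φ} hφ => by
    rw [isJ_swL]; exact hφ
  have hsw' : ∀ {φ : Lin W₁ W₂}, IsJ W₁ W₂ φ → IsI W₂ W₁ (swL φ) := fun {φ} hφ => by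
    rw [isI_swL]; exact hφ
  have hsw1 : ∀ {φ : Lin W₁ W₂}, φ ≠ 1 → (swL φ : Lin W₂ W₁) ≠ 1 := fun {φ} hφ e => by
    apply hφ
    have := congrArg (swL (W₁ := W₁) (W₂ := W₂)) e
    rwa [swL_swL, swL_one] at this
  have hsf : ∀ φ : Lin W₁ W₂, swF η (swL φ) = η φ := fun φ => by
    rw [swF, swL_swL]
  obtain ⟨ψ₁, hψ₁, h1⟩ := exJ hS.F.hW
  obtain ⟨f₀, κ, k1, k2, k3, k4, k5, k6⟩ := hT.etaJ_const (hsw hφ) (hsw1 hφ1)
  rw [hsf] at k5 k6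
  have m1 := hT.mass_ge (f := fun x : ↥T => η φ x) k1 k5 k6
  have m2 := hT.mass_cs (fun x : ↥T => σ lam x)
  have hnotS : ∀ {a : ↥T}, a ∈ BF T → ∀ i, IsGood.cos T a i ∉ AG S := fun {a} ha i =>
    hdisj _ ⟨_, hT.cos_mem ha i, 1, by group⟩
  have m3 : ∀ a ∈ BF T, 1 ≤ ‖Ec T a (fun x : ↥T => σ lam x)‖ ^ 2 +
      ‖Ec T a (fun x : ↥T => η φ x)‖ ^ 2 := by
    intro a ha
    have := hS.dich hl hirr hσ (IsGood.cos T a) hφ hφ1 hψ₁ h1
      (fun i φ' ψ' hφ' hψ' => eta_grid_val hS.F.fam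
        (fun z hz => hT.A_not_V (hT.cos_mem ha i) z ⟨by rw [sup_comm]; exact hz.1, hz.2.2, hz.2.1⟩)
        hφ' hψ')
      (fun f hf => hT.cos_int a hf)
      (fun φ' hφ' hφ1' => by
        have := hT.cos_J ha (hsw hφ) (hsw1 hφ1) (hsw hφ') (hsw1 hφ1')
        rwa [hsf, hsf] at this)
      (fun ψ' hψ' hψ1' => by
        have := hT.cos_I ha hord (hsw' hψ₁) (hsw1 h1) (hsw' hψ') (hsw1 hψ1')
        rwa [hsf, hsf] at this)
      (fun χ hχ hχirr t ht1 => Eav_zero _ fun i =>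
        hS.tau_off (hS.gen_cls (hS.gen_supp hψ₁ h1 hχ ht1)).1
          (hS.gen_cls (hS.gen_supp hψ₁ h1 hχ ht1)).2.1 (hnotS ha i))
    rwa [hT.Eav_cos, hT.Eav_cos] at this
  have m4 : ((BF T).card : ℝ) ≤ ∑ a ∈ BF T, (‖Ec T a (fun x : ↥T => σ lam x)‖ ^ 2 +
      ‖Ec T a (fun x : ↥T => η φ x)‖ ^ 2) := by
    have := Finset.sum_le_sum m3
    simpa using this
  rw [Finset.sum_add_distrib] at m4
  have m5 : ∑ a ∈ AF T, ‖f₀ a‖ ^ 2 = (Nat.card (commutator ↥T) : ℝ) - (v : ℝ) ^ 2 := by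
    have h1A : (1 : ↥T) ∉ AF T := by rw [mem_AF]; exact hT.one_not_A
    have e4 : ∑ k ∈ insert 1 (AF T), ‖f₀ k‖ ^ 2 =
        ∑ k ∈ (Set.toFinite (↑(commutator ↥T) : Set ↥T)).toFinset, ‖f₀ k‖ ^ 2 := by
      refine Finset.sum_subset ?_ fun x hx hx' => ?_
      · intro x hx
        rw [Finset.mem_insert, mem_AF] at hx
        rw [Set.Finite.mem_toFinset]
        rcases hx with rfl | hx
        · exact one_mem _
        · exact hT.F.A_sub hx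
      · rw [Finset.mem_insert, not_or, mem_AF] at hx'
        rw [Set.Finite.mem_toFinset] at hx
        rw [k4 x hx hx'.1 hx'.2]; simp
    rw [Finset.sum_insert h1A, k2, k3] at e4
    linarith
  have hc := hT.card_AF
  have hP1 : 1 ≤ Nat.card (fittingHallOf T) := Nat.card_pos
  have hc' : ((AF T).card : ℝ) = ((Nat.card (fittingHallOf T) : ℝ) - 1) + (BF T).card := by
    rw [hc]; push_cast [Nat.cast_sub hP1]; ring
  rw [Finset.sum_add_distrib, hc']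
  rw [k2, m5] at m1
  linarith

/-- **The inequality (13.10')**, first form. -/
theorem ineq1310 (hS : IsGood S W₁ U W₂ η μ δ u) (hT : IsGood T W₂ V W₁ (swF η) ν ε v)
    (hdisj : ∀ g ∈ AG T, g ∉ AG S)
    (hcov : ∀ g : G, g ≠ 1 → g ∉ AG S → g ∉ AG T → (∀ y : G, y * g * y⁻¹ ∉ Vset W₁ W₂) →
      ¬ Nat.card W₁ ∣ orderOf g ∧ ¬ Nat.card W₂ ∣ orderOf g)
    (hordS : ∀ a ∈ typeA S, ¬ Nat.card W₁ ∣ orderOf a)
    (hordT : ∀ a ∈ typeA T, ¬ Nat.card W₂ ∣ orderOf a)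
    {lam : ↥S → ℂ} (hl : lam ∈ SH S ⊥) (hirr : IsIrrCharacter ↥S lam) :
    (Nat.card (commutator ↥T) : ℝ) / Nat.card T ≤
      (‖lam 1‖ ^ 2 + ‖lam 1‖ ^ 2 / ((Nat.card (fittingHallOf S) : ℝ) - 1)) / Nat.card S +
      ((v : ℝ) ^ 2 + (v : ℝ) ^ 2 / ((Nat.card (fittingHallOf T) : ℝ) - 1) +
        ((Nat.card (fittingHallOf T) : ℝ) - 1)) / Nat.card T := by
  classical
  obtain ⟨φ, hφ, hφ1⟩ := exI hS.F.hW
  obtain ⟨ψ₁, hψ₁, h1⟩ := exJ hS.F.hW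
  obtain ⟨σ, hσ⟩ := hS.exists_coh hl hirr
  have hσirr := (hS.sig_irr hl hirr hσ (mem_Yset.2 ⟨hirr, hl, rfl⟩)).1
  have hηirr := eta_sirr hS.F.fam φ
  set H : G → ℝ := fun g => ‖σ lam g‖ ^ 2 + ‖η φ g‖ ^ 2 with hH
  have hHc : ∀ g x, H (x * g * x⁻¹) = H g := by
    intro g x
    simp only [H]
    rw [gen_cls' hσirr, gen_cls' hηirr]
  have hHn : ∀ g, 0 ≤ H g := fun g => by simp only [H]; positivity
  -- pointwise
  have hpt : ∀ g, g ∉ AG S → g ∉ AG T → 1 ≤ H g := by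
    intro g hgS hgT
    by_cases hg1 : g = 1
    · subst hg1
      have hi : ∃ n : ℤ, η φ 1 = n := eta_int hS.F.hW hS.F.fam hS.F.oddW φ (by simp)
      have := int_norm_ge hi hηirr.one_ne_zero
      simp only [H]
      nlinarith [sq_nonneg ‖σ lam 1‖]
    by_cases hV : ∀ y : G, y * g * y⁻¹ ∉ Vset W₁ W₂
    · obtain ⟨o1, o2⟩ := hcov g hg1 hgS hgT hV
      have := hS.dich hl hirr hσ (fun _ : Unit => g) hφ hφ1 hψ₁ h1
        (fun i φ' ψ' hφ' hψ' => eta_grid_val hS.F.fam hV hφ' hψ')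
        (fun f hf => by
          rw [Eav_const (fun _ : Unit => g) (c := f g) (fun _ => rfl)]
          exact isGen_integral hf g)
        (fun φ' hφ' hφ1' => Eav_congr _ fun _ => hS.etaI_eq o1 hφ hφ1 hφ' hφ1')
        (fun ψ' hψ' hψ1' => Eav_congr _ fun _ => hS.etaJ_eq o2 hψ₁ h1 hψ' hψ1')
        (fun χ hχ hχirr t ht1 => Eav_zero _ fun i =>
          hS.tau_off (hS.gen_cls (hS.gen_supp hψ₁ h1 hχ ht1)).1
            (hS.gen_cls (hS.gen_supp hψ₁ h1 hχ ht1)).2.1 hgS)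
      rw [Eav_const (fun _ : Unit => g) (c := σ lam g) (fun _ => rfl),
        Eav_const (fun _ : Unit => g) (c := η φ g) (fun _ => rfl)] at this
      exact this
    · push Not at hV
      obtain ⟨y, hy⟩ := hV
      have e1 := hS.F.fam.eq_on φ ⟨y * g * y⁻¹, hy.1⟩ hy.2.1 hy.2.2
      have e2 : ‖η φ g‖ = 1 := by
        rw [← gen_cls' hηirr g y]
        simp only at e1
        rw [e1, lin_norm]
      simp only [H]
      rw [e2]
      nlinarith [sq_nonneg ‖σ lam g‖]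
  have htot : ∑ g : G, H g = 2 * (Nat.card G : ℝ) := by
    simp only [H]
    rw [Finset.sum_add_distrib, sum_norm_sirr hσirr, sum_norm_sirr hηirr]; ring
  have hdis : Disjoint (AGF S) (AGF T) := by
    rw [Finset.disjoint_left]
    intro g hg hg'
    exact hdisj g (mem_AGF.1 hg') (mem_AGF.1 hg)
  -- splitting
  have hsplit : ∑ g ∈ AGF S, H g + ∑ g ∈ AGF T, H g +
      ((Nat.card G : ℝ) - (AGF S).card - (AGF T).card) ≤ 2 * (Nat.card G : ℝ) := by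
    rw [← htot, ← Finset.sum_add_sum_compl (AGF S ∪ AGF T) H, Finset.sum_union hdis]
    have e1 : (((AGF S ∪ AGF T)ᶜ).card : ℝ) ≤ ∑ g ∈ (AGF S ∪ AGF T)ᶜ, H g := by
      have := Finset.sum_le_sum (s := (AGF S ∪ AGF T)ᶜ) (f := fun _ => (1 : ℝ)) (g := H)
        (fun g hg => by
          rw [Finset.mem_compl, Finset.mem_union, not_or, mem_AGF, mem_AGF] at hg
          exact hpt g hg.1 hg.2)
      simpa using this
    have e2 : (((AGF S ∪ AGF T)ᶜ).card : ℝ) =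
        (Nat.card G : ℝ) - (AGF S).card - (AGF T).card := by
      rw [Finset.card_compl, Finset.card_union_of_disjoint hdis, Nat.cast_sub, Nat.cast_add,
        ← Nat.card_eq_fintype_card]
      · ring
      · rw [← Finset.card_union_of_disjoint hdis]; exact Finset.card_le_univ _
    linarith
  have s1 := hS.sum_AG hHc
  have s2 := hT.sum_AG hHc
  have c1 := hS.card_AG
  have c2 := hT.card_AG
  have mS := hS.mass_S hl hirr hσ hφ hφ1 hordS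
  have mT := mass_T hS hT hdisj hl hirr hσ hφ hφ1 hordT
  have hSpos : (0 : ℝ) < Nat.card S := by exact_mod_cast Nat.card_pos
  have hTpos : (0 : ℝ) < Nat.card T := by exact_mod_cast Nat.card_pos
  have hGpos : (0 : ℝ) < Nat.card G := by exact_mod_cast Nat.card_pos
  set a := ∑ g ∈ AGF S, H g
  set b := ∑ g ∈ AGF T, H g
  set a' := ∑ x ∈ AF S, H (x : G)
  set b' := ∑ x ∈ AF T, H (x : G)
  have e1 : a / Nat.card G = a' / Nat.card S := by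
    rw [div_eq_div_iff hGpos.ne' hSpos.ne']; linarith
  have e2 : b / Nat.card G = b' / Nat.card T := by
    rw [div_eq_div_iff hGpos.ne' hTpos.ne']; linarith
  have e3 : ((AGF S).card : ℝ) / Nat.card G = (AF S).card / Nat.card S := by
    rw [div_eq_div_iff hGpos.ne' hSpos.ne']; linarith
  have e4 : ((AGF T).card : ℝ) / Nat.card G = (AF T).card / Nat.card T := by
    rw [div_eq_div_iff hGpos.ne' hTpos.ne']; linarith
  have f1 : (a - (AGF S).card) / Nat.card G + (b - (AGF T).card) / Nat.card G ≤ 1 := by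
    rw [← add_div, div_le_one hGpos]
    linarith
  rw [sub_div, sub_div, e1, e2, e3, e4, ← sub_div, ← sub_div] at f1
  have g1 : (Nat.card S - ‖lam 1‖ ^ 2 - ‖lam 1‖ ^ 2 / ((Nat.card (fittingHallOf S) : ℝ) - 1)) /
      Nat.card S ≤ (a' - (AF S).card) / Nat.card S := by
    apply div_le_div_of_nonneg_right _ hSpos.le
    linarith
  have g2 : ((Nat.card (commutator ↥T) : ℝ) - (v : ℝ) ^ 2 -
      (v : ℝ) ^ 2 / ((Nat.card (fittingHallOf T) : ℝ) - 1) -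
        ((Nat.card (fittingHallOf T) : ℝ) - 1)) / Nat.card T ≤
        (b' - (AF T).card) / Nat.card T := by
    apply div_le_div_of_nonneg_right _ hTpos.le
    linarith
  have g3 : (Nat.card S - ‖lam 1‖ ^ 2 - ‖lam 1‖ ^ 2 / ((Nat.card (fittingHallOf S) : ℝ) - 1)) /
      Nat.card S = 1 - (‖lam 1‖ ^ 2 + ‖lam 1‖ ^ 2 / ((Nat.card (fittingHallOf S) : ℝ) - 1)) /
        Nat.card S := by
    field_simp
    ring
  have g4 : ((Nat.card (commutator ↥T) : ℝ) - (v : ℝ) ^ 2 -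
      (v : ℝ) ^ 2 / ((Nat.card (fittingHallOf T) : ℝ) - 1) -
        ((Nat.card (fittingHallOf T) : ℝ) - 1)) / Nat.card T =
      (Nat.card (commutator ↥T) : ℝ) / Nat.card T - ((v : ℝ) ^ 2 +
        (v : ℝ) ^ 2 / ((Nat.card (fittingHallOf T) : ℝ) - 1) +
        ((Nat.card (fittingHallOf T) : ℝ) - 1)) / Nat.card T := by
    rw [← sub_div]; congr 1; ring
  linarith

end Pair

end Cfsg.Agent.PF
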