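import Cfsg.Agent.PF.G5A
import Cfsg.Agent.PF.G6N
import Cfsg.Agent.PF.Good6

set_option autoImplicit false
set_option linter.style.haveILetI false
set_option linter.unusedSectionVars false

/-! Facts (A), (B), (F) of notes/PF_G5G6.md. (helper7) -/

namespace Cfsg.Agent.PF

open Subgroup ComplexConjugate
open Cfsg.Agent.H3

universe u v w

variable {G : Type u} [Group G] [Fintype G]

/-- the relations of (A): `⟨Φ, η_0j⟩ = s`, `⟨Φ, η_i0⟩ = r`, `⟨Φ, η_ij⟩ = r + s - 1` -/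
structure IsRS {W₁ W₂ : Subgroup G} (η : Lin W₁ W₂ → G → ℂ) (Φ : G → ℂ) (r s : ℤ) : Prop where
  one : classInner Φ (η 1) = 1
  col : ∀ ψ, IsJ W₁ W₂ ψ → ψ ≠ 1 → classInner Φ (η ψ) = s
  row : ∀ φ, IsI W₁ W₂ φ → φ ≠ 1 → classInner Φ (η φ) = r
  mid : ∀ φ ψ, IsI W₁ W₂ φ → IsJ W₁ W₂ ψ → φ ≠ 1 → ψ ≠ 1 →
    classInner Φ (η (φ * ψ)) = ((r + s - 1 : ℤ) : ℂ)

theorem mem_tildeOf_self {M : Subgroup G} {A : Set G} {a : G} (ha : a ∈ A) : a ∈ tildeOf M A :=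
  ⟨a, ha, 1, one_mem _, 1, by group⟩

namespace IsLam

variable {X : Set G} {e k : ℕ} {ι : Type v} [Fintype ι] {Z : ι → G → ℂ} {m : ι → ℕ}
  {i₀ : ι} {Φ : G → ℂ} {S T W₁ W₂ U V : Subgroup G} [Fintype ↥S] [Fintype ↥T]
  {η : Lin W₁ W₂ → G → ℂ} {μ : Lin W₁ W₂ → ↥S → ℂ} {δ : Lin W₁ W₂ → ℤ} {u v : ℕ}
  {ν : Lin W₂ W₁ → ↥T → ℂ} {ε : Lin W₂ W₁ → ℤ}

/-- `σ λ_i` is orthogonal to all `η` -/
theorem Z_eta (h : IsLam X e k Z m i₀ Φ) (F : IsFrame S W₁ U W₂ η μ δ)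
    (hXS : ∀ g ∈ X, g ∉ tildeOf S (typeA0 S)) (i : ι) (ω : Lin W₁ W₂) :
    classInner (Z i) (η ω) = 0 := by
  obtain ⟨j, hji, hj, -⟩ := h.cjj i
  have e0 : classInner (Z i) (Z j) = 0 := h.orth i j hji.symm
  have hgen : IsGeneralizedCharacter G (Z i - Z j) := isGen_sub (h.sirr i).isGen (h.sirr j).isGen
  have h1 : classInner (Z i - Z j) (η ω) = 0 := by
    refine grid_small F.fam F.oddW F.hW hgen (fun w hw => ?_) ?_ ω
    · rw [hj]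
      exact h.sub_conj_van i (fun hX => hXS w hX (mem_tildeOf_self (F.V_sub_A0 hw)))
    · rw [classInner_sub_left, classInner_sub_right, classInner_sub_right, (h.sirr i).norm,
        (h.sirr j).norm, e0, inner_swap_zero e0]
      norm_num
  rcases (h.sirr i).dichotomy (eta_sirr F.fam ω) with h2 | ⟨c, hc, h2⟩
  · exact h2
  · have h3 : classInner (Z j) (η ω) = 0 := by
      have h4 : classInner (Z j) (Z i) = 0 := inner_swap_zero e0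
      rw [h2, classInner_smul_right] at h4
      rcases mul_eq_zero.1 h4 with h5 | h5
      · rcases hc with rfl | rfl <;> simp at h5
      · exact h5
    rw [classInner_sub_left, h3, sub_zero] at h1
    exact h1

theorem inner_tau (h : IsLam X e k Z m i₀ Φ) (F : IsFrame S W₁ U W₂ η μ δ)
    (hXS : ∀ g ∈ X, g ∉ tildeOf S (typeA0 S)) {α : ↥S → ℂ} (hα : IsClassFunction ↥S α)
    (hs : SuppOn (typeA0 S) α) : classInner Φ (tauM S α) = 0 := by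
  refine inner_of_disj (X := X) (Y := tildeOf S (typeA0 S)) (Set.disjoint_left.2 hXS) h.vanΦ
    (fun g hg => ?_)
  exact tau_supp F.hG F.hM (subset_refl _) hα hs hg

theorem inner_col (h : IsLam X e k Z m i₀ Φ) (hS : IsGood S W₁ U W₂ η μ δ u)
    (hXS : ∀ g ∈ X, g ∉ tildeOf S (typeA0 S)) {ψ ψ' : Lin W₁ W₂} (hψ : IsJ W₁ W₂ ψ)
    (hψ1 : ψ ≠ 1) (hψ' : IsJ W₁ W₂ ψ') (hψ1' : ψ' ≠ 1) :
    classInner Φ (η ψ) = classInner Φ (η ψ') := by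
  have F := hS.F
  obtain ⟨h1, h2⟩ := F.tau_mu_sub (ω := ψ) (ω' := ψ')
    (fun w hw => by rw [hψ w hw, hψ' w hw]) (F.a_J_not_I hψ hψ1) (F.a_J_not_I hψ' hψ1')
    (by rw [hS.deg ψ hψ hψ1, hS.deg ψ' hψ' hψ1']) (by rw [hS.sgn ψ hψ hψ1, hS.sgn ψ' hψ' hψ1'])
  have h3 := h.inner_tau F hXS (classFun_sub (F.a_mu_classFun ψ) (F.a_mu_classFun ψ')) h1
  rw [h2, hS.sgn ψ hψ hψ1, classInner_smul_right, classInner_sub_right] at h3
  simp only [Int.cast_one, map_one, one_mul] at h3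
  linear_combination h3

/-- Fact (A). -/
theorem exists_rs (h : IsLam X e k Z m i₀ Φ) (hS : IsGood S W₁ U W₂ η μ δ u)
    (hT : IsGood T W₂ V W₁ (swF η) ν ε v) (hXS : ∀ g ∈ X, g ∉ tildeOf S (typeA0 S))
    (hXT : ∀ g ∈ X, g ∉ tildeOf T (typeA0 T)) : ∃ r s : ℤ, IsRS η Φ r s := by
  have F := hS.F
  obtain ⟨ψ₀, hψ₀, hψ₀1⟩ := exJ F.hW
  obtain ⟨φ₀, hφ₀, hφ₀1⟩ := exI F.hW
  obtain ⟨s, hs⟩ := classInner_gen_int h.gen (eta_sirr F.fam ψ₀).isGen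
  obtain ⟨r, hr⟩ := classInner_gen_int h.gen (eta_sirr F.fam φ₀).isGen
  have hone : classInner Φ (η 1) = 1 := by rw [F.fam.map_one]; exact h.one
  have hcol : ∀ ψ, IsJ W₁ W₂ ψ → ψ ≠ 1 → classInner Φ (η ψ) = s := fun ψ hψ h1 => by
    rw [h.inner_col hS hXS hψ h1 hψ₀ hψ₀1, hs]
  have hrow : ∀ φ, IsI W₁ W₂ φ → φ ≠ 1 → classInner Φ (η φ) = r := by
    intro φ hφ h1
    have e1 : ∀ φ : Lin W₁ W₂, swF η (swL φ : Lin W₂ W₁) = η φ := fun φ => by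
      show η (swL (swL φ)) = η φ
      rw [swL_swL]
    have e2 : ∀ φ : Lin W₁ W₂, φ ≠ 1 → (swL φ : Lin W₂ W₁) ≠ 1 := fun φ h e => by
      apply h
      have : (swL (swL φ : Lin W₂ W₁) : Lin W₁ W₂) = swL 1 := by rw [e]
      rwa [swL_swL, swL_one] at this
    have h3 := h.inner_col (η := swF η) hT hXT (ψ := swL φ) (ψ' := swL φ₀)
      (isJ_swL.2 hφ) (e2 φ h1) (isJ_swL.2 hφ₀) (e2 φ₀ hφ₀1)
    rw [e1, e1] at h3
    rw [h3, hr]
  refine ⟨r, s, hone, hcol, hrow, fun φ ψ hφ hψ h1 h2 => ?_⟩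
  have h3 := grid_add F.fam h.clsΦ (fun w hw => h.vanΦ w (fun hX =>
    hXS w hX (mem_tildeOf_self (F.V_sub_A0 hw)))) hφ hψ
  rw [hone, hcol ψ hψ h2, hrow φ hφ h1] at h3
  push_cast
  linear_combination h3

end IsLam

section Grid

variable {W₁ W₂ : Subgroup G} {η : Lin W₁ W₂ → G → ℂ} {Φ : G → ℂ} {r s : ℤ}

theorem IsRS.sum (h : IsRS η Φ r s) (hW : IsSelfNormalizingCyclic W₁ W₂) [Fintype (Lin W₁ W₂)]
    [DecidableEq (Lin W₁ W₂)] :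
    ∑ ω ∈ Finset.univ.erase (1 : Lin W₁ W₂), ‖classInner Φ (η ω)‖ ^ 2 =
      (G6.grid (Nat.card W₂) (Nat.card W₁) r s : ℝ) := by
  have h0 := sum_lin hW (fun ω : Lin W₁ W₂ => ‖classInner Φ (η ω)‖ ^ 2)
  rw [← Finset.add_sum_erase _ _ (Finset.mem_univ (1 : Lin W₁ W₂)), h.one] at h0
  have hI1 : (1 : Lin W₁ W₂) ∈ idxI W₁ W₂ := mem_idxI.2 IsI.one
  have hJ1 : (1 : Lin W₁ W₂) ∈ idxJ W₁ W₂ := mem_idxJ.2 IsJ.one
  have hin : ∀ (z : ℂ) (n : ℤ), z = n → ‖z‖ ^ 2 = (n : ℝ) ^ 2 := fun z n hz => by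
    rw [hz, Complex.norm_intCast, sq_abs]
  have e1 : ∑ ψ ∈ idxJ W₁ W₂, ‖classInner Φ (η (1 * ψ))‖ ^ 2 =
      1 + ((Nat.card W₂ : ℝ) - 1) * (s : ℝ) ^ 2 := by
    rw [← Finset.add_sum_erase _ _ hJ1, a_lin_mul_one, h.one]
    have : ∀ ψ ∈ (idxJ W₁ W₂).erase 1, ‖classInner Φ (η (1 * ψ))‖ ^ 2 = (s : ℝ) ^ 2 := by
      intro ψ hψ
      rw [Finset.mem_erase] at hψ
      rw [a_lin_one_mul]
      exact hin _ _ (h.col ψ (mem_idxJ.1 hψ.2) hψ.1)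
    rw [Finset.sum_congr rfl this, Finset.sum_const, Finset.card_erase_of_mem hJ1, card_idxJ hW,
      nsmul_eq_mul, Nat.cast_sub Nat.card_pos]
    norm_num
  have e2 : ∀ φ ∈ (idxI W₁ W₂).erase 1, ∑ ψ ∈ idxJ W₁ W₂, ‖classInner Φ (η (φ * ψ))‖ ^ 2 =
      (r : ℝ) ^ 2 + ((Nat.card W₂ : ℝ) - 1) * ((r : ℝ) + s - 1) ^ 2 := by
    intro φ hφ
    rw [Finset.mem_erase] at hφ
    rw [← Finset.add_sum_erase _ _ hJ1, a_lin_mul_one,
      hin _ _ (h.row φ (mem_idxI.1 hφ.2) hφ.1)]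
    have : ∀ ψ ∈ (idxJ W₁ W₂).erase 1, ‖classInner Φ (η (φ * ψ))‖ ^ 2 =
        ((r : ℝ) + s - 1) ^ 2 := by
      intro ψ hψ
      rw [Finset.mem_erase] at hψ
      rw [hin _ _ (h.mid φ ψ (mem_idxI.1 hφ.2) (mem_idxJ.1 hψ.2) hφ.1 hψ.1)]
      push_cast; ring
    rw [Finset.sum_congr rfl this, Finset.sum_const, Finset.card_erase_of_mem hJ1, card_idxJ hW,
      nsmul_eq_mul, Nat.cast_sub Nat.card_pos]
    norm_num
  rw [← Finset.add_sum_erase _ _ hI1, e1, Finset.sum_congr rfl e2, Finset.sum_const,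
    Finset.card_erase_of_mem hI1, card_idxI hW, nsmul_eq_mul, Nat.cast_sub Nat.card_pos] at h0
  have e3 : ∑ ω ∈ Finset.univ.erase (1 : Lin W₁ W₂), ‖classInner Φ (η ω)‖ ^ 2 =
      ((Nat.card W₂ : ℝ) - 1) * (s : ℝ) ^ 2 + ((Nat.card W₁ : ℝ) - 1) *
        ((r : ℝ) ^ 2 + ((Nat.card W₂ : ℝ) - 1) * ((r : ℝ) + s - 1) ^ 2) := by
    simp only [norm_one, one_pow, Nat.cast_one] at h0
    linarith
  rw [e3, G6.grid]
  push_cast
  ring

end Grid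

namespace IsLam

variable {X : Set G} {e k : ℕ} {ι : Type v} [Fintype ι] {Z : ι → G → ℂ} {m : ι → ℕ}
  {i₀ : ι} {Φ : G → ℂ} {S W₁ W₂ U : Subgroup G} [Fintype ↥S]
  {η : Lin W₁ W₂ → G → ℂ} {μ : Lin W₁ W₂ → ↥S → ℂ} {δ : Lin W₁ W₂ → ℤ}
  {r s : ℤ}

theorem eta_one_inner (F : IsFrame S W₁ U W₂ η μ δ) {ω : Lin W₁ W₂} (h : ω ≠ 1) :
    classInner (η ω) (fun _ => 1) = 0 := by
  rw [← F.fam.map_one]; exact F.a_eta_orth h

/-- Fact (B) with an additional orthonormal family. -/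
theorem grid_le (h : IsLam X e k Z m i₀ Φ) (F : IsFrame S W₁ U W₂ η μ δ)
    (hXS : ∀ g ∈ X, g ∉ tildeOf S (typeA0 S)) (hr : IsRS η Φ r s)
    {κ : Type w} (Y : Finset κ) (f : κ → G → ℂ)
    (hf : ∀ a ∈ Y, classInner (f a) (f a) = 1)
    (hff : ∀ a ∈ Y, ∀ b ∈ Y, a ≠ b → classInner (f a) (f b) = 0)
    (hf1 : ∀ a ∈ Y, ∀ ω, classInner (f a) (η ω) = 0)
    (hfZ : ∀ a ∈ Y, ∀ i, classInner (f a) (Z i) = 0) :
    (G6.grid (Nat.card W₂) (Nat.card W₁) r s : ℝ) + ∑ a ∈ Y, ‖classInner Φ (f a)‖ ^ 2 ≤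
      (e : ℝ) - 1 := by
  classical
  letI : Fintype (Lin W₁ W₂) := Fintype.ofFinite _
  have h1 := h.bessel (κ := Lin W₁ W₂ ⊕ κ) ((Finset.univ.erase (1 : Lin W₁ W₂)).disjSum Y)
    (Sum.elim η f) (by
      intro a ha
      simp only [Finset.mem_disjSum] at ha
      rcases ha with ⟨a, -, rfl⟩ | ⟨a, ha, rfl⟩
      · exact F.a_eta_norm a
      · exact hf a ha) (by
      intro a ha b hb hab
      simp only [Finset.mem_disjSum] at ha hb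
      rcases ha with ⟨a, -, rfl⟩ | ⟨a, ha, rfl⟩ <;> rcases hb with ⟨b, -, rfl⟩ | ⟨b, hb, rfl⟩
      · exact F.a_eta_orth (fun e => hab (by rw [e]))
      · exact inner_swap_zero (hf1 b hb a)
      · exact hf1 a ha b
      · exact hff a ha b hb (fun e => hab (by rw [e]))) (by
      intro a ha
      simp only [Finset.mem_disjSum] at ha
      rcases ha with ⟨a, ha, rfl⟩ | ⟨a, ha, rfl⟩
      · exact eta_one_inner F (Finset.mem_erase.1 ha).1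
      · have := hf1 a ha 1
        rw [F.fam.map_one] at this
        exact this) (by
      intro a ha i
      simp only [Finset.mem_disjSum] at ha
      rcases ha with ⟨a, -, rfl⟩ | ⟨a, ha, rfl⟩
      · exact inner_swap_zero (h.Z_eta F hXS i a)
      · exact hfZ a ha i)
  rw [Finset.sum_disjSum] at h1
  simp only [Sum.elim_inl, Sum.elim_inr] at h1
  rw [hr.sum F.hW] at h1
  exact h1

/-- Fact (B). -/
theorem grid_le' (h : IsLam X e k Z m i₀ Φ) (F : IsFrame S W₁ U W₂ η μ δ)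
    (hXS : ∀ g ∈ X, g ∉ tildeOf S (typeA0 S)) (hr : IsRS η Φ r s) :
    G6.grid (Nat.card W₂) (Nat.card W₁) r s ≤ (e : ℤ) - 1 := by
  have h1 := h.grid_le F hXS hr (κ := Unit) ∅ (fun _ => 0) (by simp) (by simp) (by simp) (by simp)
  rw [Finset.sum_empty, add_zero] at h1
  exact_mod_cast h1

theorem grid_ge (h3 : 3 ≤ Nat.card W₁ ∧ 3 ≤ Nat.card W₂)
    (hr : Odd r) (hs : Odd s) :
    ((Nat.card W₂ : ℤ) * Nat.card W₁ - 1) ≤ G6.grid (Nat.card W₂) (Nat.card W₁) r s := by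
  have hne : ∀ n : ℤ, Odd n → 1 ≤ n ^ 2 := by
    intro n hn
    have : n ≠ 0 := by rintro rfl; simp at hn
    have : 0 < n ^ 2 := by positivity
    omega
  have h1 := hne r hr
  have h2 := hne s hs
  have h4 : Odd (r + s - 1) := (hr.add_odd hs).sub_odd odd_one
  have h5 := hne _ h4
  have hp : (2 : ℤ) ≤ (Nat.card W₂ : ℤ) - 1 := by have := h3.2; omega
  have hq : (2 : ℤ) ≤ (Nat.card W₁ : ℤ) - 1 := by have := h3.1; omega
  rw [G6.grid]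
  have hpq : (0 : ℤ) ≤ ((Nat.card W₂ : ℤ) - 1) * ((Nat.card W₁ : ℤ) - 1) := by positivity
  nlinarith

/-- if `r`, `s` are odd and `e ≤ pq`, then `Φ` has no other components -/
theorem inner_zero_of_odd (h : IsLam X e k Z m i₀ Φ) (F : IsFrame S W₁ U W₂ η μ δ)
    (hXS : ∀ g ∈ X, g ∉ tildeOf S (typeA0 S)) (hrs : IsRS η Φ r s) (hr : Odd r) (hs : Odd s)
    (he : e ≤ Nat.card W₂ * Nat.card W₁) {f : G → ℂ} (hf : classInner f f = 1)
    (hf1 : ∀ ω, classInner f (η ω) = 0) (hfZ : ∀ i, classInner f (Z i) = 0) :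
    classInner f Φ = 0 := by
  have h1 := h.grid_le F hXS hrs (κ := Unit) Finset.univ (fun _ => f) (by simpa using hf)
    (by simp) (by simpa using hf1) (by simpa using hfZ)
  have h2 := grid_ge (a_three_le F.hW F.oddW) hr hs
  have h3 : ((Nat.card W₂ : ℝ) * Nat.card W₁ - 1) ≤
      (G6.grid (Nat.card W₂) (Nat.card W₁) r s : ℝ) := by exact_mod_cast h2
  have h4 : (e : ℝ) ≤ (Nat.card W₂ : ℝ) * Nat.card W₁ := by exact_mod_cast he
  simp only [Finset.univ_unique, Finset.sum_singleton] at h1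
  have h5 : ‖classInner Φ f‖ ^ 2 ≤ 0 := by linarith
  have h6 : classInner Φ f = 0 := by
    have : ‖classInner Φ f‖ = 0 := by nlinarith [norm_nonneg (classInner Φ f)]
    exact norm_eq_zero.1 this
  exact inner_swap_zero h6

theorem grid_cross_aux {X' : Set G} {e' k' : ℕ} {ι' : Type w} [Fintype ι'] {Z' : ι' → G → ℂ}
    {m' : ι' → ℕ} {i₀' : ι'} {Φ' : G → ℂ} {r' s' : ℤ}
    (h : IsLam X e k Z m i₀ Φ) (h' : IsLam X' e' k' Z' m' i₀' Φ') (hd : Disjoint X X')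
    (F : IsFrame S W₁ U W₂ η μ δ) (hXS : ∀ g ∈ X, g ∉ tildeOf S (typeA0 S))
    (hXS' : ∀ g ∈ X', g ∉ tildeOf S (typeA0 S)) (hr' : IsRS η Φ' r' s')
    (hne : classInner (Z i₀) Φ' ≠ 0) :
    (k : ℤ) - 1 ≤ e * ((e' : ℤ) - 1 - G6.grid (Nat.card W₂) (Nat.card W₁) r' s') := by
  classical
  letI : Fintype (Lin W₁ W₂) := Fintype.ofFinite _
  have h1 := h.cross_le h' hd hne (Finset.univ.erase (1 : Lin W₁ W₂)) η
    (fun a _ => F.a_eta_norm a) (fun a _ b _ hab => F.a_eta_orth hab)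
    (fun a ha => eta_one_inner F (Finset.mem_erase.1 ha).1)
    (fun a _ i => inner_swap_zero (h.Z_eta F hXS i a))
    (fun a _ i => inner_swap_zero (h'.Z_eta F hXS' i a))
  rw [hr'.sum F.hW] at h1
  have h2 : ((∑ i, m i ^ 2 : ℕ) : ℤ) + G6.grid (Nat.card W₂) (Nat.card W₁) r' s' ≤
      (e' : ℤ) - 1 := by exact_mod_cast h1
  have h3 : ((∑ i, m i ^ 2 : ℕ) : ℤ) * e + 1 = k := by exact_mod_cast h.sum
  have h4 : (0 : ℤ) < e := by exact_mod_cast h.e_pos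
  nlinarith

/-- Fact (F). -/
theorem grid_cross {X' : Set G} {e' k' : ℕ} {ι' : Type w} [Fintype ι'] {Z' : ι' → G → ℂ}
    {m' : ι' → ℕ} {i₀' : ι'} {Φ' : G → ℂ} {r' s' : ℤ}
    (h : IsLam X e k Z m i₀ Φ) (h' : IsLam X' e' k' Z' m' i₀' Φ') (hd : Disjoint X X')
    (F : IsFrame S W₁ U W₂ η μ δ) (hXS : ∀ g ∈ X, g ∉ tildeOf S (typeA0 S))
    (hXS' : ∀ g ∈ X', g ∉ tildeOf S (typeA0 S)) (hr : IsRS η Φ r s) (hr' : IsRS η Φ' r' s') :
    (k : ℤ) - 1 ≤ e * ((e' : ℤ) - 1 - G6.grid (Nat.card W₂) (Nat.card W₁) r' s') ∨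
      (k' : ℤ) - 1 ≤ e' * ((e : ℤ) - 1 - G6.grid (Nat.card W₂) (Nat.card W₁) r s) := by
  obtain ⟨a, b, ha, hb, hab⟩ := h.cross_odd h' hd
  by_cases ha0 : a = 0
  · right
    have hb0 : b ≠ 0 := by
      rintro rfl
      rw [ha0] at hab
      simp at hab
    exact h'.grid_cross_aux h hd.symm F hXS' hXS hr (by rw [hb]; exact_mod_cast hb0)
  · left
    exact h.grid_cross_aux h' hd F hXS hXS' hr' (by rw [ha]; exact_mod_cast ha0)

end IsLam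

end Cfsg.Agent.PF
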