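import Cfsg.Agent.PF.G5Ca

set_option autoImplicit false

/-! Fact (C) of the plan of S1544, abstract form (helper6). -/

namespace Cfsg.Agent.PF

open Subgroup ComplexConjugate
open Cfsg.Agent.H3 Cfsg.Agent.H11

universe u v w

variable {G : Type u} [Group G] [Fintype G]

/-- `Ind_{PW₁}^M 1`, `P = M_F` -/
noncomputable def permM (M W₁ : Subgroup G) [Fintype ↥M] : ↥M → ℂ :=
  indFun ((fittingHallOf M ⊔ W₁).subgroupOf M) (fun _ => 1)

variable {M W₁ U W₂ : Subgroup G} [Fintype ↥M] {η : Lin W₁ W₂ → G → ℂ}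
  {μ : Lin W₁ W₂ → ↥M → ℂ} {δ : Lin W₁ W₂ → ℤ} {u : ℕ}

theorem fh_sup_eq (h : IsTypePWith M W₁ U W₂) :
    (fittingHallOf M ⊔ W₁).subgroupOf M = PM M ⊔ W₁.subgroupOf M :=
  subgroupOf_sup (fhOf_le' M) h.W₁_le

theorem card_fh_sup (h : IsTypePWith M W₁ U W₂) :
    Nat.card ↥((fittingHallOf M ⊔ W₁).subgroupOf M) =
      Nat.card (fittingHallOf M) * Nat.card W₁ := by
  haveI := PM_normal M
  have hd : PM M ⊓ W₁.subgroupOf M = ⊥ := by
    rw [eq_bot_iff]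
    rintro x ⟨h1, h2⟩
    rw [Subgroup.mem_bot]
    exact Subtype.ext (a_W₁_inf' h (mem_subgroupOf.1 h2) (h.H_le' (mem_subgroupOf.1 h1)))
  have h1 : Nat.card ↥(PM M) = Nat.card (fittingHallOf M) :=
    Nat.card_congr (Subgroup.subgroupOfEquivOfLe (fhOf_le' M)).toEquiv
  have h2 : Nat.card ↥(W₁.subgroupOf M) = Nat.card W₁ :=
    Nat.card_congr (Subgroup.subgroupOfEquivOfLe h.W₁_le).toEquiv
  rw [fh_sup_eq h, ← h1, ← h2]
  have h3 := H1.card_sup_mul_card_inf_of_le_normalizer (H := PM M) (K := W₁.subgroupOf M) (by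
    rw [Subgroup.normalizer_eq_top]; exact le_top)
  rw [hd, Subgroup.card_bot, mul_one] at h3
  exact h3

theorem mem_PM_of (h : IsTypePWith M W₁ U W₂) {x : ↥M}
    (h1 : x ∈ (fittingHallOf M ⊔ W₁).subgroupOf M) (h2 : x ∈ commutator ↥M) : x ∈ PM M := by
  haveI := PM_normal M
  have h4 : (x : G) ∈ ⁅M, M⁆ := a_mem_comm_iff.1 h2
  rw [fh_sup_eq h, Subgroup.mem_sup_of_normal_left] at h1
  obtain ⟨a, ha, b, hb, rfl⟩ := h1
  have h5 : (b : G) ∈ ⁅M, M⁆ := by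
    have h6 : (a : G) ∈ ⁅M, M⁆ := h.H_le' (mem_subgroupOf.1 ha)
    have h7 := mul_mem (inv_mem h6) h4
    simpa using h7
  have h6 : b = 1 := Subtype.ext (a_W₁_inf' h (mem_subgroupOf.1 hb) h5)
  rw [h6, mul_one]; exact ha

namespace IsGood

variable (h : IsGood M W₁ U W₂ η μ δ u)

include h

theorem permM_values : (∀ x ∈ PM M, permM M W₁ x = (Nat.card U : ℂ)) ∧
    (∀ x ∈ commutator ↥M, x ∉ PM M → permM M W₁ x = 0) ∧
      ∀ x : ↥M, x ∉ commutator ↥M → permM M W₁ x = 1 := by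
  haveI := PM_normal M
  have hP := h.F.hP
  have e1 : Nat.card ↥(commutator ↥M) = Nat.card ↥⁅M, M⁆ := by
    have : commutator ↥M = (⁅M, M⁆).subgroupOf M := by
      ext x; rw [a_mem_comm_iff, mem_subgroupOf]
    rw [this]
    exact Nat.card_congr (Subgroup.subgroupOfEquivOfLe (commutator_le_self M)).toEquiv
  refine perm_values (P := PM M) (K := commutator ↥M) (n := Nat.card U) ?_ h.PM_le ?_ ?_ ?_ ?_
  · rw [fh_sup_eq hP]; exact le_sup_left
  · rintro x ⟨h1, h2⟩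
    exact mem_PM_of hP h1 h2
  · rw [card_fh_sup hP, ← hP.card_M, ← hP.card_M']; ring
  · rw [h.card_PM, hP.card_M', e1]
  · intro x hx
    obtain ⟨y, w, hw, hw2, e⟩ := h.F.conj_W hx
    refine ⟨y, mem_subgroupOf.2 ?_⟩
    rw [e]
    exact (sup_le le_sup_right (hP.W₂_le_H.trans le_sup_left)) hw

theorem permM_inner_one : classInner (permM M W₁) (fun _ => 1) = 1 := by
  classical
  letI : Fintype ↥((fittingHallOf M ⊔ W₁).subgroupOf M) := Fintype.ofFinite _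
  rw [permM, frobenius_reciprocity _ _ (classFun_const 1)]
  exact classInner_self_of_irr isIrr_one

theorem permM_gen : IsGeneralizedCharacter ↥M (permM M W₁) :=
  isGen_of_char (isChar_ind _ isChar_one)

theorem permM_inner_self : (Nat.card W₁ : ℂ) * classInner (permM M W₁) (permM M W₁) =
    (Nat.card U : ℂ) + (Nat.card W₁ : ℂ) - 1 := by
  classical
  obtain ⟨v1, v2, v3⟩ := h.permM_values
  have hP := h.F.hP
  haveI := PM_normal M
  obtain ⟨B, hB⟩ : ∃ B, B = (fittingHallOf M ⊔ W₁).subgroupOf M := ⟨_, rfl⟩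
  have hPB : PM M ≤ B := by rw [hB, fh_sup_eq hP]; exact le_sup_left
  letI : Fintype ↥B := Fintype.ofFinite _
  have e1 : classInner (permM M W₁) (permM M W₁) =
      classInner (fun _ : B => (1 : ℂ)) (fun b : B => permM M W₁ b) := by
    have e2 : permM M W₁ = indFun B (fun _ => 1) := by rw [permM, hB]
    conv_lhs => rw [e2]
    rw [frobenius_reciprocity B _ (by rw [← e2]; exact isGen_classFun h.permM_gen), ← e2]
  have hc : Nat.card B = Nat.card (fittingHallOf M) * Nat.card W₁ := by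
    rw [hB]; exact card_fh_sup hP
  have key : ∀ b : B, (1 : ℂ) * conj (permM M W₁ (b : ↥M)) =
      1 + if (b : ↥M) ∈ PM M then ((Nat.card U : ℂ) - 1) else 0 := by
    intro b
    by_cases hb : (b : ↥M) ∈ PM M
    · rw [v1 _ hb, if_pos hb, Complex.conj_natCast]; ring
    · rw [if_neg hb]
      have hb' : (b : ↥M) ∉ commutator ↥M := by
        intro h2
        apply hb
        have h1 : (b : ↥M) ∈ (fittingHallOf M ⊔ W₁).subgroupOf M := by
          rw [← hB]; exact b.2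
        exact mem_PM_of hP h1 h2
      rw [v3 _ hb', map_one]; ring
  have hcount : ((Finset.univ.filter (fun b : B => (b : ↥M) ∈ PM M)).card : ℂ) =
      Nat.card (fittingHallOf M) := by
    have e2 : (Finset.univ.filter (fun b : B => (b : ↥M) ∈ PM M)).card =
        Nat.card ((PM M).subgroupOf B) := by
      rw [Nat.card_eq_fintype_card, ← Fintype.card_subtype]
      rfl
    rw [e2, Nat.card_congr (Subgroup.subgroupOfEquivOfLe hPB).toEquiv, h.card_PM]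
  have hP0 : (Nat.card (fittingHallOf M) : ℂ) ≠ 0 := by exact_mod_cast Nat.card_pos.ne'
  have hW0 : (Nat.card W₁ : ℂ) ≠ 0 := by exact_mod_cast Nat.card_pos.ne'
  rw [e1, classInner, Finset.sum_congr rfl fun b _ => key b, Finset.sum_add_distrib,
    ← Finset.sum_filter, Finset.sum_const, Finset.sum_const, nsmul_eq_mul, nsmul_eq_mul, hcount,
    Finset.card_univ, ← Nat.card_eq_fintype_card, hc]
  push_cast
  field_simp
  ring

theorem permM_inner_mu {ψ : Lin W₁ W₂} (hψ : IsJ W₁ W₂ ψ) (h1 : ψ ≠ 1) :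
    classInner (permM M W₁) (μ ψ) = 0 := by
  classical
  haveI := PM_normal M
  have hP := h.F.hP
  obtain ⟨B, hB⟩ : ∃ B, B = (fittingHallOf M ⊔ W₁).subgroupOf M := ⟨_, rfl⟩
  have hPB : PM M ≤ B := by rw [hB, fh_sup_eq hP]; exact le_sup_left
  letI : Fintype ↥B := Fintype.ofFinite _
  letI : Fintype ↥(PM M) := Fintype.ofFinite _
  rw [permM, ← hB, frobenius_reciprocity B _ (h.F.a_mu_classFun ψ), classInner]
  have h0 : ∑ b : B, μ ψ (b : ↥M) = 0 := by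
    have hz : ∀ b : B, ∑ x : ↥(PM M), μ ψ ((b : ↥M) * x) = 0 := fun b =>
      a_sum_coset_zero (PM_normal M) (h.F.irr ψ) (h.mu_ker hψ h1) _
    have hs : ∀ x : ↥(PM M), ∑ b : B, μ ψ ((b : ↥M) * x) = ∑ b : B, μ ψ (b : ↥M) := by
      intro x
      exact Fintype.sum_equiv (Equiv.mulRight (⟨x, hPB x.2⟩ : B)) _ _ (fun b => rfl)
    have h2 : ∑ x : ↥(PM M), ∑ b : B, μ ψ ((b : ↥M) * x) = 0 := by
      rw [Finset.sum_comm]
      exact Finset.sum_eq_zero fun b _ => hz b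
    rw [Finset.sum_congr rfl fun x _ => hs x, Finset.sum_const, nsmul_eq_mul, mul_eq_zero] at h2
    rcases h2 with h2 | h2
    · exfalso
      rw [Finset.card_univ] at h2
      exact (Fintype.card_ne_zero (α := ↥(PM M))) (by exact_mod_cast h2)
    · exact h2
  have h3 : ∑ b : B, (1 : ℂ) * conj (μ ψ (b : ↥M)) = conj (∑ b : B, μ ψ (b : ↥M)) := by
    rw [map_sum]
    exact Finset.sum_congr rfl fun b _ => one_mul _
  rw [h3, h0, map_zero, mul_zero]

/-! ### `β_ψ = Ind_{PW₁}^M 1 − μ_ψ` -/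

theorem one_ne_J {ψ : Lin W₁ W₂} (h1 : ψ ≠ 1) : μ ψ ≠ fun _ => 1 := by
  intro e
  rw [← h.F.mu_one] at e
  exact h1 (h.F.inj e)

theorem beta_gen (ψ : Lin W₁ W₂) : IsGeneralizedCharacter ↥M (permM M W₁ - μ ψ) :=
  isGen_sub h.permM_gen (isGen_of_irr (h.F.irr ψ))

theorem beta_cls (ψ : Lin W₁ W₂) : IsClassFunction ↥M (permM M W₁ - μ ψ) :=
  isGen_classFun (h.beta_gen ψ)

theorem beta_supp (hu : u = Nat.card U) {ψ : Lin W₁ W₂} (hψ : IsJ W₁ W₂ ψ) (h1 : ψ ≠ 1) :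
    SuppOn (typeA0 M) (permM M W₁ - μ ψ) := by
  obtain ⟨v1, v2, v3⟩ := h.permM_values
  refine h.F.supp_A0 (h.beta_cls ψ) ?_ ?_
  · intro w hw hw1
    have hwne : (w : G) ≠ 1 := fun e => hw1 (Subtype.ext e)
    have hwc : w ∉ commutator ↥M := fun hc =>
      hwne (a_W₁_inf' h.F.hP hw (a_mem_comm_iff.1 hc))
    have hw2 : (w : G) ∉ W₂ := h.F.W₁_not_W₂ hw hwne
    have e1 := h.F.apply_W ψ ⟨w, mem_sup_left hw⟩ w.2 hw2
    have e2 : ψ ⟨w, mem_sup_left hw⟩ = 1 := hψ _ hw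
    rw [e2, h.sgn ψ hψ h1] at e1
    have e3 : μ ψ w = 1 := by
      have : (⟨(w : G), w.2⟩ : ↥M) = w := rfl
      rw [← this]
      simpa using e1
    rw [Pi.sub_apply, v3 w hwc, e3, sub_self]
  · intro x hx hxA
    rw [Pi.sub_apply]
    by_cases hx1 : x = 1
    · subst hx1
      rw [v1 1 (one_mem _), h.deg ψ hψ h1, hu, sub_self]
    · have hxP : x ∉ PM M := fun hxP =>
        hxA (h.P_sub x (mem_subgroupOf.1 hxP) (fun e => hx1 (Subtype.ext e)))
      have hnI : ¬ IsI W₁ W₂ ψ := by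
        intro hI
        exact h1 (a_lin_ext (fun w hw => by rw [hψ w hw]; rfl) (fun w hw => by rw [hI w hw]; rfl))
      rw [v2 x hx hxP, h.F.a_mu_vanish hnI hx hx1 hxA, sub_zero]

theorem beta_inner_one {ψ : Lin W₁ W₂} (h1 : ψ ≠ 1) :
    classInner (permM M W₁ - μ ψ) (fun _ => 1) = 1 := by
  rw [classInner_sub_left, h.permM_inner_one,
    classInner_of_irr_ne (h.F.irr ψ) isIrr_one (h.one_ne_J h1), sub_zero]

theorem beta_inner_self {ψ : Lin W₁ W₂} (hψ : IsJ W₁ W₂ ψ) (h1 : ψ ≠ 1) :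
    (Nat.card W₁ : ℂ) * classInner (permM M W₁ - μ ψ) (permM M W₁ - μ ψ) =
      (Nat.card U : ℂ) + 2 * (Nat.card W₁ : ℂ) - 1 := by
  have e1 := h.permM_inner_mu hψ h1
  have e2 : classInner (μ ψ) (permM M W₁) = 0 := by
    rw [← classInner_conj_symm, e1, map_zero]
  rw [classInner_sub_left, classInner_sub_right, classInner_sub_right, e1, e2,
    classInner_self_of_irr (h.F.irr ψ), mul_sub, mul_sub, h.permM_inner_self]
  ring

theorem beta_inner_mu {ψ ψ' : Lin W₁ W₂} (hψ : IsJ W₁ W₂ ψ) (h1 : ψ ≠ 1)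
    [Decidable (ψ' = ψ)] (hψ' : IsJ W₁ W₂ ψ') (h1' : ψ' ≠ 1) :
    classInner (permM M W₁ - μ ψ) (μ ψ') = if ψ' = ψ then -1 else 0 := by
  rw [classInner_sub_left, h.permM_inner_mu hψ' h1', zero_sub]
  split_ifs with he
  · rw [he, classInner_self_of_irr (h.F.irr ψ)]
  · rw [h.F.a_mu_orth (fun e => he e.symm), neg_zero]

/-- `Γ_ψ = τβ_ψ − 1 + η_ψ` -/
theorem beta_sub {ψ ψ' : Lin W₁ W₂} (hψ : IsJ W₁ W₂ ψ) (h1 : ψ ≠ 1) (hψ' : IsJ W₁ W₂ ψ')
    (h1' : ψ' ≠ 1) : tauM M (permM M W₁ - μ ψ) + η ψ = tauM M (permM M W₁ - μ ψ') + η ψ' := by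
  have hnI : ∀ {χ : Lin W₁ W₂}, IsJ W₁ W₂ χ → χ ≠ 1 → ¬ IsI W₁ W₂ χ := by
    intro χ hχ h1 hI
    exact h1 (a_lin_ext (fun w hw => by rw [hχ w hw]; rfl) (fun w hw => by rw [hI w hw]; rfl))
  have e1 := (h.F.tau_mu_sub (ω := ψ) (ω' := ψ') (fun w hw => by rw [hψ w hw, hψ' w hw])
    (hnI hψ h1) (hnI hψ' h1') (by rw [h.deg ψ hψ h1, h.deg ψ' hψ' h1'])
    (by rw [h.sgn ψ hψ h1, h.sgn ψ' hψ' h1'])).2
  rw [h.sgn ψ hψ h1, Int.cast_one, one_smul] at e1
  have e2 : tauM M (permM M W₁ - μ ψ') - tauM M (permM M W₁ - μ ψ) = η ψ - η ψ' := by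
    rw [← e1, tauM, ← dade_sub]
    congr 1
    abel
  rw [sub_eq_sub_iff_add_eq_add] at e2
  rw [add_comm, e2.symm, add_comm]

theorem conj_permM : conjFun (permM M W₁) = permM M W₁ := by
  rw [permM]
  have := conj_ind (K := (fittingHallOf M ⊔ W₁).subgroupOf M) (θ := fun _ => (1 : ℂ))
  rw [this]
  congr 1
  funext x
  exact map_one _

theorem beta_conj (ψ : Lin W₁ W₂) :
    conjFun (permM M W₁ - μ ψ) = permM M W₁ - μ ψ⁻¹ := by
  have : conjFun (permM M W₁ - μ ψ) = conjFun (permM M W₁) - conjFun (μ ψ) := by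
    funext x; exact map_sub _ _ _
  rw [this, h.conj_permM, h.F.conj_mu]

end IsGood

/-- `Γ = τβ_ψ − 1 + η_ψ` -/
noncomputable def GamM (M W₁ : Subgroup G) {W₂ : Subgroup G} [Fintype ↥M] (η : Lin W₁ W₂ → G → ℂ)
    (μ : Lin W₁ W₂ → ↥M → ℂ) (ψ : Lin W₁ W₂) : G → ℂ :=
  tauM M (permM M W₁ - μ ψ) + η ψ - fun _ => 1

namespace IsGood

variable (h : IsGood M W₁ U W₂ η μ δ u)

include h

theorem Gam_gen (hu : u = Nat.card U) {ψ : Lin W₁ W₂} (hψ : IsJ W₁ W₂ ψ) (h1 : ψ ≠ 1) :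
    IsGeneralizedCharacter G (GamM M W₁ η μ ψ) :=
  isGen_sub (isGen_add (tau_gen h.F.hG h.F.hM (h.beta_gen ψ) (h.beta_supp hu hψ h1))
    (h.F.a_eta_gen ψ)) isGen_one

theorem Gam_real {ψ : Lin W₁ W₂} (hψ : IsJ W₁ W₂ ψ) (h1 : ψ ≠ 1) :
    conjFun (GamM M W₁ η μ ψ) = GamM M W₁ η μ ψ := by
  have e1 : conjFun (GamM M W₁ η μ ψ) = conjFun (tauM M (permM M W₁ - μ ψ)) + conjFun (η ψ) -
      fun _ => 1 := by
    funext x
    change conj (tauM M (permM M W₁ - μ ψ) x + η ψ x - 1) = _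
    rw [map_sub, map_add, map_one]; rfl
  have e2 : conjFun (tauM M (permM M W₁ - μ ψ)) = tauM M (permM M W₁ - μ ψ⁻¹) := by
    rw [tauM, ← dade_conj, h.beta_conj]
  rw [e1, e2, h.F.conj_eta, GamM, h.beta_sub hψ h1 hψ.inv (h.inv_ne_one h1)]

theorem eta_one_inner {ψ : Lin W₁ W₂} (h1 : ψ ≠ 1) : classInner (η ψ) (fun _ => 1) = 0 := by
  rw [← h.F.fam.map_one]
  exact h.F.a_eta_orth h1

theorem Gam_one (hu : u = Nat.card U) {ψ : Lin W₁ W₂} (hψ : IsJ W₁ W₂ ψ) (h1 : ψ ≠ 1) :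
    classInner (GamM M W₁ η μ ψ) (fun _ => 1) = 0 := by
  rw [GamM, classInner_sub_left, classInner_add_left,
    tau_inner_one h.F.hG h.F.hM (h.beta_cls ψ) (h.beta_supp hu hψ h1), h.beta_inner_one h1,
    h.eta_one_inner h1, classInner_self_of_irr isIrr_one]
  ring

theorem tau_beta_eta (hu : u = Nat.card U) {ψ ψ' : Lin W₁ W₂} (hψ : IsJ W₁ W₂ ψ) (h1 : ψ ≠ 1)
    (hψ' : IsJ W₁ W₂ ψ') (h1' : ψ' ≠ 1) (hne : ψ' ≠ ψ) :
    classInner (tauM M (permM M W₁ - μ ψ)) (η ψ') =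
      classInner (tauM M (permM M W₁ - μ ψ)) (η ψ) + 1 := by
  classical
  have hnI : ∀ {χ : Lin W₁ W₂}, IsJ W₁ W₂ χ → χ ≠ 1 → ¬ IsI W₁ W₂ χ := by
    intro χ hχ h1 hI
    exact h1 (a_lin_ext (fun w hw => by rw [hχ w hw]; rfl) (fun w hw => by rw [hI w hw]; rfl))
  obtain ⟨e0, e1⟩ := h.F.tau_mu_sub (ω := ψ) (ω' := ψ') (fun w hw => by rw [hψ w hw, hψ' w hw])
    (hnI hψ h1) (hnI hψ' h1') (by rw [h.deg ψ hψ h1, h.deg ψ' hψ' h1'])
    (by rw [h.sgn ψ hψ h1, h.sgn ψ' hψ' h1'])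
  rw [h.sgn ψ hψ h1, Int.cast_one, one_smul] at e1
  have e2 : classInner (tauM M (permM M W₁ - μ ψ)) (η ψ - η ψ') = -1 := by
    rw [← e1, tau_inner h.F.hG h.F.hM (h.beta_cls ψ) (h.beta_supp hu hψ h1)
      (classFun_sub (h.F.a_mu_classFun ψ) (h.F.a_mu_classFun ψ')) e0, classInner_sub_right,
      h.beta_inner_mu hψ h1 hψ h1, h.beta_inner_mu hψ h1 hψ' h1', if_pos rfl, if_neg hne, sub_zero]
  rw [classInner_sub_right] at e2
  linear_combination -e2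

theorem Gam_eta (hu : u = Nat.card U) {ψ ψ' : Lin W₁ W₂} (hψ : IsJ W₁ W₂ ψ) (h1 : ψ ≠ 1)
    (hψ' : IsJ W₁ W₂ ψ') (h1' : ψ' ≠ 1) :
    classInner (GamM M W₁ η μ ψ) (η ψ') =
      classInner (tauM M (permM M W₁ - μ ψ)) (η ψ) + 1 := by
  classical
  have e1 : classInner (fun _ => 1) (η ψ') = 0 := by
    rw [← classInner_conj_symm, h.eta_one_inner h1', map_zero]
  rw [GamM, classInner_sub_left, classInner_add_left, e1, sub_zero]
  by_cases he : ψ' = ψ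
  · rw [he, h.F.a_eta_norm]
  · rw [h.tau_beta_eta hu hψ h1 hψ' h1' he, h.F.a_eta_orth (fun e => he e.symm), add_zero]

theorem Gam_norm (hu : u = Nat.card U) {ψ : Lin W₁ W₂} (hψ : IsJ W₁ W₂ ψ) (h1 : ψ ≠ 1) {g : ℤ}
    (hg : classInner (GamM M W₁ η μ ψ) (η ψ) = g) :
    (Nat.card W₁ : ℂ) * classInner (GamM M W₁ η μ ψ) (GamM M W₁ η μ ψ) =
      (u : ℂ) - 1 + 2 * Nat.card W₁ * g := by
  have e1 : classInner (fun _ => 1) (η ψ) = 0 := by
    rw [← classInner_conj_symm, h.eta_one_inner h1, map_zero]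
  rw [h.Gam_eta hu hψ h1 hψ h1] at hg
  have e2 : classInner (tauM M (permM M W₁ - μ ψ)) (η ψ) = (g : ℂ) - 1 := by
    linear_combination hg
  have e3 : classInner (η ψ) (tauM M (permM M W₁ - μ ψ)) = (g : ℂ) - 1 := by
    rw [← classInner_conj_symm, e2, map_sub, map_one, map_intCast]
  have e4 := tau_inner_one h.F.hG h.F.hM (h.beta_cls ψ) (h.beta_supp hu hψ h1)
  rw [h.beta_inner_one h1] at e4
  have e5 : classInner (fun _ => 1) (tauM M (permM M W₁ - μ ψ)) = 1 := by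
    rw [← classInner_conj_symm, e4, map_one]
  have e6 := tau_inner h.F.hG h.F.hM (h.beta_cls ψ) (h.beta_supp hu hψ h1) (h.beta_cls ψ)
    (h.beta_supp hu hψ h1)
  have e7 := h.beta_inner_self hψ h1
  rw [← hu] at e7
  rw [GamM]
  obtain ⟨β, hβ⟩ : ∃ β, β = permM M W₁ - μ ψ := ⟨_, rfl⟩
  rw [← hβ] at e2 e3 e4 e5 e6 e7 ⊢
  simp only [classInner_sub_left, classInner_add_left, classInner_sub_right, classInner_add_right,
    e1, e2, e3, e4, e5, e6, h.eta_one_inner h1, h.F.a_eta_norm, classInner_self_of_irr isIrr_one]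
  linear_combination e7

/-- the map `τβ` is orthogonal to class functions vanishing on `A₀(M)` -/
theorem tau_beta_orth (hu : u = Nat.card U) {ψ : Lin W₁ W₂} (hψ : IsJ W₁ W₂ ψ) (h1 : ψ ≠ 1)
    {X : G → ℂ} (hX : IsClassFunction G X) (h0 : ∀ x ∈ typeA0 M, X x = 0) :
    classInner (tauM M (permM M W₁ - μ ψ)) X = 0 := by
  rw [h.tau_restr (h.beta_cls ψ) (h.beta_supp hu hψ h1) hX, classInner]
  rw [Finset.sum_eq_zero, mul_zero]
  intro x _
  by_cases hx : (x : G) ∈ typeA0 M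
  · rw [h0 _ hx, map_zero, mul_zero]
  · rw [h.beta_supp hu hψ h1 x hx, zero_mul]

/-- (C), abstract form for the side `M` (`M = S`, or `M = T` with the roles of `W₁, W₂` exchanged).
`Z i = σλ_i`, `m i = λ_i(1)/e`, `λ = λ_{i₀}`, `Φ = τφ = 1 − σλ + Δ`. -/
theorem factC (hu : u = Nat.card U)
    {ι : Type v} [Fintype ι] {Z : ι → G → ℂ} {m : ι → ℤ} {i₀ : ι} {Φ : G → ℂ}
    (hZ : ∀ i, SIrr (Z i)) (hZo : ∀ i j, i ≠ j → classInner (Z i) (Z j) = 0)
    (hZ1 : ∀ i, classInner (Z i) (fun _ => 1) = 0) (hZη : ∀ i ω, classInner (Z i) (η ω) = 0)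
    (hZs : ∀ i, ∀ x ∈ typeA0 M, Z i x = (m i : ℂ) * Z i₀ x)
    (hΦ : IsGeneralizedCharacter G Φ) (hΦ1 : classInner Φ (fun _ => 1) = 1)
    (hΦr : conjFun (Φ + Z i₀) = Φ + Z i₀) (hΦs : ∀ x ∈ typeA0 M, Φ x = 0)
    {s : ℤ} {ψ : Lin W₁ W₂} (hψ : IsJ W₁ W₂ ψ) (hψ1 : ψ ≠ 1)
    (hs : classInner Φ (η ψ) = s) (he : Even s) :
    (Nat.card W₁ : ℤ) * ∑ i, m i ^ 2 ≤ (u : ℤ) - 1 := by
  classical
  set Γ := GamM M W₁ η μ ψ with hΓ
  have hΓg := h.Gam_gen hu hψ hψ1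
  rw [← hΓ] at hΓg
  obtain ⟨g, hg⟩ := classInner_gen_int hΓg (h.F.a_eta_gen ψ)
  have hg' : ∀ ψ', IsJ W₁ W₂ ψ' → ψ' ≠ 1 → classInner Γ (η ψ') = g := by
    intro ψ' k1 k2
    rw [hΓ, h.Gam_eta hu hψ hψ1 k1 k2, ← h.Gam_eta hu hψ hψ1 hψ hψ1, ← hΓ, hg]
  have hn := h.Gam_norm hu hψ hψ1 (g := g) (by rw [← hΓ, hg])
  rw [← hΓ] at hn
  obtain ⟨b, hb⟩ := classInner_gen_int hΓg (hZ i₀).isGen
  -- `⟨Γ, Z i⟩ = m i * b`
  have hZi : ∀ i, classInner Γ (Z i) = (m i : ℂ) * b := by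
    intro i
    have k : ∀ j, classInner Γ (Z j) = classInner (tauM M (permM M W₁ - μ ψ)) (Z j) := by
      intro j
      have e1 : classInner (η ψ) (Z j) = 0 := by
        rw [← classInner_conj_symm, hZη, map_zero]
      have e2 : classInner (fun _ => 1) (Z j) = 0 := by
        rw [← classInner_conj_symm, hZ1, map_zero]
      rw [hΓ, GamM, classInner_sub_left, classInner_add_left, e1, e2, add_zero, sub_zero]
    have hX : IsClassFunction G (Z i - (m i : ℂ) • Z i₀) :=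
      classFun_sub (isGen_classFun (hZ i).isGen) (classFun_smul _ (isGen_classFun (hZ i₀).isGen))
    have e3 := h.tau_beta_orth hu hψ hψ1 hX (fun x hx => by
      rw [Pi.sub_apply, Pi.smul_apply, smul_eq_mul, hZs i x hx, sub_self])
    rw [classInner_sub_right, classInner_smul_right, map_intCast, ← k, ← k, hb] at e3
    linear_combination e3
  -- parity
  have hbodd : ¬ (b = 0) := by
    intro hb0
    have hD : IsGeneralizedCharacter G (Φ + Z i₀) := isGen_add hΦ (hZ i₀).isGen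
    obtain ⟨n, x, y, h1, -, h3⟩ := real_inner_parity h.F.hG.1 hΓg hD (by
      rw [hΓ]; exact h.Gam_real hψ hψ1) hΦr
    rw [hΓ, h.Gam_one hu hψ hψ1] at h1
    have hx : x = 0 := by exact_mod_cast h1.symm
    rw [hx, zero_mul, zero_add, classInner_add_right, hb, hb0] at h3
    have e1 : classInner Γ Φ = (s : ℂ) - 1 := by
      have k1 := h.tau_beta_orth hu hψ hψ1 (isGen_classFun hΦ) hΦs
      have k2 : classInner (η ψ) Φ = s := by
        rw [← classInner_conj_symm, hs, map_intCast]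
      have k3 : classInner (fun _ => 1) Φ = 1 := by
        rw [← classInner_conj_symm, hΦ1, map_one]
      rw [hΓ, GamM, classInner_sub_left, classInner_add_left, k1, k2, k3, zero_add]
    rw [e1] at h3
    have h4 : s - 1 = 2 * n := by
      have : ((s - 1 : ℤ) : ℂ) = ((2 * n : ℤ) : ℂ) := by
        push_cast at h3 ⊢
        linear_combination h3
      exact_mod_cast this
    obtain ⟨t, ht⟩ := he
    omega
  -- Bessel
  have hbes := bessel_le (((idxJ W₁ W₂).erase 1).disjSum (Finset.univ : Finset ι))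
    (Sum.elim η Z) (fun _ => (1 : ℝ)) (fun _ _ => one_ne_zero) (by
      rintro (i | i) - (j | j) -
      · simp only [Sum.elim_inl]
        rw [h.F.fam.orthonormal]
        simp
      · simp only [Sum.elim_inl, Sum.elim_inr]
        rw [← classInner_conj_symm, hZη]
        simp
      · simp only [Sum.elim_inl, Sum.elim_inr]
        rw [hZη]
        simp
      · simp only [Sum.elim_inr]
        by_cases hij : i = j
        · rw [hij, (hZ j).norm]; simp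
        · rw [hZo i j hij]; simp [hij]) Γ
  rw [Finset.sum_disjSum] at hbes
  have s1 : ∑ i ∈ (idxJ W₁ W₂).erase 1, ‖classInner Γ (Sum.elim η Z (Sum.inl i))‖ ^ 2 / 1 =
      ((Nat.card W₂ : ℝ) - 1) * (g : ℝ) ^ 2 := by
    have : ∀ i ∈ (idxJ W₁ W₂).erase 1,
        ‖classInner Γ (Sum.elim η Z (Sum.inl i))‖ ^ 2 / 1 = (g : ℝ) ^ 2 := by
      intro i hi
      rw [Finset.mem_erase, mem_idxJ] at hi
      rw [Sum.elim_inl, hg' i hi.2 hi.1, Complex.norm_intCast, div_one, sq_abs]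
    rw [Finset.sum_congr rfl this, Finset.sum_const, Finset.card_erase_of_mem (by
      rw [mem_idxJ]; exact IsJ.one), card_idxJ h.F.hW, nsmul_eq_mul,
      Nat.cast_sub Nat.card_pos]
    simp
  have s2 : ∑ i : ι, ‖classInner Γ (Sum.elim η Z (Sum.inr i))‖ ^ 2 / 1 =
      (b : ℝ) ^ 2 * ∑ i, (m i : ℝ) ^ 2 := by
    rw [Finset.mul_sum]
    refine Finset.sum_congr rfl fun i _ => ?_
    rw [Sum.elim_inr, hZi i, norm_mul, Complex.norm_intCast, Complex.norm_intCast, div_one,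
      mul_pow, sq_abs, sq_abs, mul_comm]
  rw [s1, s2] at hbes
  have hnr : (Nat.card W₁ : ℝ) * (classInner Γ Γ).re =
      (u : ℝ) - 1 + 2 * Nat.card W₁ * g := by
    have := congrArg Complex.re hn
    rw [← Complex.ofReal_natCast (Nat.card W₁), Complex.re_ofReal_mul] at this
    rw [this]
    have e : ((u : ℂ) - 1 + 2 * ((Nat.card W₁ : ℝ) : ℂ) * (g : ℂ)) =
        (((u : ℝ) - 1 + 2 * Nat.card W₁ * g : ℝ) : ℂ) := by push_cast; ring
    rw [e, Complex.ofReal_re]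
  have hq : (0 : ℝ) < Nat.card W₁ := by exact_mod_cast Nat.card_pos
  have hp3 : (3 : ℝ) ≤ Nat.card W₂ := by
    exact_mod_cast (a_three_le h.F.hW h.F.oddW).2
  have hM : (0 : ℝ) ≤ ∑ i, (m i : ℝ) ^ 2 := Finset.sum_nonneg fun i _ => sq_nonneg _
  have hb2 : (1 : ℝ) ≤ (b : ℝ) ^ 2 := by
    have : (1 : ℤ) ≤ b ^ 2 := by
      have := sq_nonneg b
      rcases this.lt_or_eq with k | k
      · omega
      · exact absurd (pow_eq_zero_iff (two_ne_zero)|>.1 k.symm) hbodd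
    exact_mod_cast this
  have hg2 : (g : ℝ) ≤ (g : ℝ) ^ 2 := by
    have : g ≤ g ^ 2 := by nlinarith [Int.le_self_sq g]
    exact_mod_cast this
  have k1 : ∑ i, (m i : ℝ) ^ 2 ≤ (b : ℝ) ^ 2 * ∑ i, (m i : ℝ) ^ 2 := by
    nlinarith
  have k2 : 2 * (g : ℝ) ≤ ((Nat.card W₂ : ℝ) - 1) * (g : ℝ) ^ 2 := by
    nlinarith [sq_nonneg (g : ℝ)]
  have k3 : (Nat.card W₁ : ℝ) * ∑ i, (m i : ℝ) ^ 2 ≤ (u : ℝ) - 1 := by
    have k4 : ∑ i, (m i : ℝ) ^ 2 ≤ (classInner Γ Γ).re - 2 * g := by linarith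
    have k5 := mul_le_mul_of_nonneg_left k4 hq.le
    rw [mul_sub, hnr] at k5
    linarith
  have k6 : (((Nat.card W₁ : ℤ) * ∑ i, m i ^ 2 : ℤ) : ℝ) ≤ (((u : ℤ) - 1 : ℤ) : ℝ) := by
    push_cast
    exact k3
  exact_mod_cast k6

end IsGood

end Cfsg.Agent.PF
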