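import Cfsg.Agent.PF.Good4
import Cfsg.Agent.H3.Counting
import Cfsg.Agent.H3.BrauerA

set_option autoImplicit false

/-! Preparations for fact (C) of the plan of S1544 (helper6): parity of inner products of real
generalized characters in a group of odd order; the permutation character `Ind_{PW₁}^M 1`. -/

namespace Cfsg.Agent.PF

open Subgroup ComplexConjugate
open Cfsg.Agent.H3 Cfsg.Agent.H11

universe u v w

section Parity

variable {G : Type u} [Group G] [Fintype G]

/-- parity: odd order, two real generalized characters -/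
theorem real_inner_parity (hodd : Odd (Nat.card G)) {a b : G → ℂ}
    (ha : IsGeneralizedCharacter G a) (hb : IsGeneralizedCharacter G b)
    (ha' : conjFun a = a) (hb' : conjFun b = b) :
    ∃ n x y : ℤ, classInner a (fun _ => 1) = x ∧ classInner b (fun _ => 1) = y ∧
      classInner a b = ((x * y + 2 * n : ℤ) : ℂ) := by
  classical
  letI : Fintype (IrrCharacter G) := Fintype.ofFinite _
  obtain ⟨m, hm, -⟩ := gen_expand ha
  obtain ⟨k, hk, -⟩ := gen_expand hb
  have hconj : ∀ χ : IrrCharacter G, ((irrConj χ : IrrCharacter G) : G → ℂ) = conjFun (χ : G → ℂ) :=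
    fun χ => by funext g; rfl
  have hm' : ∀ χ, m (irrConj χ) = m χ := by
    intro χ
    have e1 : classInner a (irrConj χ : G → ℂ) = conj (classInner a (χ : G → ℂ)) := by
      rw [hconj]
      conv_lhs => rw [← ha']
      rw [classInner_conjFun]
    rw [hm, hm, map_intCast] at e1
    exact_mod_cast e1
  have hk' : ∀ χ, k (irrConj χ) = k χ := by
    intro χ
    have e1 : classInner b (irrConj χ : G → ℂ) = conj (classInner b (χ : G → ℂ)) := by
      rw [hconj]
      conv_lhs => rw [← hb']
      rw [classInner_conjFun]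
    rw [hk, hk, map_intCast] at e1
    exact_mod_cast e1
  set t : IrrCharacter G := ⟨fun _ => 1, isIrr_one⟩ with ht
  have h1 : classInner a b = ((∑ χ, m χ * k χ : ℤ) : ℂ) := by
    rw [classInner_eq_sum (isGen_classFun ha)]
    push_cast
    refine Finset.sum_congr rfl fun χ _ => ?_
    rw [hm, hk, map_intCast]
  have h2 : (2 : ℤ) ∣ ∑ χ ∈ Finset.univ.erase t, m χ * k χ := by
    have h3 : ((∑ χ ∈ Finset.univ.erase t, m χ * k χ : ℤ) : ZMod 2) = 0 := by
      rw [Int.cast_sum]
      refine Finset.sum_involution (fun χ _ => irrConj χ) ?_ ?_ ?_ ?_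
      · intro χ _
        rw [hm', hk', ← two_mul]
        have : (2 : ZMod 2) = 0 := rfl
        rw [this, zero_mul]
      · intro χ hχ _ he
        have := irr_real_of_odd hodd χ he
        exact (Finset.mem_erase.1 hχ).1 (Subtype.ext this)
      · intro χ hχ
        refine Finset.mem_erase.2 ⟨fun e => ?_, Finset.mem_univ _⟩
        have e2 : χ = irrConj t := by rw [← e, irrConj_irrConj]
        have e3 : irrConj t = t := by
          apply Subtype.ext
          funext g
          change conj (1 : ℂ) = 1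
          exact map_one _
        exact (Finset.mem_erase.1 hχ).1 (e2.trans e3)
      · intro χ _
        exact irrConj_irrConj χ
    exact (ZMod.intCast_zmod_eq_zero_iff_dvd _ 2).1 h3
  obtain ⟨n, hn⟩ := h2
  refine ⟨n, m t, k t, hm t, hk t, ?_⟩
  rw [h1, ← Finset.add_sum_erase _ _ (Finset.mem_univ t), hn]

end Parity

section Perm

variable {L : Type u} [Group L] [Fintype L]

theorem perm_values {P K B : Subgroup L} [hPn : P.Normal] [hKn : K.Normal] {n : ℕ} (hPB : P ≤ B)
    (hPK : P ≤ K) (hBK : B ⊓ K ≤ P) (hB : Nat.card B * n = Nat.card L)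
    (hP : Nat.card P * n = Nat.card K) (hconj : ∀ x : L, x ∉ K → ∃ y : L, y * x * y⁻¹ ∈ B) :
    (∀ x ∈ P, indFun B (fun _ => 1) x = (n : ℂ)) ∧
      (∀ x ∈ K, x ∉ P → indFun B (fun _ => 1) x = 0) ∧
      (∀ x, x ∉ K → indFun B (fun _ => 1) x = 1) := by
  classical
  have hB0 : (Nat.card B : ℂ) ≠ 0 := by exact_mod_cast Nat.card_pos.ne'
  have v1 : ∀ x ∈ P, indFun B (fun _ => 1) x = (n : ℂ) := by
    intro x hx
    rw [indFun]
    have : ∀ y : L, extendByZero B (fun _ => (1 : ℂ)) (y⁻¹ * x * y) = 1 := by
      intro y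
      have hy : y⁻¹ * x * y ∈ P := by
        have := hPn.conj_mem x hx y⁻¹
        simpa using this
      rw [extendByZero_mem B _ (hPB hy)]
    rw [Finset.sum_congr rfl fun y _ => this y, Finset.sum_const, Finset.card_univ,
      ← Nat.card_eq_fintype_card, ← hB, nsmul_eq_mul, mul_one]
    push_cast
    field_simp
  have v2 : ∀ x ∈ K, x ∉ P → indFun B (fun _ => 1) x = 0 := by
    intro x hx hxP
    rw [indFun]
    have : ∀ y : L, extendByZero B (fun _ => (1 : ℂ)) (y⁻¹ * x * y) = 0 := by
      intro y
      refine extendByZero_not_mem B _ fun hy => hxP ?_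
      have h1 : y⁻¹ * x * y ∈ K := by
        have := hKn.conj_mem x hx y⁻¹
        simpa using this
      have h2 := hPn.conj_mem _ (hBK ⟨hy, h1⟩) y
      have e : y * (y⁻¹ * x * y) * y⁻¹ = x := by group
      rwa [e] at h2
    rw [Finset.sum_congr rfl fun y _ => this y, Finset.sum_const_zero, mul_zero]
  refine ⟨v1, v2, ?_⟩
  -- the integer valued function
  let N : L → ℕ := fun x => Nat.card (MulAction.fixedBy (L ⧸ B) x)
  have hN : ∀ x, indFun B (fun _ => 1) x = (N x : ℂ) := by
    intro x
    rw [indFun_one_eq_permChar]; rfl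
  have hpos : ∀ x, x ∉ K → 1 ≤ N x := by
    intro x hx
    obtain ⟨y, hy⟩ := hconj x hx
    have : Nonempty (MulAction.fixedBy (L ⧸ B) x) := by
      refine ⟨⟨((y⁻¹ : L) : L ⧸ B), ?_⟩⟩
      rw [MulAction.mem_fixedBy]
      change ((x * y⁻¹ : L) : L ⧸ B) = ((y⁻¹ : L) : L ⧸ B)
      rw [QuotientGroup.eq]
      have e : (x * y⁻¹)⁻¹ * y⁻¹ = (y * x * y⁻¹)⁻¹ := by group
      rw [e]; exact inv_mem hy
    exact Nat.card_pos
  have hsum : ∑ x : L, N x = Nat.card L := by
    have h1 : classInner (indFun B (fun _ => 1)) (fun _ => 1) = 1 := by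
      rw [frobenius_reciprocity B _ (classFun_const 1)]
      exact classInner_self_of_irr isIrr_one
    rw [classInner] at h1
    have h2 : ∑ x : L, indFun B (fun _ => 1) x * conj ((fun _ => (1 : ℂ)) x) =
        ((∑ x : L, N x : ℕ) : ℂ) := by
      push_cast
      refine Finset.sum_congr rfl fun x _ => ?_
      rw [hN]; simp
    rw [h2] at h1
    have hL0 : (Nat.card L : ℂ) ≠ 0 := by exact_mod_cast Nat.card_pos.ne'
    have h3 : ((∑ x : L, N x : ℕ) : ℂ) = Nat.card L := by
      field_simp at h1
      exact h1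
    exact_mod_cast h3
  have hK : ∑ x ∈ Finset.univ.filter (fun x => x ∈ K), N x = Nat.card K := by
    have h1 : ∑ x ∈ Finset.univ.filter (fun x => x ∈ K), N x =
        ∑ x ∈ Finset.univ.filter (fun x => x ∈ P), n := by
      rw [← Finset.sum_subset (s₁ := Finset.univ.filter (fun x => x ∈ P))
        (s₂ := Finset.univ.filter (fun x => x ∈ K))]
      · refine Finset.sum_congr rfl fun x hx => ?_
        have := v1 x (Finset.mem_filter.1 hx).2
        rw [hN] at this
        exact_mod_cast this
      · intro x hx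
        rw [Finset.mem_filter] at hx ⊢
        exact ⟨hx.1, hPK hx.2⟩
      · intro x hx hx'
        rw [Finset.mem_filter] at hx
        have hxP : x ∉ P := fun e => hx' (Finset.mem_filter.2 ⟨Finset.mem_univ _, e⟩)
        have := v2 x hx.2 hxP
        rw [hN] at this
        exact_mod_cast this
    rw [h1, Finset.sum_const, smul_eq_mul, ← hP]
    congr 1
    rw [Nat.card_eq_fintype_card, ← Fintype.card_subtype]
  have hKcard : (Finset.univ.filter (fun x : L => x ∈ K)).card = Nat.card K := by
    rw [Nat.card_eq_fintype_card, ← Fintype.card_subtype]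
  have hsplit := Finset.sum_filter_add_sum_filter_not Finset.univ (fun x : L => x ∈ K) N
  have hsplit1 := Finset.card_filter_add_card_filter_not (s := (Finset.univ : Finset L))
    (fun x : L => x ∈ K)
  rw [hK, hsum] at hsplit
  rw [hKcard, Finset.card_univ, ← Nat.card_eq_fintype_card] at hsplit1
  have heq : ∑ x ∈ Finset.univ.filter (fun x : L => x ∉ K), 1 =
      ∑ x ∈ Finset.univ.filter (fun x : L => x ∉ K), N x := by
    rw [Finset.sum_const, smul_eq_mul, mul_one]
    omega
  have hle : ∀ x ∈ Finset.univ.filter (fun x : L => x ∉ K), 1 ≤ N x := fun x hx =>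
    hpos x (Finset.mem_filter.1 hx).2
  rw [Finset.sum_eq_sum_iff_of_le hle] at heq
  intro x hx
  rw [hN, ← heq x (Finset.mem_filter.2 ⟨Finset.mem_univ _, hx⟩)]
  simp

end Perm

end Cfsg.Agent.PF
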