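import Cfsg.Agent.PF.SecC12

set_option autoImplicit false

/-! PF (10.8), counting -/

namespace Cfsg.Agent.PF

open Subgroup
open Cfsg.Agent.L (nz SylIn)
open Cfsg.Agent.H3
open Cfsg.Agent.H21 (exists_ne_one)

universe u

section count

variable {G : Type u} [Group G] [Fintype G]

/-- union of conjugates -/
theorem card_conj_union (S : Set G) (N : Subgroup G)
    (hN : ∀ n ∈ N, ∀ s ∈ S, n * s * n⁻¹ ∈ S) :
    Nat.card {g : G | ∃ y : G, y * g * y⁻¹ ∈ S} * Nat.card N ≤ Nat.card G * Nat.card S := by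
  classical
  have hT : ∀ t : {g : G | ∃ y : G, y * g * y⁻¹ ∈ S}, ∃ y : G, y * t * y⁻¹ ∈ S := fun t => t.2
  choose y hy using hT
  rw [← Nat.card_prod, ← Nat.card_prod]
  refine Nat.card_le_card_of_injective (fun p => (⟨p.2 * y p.1, ⟨p.2 * (y p.1 * p.1 * (y p.1)⁻¹) *
    (p.2 : G)⁻¹, hN _ p.2.2 _ (hy p.1)⟩⟩ : G × S)) ?_
  rintro ⟨t, n⟩ ⟨t', n'⟩ h
  simp only [Prod.mk.injEq, Subtype.mk.injEq] at h
  obtain ⟨h1, h2⟩ := h
  have h3 : (n : G) * y t * t * (n * y t)⁻¹ = n' * y t' * t' * (n' * y t')⁻¹ := by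
    simpa [mul_assoc] using h2
  rw [h1] at h3
  have h4 : (t : G) = t' := by
    have := mul_right_cancel h3
    exact mul_left_cancel this
  have h5 : t = t' := Subtype.ext h4
  subst h5
  have h6 : n = n' := Subtype.ext (mul_right_cancel h1)
  rw [h6]

variable {M W₁ U W₂ : Subgroup G} [Fintype ↥M]
  {η : Lin W₁ W₂ → G → ℂ} {μ : Lin W₁ W₂ → ↥M → ℂ} {δ : Lin W₁ W₂ → ℤ} {d : ℕ} {e n : ℤ}

open Classical in
theorem inner_indicator {L : Type u} [Group L] [Fintype L] (A : Set L) :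
    classInner (fun x => if x ∈ A then (1 : ℂ) else 0) (fun x => if x ∈ A then (1 : ℂ) else 0) =
      (Nat.card L : ℂ)⁻¹ * (Nat.card A : ℂ) := by
  unfold classInner
  congr 1
  have h1 : ∀ x : L, (if x ∈ A then (1 : ℂ) else 0) *
      (starRingEnd ℂ) (if x ∈ A then (1 : ℂ) else 0) = if x ∈ A then (1 : ℂ) else 0 := by
    intro x; split_ifs <;> simp
  rw [Finset.sum_congr rfl fun x _ => h1 x, Finset.sum_boole]
  congr 1
  rw [Nat.card_eq_fintype_card, Fintype.card_subtype]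

/-- `|Ã(M)| |M| = |A(M)| |G|` -/
theorem tilde_card (F : IsFrame M W₁ U W₂ η μ δ) (h : Typ345 M) :
    (Nat.card (tildeOf M (typeA M)) : ℝ) * Nat.card ↥M =
      Nat.card {a : ↥M | (a : G) ∈ typeA M} * Nat.card G := by
  classical
  set α : ↥M → ℂ := fun x => if x ∈ {a : ↥M | (a : G) ∈ typeA M} then (1 : ℂ) else 0 with hα
  have hcl : IsClassFunction ↥M α := by
    intro x y
    have e1 : (((y * x * y⁻¹ : ↥M) : G) ∈ typeA M) ↔ (x : G) ∈ typeA M := by
      rw [F.A_eq h]
      exact typeA_conj h F.hG F.hM F.hP y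
    simp only [hα, Set.mem_setOf_eq, e1]
  have hs : SuppOn (typeA M) α := by
    intro x hx
    simp only [hα, Set.mem_setOf_eq, if_neg hx]
  have h1 : tauM M α = fun g => if g ∈ tildeOf M (typeA M) then (1 : ℂ) else 0 := by
    funext g
    split_ifs with hg
    · obtain ⟨a, ha, r, hr, y, rfl⟩ := hg
      have haM : a ∈ M := by
        have := ha
        rw [F.A_eq h] at this
        exact Subgroup.commutator_le_self M this.1
      have := tau_apply F.hG F.hM hcl (a := ⟨a, haM⟩) (A_sub_A0 ha) (u := r) (y := y) hr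
      rw [this]
      simp only [hα, Set.mem_setOf_eq, if_pos ha]
    · exact tau_supp F.hG F.hM A_sub_A0 hcl hs hg
  have h2 := tau_inner F.hG F.hM hcl hs.A0 hcl hs.A0
  rw [h1, inner_indicator, hα, inner_indicator] at h2
  have hG0 : (Nat.card G : ℂ) ≠ 0 := by exact_mod_cast Nat.card_pos.ne'
  have hM0 : (Nat.card ↥M : ℂ) ≠ 0 := by exact_mod_cast Nat.card_pos.ne'
  have h3 : (Nat.card (tildeOf M (typeA M)) : ℂ) * Nat.card ↥M =
      Nat.card {a : ↥M | (a : G) ∈ typeA M} * Nat.card G := by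
    field_simp at h2
    linear_combination h2
  exact_mod_cast h3

theorem one_not_tilde {A : Set G} (F : IsFrame M W₁ U W₂ η μ δ) (h : Typ345 M) :
    (1 : G) ∉ tildeOf M (typeA M) := by
  classical
  intro h1
  obtain ⟨a, ha, r, hr, y, e⟩ := h1
  have haM : a ∈ M := by
    have := ha
    rw [F.A_eq h] at this
    exact Subgroup.commutator_le_self M this.1
  have h2 := tau_apply F.hG F.hM (α := fun _ => 1) (fun _ _ => rfl) (a := ⟨a, haM⟩) (A_sub_A0 ha)
    (u := r) (y := y) hr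
  rw [← e, tau_at_one F.hG F.hM] at h2
  exact zero_ne_one h2

end count

end Cfsg.Agent.PF
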