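import Cfsg.Agent.PF.SecC14
import Cfsg.Agent.PF.FrobAct

set_option autoImplicit false

/-! PF (10.8) -/

namespace Cfsg.Agent.PF

open Subgroup
open Cfsg.Agent.L (cj nz SylIn)
open Cfsg.Agent.H3 hiding cj
open Cfsg.Agent.H21 (exists_ne_one le_normalizer_fhOf)
open Cfsg.Agent.H14 (IsPiSub)
open scoped Pointwise

universe u

section group

variable {G : Type u} [Group G] [Finite G]

theorem card_modEq_one_of_free {W V : Subgroup G} (hp : (Nat.card W).Prime) (hW : W ≤ nz V)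
    (hfree : ∀ w ∈ W, w ≠ 1 → ∀ v ∈ V, w * v = v * w → v = 1) :
    Nat.card V ≡ 1 [MOD Nat.card W] := by
  haveI : Fact (Nat.card W).Prime := ⟨hp⟩
  have hP : IsPGroup (Nat.card W) W := IsPGroup.of_card (n := 1) (by rw [pow_one])
  letI act : MulAction W V :=
    { smul := fun a g => ⟨(a : G) * g * (a : G)⁻¹, H23.mem_normalizer_conj hW a.2 g.2⟩
      one_smul := fun g => Subtype.ext (by
        show ((1 : W) : G) * g * ((1 : W) : G)⁻¹ = g
        simp)
      mul_smul := fun a b g => Subtype.ext (by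
        show ((a * b : W) : G) * g * ((a * b : W) : G)⁻¹ = a * (b * g * (b : G)⁻¹) * (a : G)⁻¹
        simp [mul_assoc]) }
  have h1 := hP.card_modEq_card_fixedPoints V
  have hW1 : W ≠ ⊥ := by
    rintro rfl
    rw [Subgroup.card_bot] at hp
    exact Nat.not_prime_one hp
  obtain ⟨w, hw, hw1⟩ := exists_ne_one hW1
  have h2 : Nat.card (MulAction.fixedPoints W V) = 1 := by
    rw [Nat.card_eq_one_iff_unique]
    constructor
    · constructor
      have key : ∀ a : MulAction.fixedPoints W V, (a : V) = 1 := by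
        rintro ⟨a, ha⟩
        have h4 : w * (a : G) * w⁻¹ = a := congrArg Subtype.val (ha ⟨w, hw⟩)
        apply Subtype.ext
        exact hfree w hw hw1 a a.2 (mul_inv_eq_iff_eq_mul.mp h4)
      intro a b
      apply Subtype.ext
      rw [key a, key b]
    · refine ⟨⟨1, fun s => ?_⟩⟩
      apply Subtype.ext
      show (s : G) * ((1 : V) : G) * (s : G)⁻¹ = ((1 : V) : G)
      simp
  rw [h2] at h1
  exact h1

theorem card_U_ge {M W₁ U W₂ : Subgroup G} (hP : IsTypePWith M W₁ U W₂)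
    (hp : (Nat.card W₁).Prime) (hU : U ≠ ⊥) (hodd : Odd (Nat.card M)) (h3 : 3 ≤ Nat.card W₁) :
    2 * Nat.card W₁ + 1 ≤ Nat.card U := by
  have h1 := card_modEq_one_of_free hp hP.U_normal (fun w hw hw1 v hv hc => fix_W₁_U hP hw hw1 hv hc)
  have h2 : Odd (Nat.card U) := Odd.of_dvd_nat hodd (Subgroup.card_dvd_of_le hP.U_le)
  have h4 : Odd (Nat.card W₁) := Odd.of_dvd_nat hodd (Subgroup.card_dvd_of_le hP.W₁_le)
  have h5 : Nat.card U ≠ 1 := fun h => hU (Subgroup.card_eq_one.1 h)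
  have h6 : 0 < Nat.card U := Nat.card_pos
  obtain ⟨k, hk⟩ := (Nat.modEq_iff_dvd' (by omega : 1 ≤ Nat.card U)).1 h1.symm
  have hk0 : k ≠ 0 := by rintro rfl; omega
  have hk1 : k ≠ 1 := by
    rintro rfl
    obtain ⟨a, ha⟩ := h2
    obtain ⟨b, hb⟩ := h4
    omega
  have h7 : 2 ≤ k := by omega
  have h8 : Nat.card W₁ * 2 ≤ Nat.card W₁ * k := Nat.mul_le_mul_left _ h7
  omega

theorem card_Vset {W₁ W₂ : Subgroup G} (hW : IsSelfNormalizingCyclic W₁ W₂) :
    Nat.card (Vset W₁ W₂) + Nat.card W₁ + Nat.card W₂ = Nat.card W₁ * Nat.card W₂ + 1 := by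
  have h1 : Vset W₁ W₂ = ((W₁ ⊔ W₂ : Subgroup G) : Set G) \ ((W₁ : Set G) ∪ W₂) := by
    ext x
    simp only [Vset, Set.mem_setOf_eq, Set.mem_diff, SetLike.mem_coe, Set.mem_union, not_or]
  have h2 := Set.ncard_union_add_ncard_inter (W₁ : Set G) (W₂ : Set G)
  have h3 : ((W₁ : Set G) ∩ W₂) = {1} := by
    have := congrArg (fun H : Subgroup G => (H : Set G)) hW.2.2.1
    simpa using this
  have h4 : ((W₁ : Set G) ∪ W₂) ⊆ ((W₁ ⊔ W₂ : Subgroup G) : Set G) :=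
    Set.union_subset (fun x hx => Subgroup.mem_sup_left hx) (fun x hx => Subgroup.mem_sup_right hx)
  have h5 := Set.ncard_diff_add_ncard_of_subset h4
  rw [← h1] at h5
  rw [h3, Set.ncard_singleton] at h2
  haveI := Fintype.ofFinite G
  have h6 := H21.complIn_card (complIn_W hW)
  have e1 : (W₁ : Set G).ncard = Nat.card W₁ := rfl
  have e2 : (W₂ : Set G).ncard = Nat.card W₂ := rfl
  have e3 : ((W₁ ⊔ W₂ : Subgroup G) : Set G).ncard = Nat.card ↥(W₁ ⊔ W₂) := rfl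
  have e4 : (Vset W₁ W₂).ncard = Nat.card (Vset W₁ W₂) := rfl
  rw [e1, e2] at h2
  rw [e3, e4] at h5
  omega

end group

theorem arith8 {g a g0 B C k w1 w2 f v : ℝ} (hg : 0 < g) (hw1 : 3 ≤ w1) (hw2 : 3 ≤ w2)
    (hk : (2 * w1 + 1) * w2 ≤ k) (hf : 1 ≤ f) (hv : 7 ≤ v)
    (h1 : a * (k * w1) = (k - 1) * g) (h2 : g0 * (k * w1) ≤ w1 ^ 2 * g)
    (h3 : B * (f * v * w2) ≤ g * (f - 1)) (h4 : C * (w1 * w2) ≤ g * ((w1 - 1) * (w2 - 1)))
    (h5 : g ≤ a + g0 + B + C) : False := by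
  have p1 : 0 < w1 := by linarith
  have p2 : 0 < w2 := by linarith
  have pk : 0 < k := lt_of_lt_of_le (by positivity) hk
  have pf : 0 < f := by linarith
  have pv : 0 < v := by linarith
  have q1 : a ≤ g / w1 := by
    rw [le_div_iff₀ p1]
    have : a * w1 * k ≤ g * k := by nlinarith
    exact le_of_mul_le_mul_right this pk
  have q2 : g0 ≤ g / (2 * w2) := by
    rw [le_div_iff₀ (by positivity)]
    have e1 : g0 * k ≤ w1 * g := by
      have : g0 * k * w1 ≤ w1 * g * w1 := by nlinarith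
      exact le_of_mul_le_mul_right this p1
    by_cases hg0 : g0 ≤ 0
    · have : g0 * (2 * w2) ≤ 0 := mul_nonpos_of_nonpos_of_nonneg hg0 (by positivity)
      linarith
    · push Not at hg0
      have e2 : g0 * ((2 * w1) * w2) ≤ w1 * g := by
        refine le_trans ?_ e1
        apply mul_le_mul_of_nonneg_left _ hg0.le
        nlinarith
      have e3 : g0 * (2 * w2) * w1 ≤ g * w1 := by nlinarith
      exact le_of_mul_le_mul_right e3 p1
  have q3 : B ≤ g / (7 * w2) := by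
    rw [le_div_iff₀ (by positivity)]
    by_cases hB : B ≤ 0
    · have : B * (7 * w2) ≤ 0 := mul_nonpos_of_nonpos_of_nonneg hB (by positivity)
      linarith
    · push Not at hB
      have e1 : B * (v * w2) * f ≤ g * f := by nlinarith
      have e2 := le_of_mul_le_mul_right e1 pf
      refine le_trans ?_ e2
      apply mul_le_mul_of_nonneg_left _ hB.le
      nlinarith
  have q4 : C ≤ g * ((w1 - 1) * (w2 - 1)) / (w1 * w2) := by
    rw [le_div_iff₀ (by positivity)]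
    exact h4
  have q5 : g ≤ g / w1 + g / (2 * w2) + g / (7 * w2) + g * ((w1 - 1) * (w2 - 1)) / (w1 * w2) := by
    linarith
  have q6 : g / w1 + g / (2 * w2) + g / (7 * w2) + g * ((w1 - 1) * (w2 - 1)) / (w1 * w2) - g =
      g * (14 - 5 * w1) / (14 * (w1 * w2)) := by
    field_simp
    ring
  have q7 : g * (14 - 5 * w1) / (14 * (w1 * w2)) < 0 := by
    apply div_neg_of_neg_of_pos
    · exact mul_neg_of_pos_of_neg hg (by linarith)
    · positivity
  linarith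

variable {G : Type u} [Group G] [Fintype G] {M W₁ U W₂ : Subgroup G} [Fintype ↥M]
  {η : Lin W₁ W₂ → G → ℂ} {μ : Lin W₁ W₂ → ↥M → ℂ} {δ : Lin W₁ W₂ → ℤ} {d : ℕ} {e n : ℤ}

section

variable (T : IsTen M W₁ U W₂ η μ δ d e n) {X : Finset (↥M → ℂ)}
    {τ₁ : (↥M → ℂ) → G → ℂ} (hX : IsXCoh M W₁ X τ₁) {ζ : ↥M → ℂ} (hζ : ζ ∈ X)
    (h₁ : CohMap (SM M ⊥) (tauM M) τ₁)
    (hΓ : tauM M (colI μ 1 - ζ) = colI η 1 - τ₁ ζ)

theorem finsum_mem_filter' {α : Type*} [Fintype α] (s : Set α) [DecidablePred (· ∈ s)]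
    (f : α → ℝ) : ∑ᶠ a ∈ s, f a = ∑ a ∈ Finset.univ.filter (· ∈ s), f a := by
  rw [finsum_mem_def, finsum_eq_sum_of_fintype, Finset.sum_filter]
  refine Finset.sum_congr rfl fun x _ => ?_
  simp only [Set.indicator_apply]

theorem norm_eq_sum {L : Type u} [Group L] [Fintype L] (f : L → ℂ) :
    classInner f f = (((Nat.card L : ℝ)⁻¹ * ∑ g : L, ‖f g‖ ^ 2 : ℝ) : ℂ) := by
  unfold classInner
  push_cast
  congr 1
  refine Finset.sum_congr rfl fun x _ => ?_
  rw [Complex.mul_conj, Complex.normSq_eq_norm_sq]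
  push_cast; rfl

include T hX hζ h₁ hΓ in
/-- the estimate for `G₀` -/
theorem card_G0 :
    (Nat.card {g : G | g ∉ tildeOf M (typeA M) ∧ (orderOf g).Coprime (Nat.card W₁)} : ℝ) *
      Nat.card ↥M ≤ (Nat.card W₁ : ℝ) ^ 2 * Nat.card G := by
  classical
  have F := T.F
  have hA := F.A_eq T.typ
  have hτcl : IsClassFunction G (τ₁ ζ) := isGen_classFun (hX.t1 F hζ).1.isGen
  have hG0 : (0 : ℝ) < Nat.card G := by exact_mod_cast Nat.card_pos
  have hM0 : (0 : ℝ) < Nat.card ↥M := by exact_mod_cast Nat.card_pos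
  -- the norm of `ζ` on `M' ∖ 1`
  have n1 : (Nat.card ↥M : ℝ)⁻¹ * ∑ᶠ a ∈ {a : ↥M | (a : G) ∈ typeA M}, ‖rhoM M (τ₁ ζ) a‖ ^ 2 =
      1 - (Nat.card W₁ : ℝ) ^ 2 / Nat.card ↥M := by
    have e1 := norm_eq_sum ζ
    rw [classInner_self_of_irr (hX.irr ζ hζ)] at e1
    have e2 : (1 : ℝ) = (Nat.card ↥M : ℝ)⁻¹ * ∑ g : ↥M, ‖ζ g‖ ^ 2 := by exact_mod_cast e1
    have e3 : ∑ᶠ a ∈ {a : ↥M | (a : G) ∈ typeA M}, ‖rhoM M (τ₁ ζ) a‖ ^ 2 =
        ∑ᶠ a ∈ {a : ↥M | (a : G) ∈ typeA M}, ‖ζ a‖ ^ 2 := by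
      refine finsum_mem_congr rfl fun a ha => ?_
      rw [rho_zeta T hX hζ h₁ hΓ ha]
    rw [e3, finsum_mem_filter']
    have e4 : ∑ g : ↥M, ‖ζ g‖ ^ 2 = ‖ζ 1‖ ^ 2 +
        ∑ g ∈ Finset.univ.filter (· ∈ {a : ↥M | (a : G) ∈ typeA M}), ‖ζ g‖ ^ 2 := by
      rw [← Finset.add_sum_erase _ _ (Finset.mem_univ (1 : ↥M))]
      congr 1
      symm
      apply Finset.sum_subset
      · intro x hx
        rw [Finset.mem_filter, Set.mem_setOf_eq, hA] at hx
        rw [Finset.mem_erase]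
        exact ⟨fun e => hx.2.2 (by rw [e]; rfl), Finset.mem_univ _⟩
      · intro x hx hx2
        rw [Finset.mem_erase] at hx
        rw [Finset.mem_filter, Set.mem_setOf_eq, hA] at hx2
        have h3 : x ∉ commutator ↥M := by
          intro h4
          apply hx2
          exact ⟨Finset.mem_univ _, mem_commC_iff.1 h4, fun e => hx.1 (Subtype.ext e)⟩
        rw [hX.off F hζ h3]; simp
    rw [e4, hX.deg ζ hζ, Complex.norm_natCast] at e2
    field_simp at e2 ⊢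
    linarith
  have n2 := rho_norm_le F.hG F.hM hτcl (A := typeA M) (Or.inr (Or.inl rfl))
  rw [n1, finsum_mem_filter'] at n2
  -- values on `G₀`
  have n3 : ∀ g ∈ {g : G | g ∉ tildeOf M (typeA M) ∧ (orderOf g).Coprime (Nat.card W₁)},
      1 ≤ ‖τ₁ ζ g‖ ^ 2 := by
    rintro g ⟨hg1, hg2⟩
    have e1 : tauM M (colI μ 1 - ζ) g = 0 :=
      tau_supp F.hG F.hM A_sub_A0 (isGen_classFun (gam_gen T hX hζ)) (gam_supp T hX hζ) hg1
    rw [hΓ, Pi.sub_apply] at e1
    obtain ⟨m, hm, hodd⟩ := colI_odd F hg2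
    have e2 : τ₁ ζ g = m := by rw [← hm]; linear_combination -e1
    rw [e2, Complex.norm_intCast]
    have e3 : (1 : ℝ) ≤ |(m : ℝ)| := by
      have : (1 : ℤ) ≤ |m| := Int.one_le_abs (by rintro rfl; simp at hodd)
      exact_mod_cast this
    nlinarith
  have n4 := norm_eq_sum (τ₁ ζ)
  rw [hX.t1_self F hζ] at n4
  have n5 : (1 : ℝ) = (Nat.card G : ℝ)⁻¹ * ∑ g : G, ‖τ₁ ζ g‖ ^ 2 := by exact_mod_cast n4
  have n6 : ∑ g ∈ Finset.univ.filter (· ∈ tildeOf M (typeA M)), ‖τ₁ ζ g‖ ^ 2 +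
      (Nat.card {g : G | g ∉ tildeOf M (typeA M) ∧ (orderOf g).Coprime (Nat.card W₁)} : ℝ) ≤
      ∑ g : G, ‖τ₁ ζ g‖ ^ 2 := by
    rw [← Finset.sum_filter_add_sum_filter_not Finset.univ (· ∈ tildeOf M (typeA M))]
    gcongr
    have e1 : (Nat.card {g : G | g ∉ tildeOf M (typeA M) ∧ (orderOf g).Coprime (Nat.card W₁)} : ℝ) =
        ∑ g ∈ Finset.univ.filter (· ∈ {g : G | g ∉ tildeOf M (typeA M) ∧
          (orderOf g).Coprime (Nat.card W₁)}), (1 : ℝ) := by
      rw [Finset.sum_const, nsmul_eq_mul, mul_one, Nat.card_eq_fintype_card, Fintype.card_subtype]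
    rw [e1]
    refine le_trans (Finset.sum_le_sum fun g hg => n3 g (Finset.mem_filter.1 hg).2) ?_
    apply Finset.sum_le_sum_of_subset_of_nonneg
    · intro g hg
      rw [Finset.mem_filter] at hg ⊢
      exact ⟨hg.1, hg.2.1⟩
    · intro g _ _; positivity
  have hGi : 0 < (Nat.card G : ℝ)⁻¹ := inv_pos.2 hG0
  have n7 := mul_le_mul_of_nonneg_left n6 hGi.le
  rw [← n5, mul_add] at n7
  have n8 : (Nat.card G : ℝ)⁻¹ * (Nat.card {g : G | g ∉ tildeOf M (typeA M) ∧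
      (orderOf g).Coprime (Nat.card W₁)} : ℝ) ≤ (Nat.card W₁ : ℝ) ^ 2 / Nat.card ↥M := by
    linarith
  rw [inv_mul_le_iff₀ hG0, mul_div_assoc', le_div_iff₀ hM0] at n8
  linarith

end

end Cfsg.Agent.PF
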