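import Cfsg.Agent.PF.Cover2
import Cfsg.Agent.PF.SecC13
import Cfsg.Agent.PF.SecC15

set_option autoImplicit false

/-! The density inequality (fact D), counting part (lead). -/

namespace Cfsg.Agent.PF

open Subgroup
open Cfsg.Agent.L (cj nz SylIn)
open Cfsg.Agent.OOT
open Cfsg.Agent.H21

universe u

/-- representatives, containing a given element -/
theorem exists_reps {α : Type u} [Finite α] (r : Setoid α) (P : α → Prop) {a₀ : α} (h₀ : P a₀) :
    ∃ S : Finset α, a₀ ∈ S ∧ (∀ a ∈ S, P a) ∧ (∀ a ∈ S, ∀ b ∈ S, a ≠ b → ¬ r a b) ∧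
      ∀ a, P a → ∃ b ∈ S, r a b := by
  classical
  cases nonempty_fintype α
  let r' : Setoid {a // P a} := Setoid.comap Subtype.val r
  let f : Quotient r' → {a // P a} := fun q =>
    if q = Quotient.mk r' ⟨a₀, h₀⟩ then ⟨a₀, h₀⟩ else q.out
  have hf : ∀ q, Quotient.mk r' (f q) = q := by
    intro q
    by_cases hq : q = Quotient.mk r' ⟨a₀, h₀⟩
    · simp only [f, if_pos hq]; exact hq.symm
    · simp only [f, if_neg hq]; exact Quotient.out_eq q
  haveI : Finite (Quotient r') := inferInstance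
  refine ⟨(Set.toFinite (Set.range fun q => (f q : α))).toFinset, ?_, ?_, ?_, ?_⟩
  · rw [Set.Finite.mem_toFinset]
    exact ⟨Quotient.mk r' ⟨a₀, h₀⟩, by simp [f]⟩
  · intro a ha
    rw [Set.Finite.mem_toFinset] at ha
    obtain ⟨q, rfl⟩ := ha
    exact (f q).2
  · intro a ha b hb hab hr
    rw [Set.Finite.mem_toFinset] at ha hb
    obtain ⟨q, rfl⟩ := ha
    obtain ⟨q', rfl⟩ := hb
    apply hab
    have : Quotient.mk r' (f q) = Quotient.mk r' (f q') := Quotient.sound hr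
    rw [hf, hf] at this
    rw [this]
  · intro a ha
    refine ⟨f (Quotient.mk r' ⟨a, ha⟩), ?_, ?_⟩
    · rw [Set.Finite.mem_toFinset]
      exact ⟨_, rfl⟩
    · have := hf (Quotient.mk r' ⟨a, ha⟩)
      have h2 : r' (f (Quotient.mk r' ⟨a, ha⟩)) ⟨a, ha⟩ := Quotient.exact this
      exact r.symm h2

variable {G : Type u} [Group G]

/-- conjugacy of subgroups -/
def cjSetoid (G : Type u) [Group G] : Setoid (Subgroup G) where
  r A B := ∃ g : G, B = cj g A
  iseqv := ⟨fun A => ⟨1, by rw [L.cj_one]⟩, fun {A B} ⟨g, h⟩ => ⟨g⁻¹, by rw [h, L.cj_inv_cj]⟩,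
    fun {A B C} ⟨g, h⟩ ⟨k, h'⟩ => ⟨k * g, by rw [h', h, L.cj_cj]⟩⟩

theorem HG_cj [Finite G] (N : Subgroup G) (g : G) : HG (cj g N) = HG N := by
  ext x
  constructor
  · rintro ⟨h1, y, hy⟩
    refine ⟨h1, g⁻¹ * y, ?_⟩
    rw [← cj_fhOf, mem_cj] at hy
    have e : g⁻¹ * y * x * (g⁻¹ * y)⁻¹ = g⁻¹ * (y * x * y⁻¹) * g := by group
    rw [e]; exact hy
  · rintro ⟨h1, y, hy⟩
    refine ⟨h1, g * y, ?_⟩
    rw [← cj_fhOf, mem_cj]
    have e : g⁻¹ * (g * y * x * (g * y)⁻¹) * g = y * x * y⁻¹ := by group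
    rw [e]; exact hy

variable [Fintype G] {S T W₁ W₂ U V : Subgroup G}

theorem card_conj_real (X : Set G) (N : Subgroup G) (hN : ∀ n ∈ N, ∀ s ∈ X, n * s * n⁻¹ ∈ X) :
    (Nat.card {g : G | ∃ y : G, y * g * y⁻¹ ∈ X} : ℝ) ≤
      Nat.card G * ((Nat.card X : ℝ) / Nat.card N) := by
  have h := card_conj_union X N hN
  have h0 : (0 : ℝ) < Nat.card N := by exact_mod_cast Nat.card_pos
  rw [← mul_div_assoc, le_div_iff₀ h0]
  exact_mod_cast h

theorem HG_card {N : Subgroup G} : (Nat.card (HG N) : ℝ) ≤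
    Nat.card G * (((Nat.card (fittingHallOf N) : ℝ) - 1) / Nat.card N) := by
  have h := card_conj_real ((fittingHallOf N : Set G) \ {1}) N (by
    rintro n hn s ⟨h1, h2⟩
    exact ⟨(Subgroup.mem_normalizer_iff.1 (le_normalizer_fhOf N hn) s).1 h1, conj_ne_one_of h2⟩)
  have e1 : {g : G | ∃ y : G, y * g * y⁻¹ ∈ (fittingHallOf N : Set G) \ {1}} = HG N := by
    ext g
    constructor
    · rintro ⟨y, h1, h2⟩
      refine ⟨?_, y, h1⟩
      rintro rfl
      apply h2
      simp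
    · rintro ⟨h1, y, hy⟩
      exact ⟨y, hy, conj_ne_one_of h1⟩
  have e2 : (Nat.card ↥((fittingHallOf N : Set G) \ {1}) : ℝ) =
      (Nat.card (fittingHallOf N) : ℝ) - 1 := by
    have h3 := Set.ncard_diff_singleton_add_one (s := (fittingHallOf N : Set G)) (a := 1)
      (one_mem _) (Set.toFinite _)
    have h4 : ((fittingHallOf N : Set G)).ncard = Nat.card (fittingHallOf N) := rfl
    have h5 : ((fittingHallOf N : Set G) \ {1}).ncard =
      Nat.card ↥((fittingHallOf N : Set G) \ {1}) := rfl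
    rw [h4, h5] at h3
    have h6 : ((Nat.card ↥((fittingHallOf N : Set G) \ {1}) + 1 : ℕ) : ℝ) =
      Nat.card (fittingHallOf N) := by exact_mod_cast h3
    push_cast at h6
    linarith
  rw [e1, e2] at h
  exact h

theorem AG_eq (M : Subgroup G) : AG M = {g : G | ∃ y : G, y * g * y⁻¹ ∈ typeA M} := by
  ext g
  constructor
  · rintro ⟨a, ha, y, rfl⟩
    exact ⟨y⁻¹, by
      have e : y⁻¹ * (y * a * y⁻¹) * y⁻¹⁻¹ = a := by group
      rw [e]; exact ha⟩
  · rintro ⟨y, hy⟩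
    exact ⟨_, hy, y⁻¹, by group⟩

/-- **(D)**, the counting part -/
theorem IsPair.dens (hG : IsMinSimpleOddOrder G) [Fintype ↥S] [Fintype ↥T]
    (h : IsPair S T W₁ W₂ U V) (hII : IsOfTypeII S)
    {η : Lin W₁ W₂ → G → ℂ} {μ : Lin W₁ W₂ → ↥S → ℂ} {δ : Lin W₁ W₂ → ℤ}
    (F : IsFrame S W₁ U W₂ η μ δ) {ν : Lin W₂ W₁ → ↥T → ℂ} {ε : Lin W₂ W₁ → ℤ}
    (F' : IsFrame T W₂ V W₁ (swF η) ν ε) {N : Subgroup G} (hN : IsCoatom N) (hI : IsOfTypeI N)
    [DecidableEq (Subgroup G)] (hsum : ∀ R : Finset (Subgroup G), N ∈ R → (∀ A ∈ R, IsCoatom A ∧ IsOfTypeI A) →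
      (∀ A ∈ R, ∀ B ∈ R, A ≠ B → ∀ g : G, B ≠ cj g A) →
      ∑ A ∈ R.erase N, ((Nat.card (fittingHallOf A) : ℝ) - 1) / Nat.card A ≤
        ((fittingHallOf N).relIndex N : ℝ) / ((Nat.card (fittingHallOf N) : ℝ) - 1)) :
    ∃ g t aT : ℝ, 0 < t ∧ t ≤ g ∧ aT ≤ 1 / Nat.card W₂ - 1 / t ∧
      G6.Dens (Nat.card W₂) (Nat.card W₁) (Nat.card U) (Nat.card (fittingHallOf N))
        ((fittingHallOf N).relIndex N) g aT (Nat.card W₁) := by
  classical
  obtain ⟨R, hNR, hR, hRd, hRc⟩ := exists_reps (cjSetoid G)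
    (fun A : Subgroup G => IsCoatom A ∧ IsOfTypeI A) (a₀ := N) ⟨hN, hI⟩
  have hsum' := hsum R hNR hR (fun A hA B hB hAB g e => hRd A hA B hB hAB ⟨g, e⟩)
  -- the covering
  have hcov : (Nat.card G : ℝ) - 1 ≤ Nat.card (AG S) + Nat.card (AG T) +
      Nat.card {g : G | ∃ y : G, y * g * y⁻¹ ∈ Vset W₁ W₂} + ∑ A ∈ R, (Nat.card (HG A) : ℝ) := by
    let fs : Set G → Finset G := fun X => (Set.toFinite X).toFinset
    have hfs : ∀ X : Set G, (fs X).card = Nat.card X := fun X =>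
      (Set.ncard_eq_toFinset_card X (Set.toFinite X)).symm
    have hsub : (Finset.univ.erase (1 : G)) ⊆ ((fs (AG S) ∪ fs (AG T)) ∪
        fs {g : G | ∃ y : G, y * g * y⁻¹ ∈ Vset W₁ W₂}) ∪ R.biUnion fun A => fs (HG A) := by
      intro g hg
      have hg1 : g ≠ 1 := (Finset.mem_erase.1 hg).1
      simp only [fs, Finset.mem_union, Finset.mem_biUnion, Set.Finite.mem_toFinset]
      rcases h.cover_all hG F F' hg1 with k | k | k | ⟨A, hA, hAI, k⟩
      · exact Or.inl (Or.inl (Or.inl k))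
      · exact Or.inl (Or.inl (Or.inr k))
      · exact Or.inl (Or.inr k)
      · right
        obtain ⟨B, hB, y, rfl⟩ := hRc A ⟨hA, hAI⟩
        exact ⟨_, hB, by rw [HG_cj]; exact k⟩
    have h1 := Finset.card_le_card hsub
    rw [Finset.card_erase_of_mem (Finset.mem_univ _), Finset.card_univ] at h1
    have h2 := Finset.card_union_le ((fs (AG S) ∪ fs (AG T)) ∪
        fs {g : G | ∃ y : G, y * g * y⁻¹ ∈ Vset W₁ W₂}) (R.biUnion fun A => fs (HG A))
    have h3 := Finset.card_union_le (fs (AG S) ∪ fs (AG T))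
        (fs {g : G | ∃ y : G, y * g * y⁻¹ ∈ Vset W₁ W₂})
    have h4 := Finset.card_union_le (fs (AG S)) (fs (AG T))
    have h5 : (R.biUnion fun A => fs (HG A)).card ≤ ∑ A ∈ R, (fs (HG A)).card :=
      Finset.card_biUnion_le
    simp only [hfs] at h1 h2 h3 h4 h5
    have h6 : Fintype.card G - 1 ≤ Nat.card (AG S) + Nat.card (AG T) +
      Nat.card {g : G | ∃ y : G, y * g * y⁻¹ ∈ Vset W₁ W₂} + ∑ A ∈ R, Nat.card (HG A) := by
      omega
    have h7 : ((Fintype.card G - 1 : ℕ) : ℝ) ≤ ((Nat.card (AG S) + Nat.card (AG T) +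
      Nat.card {g : G | ∃ y : G, y * g * y⁻¹ ∈ Vset W₁ W₂} + ∑ A ∈ R, Nat.card (HG A) : ℕ) : ℝ) := by
      exact_mod_cast h6
    rw [Nat.cast_sub Fintype.card_pos] at h7
    push_cast at h7
    rw [Nat.card_eq_fintype_card (α := G)]
    exact h7
  have cG : (0 : ℝ) < Nat.card G := by exact_mod_cast Nat.card_pos
  have b1 : (Nat.card (AG S) : ℝ) ≤ Nat.card G * (((Nat.card W₂ : ℝ) ^ Nat.card W₁ - 1) /
      ((Nat.card W₂ : ℝ) ^ Nat.card W₁ * Nat.card U * Nat.card W₁)) := by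
    have e1 : AG S = HG S := by
      ext g
      rw [AG_eq]
      constructor
      · rintro ⟨y, hy⟩
        rw [h.typeA_II hG hII] at hy
        refine ⟨?_, y, hy.1⟩
        rintro rfl
        apply hy.2
        simp
      · rintro ⟨h1, y, hy⟩
        refine ⟨y, ?_⟩
        rw [h.typeA_II hG hII]
        exact ⟨hy, conj_ne_one_of h1⟩
    have e2 : (Nat.card S : ℝ) = (Nat.card W₂ : ℝ) ^ Nat.card W₁ * Nat.card U * Nat.card W₁ := by
      have e3 : Nat.card S = Nat.card W₂ ^ Nat.card W₁ * Nat.card U * Nat.card W₁ := by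
        rw [← (h.P_struct hG).2, ← h.hSP.card_M, ← h.hSP.card_M']
      rw [e3]; push_cast; ring
    have e3 := HG_card (N := S)
    rw [(h.P_struct hG).2, e2] at e3
    rw [e1]
    push_cast at e3
    exact e3
  have b2 : (Nat.card (AG T) : ℝ) ≤ Nat.card G * ((Nat.card (typeA T) : ℝ) / Nat.card T) := by
    rw [AG_eq]
    exact card_conj_real (typeA T) T fun n hn s hs => typeA_conjW hn hs
  have b3 : (Nat.card {g : G | ∃ y : G, y * g * y⁻¹ ∈ Vset W₁ W₂} : ℝ) ≤
      Nat.card G * ((1 - 1 / Nat.card W₂) * (1 - 1 / Nat.card W₁)) := by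
    have h1 := card_conj_real (Vset W₁ W₂) (W₁ ⊔ W₂) (by
      intro y hy s hs
      have hc := F.hW.2.2.2.2.1
      have e1 : (⟨y, hy⟩ : ↥(W₁ ⊔ W₂)) * ⟨s, hs.1⟩ = ⟨s, hs.1⟩ * ⟨y, hy⟩ :=
        IsCyclic.commutative.is_comm.comm _ _
      have e2 : y * s = s * y := congrArg Subtype.val e1
      rw [e2, mul_inv_cancel_right]
      exact hs)
    have h2 := card_Vset F.hW
    have h3 := card_W_sup h.hSP
    have h4 : (Nat.card (Vset W₁ W₂) : ℝ) =
        ((Nat.card W₁ : ℝ) - 1) * ((Nat.card W₂ : ℝ) - 1) := by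
      have : (Nat.card (Vset W₁ W₂) : ℝ) + Nat.card W₁ + Nat.card W₂ =
        Nat.card W₁ * Nat.card W₂ + 1 := by exact_mod_cast h2
      linarith
    rw [h3, h4] at h1
    have p0 : (Nat.card W₂ : ℝ) ≠ 0 := by exact_mod_cast (h.p_prime hG).ne_zero
    have q0 : (Nat.card W₁ : ℝ) ≠ 0 := by exact_mod_cast (h.q_prime hG).ne_zero
    have h5 : ((Nat.card W₁ : ℝ) - 1) * ((Nat.card W₂ : ℝ) - 1) /
        ((Nat.card W₁ * Nat.card W₂ : ℕ) : ℝ) =
        (1 - 1 / (Nat.card W₂ : ℝ)) * (1 - 1 / (Nat.card W₁ : ℝ)) := by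
      push_cast
      field_simp
    rw [h5] at h1
    exact h1
  have b4 : ∑ A ∈ R, (Nat.card (HG A) : ℝ) ≤ Nat.card G *
      ((((Nat.card (fittingHallOf N) : ℝ) - 1) / Nat.card N) +
        ((fittingHallOf N).relIndex N : ℝ) / ((Nat.card (fittingHallOf N) : ℝ) - 1)) := by
    rw [← Finset.add_sum_erase R _ hNR, mul_add]
    apply add_le_add HG_card
    refine le_trans (Finset.sum_le_sum fun A _ => HG_card (N := A)) ?_
    rw [← Finset.mul_sum]
    exact mul_le_mul_of_nonneg_left hsum' cG.le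
  refine ⟨Nat.card G, Nat.card T, (Nat.card (typeA T) : ℝ) / Nat.card T, ?_, ?_, ?_, ?_⟩
  · exact_mod_cast Nat.card_pos
  · have := Subgroup.card_subgroup_dvd_card T
    exact_mod_cast Nat.le_of_dvd Nat.card_pos this
  · have h1 : Nat.card (typeA T) + 1 ≤ Nat.card ↥⁅T, T⁆ := by
      have h2 : (typeA T).ncard = Nat.card (typeA T) := rfl
      have h3 : (insert 1 (typeA T)).ncard = (typeA T).ncard + 1 :=
        Set.ncard_insert_of_notMem (fun h1 => ((h.symm.mem_typeA hG).1 h1).2.1 rfl)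
          (Set.toFinite _)
      have h4 : (insert 1 (typeA T)).ncard ≤ ((⁅T, T⁆ : Subgroup G) : Set G).ncard := by
        apply Set.ncard_le_ncard _ (Set.toFinite _)
        rintro x (rfl | hx)
        · exact one_mem _
        · exact ((h.symm.mem_typeA hG).1 hx).1
      have h5 : ((⁅T, T⁆ : Subgroup G) : Set G).ncard = Nat.card ↥⁅T, T⁆ := rfl
      omega
    have h2 := h.hTP.card_M
    have p0 : (0 : ℝ) < Nat.card W₂ := by exact_mod_cast (h.p_prime hG).pos
    have t0 : (0 : ℝ) < Nat.card T := by exact_mod_cast Nat.card_pos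
    have t0' : (0 : ℝ) < Nat.card ↥⁅T, T⁆ := by exact_mod_cast Nat.card_pos
    have h3 : (Nat.card T : ℝ) = Nat.card ↥⁅T, T⁆ * Nat.card W₂ := by
      have : Nat.card T = Nat.card ↥⁅T, T⁆ * Nat.card W₂ := by rw [← h2]
      exact_mod_cast this
    have h4 : (Nat.card (typeA T) : ℝ) ≤ Nat.card ↥⁅T, T⁆ - 1 := by
      have : ((Nat.card (typeA T) + 1 : ℕ) : ℝ) ≤ (Nat.card ↥⁅T, T⁆ : ℝ) := by exact_mod_cast h1
      push_cast at this
      linarith
    have h5 : (1 : ℝ) / Nat.card W₂ - 1 / Nat.card T = (Nat.card ↥⁅T, T⁆ - 1) / Nat.card T := by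
      rw [h3]; field_simp
    rw [h5]
    exact div_le_div_of_nonneg_right h4 t0.le
  · unfold G6.Dens
    have h1 : (1 - 1 / (Nat.card (fittingHallOf N) : ℝ)) / ((fittingHallOf N).relIndex N : ℝ) =
        ((Nat.card (fittingHallOf N) : ℝ) - 1) / Nat.card N := by
      have h2 := L.card_mul_relIndex (fhOf_le N)
      have h3 : (Nat.card N : ℝ) = Nat.card (fittingHallOf N) * (fittingHallOf N).relIndex N := by
        exact_mod_cast h2.symm
      have k0 : (Nat.card (fittingHallOf N) : ℝ) ≠ 0 := by exact_mod_cast Nat.card_pos.ne'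
      have e0 : ((fittingHallOf N).relIndex N : ℝ) ≠ 0 := by
        have : (Nat.card N : ℝ) ≠ 0 := by exact_mod_cast Nat.card_pos.ne'
        rw [h3] at this
        exact right_ne_zero_of_mul this
      rw [h3]
      field_simp
    rw [h1]
    have h2 := hcov.trans (add_le_add (add_le_add (add_le_add b1 b2) b3) b4)
    have h3 : (Nat.card G : ℝ) - 1 = Nat.card G * (1 - 1 / Nat.card G) := by
      field_simp
    rw [h3, ← mul_add, ← mul_add, ← mul_add] at h2
    have h4 := le_of_mul_le_mul_left h2 cG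
    linarith

end Cfsg.Agent.PF
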