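import Cfsg.Agent.PF.SecC8

set_option autoImplicit false

/-! PF (10.6) -/

namespace Cfsg.Agent.PF

open Subgroup
open Cfsg.Agent.H3
open Cfsg.Agent.H21 (mulComm_iff exists_ne_one)

universe u

section arith

theorem abs_le_sq' (a : ℤ) : |a| ≤ a ^ 2 := by
  rcases eq_or_ne a 0 with rfl | h
  · simp
  · have h1 : 1 ≤ |a| := Int.one_le_abs h
    rw [← sq_abs]
    nlinarith

theorem arith_case1 {w₁ w₂ N d n a c R S Q₁ Q₂ e : ℤ} (hw₁ : 3 ≤ w₁) (hw₂ : 3 ≤ w₂)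
    (hN : 2 ≤ N) (he : e = 1 ∨ e = -1) (hn : n * w₁ = d - e) (hS : S = R + w₁ * c)
    (h : d * a = e * S) (hQ₁ : |R| ≤ Q₁) (hQ₂ : c ^ 2 ≤ Q₂)
    (hb : N * a ^ 2 + (Q₁ + (w₂ - 1) * Q₂) ≤ 2 * n * a - 2 * c * e) : a = 0 ∧ c = 0 := by
  have h1 : w₁ * (2 * n * a - 2 * c * e) = 2 * e * (R - a) := by
    linear_combination (2 * a) * hn + 2 * h + 2 * e * hS
  have ha := abs_le_sq' a
  have hQ10 : 0 ≤ Q₁ := (abs_nonneg R).trans hQ₁
  have hQ20 : 0 ≤ Q₂ := (sq_nonneg c).trans hQ₂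
  have h2 : 2 * e * (R - a) ≤ 2 * Q₁ + 2 * a ^ 2 := by
    have h3 := le_abs_self R
    have h4 := neg_abs_le R
    have h5 := le_abs_self a
    have h6 := neg_abs_le a
    rcases he with rfl | rfl
    · linarith
    · linarith
  set B := N * a ^ 2 + (Q₁ + (w₂ - 1) * Q₂) with hB
  have h3 : 2 * a ^ 2 + Q₁ + 2 * Q₂ ≤ B := by
    have h4 : 2 * a ^ 2 ≤ N * a ^ 2 := mul_le_mul_of_nonneg_right hN (sq_nonneg a)
    have h5 : 2 * Q₂ ≤ (w₂ - 1) * Q₂ := mul_le_mul_of_nonneg_right (by linarith) hQ20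
    linarith
  have hB0 : 0 ≤ B := by
    have := sq_nonneg a
    linarith
  have h4 : 3 * B ≤ w₁ * B := mul_le_mul_of_nonneg_right hw₁ hB0
  have h5 : w₁ * B ≤ w₁ * (2 * n * a - 2 * c * e) :=
    mul_le_mul_of_nonneg_left hb (by linarith)
  have h6 : 4 * a ^ 2 + Q₁ + 6 * Q₂ ≤ 0 := by linarith
  have h7 : a ^ 2 = 0 := by
    have := sq_nonneg a
    linarith
  have h8 : c ^ 2 = 0 := by
    have := sq_nonneg c
    have := sq_nonneg a
    linarith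
  exact ⟨by simpa using h7, by simpa using h8⟩

theorem arith_case2 {w₁ w₂ N d n a c R S Q₁ Q₂ e r₂ : ℤ} (hw₁ : 3 ≤ w₁) (hw₂ : 3 ≤ w₂)
    (hN : 2 ≤ N) (he : e = 1 ∨ e = -1) (hn : n * w₁ = d - e) (hn2 : 2 ≤ n)
    (h : e * S + d * a = -1) (hQ₁ : |R| ≤ Q₁) (hQ₂ : c ^ 2 ≤ Q₂) (hCS : S ^ 2 ≤ w₁ * Q₂)
    (hr : 2 * c ^ 2 + r₂ ^ 2 + 2 * (r₂ + c) ^ 2 ≤ Q₁ + 2 * Q₂)
    (hb : N * a ^ 2 + (Q₁ + (w₂ - 1) * Q₂) ≤ 2 * n * a - 2 * c * e) : False := by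
  have hQ10 : 0 ≤ Q₁ := (abs_nonneg R).trans hQ₁
  have hQ20 : 0 ≤ Q₂ := (sq_nonneg c).trans hQ₂
  have hB : 2 * a ^ 2 + Q₁ + 2 * Q₂ ≤ 2 * n * a - 2 * c * e := by
    have h4 : 2 * a ^ 2 ≤ N * a ^ 2 := mul_le_mul_of_nonneg_right hN (sq_nonneg a)
    have h5 : 2 * Q₂ ≤ (w₂ - 1) * Q₂ := mul_le_mul_of_nonneg_right (by linarith) hQ20
    linarith
  by_cases ha : a = 0
  · subst ha
    have hc1 : -2 * c * e ≤ 2 * |c| := by
      have := le_abs_self c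
      have := neg_abs_le c
      rcases he with rfl | rfl <;> linarith
    have hc2 := abs_le_sq' c
    have h1 : r₂ ^ 2 + 2 * (r₂ + c) ^ 2 ≤ 0 := by nlinarith
    have h2 : r₂ ^ 2 = 0 := by
      have := sq_nonneg r₂
      have := sq_nonneg (r₂ + c)
      linarith
    have h2' : r₂ = 0 := by simpa using h2
    subst h2'
    have h3 : c ^ 2 = 0 := by
      have := sq_nonneg c
      nlinarith
    have h3' : c = 0 := by simpa using h3
    subst h3'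
    have h4 : Q₂ = 0 := by linarith
    rw [h4, mul_zero] at hCS
    have h5 : S ^ 2 = 0 := le_antisymm hCS (sq_nonneg S)
    have h6 : S = 0 := by simpa using h5
    rw [h6] at h
    simp at h
  · have ha1 : 1 ≤ |a| := Int.one_le_abs ha
    have hd5 : 5 ≤ d := by
      have : 2 * 3 ≤ n * w₁ := by nlinarith
      rcases he with rfl | rfl <;> linarith
    have h1 : (d * |a| - 1) ^ 2 ≤ S ^ 2 := by
      have h2 : |d * a| ≤ |S| + 1 := by
        have h3 : d * a = -1 - e * S := by linarith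
        rw [h3]
        have h4 : |e * S| = |S| := by rcases he with rfl | rfl <;> simp
        have h5 := abs_sub (-1) (e * S)
        rw [h4] at h5
        have h6 : |(-1 : ℤ)| = 1 := by simp
        rw [h6] at h5
        linarith
      rw [abs_mul, abs_of_nonneg (by linarith : 0 ≤ d)] at h2
      rw [← sq_abs S]
      apply pow_le_pow_left₀
      · nlinarith
      · linarith
    have h2 : 2 * n * a ≤ 2 * n * |a| :=
      mul_le_mul_of_nonneg_left (le_abs_self a) (by linarith)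
    have hc1 : -(2 * c * e) ≤ 2 * |c| := by
      have := le_abs_self c
      have := neg_abs_le c
      rcases he with rfl | rfl <;> linarith
    have hc2 : 2 * |c| ≤ c ^ 2 + 1 := by
      rw [← sq_abs c]
      nlinarith [sq_nonneg (|c| - 1)]
    have h3 : 2 * a ^ 2 + Q₂ ≤ 2 * n * |a| + 1 := by linarith
    have h4 : w₁ * (2 * a ^ 2 + Q₂) ≤ w₁ * (2 * n * |a| + 1) :=
      mul_le_mul_of_nonneg_left h3 (by linarith)
    have h5 : w₁ * (2 * n * |a| + 1) = 2 * (d - e) * |a| + w₁ := by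
      linear_combination (2 * |a|) * hn
    have h6 : 2 * (d - e) * |a| ≤ 2 * (d + 1) * |a| := by
      apply mul_le_mul_of_nonneg_right _ (abs_nonneg a)
      rcases he with rfl | rfl <;> linarith
    have h7 : w₁ ≤ w₁ * (2 * a ^ 2) := by
      rw [← sq_abs a]
      have h71 : 1 ≤ |a| ^ 2 := one_le_pow₀ ha1
      have h72 : w₁ * 1 ≤ w₁ * (2 * |a| ^ 2) :=
        mul_le_mul_of_nonneg_left (by linarith) (by linarith)
      linarith
    have h8 : (d * |a| - 1) ^ 2 ≤ 2 * (d + 1) * |a| := by nlinarith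
    have h9 : 5 * |a| ≤ d * |a| := mul_le_mul_of_nonneg_right hd5 (by linarith)
    have h10 : 5 * (d * |a|) ≤ (d * |a|) * (d * |a|) :=
      mul_le_mul_of_nonneg_right (by linarith) (by linarith)
    nlinarith

end arith

variable {G : Type u} [Group G] [Fintype G] {M W₁ U W₂ : Subgroup G} [Fintype ↥M]
  {η : Lin W₁ W₂ → G → ℂ} {μ : Lin W₁ W₂ → ↥M → ℂ} {δ : Lin W₁ W₂ → ℤ} {d : ℕ} {e n : ℤ}

section

variable (T : IsTen M W₁ U W₂ η μ δ d e n) {X : Finset (↥M → ℂ)}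
    {τ₁ : (↥M → ℂ) → G → ℂ} (hX : IsXCoh M W₁ X τ₁) {ζ : ↥M → ℂ} (hζ : ζ ∈ X)

include T hX hζ in
/-- (10.6) -/
theorem ten6 (hcard : 2 ≤ X.card) (h₁ : CohMap (SM M ⊥) (tauM M) τ₁) :
    (∃ (a c : ℤ) (r : Lin W₁ W₂ → ℤ), TenD M W₁ W₂ η μ e n X τ₁ ζ 0 a c r) ∧
      (∀ ψ, IsJ W₁ W₂ ψ → ψ ≠ 1 → τ₁ (colI μ ψ) = (e : ℂ) • colI η ψ) ∧
      tauM M (colI μ 1 - ζ) = colI η 1 - τ₁ ζ := by
  classical
  have F := T.F
  obtain ⟨D, a, c, r, hD⟩ := ten5 T hX hζ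
  set R := ∑ φ ∈ idxI W₁ W₂, r φ with hR
  set S := ∑ φ ∈ idxI W₁ W₂, (r φ + c) with hS
  set Q₁ := ∑ φ ∈ idxI W₁ W₂, r φ ^ 2 with hQ₁
  set Q₂ := ∑ φ ∈ idxI W₁ W₂, (r φ + c) ^ 2 with hQ₂
  have h1I : (1 : Lin W₁ W₂) ∈ idxI W₁ W₂ := mem_idxI.2 IsI.one
  have hSR : S = R + Nat.card W₁ * c := by
    rw [hS, Finset.sum_add_distrib, Finset.sum_const, card_idxI F.hW, nsmul_eq_mul]
  have hRQ : |R| ≤ Q₁ := by
    refine (Finset.abs_sum_le_sum_abs _ _).trans (Finset.sum_le_sum fun φ _ => abs_le_sq' _)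
  have hcQ : c ^ 2 ≤ Q₂ := by
    have := Finset.single_le_sum (f := fun φ => (r φ + c) ^ 2) (fun φ _ => sq_nonneg _) h1I
    simpa [hD.r_one] using this
  have hCS : S ^ 2 ≤ Nat.card W₁ * Q₂ := by
    have := sq_sum_le_card_mul_sum_sq (s := idxI W₁ W₂) (f := fun φ => r φ + c)
    rwa [card_idxI F.hW] at this
  obtain ⟨φ₂, hφ₂, hφ₂1⟩ := exists_I F
  have hr2 : 2 * c ^ 2 + r φ₂ ^ 2 + 2 * (r φ₂ + c) ^ 2 ≤ Q₁ + 2 * Q₂ := by
    have h3 : Q₁ + 2 * Q₂ = ∑ φ ∈ idxI W₁ W₂, (r φ ^ 2 + 2 * (r φ + c) ^ 2) := by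
      rw [Finset.sum_add_distrib, ← Finset.mul_sum]
    rw [h3, ← Finset.add_sum_erase _ _ h1I]
    have h4 : φ₂ ∈ (idxI W₁ W₂).erase 1 := Finset.mem_erase.2 ⟨hφ₂1, mem_idxI.2 hφ₂⟩
    have := Finset.single_le_sum (f := fun φ => r φ ^ 2 + 2 * (r φ + c) ^ 2)
      (fun φ _ => by positivity) h4
    simp only [hD.r_one] at this ⊢
    linarith
  have hb : (X.card : ℤ) * a ^ 2 + (Q₁ + ((Nat.card W₂ : ℤ) - 1) * Q₂) ≤
      2 * n * a - 2 * c * e := by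
    have := hD.bessel
    rwa [Finset.sum_add_distrib, ← Finset.mul_sum] at this
  have hw₁ : (3 : ℤ) ≤ Nat.card W₁ := by exact_mod_cast F.three_le_W₁
  have hw₂ : (3 : ℤ) ≤ Nat.card W₂ := by exact_mod_cast F.three_le_W₂
  have hN : (2 : ℤ) ≤ X.card := by exact_mod_cast hcard
  -- inner products with the columns
  have hcol : ∀ ψ, IsJ W₁ W₂ ψ → ψ ≠ 1 → classInner D (colI η ψ) = S := by
    intro ψ hψ h1
    rw [colI, classInner_sum_right, hS, Int.cast_sum]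
    refine Finset.sum_congr rfl fun φ hφ => ?_
    exact hD.grid φ ψ (mem_idxI.1 hφ) hψ h1
  have hSMc : ∀ χ ∈ SM M (⊥ : Subgroup ↥M), conjFun χ ∈ SM M ⊥ := fun χ hχ => F.SM_conj hχ
  have hd1 : ∀ ψ, IsJ W₁ W₂ ψ → ψ ≠ 1 → colI μ ψ - (d : ℤ) • ζ ∈ zspanOn (SM M ⊥) ({1}ᶜ) := by
    intro ψ hψ h1
    rw [zspanOn_one]
    refine ⟨zspan_sub (zspan_mem (F.col_mem hψ h1)) (zspan_smul _ (zspan_mem (hX.sub hζ))), ?_⟩
    rw [zsmul_eq_smul, Pi.sub_apply, Pi.smul_apply, smul_eq_mul, F.col_one,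
      T.mu_one ψ (not_isI_J F.hW hψ h1), hX.deg ζ hζ]
    push_cast; ring
  have hτcol : ∀ ψ, IsJ W₁ W₂ ψ → ψ ≠ 1 →
      tauM M (colI μ ψ - (d : ℂ) • ζ) = τ₁ (colI μ ψ) - (d : ℂ) • τ₁ ζ := by
    intro ψ hψ h1
    have e1 := h₁.2 _ (hd1 ψ hψ h1)
    rw [h₁.sub (zspan_mem (F.col_mem hψ h1)) (zspan_smul _ (zspan_mem (hX.sub hζ))),
      h₁.smul _ (zspan_mem (hX.sub hζ)), zsmul_eq_smul, zsmul_eq_smul] at e1
    have e2 : (((d : ℤ) : ℂ)) = (d : ℂ) := by simp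
    rw [e2] at e1
    exact e1.symm
  have hin : ∀ ψ, IsJ W₁ W₂ ψ → ψ ≠ 1 →
      classInner (tauM M (alph μ e n ζ 1 ψ)) (τ₁ (colI μ ψ) - (d : ℂ) • τ₁ ζ) = 1 + n * d := by
    intro ψ hψ h1
    obtain ⟨h2, h3⟩ := T.alph_supp hX hζ IsI.one hψ h1
    rw [← hτcol ψ hψ h1, tau_inner F.hG F.hM (isGen_classFun h2) h3
      (classFun_sub (isGen_classFun (F.col_gen ψ)) (classFun_smul _ (hX.classFun hζ))) (by
        have := (F.span_supp (hd1 ψ hψ h1)).A0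
        rw [zsmul_eq_smul] at this
        simpa using this), T.alph_inner hX hζ]
    simp only [classInner_sub_right, classInner_smul_right]
    have e3 := F.col_inner_mu (φ := 1) (ψ := ψ) (ψ' := ψ) IsI.one hψ hψ
    have e4 := F.col_inner_mu (φ := 1) (ψ := ψ) (ψ' := 1) IsI.one hψ IsJ.one
    rw [if_pos rfl] at e3
    rw [lin_mul_one, if_neg h1] at e4
    have e3' : classInner (μ (1 * ψ)) (colI μ ψ) = 1 := by
      rw [← classInner_conj_symm, e3]; simp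
    have e4' : classInner (μ 1) (colI μ ψ) = 0 := by
      rw [← classInner_conj_symm, e4]; simp
    rw [e3', e4', (hX.inner_mu F hζ _).2, (hX.inner_mu F hζ _).2, (col_inner_X T hX hζ ψ).2,
      classInner_self_of_irr (hX.irr ζ hζ)]
    simp
  have hL : ∀ ψ, IsJ W₁ W₂ ψ → ψ ≠ 1 → τ₁ (colI μ ψ) = (e : ℂ) • colI η ψ ∨
      τ₁ (colI μ ψ) = -((e : ℂ) • colI η ψ⁻¹) := by
    intro ψ hψ h1
    have := F.coh_col (subset_refl _) hSMc h₁ hψ h1 (F.col_mem hψ h1)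
      ⟨ζ, hX.sub hζ, fun h => F.a_col_not_irr hψ (h ▸ hX.irr ζ hζ),
        fun h => F.a_col_not_irr hψ.inv (h ▸ hX.irr ζ hζ)⟩
    rwa [T.delta ψ (not_isI_J F.hW hψ h1)] at this
  have hcase2 : ∀ ψ, IsJ W₁ W₂ ψ → ψ ≠ 1 → τ₁ (colI μ ψ) ≠ -((e : ℂ) • colI η ψ⁻¹) := by
    intro ψ hψ h1 hcase
    have hinv1 := lin_inv_ne h1
    have hne : ψ ≠ ψ⁻¹ := (inv_ne_self_lin F.oddW h1).symm
    have e1 := hin ψ hψ h1
    rw [hcase, hD.eq 1 ψ IsI.one hψ h1, lin_one_mul] at e1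
    have f1 : classInner (η ψ) (colI η ψ⁻¹) = 0 := by
      rw [colI, classInner_sum_right]
      refine Finset.sum_eq_zero fun φ hφ => F.eta_inner_ne ?_
      intro h
      have := lin_unique F.hW IsI.one (mem_idxI.1 hφ) hψ hψ.inv ((lin_one_mul ψ).trans h)
      exact hne this.2
    have f2 : classInner (η 1) (colI η ψ⁻¹) = 0 := by
      rw [colI, classInner_sum_right]
      refine Finset.sum_eq_zero fun φ hφ => F.eta_inner_ne ?_
      intro h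
      have := lin_unique F.hW IsI.one (mem_idxI.1 hφ) IsJ.one hψ.inv ((lin_one_mul 1).trans h)
      exact hinv1 this.2.symm
    simp only [classInner_add_left, classInner_sub_left, classInner_sub_right,
      classInner_neg_right, classInner_smul_left, classInner_smul_right, conj_int, f1, f2,
      (eta_col_inner_t1 T hX hζ _).2, hcol ψ⁻¹ hψ.inv hinv1, (hX.t1_eta F hζ _).2,
      hX.t1_self F hζ, hD.inX ζ hζ] at e1
    have e2 : (e : ℂ) * S + d * a = -1 := by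
      have : (starRingEnd ℂ) (d : ℂ) = d := by simp
      rw [this] at e1
      linear_combination -e1
    have e3 : e * S + d * a = -1 := by exact_mod_cast e2
    exact arith_case2 hw₁ hw₂ hN T.sign T.hn T.two_le e3 hRQ hcQ hCS hr2 hb
  have hLc : ∀ ψ, IsJ W₁ W₂ ψ → ψ ≠ 1 → τ₁ (colI μ ψ) = (e : ℂ) • colI η ψ :=
    fun ψ hψ h1 => (hL ψ hψ h1).resolve_right (hcase2 ψ hψ h1)
  obtain ⟨ψ₀, hψ₀, h1₀⟩ := exists_J F
  have hac : a = 0 ∧ c = 0 := by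
    have e1 := hin ψ₀ hψ₀ h1₀
    rw [hLc ψ₀ hψ₀ h1₀, hD.eq 1 ψ₀ IsI.one hψ₀ h1₀, lin_one_mul] at e1
    have f1 : classInner (η ψ₀) (colI η ψ₀) = 1 := by
      rw [colI, classInner_sum_right, Finset.sum_eq_single 1]
      · rw [lin_one_mul, F.eta_inner_self]
      · intro φ hφ hne
        refine F.eta_inner_ne fun h => hne ?_
        exact (lin_unique F.hW IsI.one (mem_idxI.1 hφ) hψ₀ hψ₀ ((lin_one_mul ψ₀).trans h)).1.symm
      · intro h; exact absurd h1I h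
    have f2 : classInner (η 1) (colI η ψ₀) = 0 := by
      rw [colI, classInner_sum_right]
      refine Finset.sum_eq_zero fun φ hφ => F.eta_inner_ne ?_
      intro h
      have := lin_unique F.hW IsI.one (mem_idxI.1 hφ) IsJ.one hψ₀ ((lin_one_mul 1).trans h)
      exact h1₀ this.2.symm
    simp only [classInner_add_left, classInner_sub_left, classInner_sub_right,
      classInner_neg_right, classInner_smul_left, classInner_smul_right, conj_int, f1, f2,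
      (eta_col_inner_t1 T hX hζ _).2, hcol ψ₀ hψ₀ h1₀, (hX.t1_eta F hζ _).2,
      hX.t1_self F hζ, hD.inX ζ hζ] at e1
    have e2 : (d : ℂ) * a = e * S := by
      have : (starRingEnd ℂ) (d : ℂ) = d := by simp
      rw [this] at e1
      have := T.e_sqC
      linear_combination -e1 + this
    have e3 : (d : ℤ) * a = e * S := by exact_mod_cast e2
    exact arith_case1 hw₁ hw₂ hN T.sign T.hn hSR e3 hRQ hcQ hb
  have hD0 : D = 0 := hD.eq_zero hac.1 hac.2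
  subst hD0
  refine ⟨⟨a, c, r, hD⟩, hLc, ?_⟩
  have hnn : (n : ℂ) * (Nat.card W₁ : ℂ) = d - e := by exact_mod_cast T.hn
  have e1 : colI μ 1 - ζ = (e : ℂ) • ((colI μ ψ₀ - (d : ℂ) • ζ) -
      ∑ φ ∈ idxI W₁ W₂, alph μ e n ζ φ ψ₀) := by
    rw [sum_alph T]
    have h3 : (d : ℂ) = ((n * Nat.card W₁ : ℤ) : ℂ) + e := by push_cast; rw [hnn]; ring
    have h4 : colI μ ψ₀ - (d : ℂ) • ζ -
        (colI μ ψ₀ - (e : ℂ) • colI μ 1 - ((n * Nat.card W₁ : ℤ) : ℂ) • ζ) =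
        (e : ℂ) • (colI μ 1 - ζ) := by
      rw [h3, smul_sub, add_smul]; abel
    rw [h4, smul_smul, T.e_sqC, one_smul]
  have e2 : ∀ φ ∈ idxI W₁ W₂, tauM M (alph μ e n ζ φ ψ₀) =
      (e : ℂ) • η (φ * ψ₀) - (e : ℂ) • η (φ * 1) - (n : ℂ) • τ₁ ζ := by
    intro φ hφ
    rw [hD.eq φ ψ₀ (mem_idxI.1 hφ) hψ₀ h1₀, add_zero, smul_sub, lin_mul_one]
  rw [e1, tauM_smul, tauM_sub, hτcol ψ₀ hψ₀ h1₀, hLc ψ₀ hψ₀ h1₀, tauM_sum,
    Finset.sum_congr rfl e2, Finset.sum_sub_distrib,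
    Finset.sum_sub_distrib, ← Finset.smul_sum, ← Finset.smul_sum, Finset.sum_const,
    card_idxI T.F.hW, ← Nat.cast_smul_eq_nsmul ℂ, smul_smul, mul_comm (Nat.card W₁ : ℂ), hnn]
  change (e : ℂ) • ((e : ℂ) • colI η ψ₀ - (d : ℂ) • τ₁ ζ -
    ((e : ℂ) • colI η ψ₀ - (e : ℂ) • colI η 1 - ((d : ℂ) - e) • τ₁ ζ)) = _
  have h5 : (e : ℂ) • colI η ψ₀ - (d : ℂ) • τ₁ ζ -
    ((e : ℂ) • colI η ψ₀ - (e : ℂ) • colI η 1 - ((d : ℂ) - e) • τ₁ ζ) =
      (e : ℂ) • (colI η 1 - τ₁ ζ) := by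
    rw [sub_smul, smul_sub]; abel
  rw [h5, smul_smul, T.e_sqC, one_smul]

end

end Cfsg.Agent.PF
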