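import Cfsg.Agent.PF.SecD12
import Cfsg.Agent.PF.SecC9
import Cfsg.Agent.H18.FTI3

set_option autoImplicit false

/-! Fact E of notes/PF_G5G6.md (a maximal subgroup `M` of type III against a maximal subgroup of
type I), against an abstract interface for the type I side (helper22). -/

namespace Cfsg.Agent.PF

open Subgroup ComplexConjugate
open Cfsg.Agent.H3

universe u v

variable {G : Type u} [Group G] [Fintype G]

/-- The type I side, seen from a maximal subgroup `M` (= `T`): `Z i = σ λ_i`, `m i = λ_i(1) / e`,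
`λ = λ_{i₀}`, `Φ = τ φ = 1 - σ λ + Δ`. -/
structure IsLSide (M : Subgroup G) {ι : Type v} [Fintype ι] (Z : ι → G → ℂ) (m : ι → ℕ) (i₀ : ι)
    (Φ : G → ℂ) : Prop where
  sirr : ∀ i, SIrr (Z i)
  orth : ∀ i j, i ≠ j → classInner (Z i) (Z j) = 0
  cjj : ∀ i, ∃ j, j ≠ i ∧ Z j = conjFun (Z i) ∧ m j = m i
  m₀ : m i₀ = 1
  van : ∀ i, ∀ g ∈ tildeOf M (typeA M), Z i g = (m i : ℂ) * Z i₀ g
  gen : IsGeneralizedCharacter G Φ
  real : conjFun (Φ + Z i₀) = Φ + Z i₀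
  one : classInner Φ (fun _ => 1) = 1
  vanΦ : ∀ g ∈ tildeOf M (typeA M), Φ g = 0

variable {M W₁ U W₂ : Subgroup G} [Fintype ↥M] {η : Lin W₁ W₂ → G → ℂ}
  {μ : Lin W₁ W₂ → ↥M → ℂ} {δ : Lin W₁ W₂ → ℤ} {ι : Type v} [Fintype ι] {Z : ι → G → ℂ}
  {m : ι → ℕ} {i₀ : ι} {Φ : G → ℂ}

/-- functions `τ β`, `β` supported on `A(M)`, are orthogonal to the functions vanishing on the
support of `τ` -/
theorem tau_orth (hG : IsMinSimpleOddOrder G) (hM : IsCoatom M) {β : ↥M → ℂ}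
    (hβ : IsClassFunction ↥M β) (hs : SuppOn (typeA M) β) {f : G → ℂ}
    (hf : ∀ g ∈ tildeOf M (typeA M), f g = 0) : classInner (tauM M β) f = 0 := by
  unfold classInner
  rw [Finset.sum_eq_zero, mul_zero]
  intro x _
  by_cases hx : x ∈ tildeOf M (typeA M)
  · rw [hf x hx]; simp
  · rw [tau_supp hG hM A_sub_A0 hβ hs hx, zero_mul]

theorem gen_one_real' {f : G → ℂ} (hf : IsGeneralizedCharacter G f) : conjFun f 1 = f 1 := by
  obtain ⟨χ, ψ, h1, h2, rfl⟩ := hf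
  obtain ⟨a, ha⟩ := char_one_eq_nat h1
  obtain ⟨b, hb⟩ := char_one_eq_nat h2
  simp [conjFun, ha, hb]

theorem inner_symm_zero' {a b : G → ℂ} (h : classInner a b = 0) : classInner b a = 0 := by
  rw [← classInner_conj_symm, h, map_zero]

namespace IsLSide

/-- `σ λ_i ⊥ τ₁ χ` -/
theorem orth_tau (h : IsLSide M Z m i₀ Φ) (F : IsFrame M W₁ U W₂ η μ δ) {X : Finset (↥M → ℂ)}
    {τ₁ : (↥M → ℂ) → G → ℂ} (hX : IsXCoh M W₁ X τ₁) {χ : ↥M → ℂ} (hχ : χ ∈ X) (i : ι) :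
    classInner (Z i) (τ₁ χ) = 0 := by
  obtain ⟨j, hji, hj, hmj⟩ := h.cjj i
  have hcz := hX.conj_mem χ hχ
  obtain ⟨t1, t2, -⟩ := hX.t1 F hχ
  have e2 : tauM M (χ - conjFun χ) = τ₁ χ - conjFun (τ₁ χ) := by
    rw [hX.tau_sub hχ hcz, t2]
  have hne : conjFun χ ≠ χ := F.SM_conj_ne (hX.sub hχ)
  have e5 : classInner (τ₁ χ) (conjFun (τ₁ χ)) = 0 := by
    rw [← t2, hX.t1_inner hχ hcz]
    exact hX.inner_ne hχ hcz hne.symm
  have t3 : SIrr (conjFun (τ₁ χ)) := by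
    rw [← t2]; exact (hX.t1 F hcz).1
  have e3 : classInner (tauM M (χ - conjFun χ)) (Z i - Z j) = 0 := by
    refine tau_orth F.hG F.hM (classFun_sub (hX.classFun hχ) (hX.classFun hcz))
      (hX.supp_sub F hχ hcz) (fun g hg => ?_)
    rw [Pi.sub_apply, h.van i g hg, h.van j g hg, hmj, sub_self]
  have e4 := inner_symm_zero' e3
  rw [e2] at e4
  have s3 : SIrr (Z j) := h.sirr j
  refine (signed_orth4 (u := 1) (v := 1) (h.sirr i) s3 t1 t3 one_ne_zero one_ne_zero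
    (h.orth i j hji.symm) e5 (by simpa using e4) ?_ ?_).1
  · rw [hj]; exact (gen_one_real' (h.sirr i).isGen).symm
  · simpa using (gen_one_real' t1.isGen).symm

end IsLSide

/-- **Fact E**, abstract version. -/
theorem factE (D : IsD2 M W₁ U W₂ η μ δ) (h : IsLSide M Z m i₀ Φ)
    (hη : ∀ i ω, classInner (Z i) (η ω) = 0) :
    (∑ i, m i ^ 2) + Nat.card W₂ ≤ Nat.card W₁ ∨
      ∃ Y : Finset (G → ℂ), Y.card * Nat.card W₁ + 1 = Nat.card U ∧ (∀ f ∈ Y, SIrr f) ∧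
        (∀ f ∈ Y, ∀ f' ∈ Y, f ≠ f' → classInner f f' = 0) ∧
        (∀ f ∈ Y, ∀ ω, classInner f (η ω) = 0) ∧ (∀ f ∈ Y, ∀ i, classInner f (Z i) = 0) ∧
        ∀ f ∈ Y, ∃ n : ℤ, n ≠ 0 ∧ classInner Φ f = n := by
  classical
  have F := D.F
  obtain ⟨n, T⟩ := D.exists_ten'
  obtain ⟨X, τ₁, hXS, hXc, hX⟩ := D.F.exists_X D.typ
  have hXn := D.card_X T hXc
  have hne : X.Nonempty := by
    rw [← Finset.card_pos]
    have := T.two_le
    omega
  obtain ⟨ζ, hζ⟩ := hne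
  obtain ⟨Γ, b, s, g, hΓ⟩ := tenG T hX hζ
  obtain ⟨hs0, hg2⟩ := D.s_zero T hXn hX hζ hΓ
  have horth : ∀ χ ∈ X, ∀ i, classInner (Z i) (τ₁ χ) = 0 := fun χ hχ i => h.orth_tau F hX hχ i
  -- `⟨Γ, Z i⟩ = m_i ⟨Γ, Z i₀⟩`
  have hgc := isGen_classFun (gam_gen T hX hζ)
  obtain ⟨c, hc⟩ := classInner_gen_int hΓ.gen (h.sirr i₀).isGen
  have hZ : ∀ i, classInner Γ (Z i) = ((m i * c : ℤ) : ℂ) := by
    intro i
    have e1 : classInner Γ (Z i - (m i : ℂ) • Z i₀) = 0 := by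
      rw [← hΓ.eq]
      refine tau_orth F.hG F.hM hgc hΓ.supp (fun g hg => ?_)
      rw [Pi.sub_apply, h.van i g hg, Pi.smul_apply, smul_eq_mul, sub_self]
    rw [classInner_sub_right, classInner_smul_right, hc, sub_eq_zero] at e1
    rw [e1]; simp
  -- `⟨Γ, Φ⟩ = 0`
  have hΦ : classInner Γ Φ = 0 := by
    rw [← hΓ.eq]
    exact tau_orth F.hG F.hM hgc hΓ.supp h.vanΦ
  have hη1 : η 1 = fun _ => 1 := F.fam.map_one
  have hΓ1 : classInner Γ (fun _ => 1) = 1 := by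
    rw [← hη1, hΓ.row 1 IsI.one, hΓ.g_one]; simp
  have hζ1 : classInner (τ₁ ζ) (fun _ => 1) = 0 := by
    rw [← hη1]; exact (hX.t1_eta F hζ 1).1
  have hZ1 : ∀ i, classInner (Z i) (fun _ => 1) = 0 := fun i => by
    rw [← hη1]; exact hη i 1
  -- `Δ`
  set Δ : G → ℂ := Φ - (fun _ => 1) + Z i₀ with hΔ
  have hΔg : IsGeneralizedCharacter G Δ := isGen_add (isGen_sub h.gen isGen_one) (h.sirr i₀).isGen
  have h11 : classInner (fun _ : G => (1 : ℂ)) (fun _ => 1) = 1 :=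
    classInner_self_of_irr isIrr_one
  have hΔ1 : classInner Δ (fun _ => 1) = 0 := by
    rw [hΔ, classInner_add_left, classInner_sub_left, h.one, hZ1, h11]; ring
  have hΔr : conjFun Δ = Δ := by
    have e1 : Δ = (Φ + Z i₀) - fun _ => 1 := by rw [hΔ]; abel
    rw [e1, conjFun_sub', h.real]
    congr 1
    funext x; simp [conjFun]
  -- parity
  obtain ⟨k, hk⟩ := Cfsg.Agent.H18.even_inner (G := G) D.F.hG.1 (a := Δ)
    (b := Γ + τ₁ ζ) hΔg (isGen_add hΓ.gen (hX.t1 F hζ).1.isGen) hΔr hΓ.real hΔ1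
  obtain ⟨r, hr⟩ := classInner_gen_int hΔg (hX.t1 F hζ).1.isGen
  have hodd : 1 - c + 2 * k - r = 0 := by
    have e1 : Φ = Δ + (fun _ => 1) - Z i₀ := by rw [hΔ]; abel
    have e2 : classInner Φ Γ = 0 := inner_symm_zero' hΦ
    have e3 : classInner (fun _ : G => (1 : ℂ)) Γ = 1 := by
      rw [← classInner_conj_symm, hΓ1]; simp
    have e4 : classInner (Z i₀) Γ = c := inner_symm_int hc
    rw [classInner_add_right, hr] at hk
    rw [e1, classInner_sub_left, classInner_add_left, e3, e4] at e2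
    have e5 : ((1 - c + 2 * k - r : ℤ) : ℂ) = 0 := by
      push_cast at hk ⊢
      linear_combination e2 - hk
    exact_mod_cast e5
  have hb1 : 1 ≤ ((X.card : ℤ) - 1) * b ^ 2 + (b - 1) ^ 2 := by
    by_cases hb : b = 0
    · rw [hb]; norm_num
    · have hb2 : 1 ≤ b ^ 2 := by
        have : 0 < b ^ 2 := by positivity
        omega
      have := T.two_le
      rw [hXn]
      nlinarith [sq_nonneg (b - 1)]
  by_cases hc0 : c = 0
  · right
    have hr0 : r ≠ 0 := by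
      rintro rfl
      rw [hc0] at hodd
      omega
    have hΦζ : classInner Φ (τ₁ ζ) = r := by
      have e1 : Φ = Δ + (fun _ => 1) - Z i₀ := by rw [hΔ]; abel
      rw [e1, classInner_sub_left, classInner_add_left, hr, horth ζ hζ, inner_symm_zero' hζ1]
      ring
    refine ⟨X.image τ₁, ?_, ?_, ?_, ?_, ?_, ?_⟩
    · rw [Finset.card_image_of_injOn]
      · have e1 := T.hn
        rw [← hXn] at e1
        have e2 : uu M U = Nat.card U := by
          rw [uu, D.CZ_bot, relIndex_bot_left]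
        rw [e2] at e1
        have e3 : ((X.card * Nat.card W₁ + 1 : ℕ) : ℤ) = (Nat.card U : ℤ) := by
          push_cast; linarith
        exact_mod_cast e3
      · intro χ hχ χ' hχ' he
        by_contra hne
        have e1 := hX.t1_inner hχ hχ'
        rw [← (show τ₁ χ = τ₁ χ' from he), hX.t1_self F hχ, hX.inner_ne hχ hχ' hne] at e1
        exact one_ne_zero e1
    · intro f hf
      obtain ⟨χ, hχ, rfl⟩ := Finset.mem_image.1 hf
      exact (hX.t1 F hχ).1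
    · intro f hf f' hf' hne
      obtain ⟨χ, hχ, rfl⟩ := Finset.mem_image.1 hf
      obtain ⟨χ', hχ', rfl⟩ := Finset.mem_image.1 hf'
      rw [hX.t1_inner hχ hχ']
      exact hX.inner_ne hχ hχ' (fun e => hne (by rw [e]))
    · intro f hf ω
      obtain ⟨χ, hχ, rfl⟩ := Finset.mem_image.1 hf
      exact (hX.t1_eta F hχ ω).1
    · intro f hf i
      obtain ⟨χ, hχ, rfl⟩ := Finset.mem_image.1 hf
      exact inner_symm_zero' (horth χ hχ i)
    · intro f hf
      obtain ⟨χ, hχ, rfl⟩ := Finset.mem_image.1 hf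
      refine ⟨r, hr0, ?_⟩
      have e1 : classInner (tauM M (χ - ζ)) Φ = 0 :=
        tau_orth F.hG F.hM (classFun_sub (hX.classFun hχ) (hX.classFun hζ))
          (hX.supp_sub F hχ hζ) h.vanΦ
      rw [hX.tau_sub hχ hζ, classInner_sub_left] at e1
      have e2 := congrArg conj e1
      rw [map_sub, classInner_conj_symm, classInner_conj_symm, map_zero, sub_eq_zero] at e2
      rw [e2, hΦζ]
  · left
    -- Bessel
    letI := Fintype.ofFinite (Lin W₁ W₂)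
    let S : Finset (((↥M → ℂ) ⊕ Lin W₁ W₂) ⊕ ι) := (besselSet W₁ W₂ X).disjSum Finset.univ
    let E : ((↥M → ℂ) ⊕ Lin W₁ W₂) ⊕ ι → G → ℂ := Sum.elim (besselFam η τ₁) Z
    have hcross : ∀ x ∈ besselSet W₁ W₂ X, ∀ i, classInner (Z i) (besselFam η τ₁ x) = 0 := by
      intro x hx i
      simp only [besselSet, Finset.mem_disjSum] at hx
      rcases hx with ⟨χ, hχ, rfl⟩ | ⟨ω, -, rfl⟩
      · exact horth χ hχ i
      · exact hη i ω
    have hE : ∀ i ∈ S, ∀ j ∈ S, classInner (E i) (E j) = if i = j then ((1 : ℝ) : ℂ) else 0 := by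
      intro i hi j hj
      simp only [S, Finset.mem_disjSum] at hi hj
      rcases hi with ⟨x, hx, rfl⟩ | ⟨i, -, rfl⟩ <;> rcases hj with ⟨y, hy, rfl⟩ | ⟨j, -, rfl⟩
      · simp only [E, Sum.elim_inl, Sum.inl.injEq]
        exact bessel_orth F hX x hx y hy
      · simp only [E, Sum.elim_inl, Sum.elim_inr, reduceCtorEq, if_false]
        exact inner_symm_zero' (hcross x hx j)
      · simp only [E, Sum.elim_inl, Sum.elim_inr, reduceCtorEq, if_false]
        exact hcross y hy i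
      · simp only [E, Sum.elim_inr, Sum.inr.injEq]
        by_cases hij : i = j
        · rw [if_pos hij, hij, (h.sirr j).norm]; simp
        · rw [if_neg hij, h.orth i j hij]
    have hB := bessel_le S E (fun _ => 1) (fun _ _ => one_ne_zero) hE Γ
    simp only [S, E, besselSet, Finset.sum_disjSum, besselFam, Sum.elim_inl, Sum.elim_inr,
      div_one] at hB
    rw [sum_lin F.hW (fun ω => ‖classInner Γ (η ω)‖ ^ 2)] at hB
    have hinX : ∑ χ ∈ X, ‖classInner Γ (τ₁ χ)‖ ^ 2 =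
        (((X.card : ℤ) - 1) * b ^ 2 + (b - 1) ^ 2 : ℤ) := by
      rw [← Finset.add_sum_erase _ _ hζ, hΓ.inXζ]
      have : ∀ χ ∈ X.erase ζ, ‖classInner Γ (τ₁ χ)‖ ^ 2 = (b : ℝ) ^ 2 := by
        intro χ hχ
        rw [Finset.mem_erase] at hχ
        rw [hΓ.inX χ hχ.2 hχ.1, Complex.norm_intCast, sq_abs]
      rw [Finset.sum_congr rfl this, Finset.sum_const, Finset.card_erase_of_mem hζ,
        Complex.norm_intCast, sq_abs, nsmul_eq_mul]
      have hpos : 1 ≤ X.card := Finset.card_pos.2 ⟨ζ, hζ⟩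
      push_cast [Nat.cast_sub hpos]
      ring
    have hgrid : ∑ φ ∈ idxI W₁ W₂, ∑ ψ ∈ idxJ W₁ W₂, ‖classInner Γ (η (φ * ψ))‖ ^ 2 =
        ((Nat.card W₂ : ℤ) * ∑ φ ∈ idxI W₁ W₂, g φ ^ 2 : ℤ) := by
      push_cast
      rw [Finset.mul_sum]
      refine Finset.sum_congr rfl fun φ hφ => ?_
      have : ∀ ψ ∈ idxJ W₁ W₂, ‖classInner Γ (η (φ * ψ))‖ ^ 2 = (g φ : ℝ) ^ 2 := by
        intro ψ hψ
        by_cases h1 : ψ = 1
        · rw [h1, lin_mul_one, hΓ.row φ (mem_idxI.1 hφ), Complex.norm_intCast, sq_abs]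
        · rw [hΓ.grid φ ψ (mem_idxI.1 hφ) (mem_idxJ.1 hψ) h1, hs0, add_zero,
            Complex.norm_intCast, sq_abs]
      rw [Finset.sum_congr rfl this, Finset.sum_const, card_idxJ F.hW, nsmul_eq_mul]
    have hZs : ∑ i, ‖classInner Γ (Z i)‖ ^ 2 = ((∑ i, (m i : ℤ) ^ 2) * c ^ 2 : ℤ) := by
      push_cast
      rw [Finset.sum_mul]
      refine Finset.sum_congr rfl fun i _ => ?_
      rw [hZ, Complex.norm_intCast, sq_abs]
      push_cast; ring
    rw [hinX, hgrid, hZs, hΓ.norm, Complex.intCast_re] at hB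
    have hB' : (((X.card : ℤ) - 1) * b ^ 2 + (b - 1) ^ 2) +
        ((Nat.card W₂ : ℤ) * ∑ φ ∈ idxI W₁ W₂, g φ ^ 2) + (∑ i, (m i : ℤ) ^ 2) * c ^ 2 ≤
          (Nat.card W₁ : ℤ) + 1 := by
      exact_mod_cast hB
    have h3 : 1 ≤ ∑ φ ∈ idxI W₁ W₂, g φ ^ 2 := by
      rw [← Finset.add_sum_erase _ _ (mem_idxI.2 IsI.one), hΓ.g_one]
      have : 0 ≤ ∑ φ ∈ (idxI W₁ W₂).erase 1, g φ ^ 2 := Finset.sum_nonneg fun φ _ => sq_nonneg _
      omega
    have h4 : 1 ≤ c ^ 2 := by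
      have : 0 < c ^ 2 := by positivity
      omega
    have h5 : (0 : ℤ) ≤ ∑ i, (m i : ℤ) ^ 2 := Finset.sum_nonneg fun i _ => sq_nonneg _
    have h6 : (0 : ℤ) ≤ Nat.card W₂ := by positivity
    have h7 : ((∑ i, m i ^ 2 + Nat.card W₂ : ℕ) : ℤ) ≤ Nat.card W₁ := by
      push_cast
      nlinarith
    exact_mod_cast h7

end Cfsg.Agent.PF
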