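import Cfsg.Agent.PF.G5Ec
import Cfsg.Agent.PF.Cover2

set_option autoImplicit false

/-! Fact E for a pair (helper22). -/

namespace Cfsg.Agent.PF

open Subgroup ComplexConjugate
open Cfsg.Agent.H3

universe u v

variable {G : Type u} [Group G] [Fintype G] {S T W₁ W₂ U V L : Subgroup G}
  {η : Lin W₁ W₂ → G → ℂ} {e k : ℕ} {ι : Type v} [Fintype ι] {Z : ι → G → ℂ} {m : ι → ℕ}
  {i₀ : ι} {Φ : G → ℂ} (hG : IsMinSimpleOddOrder G)

include hG in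
/-- the support of `τ_T` on `A(T)` is disjoint from the conjugates of `L_F#`, `L` of type I -/
theorem IsPair.tilde_not_HG (h : IsPair S T W₁ W₂ U V) (hL : IsCoatom L) (hI : IsOfTypeI L)
    {g : G} (hg : g ∈ tildeOf T (typeA T)) : g ∉ HG L := by
  intro hH
  obtain ⟨a, ha, r, hr, y, rfl⟩ := hg
  rw [h.symm.supp hG (A_sub_A0 ha), Subgroup.mem_bot] at hr
  refine h.symm.HG_disj_S hG hL hI hH y⁻¹ ?_
  have e1 : y⁻¹ * (y * (a * r) * y⁻¹) * y⁻¹⁻¹ = a := by rw [hr]; group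
  rw [e1]; exact A_sub_A0 ha

include hG in
/-- **Fact E**: `T` of type III -/
theorem IsPair.fact_E (h : IsPair S T W₁ W₂ U V) (hT : IsOfTypeIII T) (hL : IsCoatom L)
    (hI : IsOfTypeI L) [Fintype ↥T] {ν : Lin W₂ W₁ → ↥T → ℂ} {ε : Lin W₂ W₁ → ℤ}
    (F' : IsFrame T W₂ V W₁ (swF η) ν ε) (hlam : IsLam (HG L) e k Z m i₀ Φ)
    (hη : ∀ i ω, classInner (Z i) (η ω) = 0) {s : ℤ} (hs0 : s ≠ 0)
    (hs : ∀ ψ, IsJ W₁ W₂ ψ → ψ ≠ 1 → classInner Φ (η ψ) = s) :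
    k - 1 ≤ e * (Nat.card W₂ - Nat.card W₁) ∨
      Nat.card V - 1 ≤ Nat.card W₂ * (e - Nat.card W₂) := by
  refine F'.fact_E hT hlam (fun g hg => h.tilde_not_HG hG hL hI hg) (fun i ω => hη i (swL ω))
    hs0 fun φ hφ h1 => hs (swL φ) ?_ fun e => h1 (a_swL_inj.1 (e.trans swL_one.symm))
  exact isJ_swL.2 hφ

end Cfsg.Agent.PF
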