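import Cfsg.Agent.PF.G5E
import Cfsg.Agent.PF.G5A

set_option autoImplicit false

/-! Fact E for the type I side `IsLam` (helper22). -/

namespace Cfsg.Agent.PF

open Subgroup ComplexConjugate
open Cfsg.Agent.H3

universe u v

variable {G : Type u} [Group G] [Fintype G]
variable {M W₁ U W₂ : Subgroup G} [Fintype ↥M] {η : Lin W₁ W₂ → G → ℂ}
  {μ : Lin W₁ W₂ → ↥M → ℂ} {δ : Lin W₁ W₂ → ℤ}
  {X : Set G} {e k : ℕ} {ι : Type v} [Fintype ι] {Z : ι → G → ℂ} {m : ι → ℕ}
  {i₀ : ι} {Φ : G → ℂ}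

theorem IsFrame.D2 (F : IsFrame M W₁ U W₂ η μ δ) (ty : IsOfTypeIII M) :
    IsD2 M W₁ U W₂ η μ δ :=
  ⟨F, Or.inl ty, card_W₂_prime F.hG F.hM F.hP (Or.inl ty), ten8 F (Or.inl ty)⟩

omit [Fintype ↥M] in
theorem IsLam.lside (h : IsLam X e k Z m i₀ Φ) (hd : ∀ g ∈ tildeOf M (typeA M), g ∉ X) :
    IsLSide M Z m i₀ Φ :=
  ⟨h.sirr, h.orth, h.cjj, h.m₀, fun i g hg => h.van i g (hd g hg), h.gen, h.real, h.one,
    fun g hg => h.vanΦ g (hd g hg)⟩

/-- **Fact E**: `M` of type III (the roles of `W₁`, `W₂` are those of `M`), and the type I side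
`IsLam`; `s` is the common inner product `⟨Φ, η φ⟩`, `φ` a non trivial character of
`W₁ ⊔ W₂` trivial on `W₂`. -/
theorem IsFrame.fact_E (F : IsFrame M W₁ U W₂ η μ δ) (ty : IsOfTypeIII M)
    (h : IsLam X e k Z m i₀ Φ) (hd : ∀ g ∈ tildeOf M (typeA M), g ∉ X)
    (hη : ∀ i ω, classInner (Z i) (η ω) = 0) {s : ℤ} (hs0 : s ≠ 0)
    (hs : ∀ φ, IsI W₁ W₂ φ → φ ≠ 1 → classInner Φ (η φ) = s) :
    k - 1 ≤ e * (Nat.card W₁ - Nat.card W₂) ∨
      Nat.card U - 1 ≤ Nat.card W₁ * (e - Nat.card W₁) := by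
  classical
  rcases factE (F.D2 ty) (h.lside hd) hη with h1 | ⟨Y, hYc, hYs, hYo, hYη, hYZ, hYΦ⟩
  · left
    have h2 := h.sum
    have h3 : k - 1 = e * ∑ i, m i ^ 2 := by rw [← h2, Nat.add_sub_cancel, mul_comm]
    rw [h3]
    exact Nat.mul_le_mul_left _ (by omega)
  · right
    have hη1 : η 1 = fun _ => 1 := F.fam.map_one
    -- Bessel
    let S : Finset ((G → ℂ) ⊕ Lin W₁ W₂) := Y.disjSum ((idxI W₁ W₂).erase 1)
    let f : (G → ℂ) ⊕ Lin W₁ W₂ → G → ℂ := Sum.elim id η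
    have hB := h.bessel S f ?_ ?_ ?_ ?_
    · simp only [S, f, Finset.sum_disjSum, Sum.elim_inl, Sum.elim_inr, id] at hB
      have h1 : (Y.card : ℝ) ≤ ∑ y ∈ Y, ‖classInner Φ y‖ ^ 2 := by
        rw [Finset.card_eq_sum_ones]
        push_cast
        refine Finset.sum_le_sum fun y hy => ?_
        obtain ⟨n, hn, hn'⟩ := hYΦ y hy
        rw [hn', Complex.norm_intCast, sq_abs]
        have : 0 < n ^ 2 := by positivity
        exact_mod_cast this
      have h2 : ((((idxI W₁ W₂).erase 1).card : ℕ) : ℝ) ≤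
          ∑ φ ∈ (idxI W₁ W₂).erase 1, ‖classInner Φ (η φ)‖ ^ 2 := by
        rw [Finset.card_eq_sum_ones]
        push_cast
        refine Finset.sum_le_sum fun φ hφ => ?_
        rw [Finset.mem_erase, mem_idxI] at hφ
        rw [hs φ hφ.2 hφ.1, Complex.norm_intCast, sq_abs]
        have : 0 < s ^ 2 := by positivity
        exact_mod_cast this
      rw [Finset.card_erase_of_mem (mem_idxI.2 IsI.one), card_idxI F.hW] at h2
      have hepos := h.e_pos
      have h3 : ((Y.card + (Nat.card W₁ - 1) : ℕ) : ℝ) ≤ ((e - 1 : ℕ) : ℝ) := by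
        rw [Nat.cast_add, Nat.cast_sub (show 1 ≤ e from hepos), Nat.cast_one]
        linarith
      have h4 : Y.card + (Nat.card W₁ - 1) ≤ e - 1 := by exact_mod_cast h3
      have hw : 0 < Nat.card W₁ := Nat.card_pos
      have h5 : Nat.card U - 1 = Nat.card W₁ * Y.card := by
        rw [← hYc, Nat.add_sub_cancel, mul_comm]
      rw [h5]
      exact Nat.mul_le_mul_left _ (by omega)
    · intro a ha
      simp only [S, Finset.mem_disjSum] at ha
      rcases ha with ⟨y, hy, rfl⟩ | ⟨φ, hφ, rfl⟩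
      · exact (hYs y hy).norm
      · simp only [f, Sum.elim_inr]
        rw [F.fam.orthonormal, if_pos rfl]
    · intro a ha b hb hab
      simp only [S, Finset.mem_disjSum] at ha hb
      rcases ha with ⟨a, ha, rfl⟩ | ⟨a, ha, rfl⟩ <;> rcases hb with ⟨b, hb, rfl⟩ | ⟨b, hb, rfl⟩
      · exact hYo a ha b hb (fun e => hab (by rw [e]))
      · exact hYη a ha b
      · exact inner_swap_zero (hYη b hb a)
      · simp only [f, Sum.elim_inr]
        rw [F.fam.orthonormal, if_neg (fun e => hab (by rw [e]))]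
    · intro a ha
      simp only [S, Finset.mem_disjSum] at ha
      rcases ha with ⟨y, hy, rfl⟩ | ⟨φ, hφ, rfl⟩
      · rw [← hη1]; exact hYη y hy 1
      · simp only [f, Sum.elim_inr]
        rw [← hη1, F.fam.orthonormal, if_neg]
        exact (Finset.mem_erase.1 hφ).1
    · intro a ha i
      simp only [S, Finset.mem_disjSum] at ha
      rcases ha with ⟨y, hy, rfl⟩ | ⟨φ, hφ, rfl⟩
      · exact hYZ y hy i
      · exact inner_swap_zero (hη i φ)

end Cfsg.Agent.PF
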