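import Cfsg.Agent.H7.T1Q
import Cfsg.Agent.PF.G5A

set_option autoImplicit false
set_option linter.style.haveILetI false
set_option linter.unusedSectionVars false

/-! The type I side of S1544 (notes/PF_G5G6.md): a maximal subgroup `L` of type I, Frobenius with
kernel `H = L_F`, all supports trivial, gives an instance of `IsLam`. (helper7) -/

namespace Cfsg.Agent.PF

open Subgroup ComplexConjugate
open Cfsg.Agent.H3
open Cfsg.Agent.T1 (FrobI DSet supp)

universe u

variable {G : Type u} [Group G]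

theorem indFun_one_normal {X : Type u} [Group X] [Fintype X] {K : Subgroup X} (hK : K.Normal)
    {x : X} (hx : x ∈ K) : indFun K (fun _ => (1 : ℂ)) x = K.index := by
  have h1 := indFun_restrict_normal hK (fun _ => (1 : ℂ)) ⟨x, hx⟩
  have hK0 : (Nat.card ↥K : ℂ) ≠ 0 := by exact_mod_cast Nat.card_pos.ne'
  have h3 : (Nat.card X : ℂ) = K.index * Nat.card K := by
    exact_mod_cast (Subgroup.index_mul_card K).symm
  simp only [Cfsg.Agent.H3.cj, Finset.sum_const, Finset.card_univ, nsmul_eq_mul, mul_one] at h1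
  rw [h1, ← Nat.card_eq_fintype_card, h3, mul_comm, mul_assoc, mul_inv_cancel₀ hK0, mul_one]

section abstract

variable [Fintype G] {A : Set G} {M : Subgroup G} [Fintype ↥M] {R : G → Subgroup G}
  {K : Subgroup ↥M}

theorem above_finite : (inducedIrrAbove K ⊥ : Set (↥M → ℂ)).Finite := by
  haveI : Finite {θ : ↥K → ℂ | IsIrrCharacter ↥K θ} :=
    (irr_set_finite (L := ↥K)).to_subtype
  refine ((irr_set_finite (L := ↥K)).image (fun θ => indFun K θ)).subset ?_
  rintro χ ⟨θ, hθ, -, -, rfl⟩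
  exact ⟨θ, hθ, rfl⟩

variable (d : DSet A M R K) (hKt : K ≠ ⊤)
  (hirr : ∀ χ ∈ inducedIrrAbove K ⊥, IsIrrCharacter ↥M χ)

include d hirr

/-- the regular character of `M` -/
theorem above_sum [Fintype ↑(inducedIrrAbove K ⊥ : Set (↥M → ℂ))]
    {m : ↑(inducedIrrAbove K ⊥ : Set (↥M → ℂ)) → ℕ}
    (hm : ∀ χ : ↑(inducedIrrAbove K ⊥ : Set (↥M → ℂ)), (χ : ↥M → ℂ) 1 = (m χ : ℂ) * K.index) (x : ↥M) [Decidable (x = 1)] :
    (K.index : ℂ) * ∑ χ, (m χ : ℂ) * (χ : ↥M → ℂ) x + indFun K (fun _ => 1) x =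
      if x = 1 then (Nat.card ↥M : ℂ) else 0 := by
  classical
  have hK := d.normal
  letI : Fintype ↥K := Fintype.ofFinite _
  have hc1 : IsClassFunction ↥M (∑ χ : ↑(inducedIrrAbove K ⊥ : Set (↥M → ℂ)),
      (m χ : ℂ) • (χ : ↥M → ℂ)) :=
    classFun_sum _ _ (fun χ _ => classFun_smul _ (irr_classFun (hirr _ χ.2)))
  have hcD : IsClassFunction ↥M ((K.index : ℂ) • (∑ χ : ↑(inducedIrrAbove K ⊥ : Set (↥M → ℂ)),
      (m χ : ℂ) • (χ : ↥M → ℂ)) + indFun K (fun _ => 1) -
        fun x : ↥M => if x = 1 then (Nat.card ↥M : ℂ) else 0) := by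
    refine classFun_sub (classFun_add (classFun_smul _ hc1) (indFun_classFun K _)) ?_
    intro a b
    have : b * a * b⁻¹ = 1 ↔ a = 1 := by
      constructor
      · intro h
        have : a = b⁻¹ * (b * a * b⁻¹) * b := by group
        rw [this, h]; group
      · rintro rfl; group
    simp only [this]
  have key := classFun_eq_zero _ hcD (by
    intro ψ hψ
    have e3 : classInner (fun x : ↥M => if x = 1 then (Nat.card ↥M : ℂ) else 0) ψ = ψ 1 := by
      unfold classInner
      obtain ⟨n, -, hn⟩ := irr_one_eq_nat hψ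
      have hM0 : (Nat.card ↥M : ℂ) ≠ 0 := by exact_mod_cast Nat.card_pos.ne'
      simp only [ite_mul, zero_mul, Finset.sum_ite_eq', Finset.mem_univ, if_true]
      rw [hn, Complex.conj_natCast, ← mul_assoc, inv_mul_cancel₀ hM0, one_mul]
    rw [classInner_sub_left, classInner_add_left, classInner_smul_left, classInner_sum_left, e3]
    simp only [classInner_smul_left]
    by_cases hψS : ψ ∈ (inducedIrrAbove K ⊥ : Set (↥M → ℂ))
    · rw [Finset.sum_eq_single (⟨ψ, hψS⟩ : ↑(inducedIrrAbove K ⊥ : Set (↥M → ℂ)))]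
      · have e4 : classInner (indFun K (fun _ => (1 : ℂ))) ψ = 0 := by
          obtain ⟨θ, hθ, hn, -, rfl⟩ := hψS
          refine Cfsg.Agent.H11.PF.inner_ind_ne hK hθ isIrr_one (fun g e => hn ?_)
          funext x
          have h1 : ∀ y, Cfsg.Agent.H3.cj hK g θ y = 1 := fun y => (congrFun e y).symm
          have h2 : θ = Cfsg.Agent.H3.cj hK g⁻¹ (Cfsg.Agent.H3.cj hK g θ) := by
            funext y
            simp only [Cfsg.Agent.H3.cj]
            congr 1
            apply Subtype.ext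
            simp [mul_assoc]
          rw [h2]
          exact h1 _
        rw [e4, classInner_self_of_irr hψ]
        have := hm ⟨ψ, hψS⟩
        simp only at this
        rw [this]; ring
      · intro χ _ hχ
        rw [classInner_of_irr_ne (hirr _ χ.2) hψ (fun e => hχ (Subtype.ext e)), mul_zero]
      · intro h; exact absurd (Finset.mem_univ _) h
    · have hk : ∀ h ∈ K, ψ h = ψ 1 := by
        by_contra hk
        push Not at hk
        obtain ⟨θ, hθ, hn, hne⟩ := d.exists_theta hψ hk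
        have hS : indFun K θ ∈ (inducedIrrAbove K ⊥ : Set (↥M → ℂ)) :=
          ⟨θ, hθ, hn, fun a ha => by
            have : a = 1 := Subtype.ext ha
            rw [this], rfl⟩
        apply hψS
        by_contra h
        apply hne
        exact classInner_of_irr_ne (hirr _ hS) hψ (fun e => h (e ▸ hS))
      rw [Finset.sum_eq_zero (fun χ _ => by
        rw [classInner_of_irr_ne (hirr _ χ.2) hψ (fun e => hψS (e ▸ χ.2)), mul_zero]),
        frobenius_reciprocity K _ (irr_classFun hψ)]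
      have e5 : (fun h : ↥K => ψ h) = fun _ => ψ 1 := by
        funext h; exact hk h h.2
      obtain ⟨n, -, hn⟩ := irr_one_eq_nat hψ
      have hK0 : (Nat.card ↥K : ℂ) ≠ 0 := by exact_mod_cast Nat.card_pos.ne'
      rw [e5, hn]
      unfold classInner
      simp only [one_mul, Complex.conj_natCast, Finset.sum_const, Finset.card_univ, nsmul_eq_mul]
      rw [← Nat.card_eq_fintype_card, ← mul_assoc, inv_mul_cancel₀ hK0]; ring)
  have h1 := congrFun key x
  simp only [Pi.sub_apply, Pi.add_apply, Pi.smul_apply, Finset.sum_apply, smul_eq_mul,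
    Pi.zero_apply] at h1
  rw [sub_eq_zero] at h1
  rw [h1]
  split_ifs <;> rfl

omit hirr in
theorem d_odd : Odd (Nat.card G) := d.odd

variable (hA : ∀ a : ↥M, (a : G) ∈ A ↔ a ∈ K ∧ a ≠ 1) (hR : ∀ a ∈ A, R a = ⊥)
  {σ : (↥M → ℂ) → G → ℂ} (hσ : CohMap (inducedIrrAbove K ⊥) (dadeIsometry A M R) σ)

/-- `A^G` -/
def cls (A : Set G) : Set G := {g | ∃ a ∈ A, ∃ y : G, g = y * a * y⁻¹}

include hR in
omit hirr in
theorem dade_on {α : ↥M → ℂ} (hα : IsClassFunction ↥M α) {a : ↥M} (ha : (a : G) ∈ A) (y : G) :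
    dadeIsometry A M R α (y * a * y⁻¹) = α a := by
  refine Cfsg.Agent.H11.PF.dade_apply d.dade hα ha (x := y⁻¹) (u := 1) (one_mem _) ?_
  group

include hR in
omit hirr in
theorem dade_off {α : ↥M → ℂ} (hα : IsClassFunction ↥M α) {g : G} (hg : g ∉ cls A) :
    dadeIsometry A M R α g = 0 := by
  refine Cfsg.Agent.H11.PF.dade_zero d.dade ?_
  rintro ⟨a, ha, x, u, hu, he⟩
  rw [hR _ ha, Subgroup.mem_bot] at hu
  apply hg
  refine ⟨a, ha, x⁻¹, ?_⟩
  rw [hu, mul_one] at he
  rw [← he]; group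

include hA hσ hKt in
/-- conjugation commutes with `σ` -/
theorem sigma_conj {χ : ↥M → ℂ} (hχ : χ ∈ (inducedIrrAbove K ⊥ : Set (↥M → ℂ))) :
    SIrr (σ χ) ∧ σ (conjFun χ) = conjFun (σ χ) := by
  obtain ⟨ε, hε, h1, h2⟩ := d.coh_irr hirr hσ hKt hχ
  have hεε : ε * ε = 1 := by rcases hε with h | h <;> rw [h] <;> norm_num
  have hχc := Cfsg.Agent.H3.conj_above hχ
  have hli := hirr _ hχ
  refine ⟨?_, ?_⟩
  · rcases hε with rfl | rfl
    · left; simpa using h1
    · right; simpa using h1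
  · have e1 : σ χ - σ (conjFun χ) = dadeIsometry A M R (χ - conjFun χ) := by
      rw [← hσ.sub (zspan_mem hχ) (zspan_mem hχc), hσ.2]
      rw [zspanOn_one]
      refine ⟨zspan_sub (zspan_mem hχ) (zspan_mem hχc), ?_⟩
      obtain ⟨n, -, hn⟩ := irr_one_eq_nat hli
      simp [conjFun, hn]
    have e2 : ε • σ χ - conjFun (ε • σ χ) = ε • (σ χ - σ (conjFun χ)) := by rw [h2, e1]
    have e3 : conjFun (ε • σ χ) = ε • σ (conjFun χ) := by
      rw [smul_sub] at e2
      exact sub_right_injective e2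
    have e4 : conjFun (ε • σ χ) = ε • conjFun (σ χ) := by
      funext x
      rcases hε with rfl | rfl <;> simp [conjFun]
    rw [e4] at e3
    have e5 := congrArg (ε • ·) e3
    simp only [smul_smul, hεε, one_smul] at e5
    exact e5.symm

include hA hR hσ hKt in
/-- the type I data -/
theorem isLam_of {lam : ↥M → ℂ} (hlam : lam ∈ (inducedIrrAbove K ⊥ : Set (↥M → ℂ)))
    (hl1 : lam 1 = (K.index : ℂ)) :
    ∃ (_ : Fintype ↑(inducedIrrAbove K ⊥ : Set (↥M → ℂ)))
      (m : ↑(inducedIrrAbove K ⊥ : Set (↥M → ℂ)) → ℕ),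
      (∀ χ : ↑(inducedIrrAbove K ⊥ : Set (↥M → ℂ)), (χ : ↥M → ℂ) 1 = (m χ : ℂ) * K.index) ∧
      IsLam (cls A) K.index (Nat.card K) (fun χ : ↑(inducedIrrAbove K ⊥ : Set (↥M → ℂ)) => σ χ) m
        ⟨lam, hlam⟩ (dadeIsometry A M R (indFun K (fun _ => 1) - lam)) := by
  classical
  have hK := d.normal
  letI : Fintype ↥K := Fintype.ofFinite _
  letI : Fintype ↑(inducedIrrAbove K ⊥ : Set (↥M → ℂ)) := (above_finite (K := K)).fintype
  have hdeg : ∀ χ : ↑(inducedIrrAbove K ⊥ : Set (↥M → ℂ)), ∃ n : ℕ, 0 < n ∧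
      (χ : ↥M → ℂ) 1 = (n : ℂ) * K.index := by
    rintro ⟨χ, θ, hθ, hn, -, rfl⟩
    obtain ⟨n, hn0, hn⟩ := irr_one_eq_nat hθ
    refine ⟨n, hn0, ?_⟩
    show indFun K θ 1 = _
    rw [indFun_one_apply, hn]; ring
  choose m hm0 hm using hdeg
  refine ⟨inferInstance, m, hm, ?_⟩
  have he0 : (K.index : ℂ) ≠ 0 := by exact_mod_cast Subgroup.index_ne_zero_of_finite
  -- basic facts
  have hoffA : ∀ {θ : ↥K → ℂ} {x : ↥M}, (x : G) ∉ A → x ≠ 1 → indFun K θ x = 0 := by
    intro θ x hx hx1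
    exact indFun_not_mem_normal hK θ (fun h => hx ((hA x).2 ⟨h, hx1⟩))
  have hχc : ∀ χ : ↑(inducedIrrAbove K ⊥ : Set (↥M → ℂ)), IsClassFunction ↥M (χ : ↥M → ℂ) :=
    fun χ => irr_classFun (hirr _ χ.2)
  have hlc : IsClassFunction ↥M lam := irr_classFun (hirr _ hlam)
  have hdiff : ∀ χ : ↑(inducedIrrAbove K ⊥ : Set (↥M → ℂ)),
      (χ : ↥M → ℂ) - (m χ : ℤ) • lam ∈ zspanOn (inducedIrrAbove K ⊥) ({1}ᶜ : Set ↥M) := by
    intro χ
    rw [zspanOn_one]
    refine ⟨zspan_sub (zspan_mem χ.2) (zspan_smul _ (zspan_mem hlam)), ?_⟩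
    rw [Pi.sub_apply, Pi.smul_apply, hm, hl1]
    simp
  have hdc : ∀ χ : ↑(inducedIrrAbove K ⊥ : Set (↥M → ℂ)),
      IsClassFunction ↥M ((χ : ↥M → ℂ) - (m χ : ℤ) • lam) := by
    intro χ
    rw [zsmul_eq_smul]
    exact classFun_sub (hχc χ) (classFun_smul _ hlc)
  have hdA : ∀ χ : ↑(inducedIrrAbove K ⊥ : Set (↥M → ℂ)), ∀ x : ↥M, (x : G) ∉ A →
      ((χ : ↥M → ℂ) - (m χ : ℤ) • lam) x = 0 := by
    intro χ x hx
    by_cases hx1 : x = 1
    · subst hx1; exact (zspanOn_one.1 (hdiff χ)).2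
    · obtain ⟨θ, -, -, -, hθ⟩ := χ.2
      obtain ⟨θ', -, -, -, hθ'⟩ := hlam
      rw [Pi.sub_apply, Pi.smul_apply, hθ, hθ', hoffA hx hx1, hoffA hx hx1]; simp
  have hσd : ∀ χ : ↑(inducedIrrAbove K ⊥ : Set (↥M → ℂ)),
      σ χ - (m χ : ℂ) • σ lam = dadeIsometry A M R ((χ : ↥M → ℂ) - (m χ : ℤ) • lam) := by
    intro χ
    rw [← hσ.2 _ (hdiff χ), hσ.sub (zspan_mem χ.2) (zspan_smul _ (zspan_mem hlam)),
      hσ.smul _ (zspan_mem hlam), zsmul_eq_smul]
    simp
  set φ : ↥M → ℂ := indFun K (fun _ => 1) - lam with hφ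
  have hφg : IsGeneralizedCharacter ↥M φ :=
    isGen_sub (isGen_ind K (isGen_of_irr isIrr_one)) (isGen_of_irr (hirr _ hlam))
  have hφc := isGen_classFun hφg
  have hφA : ∀ x : ↥M, (x : G) ∉ A → φ x = 0 := by
    intro x hx
    by_cases hx1 : x = 1
    · subst hx1
      rw [hφ, Pi.sub_apply, indFun_one_apply, hl1, mul_one, sub_self]
    · obtain ⟨θ', -, -, -, hθ'⟩ := hlam
      rw [hφ, Pi.sub_apply, hoffA hx hx1, hθ', hoffA hx hx1, sub_self]
  have hφχ : ∀ χ : ↑(inducedIrrAbove K ⊥ : Set (↥M → ℂ)),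
      classInner φ χ = if (χ : ↥M → ℂ) = lam then -1 else 0 := by
    intro χ
    have e4 : classInner (indFun K (fun _ => (1 : ℂ))) χ = 0 := by
      obtain ⟨θ, hθ, hn, -, hθ2⟩ := χ.2
      rw [hθ2]
      refine Cfsg.Agent.H11.PF.inner_ind_ne hK hθ isIrr_one (fun g e => hn ?_)
      funext x
      have h1 : ∀ y, Cfsg.Agent.H3.cj hK g θ y = 1 := fun y => (congrFun e y).symm
      have h2 : θ = Cfsg.Agent.H3.cj hK g⁻¹ (Cfsg.Agent.H3.cj hK g θ) := by
        funext y
        simp only [Cfsg.Agent.H3.cj]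
        congr 1
        apply Subtype.ext
        simp [mul_assoc]
      rw [h2]
      exact h1 _
    rw [hφ, classInner_sub_left, e4]
    by_cases h : (χ : ↥M → ℂ) = lam
    · rw [if_pos h, h, classInner_self_of_irr (hirr _ hlam)]; ring
    · rw [if_neg h, classInner_of_irr_ne (hirr _ hlam) (hirr _ χ.2) (fun e => h e.symm)]; ring
  have hIone : classInner (indFun K (fun _ => (1 : ℂ))) (fun _ => 1) = 1 := by
    rw [frobenius_reciprocity K _ (classFun_const 1)]
    exact classInner_self_of_irr isIrr_one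
  have hlone : classInner lam (fun _ => 1) = 0 := by
    refine classInner_of_irr_ne (hirr _ hlam) isIrr_one ?_
    exact Cfsg.Agent.T1.above_ne_one hKt hlam
  have hρ1 : ∀ x : ↥M, (x : G) ∈ A → Cfsg.Agent.T1.rho A M R (fun _ : G => (1 : ℂ)) x = 1 :=
    fun x hx => Cfsg.Agent.T1.rho_const hx (fun _ _ => rfl)
  have hT := above_sum d hirr hm
  have hsum1 : ∀ x : ↥M, x ∈ K → x ≠ 1 → ∑ χ : ↑(inducedIrrAbove K ⊥ : Set (↥M → ℂ)),
      (m χ : ℂ) * (χ : ↥M → ℂ) x = -1 := by
    intro x hx hx1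
    have h1 := hT x
    rw [if_neg hx1] at h1
    have h2 : indFun K (fun _ => (1 : ℂ)) x = K.index := by
      have h3 := indFun_one_normal hK hx
      exact h3
    rw [h2] at h1
    have h3 : (K.index : ℂ) * (∑ χ : ↑(inducedIrrAbove K ⊥ : Set (↥M → ℂ)),
      (m χ : ℂ) * (χ : ↥M → ℂ) x + 1) = 0 := by linear_combination h1
    have h4 := (mul_eq_zero.1 h3).resolve_left he0
    linear_combination h4
  have hsum : (∑ χ, m χ ^ 2) * K.index + 1 = Nat.card K := by
    have h1 := hT 1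
    rw [if_pos rfl, indFun_one_apply] at h1
    have h2 : ∀ χ : ↑(inducedIrrAbove K ⊥ : Set (↥M → ℂ)),
      (m χ : ℂ) * (χ : ↥M → ℂ) 1 = (m χ : ℂ) ^ 2 * K.index := fun χ => by rw [hm]; ring
    rw [Finset.sum_congr rfl fun χ _ => h2 χ, ← Finset.sum_mul] at h1
    have h3 : (Nat.card ↥M : ℂ) = K.index * Nat.card K := by
      exact_mod_cast (Subgroup.index_mul_card K).symm
    rw [h3] at h1
    have h4 : (K.index : ℂ) * ((∑ χ : ↑(inducedIrrAbove K ⊥ : Set (↥M → ℂ)), (m χ : ℂ) ^ 2) *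
      K.index + 1 - Nat.card K) = 0 := by linear_combination h1
    have h5 := (mul_eq_zero.1 h4).resolve_left he0
    have h6 : (∑ χ : ↑(inducedIrrAbove K ⊥ : Set (↥M → ℂ)), (m χ : ℂ) ^ 2) *
      K.index + 1 = Nat.card K := by linear_combination h5
    exact_mod_cast h6
  have hm₀ : m ⟨lam, hlam⟩ = 1 := by
    have h1 := hm ⟨lam, hlam⟩
    simp only [hl1] at h1
    have h2 : (m ⟨lam, hlam⟩ : ℂ) = 1 := by
      have : ((m ⟨lam, hlam⟩ : ℂ) - 1) * K.index = 0 := by linear_combination -h1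
      have := (mul_eq_zero.1 this).resolve_right he0
      linear_combination this
    exact_mod_cast h2
  constructor
  · exact d.odd
  · exact Nat.pos_of_ne_zero Subgroup.index_ne_zero_of_finite
  · rintro g ⟨a, ha, y, rfl⟩ z
    exact ⟨a, ha, z * y, by group⟩
  · exact fun χ => (sigma_conj d hKt hirr hA hσ χ.2).1
  · intro χ ψ hne
    rw [hσ.inner (zspan_mem χ.2) (zspan_mem ψ.2)]
    exact classInner_of_irr_ne (hirr _ χ.2) (hirr _ ψ.2) (fun e => hne (Subtype.ext e))
  · intro χ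
    have hc := Cfsg.Agent.H3.conj_above χ.2
    refine ⟨⟨_, hc⟩, ?_, (sigma_conj d hKt hirr hA hσ χ.2).2, ?_⟩
    · intro e
      exact Cfsg.Agent.T1.conjFun_ne_of_odd d.oddN (hirr _ χ.2)
        (Cfsg.Agent.T1.above_ne_one hKt χ.2) (congrArg Subtype.val e)
    · have h1 := hm ⟨_, hc⟩
      have h2 := hm χ
      obtain ⟨n, -, hn⟩ := irr_one_eq_nat (hirr _ χ.2)
      have h3 : conjFun (χ : ↥M → ℂ) 1 = (χ : ↥M → ℂ) 1 := by simp [conjFun, hn]
      simp only [h3, h2] at h1
      have h4 : ((m χ : ℂ) - m ⟨_, hc⟩) * K.index = 0 := by linear_combination h1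
      have h5 := (mul_eq_zero.1 h4).resolve_right he0
      have h6 : (m χ : ℂ) = m ⟨_, hc⟩ := by linear_combination h5
      exact_mod_cast h6.symm
  · exact hm₀
  · exact hm0
  · exact hsum
  · intro χ g hg
    have h1 := congrFun (hσd χ) g
    rw [dade_off d hR (hdc χ) hg, Pi.sub_apply, Pi.smul_apply, smul_eq_mul] at h1
    linear_combination h1
  · exact Cfsg.Agent.H11.PF.dade_gen d.dade hφg hφA
  · have e1 : φ - conjFun φ = conjFun lam - lam := by
      have : conjFun (indFun K (fun _ => (1 : ℂ))) = indFun K (fun _ => 1) := by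
        have h0 := indFun_conj K (fun _ => (1 : ℂ))
        simp only [map_one] at h0
        exact h0
      have e2 : conjFun φ = conjFun (indFun K (fun _ => (1 : ℂ))) - conjFun lam := by
        funext x; simp [hφ, conjFun]
      rw [e2, this, hφ]; abel
    have e2 := (sigma_conj d hKt hirr hA hσ hlam).2
    have hlcS := Cfsg.Agent.H3.conj_above hlam
    have e3 : σ lam - σ (conjFun lam) = dadeIsometry A M R (lam - conjFun lam) := by
      rw [← hσ.sub (zspan_mem hlam) (zspan_mem hlcS), hσ.2]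
      rw [zspanOn_one]
      refine ⟨zspan_sub (zspan_mem hlam) (zspan_mem hlcS), ?_⟩
      simp [conjFun, hl1]
    have e4 : conjFun (dadeIsometry A M R φ) = dadeIsometry A M R (conjFun φ) :=
      (Cfsg.Agent.T1.dade_conj φ).symm
    have e5 : dadeIsometry A M R φ - dadeIsometry A M R (conjFun φ) =
        -(dadeIsometry A M R (lam - conjFun lam)) := by
      rw [← Cfsg.Agent.T1.dade_sub, e1, ← Cfsg.Agent.T1.dade_neg]
      congr 1; abel
    have e6 : conjFun (dadeIsometry A M R φ + σ lam) =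
        conjFun (dadeIsometry A M R φ) + conjFun (σ lam) := by
      funext x; simp [conjFun]
    show conjFun (dadeIsometry A M R φ + σ lam) = dadeIsometry A M R φ + σ lam
    rw [e6, e4, ← e2]
    rw [← e3] at e5
    have e7 : dadeIsometry A M R (conjFun φ) = dadeIsometry A M R φ + (σ lam - σ (conjFun lam)) := by
      rw [← sub_eq_iff_eq_add', ← neg_sub, e5, neg_neg]
    rw [e7]; abel
  · rw [Cfsg.Agent.T1.dade_duality d.dade hφc hφA (classFun_const 1)]
    have e1 : classInner φ (Cfsg.Agent.T1.rho A M R (fun _ : G => (1 : ℂ))) =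
        classInner φ (fun _ => 1) := by
      unfold classInner
      congr 1
      refine Finset.sum_congr rfl fun x _ => ?_
      by_cases hx : (x : G) ∈ A
      · rw [hρ1 x hx]
      · rw [hφA x hx]; simp
    rw [e1, hφ, classInner_sub_left, hIone, hlone, sub_zero]
  · rw [Cfsg.Agent.T1.dade_isometry d.dade hφc hφA hφc hφA]
    have e1 : classInner (indFun K (fun _ => (1 : ℂ))) (indFun K (fun _ => 1)) = K.index := by
      rw [frobenius_reciprocity K _ (indFun_classFun K _)]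
      have e2 : (fun h : ↥K => indFun K (fun _ => (1 : ℂ)) (h : ↥M)) = fun _ => (K.index : ℂ) := by
        funext h
        exact indFun_one_normal hK h.2
      have hK0 : (Nat.card ↥K : ℂ) ≠ 0 := by exact_mod_cast Nat.card_pos.ne'
      rw [e2]
      unfold classInner
      simp only [one_mul, Complex.conj_natCast, Finset.sum_const, Finset.card_univ, nsmul_eq_mul]
      rw [← Nat.card_eq_fintype_card, ← mul_assoc, inv_mul_cancel₀ hK0]; ring
    have e3 : classInner φ lam = -1 := by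
      have := hφχ ⟨lam, hlam⟩
      rwa [if_pos rfl] at this
    have e4 : classInner φ (indFun K (fun _ => (1 : ℂ))) = K.index := by
      have e5 : classInner lam (indFun K (fun _ => (1 : ℂ))) = 0 := by
        have e6 : classInner (indFun K (fun _ => (1 : ℂ))) lam = 0 := by
          have e7 := e3
          rw [hφ, classInner_sub_left, classInner_self_of_irr (hirr _ hlam)] at e7
          linear_combination e7
        exact inner_swap_zero e6
      rw [hφ, classInner_sub_left, e1, e5, sub_zero]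
    conv_lhs => rw [hφ]
    rw [← hφ, classInner_sub_right, e3, e4]; ring
  · exact fun g hg => dade_off d hR hφc hg
  · intro χ hχ
    have hne : (χ : ↥M → ℂ) ≠ lam := fun e => hχ (Subtype.ext e)
    have h1 : classInner (dadeIsometry A M R φ) (σ χ - (m χ : ℂ) • σ lam) = m χ := by
      rw [hσd χ, Cfsg.Agent.T1.dade_isometry d.dade hφc hφA (hdc χ) (hdA χ),
        classInner_sub_right, classInner_zsmul_right, hφχ χ, if_neg hne, hφχ ⟨lam, hlam⟩,
        if_pos rfl]
      simp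
    rw [classInner_sub_right, classInner_smul_right] at h1
    simp only [Complex.conj_natCast] at h1
    linear_combination h1
  · rintro g ⟨a, ha, y, rfl⟩
    have haM : a ∈ M := d.dade.subset ha
    obtain ⟨haK, ha1⟩ := (hA ⟨a, haM⟩).1 ha
    have e1 : dadeIsometry A M R φ (y * a * y⁻¹) = K.index - lam ⟨a, haM⟩ := by
      rw [dade_on d hR hφc (a := ⟨a, haM⟩) ha y, hφ, Pi.sub_apply,
        indFun_one_normal hK haK]
    have e2 : ∀ χ : ↑(inducedIrrAbove K ⊥ : Set (↥M → ℂ)),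
        (m χ : ℂ) * (σ χ (y * a * y⁻¹) - m χ * σ lam (y * a * y⁻¹)) =
          (m χ : ℂ) * (χ : ↥M → ℂ) ⟨a, haM⟩ - (m χ : ℂ) ^ 2 * lam ⟨a, haM⟩ := by
      intro χ
      have h1 := congrFun (hσd χ) (y * a * y⁻¹)
      rw [dade_on d hR (hdc χ) (a := ⟨a, haM⟩) ha y, Pi.sub_apply, Pi.smul_apply, smul_eq_mul,
        Pi.sub_apply, Pi.smul_apply] at h1
      rw [h1]
      simp
      ring
    show ((Nat.card K : ℂ) - 1) * dadeIsometry A M R φ (y * a * y⁻¹) - K.index *
      ∑ χ : ↑(inducedIrrAbove K ⊥ : Set (↥M → ℂ)),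
        (m χ : ℂ) * (σ χ (y * a * y⁻¹) - m χ * σ lam (y * a * y⁻¹)) = K.index * Nat.card K
    rw [e1, Finset.sum_congr rfl fun χ _ => e2 χ, Finset.sum_sub_distrib, ← Finset.sum_mul,
      hsum1 _ haK ha1]
    have h6 : (∑ χ : ↑(inducedIrrAbove K ⊥ : Set (↥M → ℂ)), (m χ : ℂ) ^ 2) *
      K.index + 1 = Nat.card K := by exact_mod_cast hsum
    linear_combination (lam ⟨a, haM⟩) * h6

end abstract

end Cfsg.Agent.PF
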