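import Cfsg.Agent.PF.G5L
import Cfsg.Agent.H7.T1T
import Cfsg.Agent.PF.Cover2

set_option autoImplicit false
set_option linter.style.haveILetI false
set_option linter.unusedSectionVars false

/-! Every maximal subgroup of type I gives an instance of `IsLam`. (helper7) -/

namespace Cfsg.Agent.PF

open Subgroup ComplexConjugate
open Cfsg.Agent.H3
open Cfsg.Agent.T1 (FrobI DSet supp)
open Cfsg.Agent.H21
open Cfsg.Agent.OOT
open Cfsg.Agent.H2 (WTypeI wA wA_eq WTypeI.of_typeI)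

universe u

variable {G : Type u} [Group G] [Fintype G]

/-- Every maximal subgroup of type I gives an instance of `IsLam`. -/
theorem exists_lam' (hG : IsMinSimpleOddOrder G) {L : Subgroup G} (hL : IsCoatom L)
    (hI : IsOfTypeI L)
    (hc : ∀ x ∈ fittingHallOf L, x ≠ 1 → centralizer ({x} : Set G) ≤ L) :
    ∃ (ι : Type u) (_ : Fintype ι) (Z : ι → G → ℂ) (m : ι → ℕ) (i₀ : ι) (Φ : G → ℂ),
      IsLam (HG L) ((fittingHallOf L).relIndex L) (Nat.card (fittingHallOf L)) Z m i₀ Φ := by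
  classical
  haveI : Fintype ↥L := Fintype.ofFinite _
  have hW := WTypeI.of_typeI hI
  have hF : FrobI L := Cfsg.Agent.T1.weak_frob hG hL hW
  have d := Cfsg.Agent.T1.dset hG hL hW
  rw [← wA_eq hI] at d
  have hA : ∀ a : ↥L, (a : G) ∈ typeA L ↔ a ∈ fittingHall ↥L ∧ a ≠ 1 :=
    fun a => Cfsg.Agent.T1.mem_typeA_of_frob hI hF
  have hirr : ∀ χ ∈ inducedIrrAbove (fittingHall ↥L) ⊥, IsIrrCharacter ↥L χ := fun χ hχ =>
    Cfsg.Agent.T1.above_irr (fittingHall_coprime L) (fun h hh h1 => hF.sub hh h1) hχ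
  have hKt : fittingHall ↥L ≠ ⊤ := hW.1.2.2.2.1
  have hAe := Cfsg.Agent.T1.typeA_of_frob hI hF
  have hR : ∀ a ∈ typeA L, supportR L a = ⊥ := by
    intro a ha
    rw [hAe] at ha
    exact Cfsg.Agent.T1.supportR_eq_bot (hc a ha.1 ha.2)
  obtain ⟨σ, hσ⟩ := isCoherent_cohMap (Cfsg.Agent.T1.coherent_frob hG L hL hI hF)
  haveI := fittingHall_nilpotent L
  obtain ⟨θ₀, hθ₀, hn₀, hd₀⟩ :=
    Cfsg.Agent.T1.exists_linear_irr (K := fittingHall ↥L) inferInstance hW.1.2.2.1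
  have hlS : indFun (fittingHall ↥L) θ₀ ∈ inducedIrrAbove (fittingHall ↥L) ⊥ :=
    ⟨θ₀, hθ₀, hn₀, fun a ha => by
      have : a = 1 := Subtype.ext ha
      rw [this], rfl⟩
  have hl1 : indFun (fittingHall ↥L) θ₀ 1 = ((fittingHall ↥L).index : ℂ) := by
    rw [indFun_one_apply, hd₀, mul_one]
  obtain ⟨i1, m, -, h⟩ := isLam_of d hKt hirr hA hR hσ hlS hl1
  have e1 : cls (typeA L) = HG L := by
    rw [hAe]
    ext g
    constructor
    · rintro ⟨a, ⟨ha, ha1⟩, y, rfl⟩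
      refine ⟨conj_ne_one_of ha1, y⁻¹, ?_⟩
      have : y⁻¹ * (y * a * y⁻¹) * y⁻¹⁻¹ = a := by group
      rw [this]; exact ha
    · rintro ⟨hg, y, hy⟩
      exact ⟨y * g * y⁻¹, ⟨hy, conj_ne_one_of hg⟩, y⁻¹, by group⟩
  have e2 : (fittingHall ↥L).index = (fittingHallOf L).relIndex L := by
    rw [Subgroup.relIndex, Cfsg.Agent.T1.fhOf_subgroupOf]
  have e3 : Nat.card (fittingHall ↥L) = Nat.card (fittingHallOf L) := by
    rw [← Cfsg.Agent.T1.fhOf_subgroupOf]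
    exact Nat.card_congr (Subgroup.subgroupOfEquivOfLe (fhOf_le' L)).toEquiv
  rw [e1, e2, e3] at h
  exact ⟨_, i1, _, m, _, _, h⟩

/-- Every maximal subgroup of type I gives an instance of `IsLam`. -/
theorem exists_lam {S T W₁ W₂ U V : Subgroup G} (hG : IsMinSimpleOddOrder G)
    (h : IsPair S T W₁ W₂ U V) {L : Subgroup G} (hL : IsCoatom L) (hI : IsOfTypeI L) :
    ∃ (ι : Type u) (_ : Fintype ι) (Z : ι → G → ℂ) (m : ι → ℕ) (i₀ : ι) (Φ : G → ℂ),
      IsLam (HG L) ((fittingHallOf L).relIndex L) (Nat.card (fittingHallOf L)) Z m i₀ Φ :=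
  exists_lam' hG hL hI (fun _ hx hx1 => h.cent_I hG hL hI hx hx1)

end Cfsg.Agent.PF
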