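import Cfsg.Agent.PF.Num4

set_option autoImplicit false

/-! `C_U(P) = 1` (S1547), `u = (p^q-1)/(p-1)` or `u = (p^q-1)/(q(p-1))` (lead). -/

namespace Cfsg.Agent.PF

open Subgroup
open Cfsg.Agent.L (cj nz SylIn)
open Cfsg.Agent.OOT
open Cfsg.Agent.H21
open Cfsg.Agent.H3 Cfsg.Agent.H11

universe u
variable {G : Type u} [Group G] [Finite G]
variable {S T W₁ W₂ U V : Subgroup G} (hG : IsMinSimpleOddOrder G)

include hG in
theorem IsPair.v_dvd (h : IsPair S T W₁ W₂ U V) :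
    (CU S U).relIndex U * (Nat.card W₂ - 1) ∣ Nat.card W₂ ^ Nat.card W₁ - 1 :=
  (h.hbar' hG).gal_dvd (h.gal hG)

/-- a subgroup of prime index coprime to `orderOf x` contains `x` -/
theorem mem_of_orderOf_coprime {A B : Subgroup G} (hA : A ≤ B) (hB : IsMulCommutative B) {x : G}
    (hx : x ∈ B) (hc : (orderOf x).Coprime (A.relIndex B)) : x ∈ A := by
  have h1 : (A.subgroupOf B).Normal := by
    constructor
    intro a ha b
    have : b * a * b⁻¹ = a := by
      have h2 := mulComm_iff.1 hB b.1 b.2 a.1 a.2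
      apply Subtype.ext
      push_cast
      rw [h2, mul_inv_cancel_right]
    rw [this]
    exact ha
  have h2 : (⟨x, hx⟩ : B) ^ A.relIndex B ∈ A.subgroupOf B := Subgroup.pow_index_mem _ _
  have h3 : x ^ A.relIndex B ∈ A := h2
  obtain ⟨m, hm⟩ := exists_pow_eq_self_of_coprime hc.symm
  rw [← hm]
  exact pow_mem h3 m

include hG in
/-- **S1547** -/
theorem IsPair.CU_eq_bot (h : IsPair S T W₁ W₂ U V) : CU S U = ⊥ := by
  classical
  rcases h.S23 hG with hII | hIII
  swap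
  · obtain ⟨-, -, -, -, h1, -⟩ := BBG.typeIII_main hG h.hS h.hSP hIII
    exact h1
  have hb := h.hbar' hG
  by_contra hC
  have hodd := h.odd hG S
  have b1 := hb.u_lower hodd
  have b2 := (h.symm.hbar' hG).u_lower (h.odd hG T)
  have q3 := h.q_ge hG
  have p3 := h.symm.q_ge hG
  have hc := IsTypePWith.sub_U_mod h.hSP (h.q_prime hG) hodd hb.C_le hb.W₁_le_nz_C
  have hc1 : Nat.card (CU S U) ≠ 1 := fun e => hC (Subgroup.card_eq_one.1 e)
  have hc0 : 0 < Nat.card (CU S U) := Nat.card_pos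
  have hc2 : 2 * Nat.card W₁ + 1 ≤ Nat.card (CU S U) := by
    have := Nat.le_of_dvd (by omega) hc
    omega
  have hnum : Nat.card W₁ = 3 ∧ Nat.card W₂ = 5 ∧ (CU S U).relIndex U = 31 ∧
      Nat.card (CU S U) < 13 := by
    cases nonempty_fintype G
    cases nonempty_fintype ↥S
    cases nonempty_fintype ↥T
    obtain ⟨η, μ, δ, ν, ε, F, F'⟩ := h.frames hG
    obtain ⟨χ, hχ, hirr⟩ := hb.gal_irr F (h.gal hG) (Or.inl hC)
    have hdeg := hb.gal_deg F (h.gal hG) hχ
    have key := h.num hG F F' (SH_mono bot_le hχ) hirr hdeg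
    refine num_ii (h.p_prime hG) (h.q_prime hG) (h.symm.q_ne_two hG) (h.q_ne_two hG) ?_ b1
      hb.q_dvd (h.v_dvd hG) hc2 b2 (h.symm.v_dvd hG) key
    intro e
    have h1 := h.pq_coprime
    rw [e, Nat.coprime_self] at h1
    omega
  obtain ⟨e1, e2, e3, e4⟩ := hnum
  have hc7 : Nat.card (CU S U) = 7 := by
    rw [e1] at hc hc2
    omega
  -- an element of order 7 acting freely
  obtain ⟨⟨-, U₀, hU₀, hexp, hfree⟩, -⟩ := typeII_fix_bot (h.S_sol hG) h.hSP hII
  have h7 : Nat.Prime 7 := by norm_num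
  have hfact : Fact (Nat.Prime 7) := ⟨h7⟩
  obtain ⟨c, hc'⟩ := exists_prime_orderOf_dvd_card' (G := CU S U) 7 (by rw [hc7])
  have hcU : (c : G) ∈ U := hb.C_le c.2
  have hd : 7 ∣ Monoid.exponent U := by
    have h1 : orderOf (⟨c, hcU⟩ : U) = 7 := by
      rw [← hc', ← Subgroup.orderOf_coe, ← Subgroup.orderOf_coe]
    rw [← h1]
    exact Monoid.order_dvd_exponent _
  rw [← hexp] at hd
  have hd2 : 7 ∣ Nat.card U₀ := hd.trans Group.exponent_dvd_nat_card
  obtain ⟨y, hy⟩ := exists_prime_orderOf_dvd_card' (G := U₀) 7 hd2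
  have hy7 : orderOf (y : G) = 7 := by rw [Subgroup.orderOf_coe, hy]
  have hyC : (y : G) ∈ CU S U := by
    apply mem_of_orderOf_coprime hb.C_le (h.U_comm hG) (hU₀ y.2)
    rw [hy7, e3]
    norm_num
  have hy1 : (y : G) ≠ 1 := by
    intro e
    rw [e, orderOf_one] at hy7
    omega
  obtain ⟨x, hx, hx1⟩ := exists_ne_one (H := fittingHallOf S) (fun e => by
    have := (h.P_struct hG).2
    rw [e, Subgroup.card_bot] at this
    have h2 : 1 < Nat.card W₂ ^ Nat.card W₁ :=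
      Nat.one_lt_pow (h.q_prime hG).ne_zero (h.p_prime hG).one_lt
    omega)
  exact hx1 (hfree y y.2 hy1 x hx (mem_cent_iff.1 hyC.2 x hx))

end Cfsg.Agent.PF
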