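import Cfsg.Agent.PF.NormW0
import Cfsg.Agent.PF.Num5

set_option autoImplicit false

/-! `N_G(W₂) = C_G(W₂) = P W₁` (PF (13.?)) -/

namespace Cfsg.Agent.PF

open Subgroup
open Cfsg.Agent.L (cj nz SylIn)
open Cfsg.Agent.H14 (IsPiSub)
open Cfsg.Agent.OOT
open Cfsg.Agent.H21
open scoped Pointwise

universe u
variable {G : Type u} [Group G] [Finite G]
variable {S T W₁ W₂ U V : Subgroup G} (hG : IsMinSimpleOddOrder G)

include hG in
theorem IsPair.cent_U_bot (h : IsPair S T W₁ W₂ U V) :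
    U ⊓ centralizer (fittingHallOf S : Set G) = ⊥ :=
  h.CU_eq_bot hG

include hG in
theorem IsPair.cent_U_W₂ (h : IsPair S T W₁ W₂ U V) : U ⊓ centralizer (W₂ : Set G) = ⊥ := by
  set U₁ := U ⊓ centralizer (W₂ : Set G) with hU₁
  by_contra hne
  have hWU : W₁ ≤ nz U₁ := by
    intro w hw
    rw [L.mem_nz_iff, hU₁, cj_inf, cj_centralizer, L.mem_nz_iff.1 (h.hSP.U_normal hw),
      L.mem_nz_iff.1 (show w ∈ nz W₂ from cent_le_nz W₂ (mem_cent_iff.2 fun y hy =>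
        W₂_comm h.hSP hw hy))]
  set P := fittingHallOf S with hP
  have hUP : U₁ ≤ nz P := inf_le_left.trans (h.hSP.U_le.trans (le_normalizer_fhOf S))
  have hWP : W₁ ≤ nz P := h.hSP.W₁_le.trans (le_normalizer_fhOf S)
  have hUW : U₁ ⊓ W₁ = ⊥ := by
    rw [eq_bot_iff, ← U_inf_W₁ h.hSP]; exact inf_le_inf_right _ inf_le_left
  have hcard : (Nat.card P).Coprime (Nat.card ↥(U₁ ⊔ W₁)) := by
    have h1 : Nat.card ↥(U₁ ⊔ W₁) ∣ Nat.card ↥(U ⊔ W₁) :=
      Subgroup.card_dvd_of_le (sup_le_sup_right inf_le_left _)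
    refine Nat.Coprime.coprime_dvd_right h1 ?_
    rw [U_sup_W₁_card h.hSP]
    exact Nat.Coprime.mul_right h.hSP.coprime_HU h.hSP.coprime_HW₁
  have hsol : Group.IsSolvable P := by
    have := fhOf_nilpotent S
    exact inferInstance
  have key := Cfsg.Agent.S1545.result U₁ W₁ P hne h.hSP.W₁_ne hUW
    (fun e he u hu => (Subgroup.mem_normalizer_iff.1 (hWU he) _).1 hu)
    (fun e he he1 u hu hc => fix_W₁_U h.hSP he he1 hu.1 hc)
    (fun x hx y hy => (Subgroup.mem_normalizer_iff.1 ((sup_le hUP hWP) hx) _).1 hy)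
    (H1.inf_eq_bot_of_card_coprime hcard) hsol hcard
  have e0 : P ⊓ centralizer (W₁ : Set G) = W₂ := by
    rw [inf_cent_W₁ h.hSP h.hSP.H_le', inf_eq_right.2 h.hSP.W₂_le_H]
  have e1 : P ⊓ centralizer ((U₁ ⊔ W₁ : Subgroup G) : Set G) = W₂ := by
    apply le_antisymm
    · rw [← e0]
      exact inf_le_inf_left _ (Subgroup.centralizer_le (SetLike.coe_subset_coe.2 le_sup_right))
    · refine le_inf h.hSP.W₂_le_H ?_
      rw [le_cent_comm]
      refine sup_le inf_le_right ?_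
      intro w hw
      exact mem_cent_iff.2 fun y hy => W₂_comm h.hSP hw hy
  rw [e0, e1] at key
  have h2 : Nat.card P = Nat.card ↥(P ⊓ centralizer (U₁ : Set G)) :=
    Nat.eq_of_mul_eq_mul_left (pow_pos Nat.card_pos _) key
  have h3 : P ⊓ centralizer (U₁ : Set G) = P := Subgroup.eq_of_le_of_card_ge inf_le_left h2.le
  have h4 : P ≤ centralizer (U₁ : Set G) := by rw [← h3]; exact inf_le_right
  rw [le_cent_comm] at h4
  apply hne
  rw [eq_bot_iff, ← h.cent_U_bot hG]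
  exact le_inf inf_le_left h4

include hG in
theorem IsPair.nz_U_W₂ (h : IsPair S T W₁ W₂ U V) : U ⊓ nz W₂ = ⊥ := by
  rw [Subgroup.eq_bot_iff_forall]
  rintro v ⟨hv, hv2⟩
  obtain ⟨w, hw, hw1⟩ := exists_ne_one h.hSP.W₁_ne
  refine fix_W₁_U h.hSP hw hw1 hv ?_
  have hw2 : w ∈ centralizer (W₂ : Set G) := mem_cent_iff.2 fun y hy => W₂_comm h.hSP hw hy
  have h1 : v⁻¹ * (w * v * w⁻¹) ∈ U ⊓ centralizer (W₂ : Set G) := by
    refine Subgroup.mem_inf.2 ⟨mul_mem (inv_mem hv)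
      ((Subgroup.mem_normalizer_iff.1 (h.hSP.U_normal hw) _).1 hv), mem_cent_iff.2 fun y hy => ?_⟩
    have hy2 : v * y * v⁻¹ ∈ W₂ := (Subgroup.mem_normalizer_iff.1 hv2 _).1 hy
    have e1 : w * (v * y * v⁻¹) = v * y * v⁻¹ * w := mem_cent_iff.1 hw2 _ hy2
    have e2 : w * y = y * w := mem_cent_iff.1 hw2 _ hy
    have e2' : w⁻¹ * y = y * w⁻¹ := mem_cent_iff.1 (inv_mem hw2) _ hy
    calc v⁻¹ * (w * v * w⁻¹) * y = v⁻¹ * (w * v) * (w⁻¹ * y) := by simp [mul_assoc]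
      _ = v⁻¹ * (w * (v * y * v⁻¹)) * v * w⁻¹ := by rw [e2']; simp [mul_assoc]
      _ = y * (v⁻¹ * (w * v * w⁻¹)) := by rw [e1]; simp [mul_assoc]
  rw [h.cent_U_W₂ hG, Subgroup.mem_bot] at h1
  have : v * (v⁻¹ * (w * v * w⁻¹)) * w = v * 1 * w := by rw [h1]
  simpa [mul_assoc] using this

include hG in
theorem IsPair.nz_W₂ (h : IsPair S T W₁ W₂ U V) :
    nz W₂ = centralizer (W₂ : Set G) ∧ centralizer (W₂ : Set G) = fittingHallOf S ⊔ W₁ := by
  have hP : fittingHallOf S ≤ centralizer (W₂ : Set G) := fun x hx =>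
    mem_cent_iff.2 fun y hy => h.P_comm hG hx (h.hSP.W₂_le_H hy)
  have hW : W₁ ≤ centralizer (W₂ : Set G) := fun w hw =>
    mem_cent_iff.2 fun y hy => W₂_comm h.hSP hw hy
  have h1 : fittingHallOf S ⊔ W₁ ≤ centralizer (W₂ : Set G) := sup_le hP hW
  have h2 : centralizer (W₂ : Set G) ≤ nz W₂ := cent_le_nz W₂
  have h3 : nz W₂ ≤ fittingHallOf S ⊔ W₁ := by
    intro g hg
    have hgS := h.nz_le hG h.hSP.W₂_le_H h.hSP.selfNormalizing.2.1 hg
    obtain ⟨x, hx, u, hu, w, hw, rfl⟩ := exists_xuw h.hSP hgS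
    have hx' := h2 (hP hx)
    have hw' := h2 (hW hw)
    have hu' : u ∈ nz W₂ := by
      have := mul_mem (mul_mem (inv_mem hx') hg) (inv_mem hw')
      simpa [mul_assoc] using this
    have hu1 : u ∈ U ⊓ nz W₂ := ⟨hu, hu'⟩
    rw [h.nz_U_W₂ hG, Subgroup.mem_bot] at hu1
    rw [hu1, mul_one]
    exact mul_mem (mem_sup_left hx) (mem_sup_right hw)
  exact ⟨le_antisymm (h3.trans h1) h2, le_antisymm (h2.trans h3) h1⟩

end Cfsg.Agent.PF
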