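import Cfsg.Agent.PF.NormU
import Cfsg.Agent.PF.NormW

set_option autoImplicit false

/-! S1549: the maximal subgroup containing `N_G(U)`, `S` of type II. -/

namespace Cfsg.Agent.PF

open Subgroup
open Cfsg.Agent.L (cj nz SylIn)
open Cfsg.Agent.H14 (IsPiSub)
open Cfsg.Agent.OOT
open Cfsg.Agent.H21
open scoped Pointwise commutatorElement

universe u
variable {G : Type u} [Group G] [Finite G]
variable {S T W₁ W₂ U V N : Subgroup G} (hG : IsMinSimpleOddOrder G)

theorem mem_fhOf_of_order {x : G} (hx : x ∈ N)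
    (hc : ∀ r : ℕ, r.Prime → r ∣ orderOf x → r ∣ Nat.card (fittingHallOf N)) :
    x ∈ fittingHallOf N := by
  have h1 := fhOf_hall N
  have h3 : (fittingHall ↥N).index = (fittingHallOf N).relIndex N := (relIndex_fhOf N).symm
  have h4 : (⟨x, hx⟩ : N) ∈ fittingHall ↥N := by
    rw [← QuotientGroup.eq_one_iff, ← orderOf_eq_one_iff]
    by_contra hne
    obtain ⟨r, hr, hrd⟩ := Nat.exists_prime_and_dvd hne
    have a1 : r ∣ orderOf x := by
      refine hrd.trans ((orderOf_map_dvd (QuotientGroup.mk' (fittingHall ↥N)) _).trans ?_)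
      rw [← Subgroup.orderOf_coe]
    have a2 : r ∣ (fittingHall ↥N).index := by
      rw [Subgroup.index_eq_card]
      exact hrd.trans (orderOf_dvd_natCard _)
    rw [h3] at a2
    exact h1.2.2 r hr (hc r hr a1) a2
  exact ⟨_, h4, rfl⟩

theorem coprime_of_inf_fhOf {X : Subgroup G} (hX : X ≤ N) (h : X ⊓ fittingHallOf N = ⊥) :
    (Nat.card X).Coprime (Nat.card (fittingHallOf N)) := by
  refine Nat.coprime_of_dvd fun r hr h1 h2 => ?_
  have : Fact r.Prime := ⟨hr⟩
  obtain ⟨x, hx⟩ := exists_prime_orderOf_dvd_card' r h1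
  have hx' : orderOf (x : G) = r := by rw [Subgroup.orderOf_coe, hx]
  have h3 : (x : G) ∈ fittingHallOf N := by
    refine mem_fhOf_of_order (hX x.2) fun s hs hsd => ?_
    rw [hx', Nat.prime_dvd_prime_iff_eq hs hr] at hsd
    rw [hsd]; exact h2
  have h4 : (x : G) ∈ X ⊓ fittingHallOf N := ⟨x.2, h3⟩
  rw [h, Subgroup.mem_bot] at h4
  rw [h4, orderOf_one] at hx'
  exact hr.one_lt.ne hx'

theorem fhOf_ne_bot_of_typeI (hI : IsOfTypeI N) : fittingHallOf N ≠ ⊥ := by
  intro e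
  exact hI.1.2.2.1 ((Subgroup.map_eq_bot_iff_of_injective _ N.subtype_injective).1 e)

/-- elements outside the kernel act freely -/
theorem free_of_frob (hfr : ∀ x ∈ fittingHallOf N, x ≠ 1 → N ⊓ centralizer ({x} : Set G) ≤
    fittingHallOf N) {a : G} (ha : a ∈ N) (ha2 : a ∉ fittingHallOf N) :
    ∀ u ∈ fittingHallOf N, a * u = u * a → u = 1 := by
  intro u hu hc
  by_contra hu1
  exact ha2 (hfr u hu hu1 ⟨ha, mem_cent_singleton.2 hc⟩)

theorem eq_or_of_prime {W X : Subgroup G} (hq : (Nat.card W).Prime) (hX : W ⊓ X ≠ ⊥) : W ≤ X := by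
  have h1 : Nat.card ↥(W ⊓ X) ∣ Nat.card W := Subgroup.card_dvd_of_le inf_le_left
  rcases (Nat.dvd_prime hq).1 h1 with h | h
  · exact absurd (Subgroup.card_eq_one.1 h) hX
  · exact inf_eq_left.1 (Subgroup.eq_of_le_of_card_ge inf_le_left h.ge)

include hG in
/-- `U ≤ L_F` and `W₁ ∩ L_F = 1`. -/
theorem IsPair.U_le_H (h : IsPair S T W₁ W₂ U V) (hI : IsOfTypeI N)
    (hfr : ∀ x ∈ fittingHallOf N, x ≠ 1 → N ⊓ centralizer ({x} : Set G) ≤ fittingHallOf N)
    (hNU : nz U ≤ N) : U ≤ fittingHallOf N ∧ W₁ ⊓ fittingHallOf N = ⊥ := by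
  have hUN : U ≤ N := le_normalizer.trans hNU
  have hWN : W₁ ≤ N := h.hSP.U_normal.trans hNU
  have hnH := le_normalizer_fhOf N
  have hH1 := fhOf_ne_bot_of_typeI hI
  have hHn := fhOf_nilpotent N
  have hHs : Group.IsSolvable (fittingHallOf N) := inferInstance
  have hU : U ≤ fittingHallOf N := by
    by_cases hi : U ⊓ fittingHallOf N = ⊥
    · exfalso
      have hWi : W₁ ⊓ fittingHallOf N = ⊥ := by
        by_contra hne
        have hW := eq_or_of_prime (h.q_prime hG) hne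
        have h1 : ⁅U, W₁⁆ ≤ fittingHallOf N := by
          rw [Subgroup.commutator_le]
          intro a ha b hb
          rw [commutatorElement_def]
          exact mul_mem (mem_conj_of_nz (hnH (hUN ha)) (hW hb)) (inv_mem (hW hb))
        rw [commutator_U_W₁ h.hSP] at h1
        rw [inf_eq_left.2 h1] at hi
        exact h.U_ne hG hi
      have c1 := coprime_of_inf_fhOf hUN hi
      have c2 := coprime_of_inf_fhOf hWN hWi
      have c3 : (Nat.card ↥(U ⊔ W₁)).Coprime (Nat.card (fittingHallOf N)) := by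
        rw [U_sup_W₁_card h.hSP]; exact Nat.Coprime.mul_left c1 c2
      have hi3 := H1.inf_eq_bot_of_card_coprime c3
      refine no_frob_fpf (h.U_ne hG) h.hSP.W₁_ne h.hSP.U_normal h.hSP.coprime_UW₁
        (fun e he he1 u hu hc => fix_W₁_U h.hSP he he1 hu hc) hH1 hHs
        ((sup_le hUN hWN).trans hnH) c3 ?_
      intro a ha ha1
      refine free_of_frob hfr (sup_le hUN hWN ha) ?_
      intro haH
      have : a ∈ (U ⊔ W₁) ⊓ fittingHallOf N := ⟨ha, haH⟩
      rw [hi3, Subgroup.mem_bot] at this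
      exact ha1 this
    · obtain ⟨x, hx, hx1⟩ := exists_ne_one hi
      intro u hu
      exact hfr x hx.2 hx1 ⟨hUN hu, mem_cent_singleton.2 (mulComm_iff.1 (h.U_comm hG) u hu x hx.1)⟩
  refine ⟨hU, ?_⟩
  by_contra hne
  have hW := eq_or_of_prime (h.q_prime hG) hne
  have h1 := nil_cent hHn hU hW h.hSP.coprime_UW₁
  apply h.U_ne hG
  obtain ⟨w, hw, hw1⟩ := exists_ne_one h.hSP.W₁_ne
  rw [Subgroup.eq_bot_iff_forall]
  intro u hu
  exact fix_W₁_U h.hSP hw hw1 hu (mem_cent_iff.1 (h1 hu) w hw).symm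

include hG in
theorem IsPair.compl_L (h : IsPair S T W₁ W₂ U V) (hN : IsCoatom N) (hI : IsOfTypeI N)
    (hfr : ∀ x ∈ fittingHallOf N, x ≠ 1 → N ⊓ centralizer ({x} : Set G) ≤ fittingHallOf N)
    (hNU : nz U ≤ N) :
    (fittingHallOf N ⊓ W₁ = ⊥ ∧ fittingHallOf N ⊔ W₁ = N) ∨
      ∃ y ∈ fittingHallOf T, fittingHallOf N ⊓ (W₁ ⊔ cj y W₂) = ⊥ ∧
        fittingHallOf N ⊔ (W₁ ⊔ cj y W₂) = N := by
  obtain ⟨hUH, hWH⟩ := h.U_le_H hG hI hfr hNU
  have hWN : W₁ ≤ N := h.hSP.U_normal.trans hNU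
  have hNs : Group.IsSolvable N := coatom_sol hG hN
  have hnH := le_normalizer_fhOf N
  have hH1 := fhOf_ne_bot_of_typeI hI
  have hHn := fhOf_nilpotent N
  have hHs : Group.IsSolvable (fittingHallOf N) := inferInstance
  have hcW := coprime_of_inf_fhOf hWN hWH
  set H := fittingHallOf N with hHdef
  obtain ⟨E, hE, hWE⟩ := exists_hallOf_ge (π := {p | ¬ p ∣ Nat.card H}) hNs hWN (by
    intro p hp hpd hpH
    exact hp.one_lt.ne' (Nat.eq_one_of_dvd_coprimes hcW hpd hpH))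
  have hc : IsComplIn H E N := by
    have := (IsPiHallOf.isComplIn (fun p hp => (show (p ∈ {p | ¬ p ∣ Nat.card H} ↔
      p ∉ {p | p ∣ Nat.card H}) from Iff.rfl)) (fhOf_hall N) hE).1
    exact this
  have hEH : (Nat.card E).Coprime (Nat.card H) := by
    apply coprime_of_inf_fhOf hE.1
    rw [inf_comm]; exact hc.2.2.1
  have hfree : ∀ a ∈ E, a ≠ 1 → ∀ u ∈ H, a * u = u * a → u = 1 := by
    intro a ha ha1
    refine free_of_frob hfr (hE.1 ha) ?_
    intro haH
    have : a ∈ H ⊓ E := ⟨haH, ha⟩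
    rw [hc.2.2.1, Subgroup.mem_bot] at this
    exact ha1 this
  have hEnz : E ≤ nz W₁ := fpf_prime_normal (odd_sub hG E) hH1 hHs (hE.1.trans hnH) hfree hEH hWE
    (h.q_prime hG)
  obtain ⟨k1, k2⟩ := h.symm.nz_W₂ hG
  rw [k1, k2] at hEnz
  set Q := fittingHallOf T with hQ
  have hQea := (h.symm.P_struct hG).1
  have hW₁Q : W₁ ≤ Q := h.hTP.W₂_le_H
  -- E ⊓ Q = W₁
  have hEQ : E ⊓ Q = W₁ := by
    have hcyc : IsCyclic ↥(E ⊓ Q) := H20.isCyclic_of_fpf_comm hH1 (inf_le_left.trans (hE.1.trans hnH))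
      (fun a ha => hfree a ha.1)
      (Nat.Coprime.coprime_dvd_left (Subgroup.card_dvd_of_le inf_le_left) hEH)
      (fun a ha b hb => mulComm_iff.1 hQea.1 a ha.2 b hb.2)
    symm
    refine Subgroup.eq_of_le_of_card_ge (le_inf hWE hW₁Q) ?_
    obtain ⟨g, hg⟩ := hcyc.exists_generator
    have h1 : Nat.card ↥(E ⊓ Q) = orderOf g := (orderOf_eq_card_of_forall_mem_zpowers hg).symm
    rw [h1]
    refine Nat.le_of_dvd Nat.card_pos (orderOf_dvd_of_pow_eq_one ?_)
    apply Subtype.ext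
    have := hQea.2 _ g.2.2
    exact this
  have hEcard : Nat.card E ∣ Nat.card W₁ * Nat.card W₂ := by
    have hEnQ : E ≤ nz Q := by
      refine hEnz.trans (sup_le le_normalizer ?_)
      exact h.hTP.W₁_le.trans (le_normalizer_fhOf T)
    have e1 := H1.card_sup_mul_card_inf_of_le_normalizer (H := Q) (K := E) hEnQ
    have e2 : Nat.card ↥(Q ⊔ E) ∣ Nat.card Q * Nat.card W₂ := by
      have e3 : IsComplIn Q W₂ (Q ⊔ W₂) := by
        refine complIn_of_sup (h.hTP.W₁_le.trans (le_normalizer_fhOf T)) ?_ rfl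
        exact H1.inf_eq_bot_of_card_coprime h.hTP.coprime_HW₁
      rw [complIn_card e3]
      exact Subgroup.card_dvd_of_le (sup_le le_sup_left hEnz)
    rw [inf_comm, hEQ] at e1
    have e4 : Nat.card Q * Nat.card E ∣ Nat.card Q * (Nat.card W₁ * Nat.card W₂) := by
      rw [← e1]
      have := mul_dvd_mul_right e2 (Nat.card W₁)
      have e5 : Nat.card Q * Nat.card W₂ * Nat.card W₁ = Nat.card Q * (Nat.card W₁ * Nat.card W₂) := by
        ring
      rwa [e5] at this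
    exact (Nat.mul_dvd_mul_iff_left Nat.card_pos).1 e4
  have hWEc : Nat.card W₁ ∣ Nat.card E := Subgroup.card_dvd_of_le hWE
  obtain ⟨k, hk⟩ := hWEc
  rw [hk] at hEcard
  have hk2 : k ∣ Nat.card W₂ := (Nat.mul_dvd_mul_iff_left Nat.card_pos).1 hEcard
  rcases (Nat.dvd_prime (h.p_prime hG)).1 hk2 with rfl | rfl
  · left
    rw [mul_one] at hk
    have hEW : W₁ = E := Subgroup.eq_of_le_of_card_ge hWE hk.le
    rw [hEW]
    exact ⟨hc.2.2.1, complIn_sup hc⟩
  · right
    have hpF : Fact (Nat.card W₂).Prime := ⟨h.p_prime hG⟩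
    have hqF : Fact (Nat.card W₁).Prime := ⟨h.q_prime hG⟩
    -- Sylow p-subgroup of E
    have hEs : Group.IsSolvable E := H1.isSolvable_of_le hE.1 hNs
    obtain ⟨R, hR⟩ := hallOf_exists hEs {p | p ∣ Nat.card W₂}
    have hcop := h.pq_coprime
    have hRc : Nat.card R = Nat.card W₂ := by
      have := (hallOf_card_iff (π := {p | p ∣ Nat.card W₂}) (M := E) (H := R) (m := Nat.card W₂)
        (k := Nat.card W₁) (by rw [hk, mul_comm]) (fun p hp hd => hd)
        (fun p hp hd hd2 => hp.one_lt.ne' (Nat.eq_one_of_dvd_coprimes hcop hd2 hd))).1 hR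
      exact this.2
    have hW₂hall : IsPiHallOf {p | p ∣ Nat.card W₂} W₂ (Q ⊔ W₂) := by
      have e3 : IsComplIn Q W₂ (Q ⊔ W₂) := by
        refine complIn_of_sup (h.hTP.W₁_le.trans (le_normalizer_fhOf T)) ?_ rfl
        exact H1.inf_eq_bot_of_card_coprime h.hTP.coprime_HW₁
      refine ⟨le_sup_right, fun p _ hd => hd, fun p hp hd hi => ?_⟩
      rw [complIn_relIndex_right e3] at hi
      exact hp.one_lt.ne' (Nat.eq_one_of_dvd_coprimes h.hTP.coprime_HW₁ hi hd)
    have hsol : Group.IsSolvable ↥(Q ⊔ W₂) :=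
      H1.isSolvable_of_le (sup_le (fhOf_le T) h.hTP.W₁_le) (h.T_sol hG)
    have hR2 : IsPiHallOf {p | p ∣ Nat.card W₂} R (Q ⊔ W₂) :=
      IsPiHallOf.of_card hW₂hall (hR.1.trans hEnz) hRc
    obtain ⟨g, hg, e⟩ := IsPiHallOf.conj hsol hR2 hW₂hall
    obtain ⟨y, hy, w, hw, rfl⟩ := (H1.mem_sup_iff_of_le_normalizer
      (h.hTP.W₁_le.trans (le_normalizer_fhOf T))).1 hg
    rw [← L.cj_cj, L.cj_eq_self_of_mem hw] at e
    refine ⟨y, hy, ?_⟩
    have hle : W₁ ⊔ cj y W₂ ≤ E := sup_le hWE (e ▸ hR.1)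
    have hEq : W₁ ⊔ cj y W₂ = E := by
      refine Subgroup.eq_of_le_of_card_ge hle ?_
      rw [hk]
      refine Nat.le_of_dvd Nat.card_pos ?_
      refine Nat.Coprime.mul_dvd_of_dvd_of_dvd hcop (Subgroup.card_dvd_of_le le_sup_left) ?_
      rw [← L.card_cj y W₂]
      exact Subgroup.card_dvd_of_le le_sup_right
    rw [hEq]
    exact ⟨hc.2.2.1, complIn_sup hc⟩

end Cfsg.Agent.PF
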