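import Cfsg.Agent.PF.Num6
import Cfsg.Agent.PF.G6N
import Cfsg.Agent.PF.NormU2
import Cfsg.Agent.H21.OT15a

set_option autoImplicit false

/-! S1544: assembly (lead). -/

namespace Cfsg.Agent.PF

open Subgroup
open Cfsg.Agent.L (cj nz SylIn)
open Cfsg.Agent.OOT
open Cfsg.Agent.H21

universe u
variable {G : Type u} [Group G] [Finite G]
variable {S T W₁ W₂ U V : Subgroup G} (hG : IsMinSimpleOddOrder G)

include hG in
theorem IsPair.U_cyclic (h : IsPair S T W₁ W₂ U V) : IsCyclic U := by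
  obtain ⟨g, hg, h1⟩ := (h.hbar' hG).gal_cyclic (h.gal hG)
  rw [h.CU_eq_bot hG] at h1
  refine ⟨⟨⟨g, hg⟩, fun x => ?_⟩⟩
  obtain ⟨k, hk⟩ := h1 x x.2
  rw [Subgroup.mem_bot, mul_inv_eq_one] at hk
  exact ⟨k, Subtype.ext (by push_cast; rw [zpow_natCast]; exact hk.symm)⟩

include hG in
theorem IsPair.U_free (h : IsPair S T W₁ W₂ U V) {u : G} (hu : u ∈ U) (hu1 : u ≠ 1) {x : G}
    (hx : x ∈ fittingHallOf S) (hc : u * x = x * u) : x = 1 := by
  have h1 := (h.hbar' hG).gal_free (h.gal hG) hu (by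
    rw [h.CU_eq_bot hG]; exact hu1) hx (by
    rw [hc, mul_inv_cancel_right, mul_inv_cancel]; exact one_mem _)
  exact h1

include hG in
theorem IsPair.U_coprime (h : IsPair S T W₁ W₂ U V) :
    (Nat.card U).Coprime (Nat.card W₂ - 1) := by
  have := (h.hbar' hG).gal_coprime (h.gal hG)
  rwa [h.relU hG] at this

include hG in
theorem IsPair.isUV (h : IsPair S T W₁ W₂ U V) (hlt : Nat.card W₁ < Nat.card W₂) :
    G6.UV (Nat.card W₂) (Nat.card W₁) (Nat.card U) (Nat.card V) := by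
  have hq := h.q_prime hG
  refine ⟨h.p_prime hG, hq, h.q_ge hG, hlt, (h.U_card hG).1, (h.U_card hG).2, ?_⟩
  exact (h.symm.U_card hG).1 (by rw [Nat.mod_eq_of_lt hlt]; exact hq.one_lt.ne')

/-- the facts (A)–(F) about the type I maximal subgroups -/
structure LFacts (S T W₁ W₂ U V : Subgroup G) (rr ss : Subgroup G → ℤ) : Prop where
  B : ∀ {L : Subgroup G}, IsCoatom L → IsOfTypeI L →
    G6.grid (Nat.card W₂) (Nat.card W₁) (rr L) (ss L) ≤ ((fittingHallOf L).relIndex L : ℤ) - 1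
  Cs : ∀ {L : Subgroup G}, IsCoatom L → IsOfTypeI L → Even (ss L) →
    (Nat.card (fittingHallOf L) - 1) * Nat.card W₁ ≤
      (fittingHallOf L).relIndex L * (Nat.card U - 1)
  Cr : ∀ {L : Subgroup G}, IsCoatom L → IsOfTypeI L → Even (rr L) →
    (Nat.card (fittingHallOf L) - 1) * Nat.card W₂ ≤
      (fittingHallOf L).relIndex L * (Nat.card V - 1)
  D : ∀ {L : Subgroup G}, IsCoatom L → IsOfTypeI L →
    (fittingHallOf L).relIndex L ≤ Nat.card W₂ * Nat.card W₁ → Odd (rr L) → Odd (ss L) →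
    ∃ g t aT : ℝ, 0 < t ∧ t ≤ g ∧ aT ≤ 1 / Nat.card W₂ - 1 / t ∧
      G6.Dens (Nat.card W₂) (Nat.card W₁) (Nat.card U) (Nat.card (fittingHallOf L))
        ((fittingHallOf L).relIndex L) g aT (Nat.card W₁)
  E : ∀ {L : Subgroup G}, IsCoatom L → IsOfTypeI L → IsOfTypeIII T → Odd (ss L) →
    Nat.card (fittingHallOf L) - 1 ≤
        (fittingHallOf L).relIndex L * (Nat.card W₂ - Nat.card W₁) ∨
      Nat.card V - 1 ≤ Nat.card W₂ * ((fittingHallOf L).relIndex L - Nat.card W₂)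
  F : ∀ {L L' : Subgroup G}, IsCoatom L → IsOfTypeI L → IsCoatom L' → IsOfTypeI L' →
    (∀ g : G, L' ≠ cj g L) →
    (Nat.card (fittingHallOf L) : ℤ) - 1 ≤ (fittingHallOf L).relIndex L *
        (((fittingHallOf L').relIndex L' : ℤ) - 1 -
          G6.grid (Nat.card W₂) (Nat.card W₁) (rr L') (ss L')) ∨
      (Nat.card (fittingHallOf L') : ℤ) - 1 ≤ (fittingHallOf L').relIndex L' *
        (((fittingHallOf L).relIndex L : ℤ) - 1 -
          G6.grid (Nat.card W₂) (Nat.card W₁) (rr L) (ss L))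

/-- a maximal subgroup containing `N(U)` -/
theorem exists_coatom_nz (hG : IsMinSimpleOddOrder G) {M : Subgroup G} (hM : IsCoatom M)
    (hU : U ≠ ⊥) (hUM : U ≤ M) : ∃ L : Subgroup G, IsCoatom L ∧ nz U ≤ L := by
  rcases eq_top_or_exists_le_coatom (nz U) with h | ⟨L, hL, hL2⟩
  · exfalso
    have hn : U.Normal := Subgroup.normalizer_eq_top_iff.1 h
    have := hG.2.1
    rcases hn.eq_bot_or_eq_top with e | e
    · exact hU e
    · rw [e, top_le_iff] at hUM
      exact hM.1 hUM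
  · exact ⟨L, hL, hL2⟩

variable {N : Subgroup G}

theorem relIndex_of_compl {H E : Subgroup G} (hH : N ≤ nz H) (hi : H ⊓ E = ⊥) (hs : H ⊔ E = N) :
    H.relIndex N = Nat.card E := by
  have hE : E ≤ nz H := (hs ▸ le_sup_right : E ≤ N).trans hH
  have h1 := H1.card_sup_mul_card_inf_of_le_normalizer (H := H) (K := E) hE
  rw [hi, Subgroup.card_bot, mul_one, hs] at h1
  have h2 := L.card_mul_relIndex (T := H) (U := N) (hs ▸ le_sup_left)
  rw [h1] at h2
  exact Nat.eq_of_mul_eq_mul_left Nat.card_pos h2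

theorem card_W_sup (h : IsTypePWith S W₁ U W₂) :
    Nat.card ↥(W₁ ⊔ W₂) = Nat.card W₁ * Nat.card W₂ := by
  have hs := h.selfNormalizing
  have h1 := H1.card_sup_mul_card_inf_of_le_normalizer (H := W₁) (K := W₂) (by
    intro b hb
    rw [L.mem_nz_iff]
    refine L.eq_of_le_of_card_le ?_ (by rw [L.card_cj])
    intro x hx
    rw [mem_cj] at hx
    have e := hs.2.2.2.1 _ hx b hb
    have e2 : x = b⁻¹ * x * b := by
      have e3 : b⁻¹ * x * b * b = b * (b⁻¹ * x * b) := e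
      have e4 : b⁻¹ * x * b * b = x * b := by rw [e3]; group
      exact (mul_right_cancel e4).symm
    rw [e2]; exact hx)
  rw [hs.2.2.1, Subgroup.card_bot, mul_one] at h1
  exact h1

include hG in
theorem IsPair.L_cases (h : IsPair S T W₁ W₂ U V) (hII : IsOfTypeII S) (hN : IsCoatom N)
    (hNU : nz U ≤ N) : IsOfTypeI N ∧ U ≤ fittingHallOf N ∧
      ((fittingHallOf N).relIndex N = Nat.card W₁ ∧ fittingHallOf N ≠ U ∨
        ∃ y ∈ fittingHallOf T, cj y W₂ ≤ N ∧
          (fittingHallOf N).relIndex N = Nat.card W₂ * Nat.card W₁ ∧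
          2 * (Nat.card W₂ * Nat.card W₁) ∣ Nat.card (fittingHallOf N) - 1 ∧
          ∀ a ∈ cj y W₂, a ≠ 1 → ∀ x ∈ fittingHallOf N, a * x = x * a → x = 1) := by
  have hI := h.L_typeI hG hII hN hNU
  have hfr := row1540 hG hN hI
  obtain ⟨hUH, hWH⟩ := h.U_le_H hG hI hfr hNU
  have hnH := le_normalizer_fhOf N
  have hWN : W₁ ≤ N := h.hSP.U_normal.trans hNU
  refine ⟨hI, hUH, ?_⟩
  rcases h.compl_L hG hN hI hfr hNU with ⟨h1, h2⟩ | ⟨y, hy, h1, h2⟩
  · left
    refine ⟨relIndex_of_compl hnH h1 h2, fun e => ?_⟩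
    apply (typeII_of (h.S_sol hG) h.hSP hII).2.2.2.2.1
    refine hNU.trans ?_
    rw [← h2, e]
    exact sup_le h.hSP.U_le h.hSP.W₁_le
  · right
    have hyQ : cj y W₁ = W₁ := by
      have hQ := mulComm_iff.1 (h.symm.P_struct hG).1.1
      refine L.eq_of_le_of_card_le ?_ (by rw [L.card_cj])
      intro x hx
      rw [mem_cj] at hx
      have hx2 := h.hTP.W₂_le_H hx
      have e := hQ _ hx2 y hy
      have e4 : y⁻¹ * x * y * y = x * y := by rw [e]; group
      rw [← mul_right_cancel e4]; exact hx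
    have hcard : Nat.card ↥(W₁ ⊔ cj y W₂) = Nat.card W₂ * Nat.card W₁ := by
      have e : W₁ ⊔ cj y W₂ = cj y (W₁ ⊔ W₂) := by rw [L.cj_sup, hyQ]
      rw [e, L.card_cj, card_W_sup h.hSP, mul_comm]
    have hcN : cj y W₂ ≤ N := by
      rw [← h2]; exact le_sup_right.trans le_sup_right
    have hfree : ∀ a ∈ cj y W₂, a ≠ 1 → ∀ x ∈ fittingHallOf N, a * x = x * a → x = 1 := by
      intro a ha ha1
      refine free_of_frob hfr (hcN ha) fun haH => ha1 ?_
      have : a ∈ fittingHallOf N ⊓ (W₁ ⊔ cj y W₂) := ⟨haH, Subgroup.mem_sup_right ha⟩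
      rwa [h1, Subgroup.mem_bot] at this
    refine ⟨y, hy, hcN, ?_, ?_, hfree⟩
    · rw [relIndex_of_compl hnH h1 h2, hcard]
    · have hodd := h.odd hG (fittingHallOf N)
      have hp : Fact (Nat.card W₂).Prime := ⟨h.p_prime hG⟩
      have hq : Fact (Nat.card W₁).Prime := ⟨h.q_prime hG⟩
      have d1 : Nat.card W₁ ∣ Nat.card (fittingHallOf N) - 1 := by
        obtain ⟨w, hw, hw1⟩ := exists_ne_one h.hSP.W₁_ne
        refine dvd_card_sub_one (x := w) (hnH (hWN hw)) ?_ ?_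
        · have := pow_card_eq_one' (x := (⟨w, hw⟩ : W₁))
          exact congrArg Subtype.val this
        · refine free_of_frob hfr (hWN hw) fun haH => hw1 ?_
          have : w ∈ W₁ ⊓ fittingHallOf N := ⟨hw, haH⟩
          rwa [hWH, Subgroup.mem_bot] at this
      have d2 : Nat.card W₂ ∣ Nat.card (fittingHallOf N) - 1 := by
        obtain ⟨w, hw, hw1⟩ := exists_ne_one (H := cj y W₂)
          (fun e => h.hTP.W₁_ne (cj_eq_bot.1 e))
        refine dvd_card_sub_one (x := w) (hnH (hcN hw)) ?_ (hfree w hw hw1)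
        have := pow_card_eq_one' (x := (⟨w, hw⟩ : cj y W₂))
        rw [L.card_cj] at this
        exact congrArg Subtype.val this
      have d3 : 2 ∣ Nat.card (fittingHallOf N) - 1 := by
        obtain ⟨k, hk⟩ := hodd
        exact ⟨k, by omega⟩
      have c1 : Nat.Coprime 2 (Nat.card W₂ * Nat.card W₁) := by
        apply Odd.coprime_two_left
        exact (h.odd hG W₂).mul (h.odd hG W₁)
      exact c1.mul_dvd_of_dvd_of_dvd d3 (h.pq_coprime.symm.mul_dvd_of_dvd_of_dvd d2 d1)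

end Cfsg.Agent.PF
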