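import Cfsg.Agent.H23.Coprime3
import Cfsg.Agent.H2.Frat
import Cfsg.Agent.H1.Cores

set_option autoImplicit false

/-! The group lemma for S1544 (helper11). -/

namespace Cfsg.Agent.PF

open Subgroup

universe u
variable {G : Type u} [Group G] [Finite G]

/-- a group of prime order acting freely -/
theorem gl_card_modEq {X A : Subgroup G} {p : ℕ} (hp : p.Prime) (hA : Nat.card A = p)
    (hAX : A ≤ normalizer (X : Set G))
    (hfree : ∀ a ∈ A, a ≠ 1 → ∀ x ∈ X, a * x = x * a → x = 1) : Nat.card X ≡ 1 [MOD p] := by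
  haveI : Fact p.Prime := ⟨hp⟩
  let act : MulAction A X :=
    { smul := fun a x => ⟨a * x * (a : G)⁻¹, (Subgroup.mem_normalizer_iff.1 (hAX a.2) x).1 x.2⟩
      one_smul := fun x => Subtype.ext (by
        show ((1 : A) : G) * x * ((1 : A) : G)⁻¹ = x
        simp)
      mul_smul := fun a b x => Subtype.ext (by
        show ((a * b : A) : G) * x * ((a * b : A) : G)⁻¹ = a * (b * x * (b : G)⁻¹) * (a : G)⁻¹
        push_cast
        group) }
  have hsm : ∀ (a : A) (x : X), ((a • x : X) : G) = a * x * (a : G)⁻¹ := fun _ _ => rfl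
  have hpA : IsPGroup p A := IsPGroup.of_card (n := 1) (by rw [hA, pow_one])
  have h1 := hpA.card_modEq_card_fixedPoints X
  obtain ⟨a, ha⟩ : ∃ a : A, a ≠ 1 := by
    have : 1 < Nat.card A := by rw [hA]; exact hp.one_lt
    have := Finite.one_lt_card_iff_nontrivial.1 this
    exact exists_ne 1
  have h2 : Nat.card (MulAction.fixedPoints A X) = 1 := by
    rw [Nat.card_eq_one_iff_unique]
    refine ⟨⟨?_⟩, ⟨⟨1, ?_⟩⟩⟩
    · rintro ⟨x, hx⟩ ⟨y, hy⟩
      have key : ∀ z : X, z ∈ MulAction.fixedPoints A X → z = 1 := by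
        intro z hz
        have h3 := congrArg Subtype.val (hz a)
        rw [hsm] at h3
        apply Subtype.ext
        refine hfree a a.2 (fun h => ha (Subtype.ext h)) z z.2 ?_
        calc (a : G) * z = a * z * (a : G)⁻¹ * a := by group
          _ = z * a := by rw [h3]
      rw [Subtype.mk.injEq, key x hx, key y hy]
    · intro b
      apply Subtype.ext
      rw [hsm]; simp
  rw [h2] at h1
  exact h1

/-- (GL) -/
theorem group_lemma {H A U : Subgroup G} {p : ℕ} (hp : p.Prime) (hA : Nat.card A = p)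
    (hH : Group.IsNilpotent H) (hAH : A ≤ normalizer (H : Set G))
    (hfree : ∀ a ∈ A, a ≠ 1 → ∀ x ∈ H, a * x = x * a → x = 1) (hU : U ≤ H) (hUc : IsCyclic U)
    (hU1 : U ≠ ⊥) (hr : ∀ r : ℕ, r.Prime → r ∣ Nat.card U → ¬ r ∣ p - 1)
    (hb : Nat.card H - 1 ≤ p * (Nat.card U - 1)) : H = U := by
  by_contra hne
  have hUpos : 0 < Nat.card U := Nat.card_pos
  have hHpos : 0 < Nat.card H := Nat.card_pos
  -- the index
  have hcd : Nat.card U * U.relIndex H = Nat.card H := by
    exact H1.card_mul_relIndex hU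
  have hidx : U.relIndex H < p := by
    by_contra hcon
    push Not at hcon
    have h1 : Nat.card U * p ≤ Nat.card H := by
      rw [← hcd]; exact Nat.mul_le_mul_left _ hcon
    have h2 : p * (Nat.card U - 1) = Nat.card U * p - p := by
      rw [Nat.mul_sub, mul_one, mul_comm]
    have h3 : p ≤ Nat.card U * p := Nat.le_mul_of_pos_left _ hUpos
    have h4 := hp.two_le
    omega
  have hidx1 : U.relIndex H ≠ 1 := fun h => hne (le_antisymm (Subgroup.relIndex_eq_one.1 h) hU)
  obtain ⟨r, hrp, hrd⟩ := Nat.exists_prime_and_dvd hidx1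
  haveI : Fact r.Prime := ⟨hrp⟩
  obtain ⟨R⟩ : Nonempty (Sylow r H) := inferInstance
  have hRn : (R : Subgroup H).Normal := by
    exact (H1.isNilpotent_iff_sylow_normal.1 hH) r ⟨hrp⟩ R
  haveI hRc : (R : Subgroup H).Characteristic := R.characteristic_of_normal hRn
  obtain ⟨K, hK⟩ : ∃ K, K = (R : Subgroup H).map H.subtype := ⟨_, rfl⟩
  have hKH : K ≤ H := hK ▸ Subgroup.map_subtype_le _
  have hKcard : Nat.card K = Nat.card (R : Subgroup H) := by
    rw [hK]
    exact (Nat.card_congr ((R : Subgroup H).equivMapOfInjective _ H.subtype_injective).toEquiv).symm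
  have hKp : IsPGroup r K := by
    rw [hK]; exact R.2.map _
  have hAK : A ≤ normalizer (K : Set G) := by
    rw [hK]
    exact hAH.trans (H23.normalizer_le_normalizer_map (R : Subgroup H))
  have hKU : ¬ K ≤ U := by
    intro h
    have h1 : (R : Subgroup H) ≤ U.subgroupOf H := by
      intro x hx
      rw [Subgroup.mem_subgroupOf]
      apply h
      rw [hK]
      exact ⟨x, hx, rfl⟩
    have h2 : (U.subgroupOf H).index ∣ (R : Subgroup H).index := Subgroup.index_dvd_of_le h1
    exact R.not_dvd_index (hrd.trans h2)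
  have hK1 := gl_card_modEq hp hA hAK fun a ha ha1 x hx => hfree a ha ha1 x (hKH hx)
  -- the Frattini subgroup
  obtain ⟨F, hF⟩ : ∃ F : Subgroup K, F = frattini K := ⟨_, rfl⟩
  haveI hFc : F.Characteristic := by rw [hF]; infer_instance
  have hFn : F.Normal := inferInstance
  have hAF : A ≤ normalizer ((F.map K.subtype : Subgroup G) : Set G) :=
    hAK.trans (H23.normalizer_le_normalizer_map F)
  have hFcard : Nat.card (F.map K.subtype) = Nat.card F :=
    (Nat.card_congr (F.equivMapOfInjective _ K.subtype_injective).toEquiv).symm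
  have hF1 := gl_card_modEq hp hA hAF fun a ha ha1 x hx => hfree a ha ha1 x
    (hKH (Subgroup.map_subtype_le _ hx))
  rw [hFcard] at hF1
  have hFi : F.index ≡ 1 [MOD p] := by
    have h1 := F.card_mul_index
    have h2 : Nat.card F * F.index ≡ 1 * F.index [MOD p] := Nat.ModEq.mul_right _ hF1
    rw [h1, one_mul] at h2
    exact h2.symm.trans hK1
  -- orders
  obtain ⟨k, hk⟩ := hKp.exists_card_eq
  obtain ⟨m, -, hm⟩ : ∃ m ≤ k, F.index = r ^ m := by
    rw [← Nat.dvd_prime_pow hrp, ← hk]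
    exact F.index_dvd_card
  have hKne : K ≠ ⊥ := fun h => hKU (h ▸ bot_le)
  haveI hKnt : Nontrivial K := (Subgroup.nontrivial_iff_ne_bot K).2 hKne
  have hm0 : m ≠ 0 := by
    rintro rfl
    rw [pow_zero, Subgroup.index_eq_one, hF] at hm
    have h1 : (⊥ : Subgroup K) = ⊤ := H2.eq_top_of_sup_frattini (by rw [hm, sup_top_eq])
    exact bot_ne_top h1
  -- the index of `U ∩ K`
  obtain ⟨d, hd⟩ : ∃ d, d = U.relIndex K := ⟨_, rfl⟩
  have hdlt : d < p := by
    rw [hd]
    refine lt_of_le_of_lt (Subgroup.relIndex_le_of_le_right hKH ?_) hidx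
    exact Subgroup.index_ne_zero_of_finite
  have hdne : d ≠ 1 := fun h => hKU (Subgroup.relIndex_eq_one.1 (hd ▸ h))
  obtain ⟨j, -, hj⟩ : ∃ j ≤ k, d = r ^ j := by
    rw [← Nat.dvd_prime_pow hrp, ← hk, hd]
    exact (U.subgroupOf K).index_dvd_card
  have hj0 : j ≠ 0 := by
    rintro rfl
    exact hdne (by rw [hj, pow_zero])
  have hrd' : r ≤ d := by
    rw [hj]; exact Nat.le_self_pow hj0 r
  have hrlt : r < p := lt_of_le_of_lt hrd' hdlt
  -- `r ^ m ≤ r * d`
  have hle : r ^ m ≤ r * d := by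
    obtain ⟨V, hV⟩ : ∃ V, V = U.subgroupOf K := ⟨_, rfl⟩
    have hVd : V.index = d := by rw [hV, hd]; rfl
    have h1 : F.relIndex (V ⊔ F) * (V ⊔ F).index = F.index :=
      Subgroup.relIndex_mul_index le_sup_right
    have h2 : F.relIndex (V ⊔ F) = F.relIndex V := Subgroup.relIndex_sup_right V F
    have h3 : (V ⊔ F).index ≤ d := by
      rw [← hVd]
      exact Nat.le_of_dvd (Nat.pos_of_ne_zero Subgroup.index_ne_zero_of_finite)
        (Subgroup.index_dvd_of_le le_sup_left)
    have h4 : F.relIndex V ≤ r := by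
      have h5 : (QuotientGroup.mk' F).ker.relIndex V = Nat.card (V.map (QuotientGroup.mk' F)) :=
        Subgroup.relIndex_ker V (QuotientGroup.mk' F)
      rw [QuotientGroup.ker_mk'] at h5
      rw [h5]
      have hVc : IsCyclic V := by
        have h6 : ∀ x : V, ((x : K) : G) ∈ U := fun x => by
          have h6' : (x : K) ∈ U.subgroupOf K := hV.le x.2
          exact Subgroup.mem_subgroupOf.1 h6'
        let e : V →* U :=
          { toFun := fun x => ⟨((x : K) : G), h6 x⟩
            map_one' := rfl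
            map_mul' := fun _ _ => rfl }
        refine isCyclic_of_injective e ?_
        intro x y hxy
        have h7 : ((e x : U) : G) = ((e y : U) : G) := congrArg (fun z : U => (z : G)) hxy
        exact Subtype.ext (Subtype.ext h7)
      obtain ⟨v, hv⟩ := hVc.exists_generator
      obtain ⟨v0, h8⟩ : ∃ v0 : K, V = Subgroup.zpowers v0 := by
        refine ⟨(v : K), le_antisymm ?_ ?_⟩
        · intro x hx
          obtain ⟨s, hs⟩ := Subgroup.mem_zpowers_iff.1 (hv ⟨x, hx⟩)
          exact Subgroup.mem_zpowers_iff.2 ⟨s, congrArg Subtype.val hs⟩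
        · rw [Subgroup.zpowers_le]; exact v.2
      have h7 : V.map (QuotientGroup.mk' F) = Subgroup.zpowers (QuotientGroup.mk' F v0) := by
        rw [h8, MonoidHom.map_zpowers]
      rw [h7, Nat.card_zpowers]
      refine orderOf_le_of_pow_eq_one hrp.pos ?_
      rw [← map_pow]
      have h9 : v0 ^ r ∈ F := by
        rw [hF]; exact H2.pow_mem_frattini hKp v0
      exact (QuotientGroup.eq_one_iff _).2 h9
    rw [← hm, ← h1, h2]
    exact Nat.mul_le_mul h4 h3
  have hr2 := hrp.two_le
  -- `m ≥ 2`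
  have hm2 : 2 ≤ m := by
    by_contra hcon
    have hm1 : m = 1 := by omega
    rw [hm1, pow_one] at hm
    rw [hm] at hFi
    have h1 : (r : ℕ) % p = 1 % p := hFi
    rw [Nat.mod_eq_of_lt hrlt, Nat.mod_eq_of_lt hp.one_lt] at h1
    omega
  -- the sum
  obtain ⟨s, hs⟩ : ∃ s : ℤ, s = ∑ i ∈ Finset.range m, (r : ℤ) ^ i := ⟨_, rfl⟩
  have hgs : s * ((r : ℤ) - 1) = (r : ℤ) ^ m - 1 := by rw [hs]; exact geom_sum_mul _ _
  have hpd : (p : ℤ) ∣ s * ((r : ℤ) - 1) := by
    rw [hgs]
    have h1 : r ^ m ≡ 1 [MOD p] := hm ▸ hFi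
    have h2 := (Nat.modEq_iff_dvd.1 h1.symm)
    push_cast at h2
    exact h2
  have hps : (p : ℤ) ∣ s := by
    have hpr : _root_.Prime (p : ℤ) := Nat.prime_iff_prime_int.1 hp
    rcases hpr.dvd_or_dvd hpd with h | h
    · exact h
    · exfalso
      have h1 : (0 : ℤ) < (r : ℤ) - 1 := by
        have : (2 : ℤ) ≤ r := by exact_mod_cast hr2
        linarith
      have h2 := Int.le_of_dvd h1 h
      have h3 : (r : ℤ) < p := by exact_mod_cast hrlt
      linarith
  have hspos : 0 < s := by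
    rw [hs]
    refine Finset.sum_pos (fun i _ => ?_) ⟨0, Finset.mem_range.2 (by omega)⟩
    positivity
  have hs2 : s < 2 * p := by
    by_contra hcon
    push Not at hcon
    have h1 : (r : ℤ) ^ m ≤ r * d := by exact_mod_cast hle
    have h2 : (d : ℤ) < p := by exact_mod_cast hdlt
    have h3 : (2 : ℤ) ≤ r := by exact_mod_cast hr2
    have h4 : (r : ℤ) * d ≤ r * (p - 1) := by
      apply mul_le_mul_of_nonneg_left _ (by linarith)
      linarith
    have h5 : 2 * (p : ℤ) * ((r : ℤ) - 1) ≤ s * ((r : ℤ) - 1) :=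
      mul_le_mul_of_nonneg_right hcon (by linarith)
    have h6 : (0 : ℤ) < p := by exact_mod_cast hp.pos
    have h7 : 0 ≤ (p : ℤ) * ((r : ℤ) - 2) := mul_nonneg h6.le (by linarith)
    rw [hgs] at h5
    have h8 : 2 * (p : ℤ) * ((r : ℤ) - 1) = (p : ℤ) * ((r : ℤ) - 2) + r * p := by ring
    have h9 : (r : ℤ) * (p - 1) = r * p - r := by ring
    linarith
  have hsp : s = p := by
    obtain ⟨t, ht⟩ := hps
    have hp0 : (0 : ℤ) < p := by exact_mod_cast hp.pos
    have h1 : 0 < t := by
      rw [ht] at hspos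
      exact (mul_pos_iff_of_pos_left hp0).1 hspos
    have h2 : t < 2 := by
      rw [ht, mul_comm 2] at hs2
      exact lt_of_mul_lt_mul_left hs2 hp0.le
    have : t = 1 := by omega
    rw [ht, this, mul_one]
  have hrp1 : r ∣ p - 1 := by
    obtain ⟨m', rfl⟩ : ∃ m', m = m' + 1 := ⟨m - 1, by omega⟩
    rw [Finset.sum_range_succ'] at hs
    have h1 : (r : ℤ) ∣ (p : ℤ) - 1 := by
      refine ⟨∑ i ∈ Finset.range m', (r : ℤ) ^ i, ?_⟩
      rw [← hsp, hs, Finset.mul_sum]
      have : ∀ i ∈ Finset.range m', (r : ℤ) ^ (i + 1) = r * (r : ℤ) ^ i := fun i _ => by ring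
      rw [Finset.sum_congr rfl this]
      ring
    have h2 : ((p - 1 : ℕ) : ℤ) = (p : ℤ) - 1 := by
      rw [Nat.cast_sub hp.one_lt.le]; norm_num
    rw [← h2] at h1
    exact_mod_cast h1
  refine hr r hrp ?_ hrp1
  -- `r` divides the order of `U`
  by_contra hnd
  have h1 : Nat.Coprime (Nat.card U) (Nat.card K) := by
    rw [hk]
    exact Nat.Coprime.pow_right _ ((Nat.Prime.coprime_iff_not_dvd hrp).2 hnd).symm
  have h2 : U ⊓ K = ⊥ := (Subgroup.disjoint_of_coprime_natCard h1).eq_bot
  have h3 : d = Nat.card K := by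
    rw [hd, ← Subgroup.inf_relIndex_right, h2, Subgroup.relIndex_bot_left]
  have h4 : 1 < Nat.card K := Finite.one_lt_card_iff_nontrivial.2 hKnt
  have h5 : p ∣ Nat.card K - 1 := (Nat.modEq_iff_dvd' h4.le).1 hK1.symm
  have h6 := Nat.le_of_dvd (by omega) h5
  omega

end Cfsg.Agent.PF
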