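import Cfsg.Agent.PF.G6
import Cfsg.Agent.PF.GL

set_option autoImplicit false

/-! S1544: assembly, the contradiction (lead). -/

namespace Cfsg.Agent.PF

open Subgroup
open Cfsg.Agent.L (cj nz SylIn)
open Cfsg.Agent.OOT
open Cfsg.Agent.H21

universe u
variable {G : Type u} [Group G] [Finite G]
variable {S T W₁ W₂ U V N N' : Subgroup G} (hG : IsMinSimpleOddOrder G) {rr ss : Subgroup G → ℤ}

include hG in
/-- (GL) for `U ≤ L_F` -/
theorem IsPair.gl (h : IsPair S T W₁ W₂ U V) {y : G} (hy : cj y W₂ ≤ N)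
    (hUH : U ≤ fittingHallOf N)
    (hfree : ∀ a ∈ cj y W₂, a ≠ 1 → ∀ x ∈ fittingHallOf N, a * x = x * a → x = 1)
    (hne : fittingHallOf N ≠ U) :
    Nat.card W₂ * (Nat.card U - 1) < Nat.card (fittingHallOf N) - 1 := by
  by_contra hcon
  push Not at hcon
  apply hne
  refine group_lemma (A := cj y W₂) (h.p_prime hG) (L.card_cj _ _) (fhOf_nilpotent N)
    (hy.trans (le_normalizer_fhOf N)) hfree hUH (h.U_cyclic hG) (h.U_ne hG) ?_ hcon
  intro r hr h1 h2
  exact hr.one_lt.ne' (Nat.eq_one_of_dvd_coprimes (h.U_coprime hG) h1 h2)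

include hG in
theorem IsPair.nz_not_sub (h : IsPair S T W₁ W₂ U V) {N : Subgroup G} (hUH : U ≤ fittingHallOf N)
    (hn : ¬ N ≤ nz U) : fittingHallOf N ≠ U ∧ ¬ IsCyclic (fittingHallOf N) := by
  constructor
  · intro e
    apply hn
    rw [← e]; exact le_normalizer_fhOf N
  · intro hc
    exact hn (le_nz_of_cyclic hc hUH (le_normalizer_fhOf N))

theorem nat_sub_cast {a : ℕ} (h : 1 ≤ a) : ((a - 1 : ℕ) : ℤ) = (a : ℤ) - 1 := by
  rw [Nat.cast_sub h]; simp

include hG in
/-- **G6** -/
theorem IsPair.g6 (h : IsPair S T W₁ W₂ U V) (hlt : Nat.card W₁ < Nat.card W₂)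
    (F : LFacts S T W₁ W₂ U V rr ss) :
    ∃ y ∈ fittingHallOf T, cj y W₂ ≤ nz U ∧ Nat.card W₂ ∣ Nat.card U - 1 := by
  have hII := h.typeII_of_lt hG hlt
  have hUV := h.isUV hG hlt
  obtain ⟨N, hN, hNU⟩ := exists_coatom_nz hG h.hS (h.U_ne hG) h.hSP.U_le
  obtain ⟨hI, hUH, hcase⟩ := h.L_cases hG hII hN hNU
  have hq3 := hUV.q3
  have hp5 := hUV.p5
  have hu1 := hUV.u_pos
  have hHpos : 1 ≤ Nat.card (fittingHallOf N) := Nat.card_pos
  have hdU : Nat.card U ∣ Nat.card (fittingHallOf N) := Subgroup.card_dvd_of_le hUH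
  have hvu := hUV.vu
  have hB := F.B hN hI
  rcases hcase with ⟨he, hne⟩ | ⟨y, hy, hyN, he, hm, hfree⟩
  · -- `e = q`
    exfalso
    rw [he] at hB
    have hs := G6.s_zero hq3 hlt hB
    have hC := F.Cs hN hI (by rw [hs]; exact ⟨0, rfl⟩)
    rw [he, mul_comm] at hC
    have h1 := Nat.le_of_mul_le_mul_left hC (by omega)
    apply hne
    exact (Subgroup.eq_of_le_of_card_ge hUH (by omega)).symm
  by_cases hn : N ≤ nz U
  · refine ⟨y, hy, hyN.trans hn, ?_⟩
    have hp : Fact (Nat.card W₂).Prime := ⟨h.p_prime hG⟩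
    obtain ⟨w, hw, hw1⟩ := exists_ne_one (H := cj y W₂)
      (fun e => h.hTP.W₁_ne (cj_eq_bot.1 e))
    refine dvd_card_sub_one (x := w) (hn (hyN hw)) ?_
      fun x hx hc => hfree w hw hw1 x (hUH hx) hc
    have := pow_card_eq_one' (x := (⟨w, hw⟩ : cj y W₂))
    rw [L.card_cj] at this
    exact congrArg Subtype.val this
  exfalso
  obtain ⟨hne, hncyc⟩ := h.nz_not_sub hG hUH hn
  have hlow := h.gl hG hyN hUH hfree hne
  -- the density contradiction
  have hdens : ∀ {N : Subgroup G}, IsCoatom N → IsOfTypeI N →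
      (fittingHallOf N).relIndex N = Nat.card W₂ * Nat.card W₁ →
      Nat.card W₂ * (Nat.card U - 1) < Nat.card (fittingHallOf N) - 1 →
      Odd (rr N) → Odd (ss N) → False := by
    intro N hN hI he hlow hr hs
    obtain ⟨g, t, aT, h1, h2, h3, h4⟩ := F.D hN hI he.le hr hs
    rw [he] at h4
    push_cast at h4
    refine hUV.dens ?_ h1 h2 h3 h4
    have hH1 : 1 ≤ Nat.card (fittingHallOf N) := Nat.card_pos
    have h5 : ((Nat.card W₂ * (Nat.card U - 1) : ℕ) : ℝ) <
      ((Nat.card (fittingHallOf N) - 1 : ℕ) : ℝ) := by exact_mod_cast hlow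
    rw [Nat.cast_mul, Nat.cast_sub hu1, Nat.cast_sub hH1] at h5
    push_cast at h5
    exact h5
  -- `s` is odd
  have hs : Odd (ss N) := by
    rw [← Int.not_even_iff_odd]
    intro hev
    have hC := F.Cs hN hI hev
    rw [he] at hC
    have h1 : (Nat.card (fittingHallOf N) - 1) * Nat.card W₁ ≤
        (Nat.card W₂ * (Nat.card U - 1)) * Nat.card W₁ := by
      calc _ ≤ _ := hC
        _ = _ := by ring
    have h2 := Nat.le_of_mul_le_mul_right h1 (by omega)
    omega
  have hr : Even (rr N) := by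
    rw [← Int.not_odd_iff_even]
    intro ho
    exact hdens hN hI he hlow ho hs
  have hCr : Nat.card (fittingHallOf N) - 1 ≤ Nat.card W₁ * (Nat.card V - 1) := by
    have hC := F.Cr hN hI hr
    rw [he] at hC
    have h1 : (Nat.card (fittingHallOf N) - 1) * Nat.card W₂ ≤
        (Nat.card W₁ * (Nat.card V - 1)) * Nat.card W₂ := by
      calc _ ≤ _ := hC
        _ = _ := by ring
    exact Nat.le_of_mul_le_mul_right h1 (by omega)
  rcases h.symm.S23 hG with hTII | hTIII
  swap
  · -- type III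
    rcases F.E hN hI hTIII hs with k | k
    · rw [he] at k
      exact hUV.e1 hlow k
    · rw [he] at k
      refine hUV.e2 ?_
      exact k
  -- type II
  obtain ⟨N', hN', hNV⟩ := exists_coatom_nz hG h.hT (h.symm.U_ne hG) h.hTP.U_le
  obtain ⟨hI', hVH, hcase'⟩ := h.symm.L_cases hG hTII hN' hNV
  have hv1 : 1 ≤ Nat.card V := Nat.card_pos
  have hH'pos : 1 ≤ Nat.card (fittingHallOf N') := Nat.card_pos
  have hB' := F.B hN' hI'
  have hvH : Nat.card V ≤ Nat.card (fittingHallOf N') := Nat.card_le_card_of_injective _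
    (Subgroup.inclusion_injective hVH)
  rcases hcase' with ⟨he', hne'⟩ | ⟨y', hy', hyN', he', hm', hfree'⟩
  · -- `e' = p`
    rw [he'] at hB'
    rcases G6.s_or_r_zero hq3 hlt hB' with hs' | hr'
    · have hC := F.Cs hN' hI' (by rw [hs']; exact ⟨0, rfl⟩)
      rw [he'] at hC
      have h1 : Nat.card W₁ * (Nat.card V - 1) ≤
          (Nat.card (fittingHallOf N') - 1) * Nat.card W₁ := by
        rw [mul_comm]
        exact Nat.mul_le_mul_right _ (by omega)
      omega
    · have hC := F.Cr hN' hI' (by rw [hr']; exact ⟨0, rfl⟩)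
      rw [he', mul_comm] at hC
      have h1 := Nat.le_of_mul_le_mul_left hC (by omega)
      apply hne'
      exact (Subgroup.eq_of_le_of_card_ge hVH (by omega)).symm
  have he'' : (fittingHallOf N').relIndex N' = Nat.card W₂ * Nat.card W₁ := by
    rw [he', mul_comm]
  have hHV : fittingHallOf N' = V := by
    by_contra hne'
    have hlow' := h.symm.gl hG hyN' hVH hfree' hne'
    rcases Int.even_or_odd (rr N') with hr' | hr'
    · have hC := F.Cr hN' hI' hr'
      rw [he''] at hC
      have h1 : (Nat.card (fittingHallOf N') - 1) * Nat.card W₂ ≤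
          (Nat.card W₁ * (Nat.card V - 1)) * Nat.card W₂ := by
        calc _ ≤ _ := hC
          _ = _ := by ring
      have h2 := Nat.le_of_mul_le_mul_right h1 (by omega)
      omega
    · rcases Int.even_or_odd (ss N') with hs' | hs'
      · have hC := F.Cs hN' hI' hs'
        rw [he''] at hC
        have h1 : (Nat.card (fittingHallOf N') - 1) * Nat.card W₁ ≤
            (Nat.card W₂ * (Nat.card U - 1)) * Nat.card W₁ := by
          calc _ ≤ _ := hC
            _ = _ := by ring
        have h2 := Nat.le_of_mul_le_mul_right h1 (by omega)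
        omega
      · exact hdens hN' hI' he'' (by omega) hr' hs'
  have hnc : ∀ g : G, N' ≠ cj g N := by
    rintro g rfl
    rw [← cj_fhOf] at hHV
    apply hncyc
    have hVc := h.symm.U_cyclic hG
    rw [← hHV] at hVc
    exact (MulEquiv.isCyclic
      ((fittingHallOf N).equivMapOfInjective _ (MulAut.conj g).injective)).2 hVc
  rcases F.F hN hI hN' hI' hnc with k | k
  · -- first alternative
    have hg := G6.grid_nonneg (p := Nat.card W₂) (q := Nat.card W₁) (by omega) (by omega)
      (rr N') (ss N')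
    rw [he, he''] at k
    refine hUV.f1 hlow ?_ hdU hm
    have h1 : ((Nat.card (fittingHallOf N) - 1 : ℕ) : ℤ) ≤
        ((Nat.card W₂ * Nat.card W₁ * (Nat.card W₂ * Nat.card W₁ - 1) : ℕ) : ℤ) := by
      have hpq : 1 ≤ Nat.card W₂ * Nat.card W₁ := Nat.mul_pos (by omega) (by omega)
      rw [nat_sub_cast hHpos, Nat.cast_mul (Nat.card W₂ * Nat.card W₁), nat_sub_cast hpq]
      refine k.trans ?_
      apply mul_le_mul_of_nonneg_left _ (by positivity)
      linarith
    exact_mod_cast h1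
  · -- second alternative
    have hg := G6.grid_odd (p := Nat.card W₂) (q := Nat.card W₁) (by omega) (by omega)
      (r := rr N) hs
    rw [he, he'', hHV] at k
    refine hUV.f2 hlow ?_ hCr hdU hm
    have h1 : ((Nat.card V - 1 : ℕ) : ℤ) ≤
        ((Nat.card W₂ * Nat.card W₁ * (Nat.card W₂ * Nat.card W₁ - Nat.card W₂) : ℕ) : ℤ) := by
      have hpq : Nat.card W₂ ≤ Nat.card W₂ * Nat.card W₁ :=
        Nat.le_mul_of_pos_right _ (by omega)
      rw [nat_sub_cast hv1, Nat.cast_mul (Nat.card W₂ * Nat.card W₁), Nat.cast_sub hpq]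
      refine k.trans ?_
      apply mul_le_mul_of_nonneg_left _ (by positivity)
      linarith
    exact_mod_cast h1

end Cfsg.Agent.PF
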