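import Cfsg.Agent.PF.G6b
import Cfsg.Agent.PF.FL

set_option autoImplicit false

/-! S1544 from the facts (A)–(F), FL, GL (lead). -/

namespace Cfsg.Agent.PF

open Subgroup
open Cfsg.Agent.L (cj nz SylIn)
open Cfsg.Agent.OOT
open Cfsg.Agent.H21

universe u
variable {G : Type u} [Group G] [Finite G]
variable {S T W₁ W₂ U V : Subgroup G} (hG : IsMinSimpleOddOrder G) {rr ss : Subgroup G → ℤ}

/-- if `u ≡ 1 mod p` then `p ≢ 1 mod q` -/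
theorem mod_ne_one {p q u : ℕ} (hp : p.Prime) (hq : q.Prime) (hq3 : 3 ≤ q) (hqp : q < p)
    (hu : 1 ≤ u) (hd : p ∣ u - 1) (h : u * q * (p - 1) = p ^ q - 1) : False := by
  have hP : 1 ≤ p ^ q := Nat.one_le_pow _ _ hp.pos
  have h1 : (u : ZMod p) = 1 := by
    have : ((u - 1 : ℕ) : ZMod p) = 0 := (ZMod.natCast_eq_zero_iff _ _).2 hd
    rw [Nat.cast_sub hu, Nat.cast_one, sub_eq_zero] at this
    exact this
  have h2 : ((u * q * (p - 1) : ℕ) : ZMod p) = ((p ^ q - 1 : ℕ) : ZMod p) := by rw [h]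
  rw [Nat.cast_mul, Nat.cast_mul, Nat.cast_sub hp.one_lt.le, Nat.cast_sub hP, Nat.cast_pow,
    ZMod.natCast_self, h1, zero_pow hq.ne_zero] at h2
  have h3 : (q : ZMod p) = 1 := by
    simp only [Nat.cast_one, one_mul, zero_sub, mul_neg, mul_one] at h2
    exact neg_injective h2
  have h4 : ((q - 1 : ℕ) : ZMod p) = 0 := by
    rw [Nat.cast_sub (by omega), h3]; simp
  have h5 := Nat.le_of_dvd (by omega) ((ZMod.natCast_eq_zero_iff _ _).1 h4)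
  omega

include hG in
theorem IsPair.final (h : IsPair S T W₁ W₂ U V) (hqp : Nat.card W₁ < Nat.card W₂)
    (F : LFacts S T W₁ W₂ U V rr ss) : (Nat.card W₁).Prime ∧ (Nat.card W₂).Prime ∧ Cfsg.IsElementaryAbelian (Nat.card W₂) (Cfsg.fittingHallOf S) ∧ Nat.card (Cfsg.fittingHallOf S) = Nat.card W₂ ^ Nat.card W₁ ∧ IsCyclic U ∧ Nat.card U * (Nat.card W₂ - 1) = Nat.card W₂ ^ Nat.card W₁ - 1 ∧ (∀ u ∈ U, u ≠ 1 → ∀ x ∈ Cfsg.fittingHallOf S, u * x = x * u → x = 1) ∧ Nat.Coprime ((Nat.card W₂ ^ Nat.card W₁ - 1) / (Nat.card W₂ - 1)) (Nat.card W₂ - 1) ∧ U ≤ Subgroup.normalizer (Cfsg.fittingHallOf S : Set G) ∧ (Nat.card (Cfsg.fittingHallOf T)).Coprime (Nat.card W₂) ∧ Cfsg.IsElementaryAbelian (Nat.card W₁) (Cfsg.fittingHallOf T) ∧ W₂ ≤ Subgroup.normalizer (Cfsg.fittingHallOf T : Set G) ∧ ∃ y ∈ Cfsg.fittingHallOf T, W₂.map (MulAut.conj y).toMonoidHom ≤ Subgroup.normalizer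 (U : Set G) ∧ ∃ (F : Type) (_ : Field F) (_ : Fintype F) (f : G → F) (ψ : G → F), Fintype.card F = Nat.card W₂ ^ Nat.card W₁ ∧ Set.BijOn f (Cfsg.fittingHallOf S : Set G) Set.univ ∧ (∀ x ∈ Cfsg.fittingHallOf S, ∀ x' ∈ Cfsg.fittingHallOf S, f (x * x') = f x + f x') ∧ (∀ u ∈ U, ψ u ≠ 0 ∧ ∀ x ∈ Cfsg.fittingHallOf S, f (u * x * u⁻¹) = ψ u * f x) ∧ (∀ u ∈ U, ∀ u' ∈ U, ψ (u * u') = ψ u * ψ u') ∧ Set.InjOn ψ (U : Set G) ∧ (∀ x ∈ Cfsg.fittingHallOf S, x ∈ W₂ ↔ f x ^ Nat.card W₂ = f x) := by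
  have hp := h.p_prime hG
  have hq := h.q_prime hG
  obtain ⟨h1, h2⟩ := h.P_struct hG
  obtain ⟨h3, h4⟩ := h.symm.P_struct hG
  obtain ⟨y, hy, hyU, hd⟩ := h.g6 hG hqp F
  have hUV := h.isUV hG hqp
  have hmod : Nat.card W₂ % Nat.card W₁ ≠ 1 := fun e =>
    mod_ne_one hp hq hUV.q3 hqp hUV.u_pos hd (hUV.u_eq e)
  have hU := hUV.u_ne hmod
  refine ⟨hq, hp, h1, h2, h.U_cyclic hG, hU, fun u hu hu1 x hx hc => h.U_free hG hu hu1 hx hc, ?_,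
    h.hSP.U_le.trans (le_normalizer_fhOf S), ?_, h3,
    h.hTP.W₁_le.trans (le_normalizer_fhOf T), y, hy, hyU, ?_⟩
  · exact ((S1546.result _ _ hp hq (h.symm.q_ne_two hG) (h.q_ne_two hG)).2.2 hmod).1
  · rw [h4]
    exact Nat.Coprime.pow_left _ h.pq_coprime
  · exact field_lemma h.hSP hp hq h2 h1 (h.U_comm hG) (h.CU_eq_bot hG)
      fun X hX hXU => h.gal hG X bot_le hX hXU

end Cfsg.Agent.PF
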