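import Cfsg.Agent.PF.PCon

set_option autoImplicit false

/-! The set-up `IsGood`, constancy on cosets, masses (lead). -/

namespace Cfsg.Agent.PF

open Subgroup ComplexConjugate
open Cfsg.Agent.H3 Cfsg.Agent.H11

universe u v w

section Sums

variable {L : Type u} [Group L] {P : Subgroup L} [Fintype P]

theorem coset_sum {s : Finset L} (hs : ∀ x : P, ∀ a ∈ s, (x : L) * a ∈ s) (φ : L → ℝ) :
    (Fintype.card P : ℝ) * ∑ a ∈ s, φ a = ∑ a ∈ s, ∑ x : P, φ (x * a) := by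
  classical
  rw [Finset.sum_comm]
  have e1 : ∀ x : P, ∑ a ∈ s, φ (x * a) = ∑ a ∈ s, φ a := by
    intro x
    refine Finset.sum_bij' (fun a _ => (x : L) * a) (fun a _ => ((x⁻¹ : P) : L) * a)
      (fun a ha => hs x a ha) (fun a ha => hs x⁻¹ a ha) (fun a _ => by simp) (fun a _ => by simp)
      (fun a _ => rfl)
  rw [Finset.sum_congr rfl fun x _ => e1 x, Finset.sum_const, Finset.card_univ, nsmul_eq_mul]

theorem coset_cs {s : Finset L} (hs : ∀ x : P, ∀ a ∈ s, (x : L) * a ∈ s) (f : L → ℂ) :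
    ∑ a ∈ s, ‖Eav (fun x : P => (x : L) * a) f‖ ^ 2 ≤ ∑ a ∈ s, ‖f a‖ ^ 2 := by
  have hn : (0 : ℝ) < Fintype.card P := by exact_mod_cast Fintype.card_pos
  have h1 := coset_sum hs (fun a => ‖f a‖ ^ 2)
  have h2 : (Fintype.card P : ℝ) * ∑ a ∈ s, ‖Eav (fun x : P => (x : L) * a) f‖ ^ 2 ≤
      ∑ a ∈ s, ∑ x : P, ‖f (x * a)‖ ^ 2 := by
    rw [Finset.mul_sum]
    exact Finset.sum_le_sum fun a _ => Eav_norm_le _ f
  rw [← h1] at h2
  exact le_of_mul_le_mul_left h2 hn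

theorem norm_add_sq_expand (a c : ℂ) : ‖a + c‖ ^ 2 = ‖a‖ ^ 2 + 2 * (a * conj c).re + ‖c‖ ^ 2 := by
  have h := Complex.sq_norm (a + c)
  rw [h, Complex.sq_norm, Complex.sq_norm, Complex.normSq_add]
  ring

theorem coset_eqn {s : Finset L} (hs : ∀ x : P, ∀ a ∈ s, (x : L) * a ∈ s) {f f₀ : L → ℂ}
    (h0 : ∀ a ∈ s, Eav (fun x : P => (x : L) * a) f₀ = 0)
    (h1 : ∀ x : P, ∀ a ∈ s, f (x * a) - f₀ (x * a) = f a - f₀ a) :
    ∑ a ∈ s, ‖f a‖ ^ 2 =
      ∑ a ∈ s, ‖f₀ a‖ ^ 2 + ∑ a ∈ s, ‖Eav (fun x : P => (x : L) * a) f‖ ^ 2 := by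
  have hn : (0 : ℝ) < Fintype.card P := by exact_mod_cast Fintype.card_pos
  have hn' : (Fintype.card P : ℂ) ≠ 0 := by exact_mod_cast Fintype.card_ne_zero
  have k1 := coset_sum hs (fun a => ‖f a‖ ^ 2)
  have k2 := coset_sum hs (fun a => ‖f₀ a‖ ^ 2)
  have key : ∀ a ∈ s, ∑ x : P, ‖f (x * a)‖ ^ 2 = ∑ x : P, ‖f₀ (x * a)‖ ^ 2 +
      (Fintype.card P : ℝ) * ‖Eav (fun x : P => (x : L) * a) f‖ ^ 2 := by
    intro a ha
    have e1 : ∀ x : P, f (x * a) = f₀ (x * a) + (f a - f₀ a) := fun x => by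
      rw [← h1 x a ha]; ring
    have e2 : Eav (fun x : P => (x : L) * a) f = f a - f₀ a := by
      have : Eav (fun x : P => (x : L) * a) f =
          Eav (fun x : P => (x : L) * a) (f₀ + fun _ => (f a - f₀ a)) :=
        Eav_congr _ fun x => by rw [e1 x]; rfl
      rw [this, Eav_add, h0 a ha, zero_add]
      exact Eav_const _ (fun _ => rfl)
    have e3 : ∑ x : P, f₀ (x * a) = 0 := by
      have := h0 a ha
      rw [Eav, mul_eq_zero] at this
      rcases this with h | h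
      · exact absurd h (inv_ne_zero hn')
      · exact h
    rw [e2, Finset.sum_congr rfl fun x _ => by rw [e1 x, norm_add_sq_expand],
      Finset.sum_add_distrib, Finset.sum_add_distrib, Finset.sum_const, Finset.card_univ,
      nsmul_eq_mul, ← Finset.mul_sum, ← Complex.re_sum, ← Finset.sum_mul, e3]
    simp
  rw [Finset.sum_congr rfl key, Finset.sum_add_distrib, ← k2, ← Finset.mul_sum, ← mul_add] at k1
  exact mul_left_cancel₀ hn.ne' k1

/-- the part in `P` -/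
theorem P_sum [DecidableEq L] {f₀ : L → ℂ} (h0 : ∑ x : P, f₀ x = 0) (κ : ℂ)
    (hP : 1 < Fintype.card P) :
    ∑ x ∈ (Finset.univ : Finset P).erase 1, ‖f₀ x‖ ^ 2 -
      ‖f₀ 1‖ ^ 2 / ((Fintype.card P : ℝ) - 1) ≤
        ∑ x ∈ (Finset.univ : Finset P).erase 1, ‖f₀ x + κ‖ ^ 2 := by
  have hn : (0 : ℝ) < (Fintype.card P : ℝ) - 1 := by
    have : (1 : ℝ) < Fintype.card P := by exact_mod_cast hP
    linarith
  have e1 : ∑ x ∈ (Finset.univ : Finset P).erase 1, f₀ x = - f₀ 1 := by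
    have := Finset.add_sum_erase (Finset.univ : Finset P) (fun x => f₀ x) (Finset.mem_univ 1)
    rw [h0] at this
    simp only [OneMemClass.coe_one] at this
    linear_combination this
  have e2 : ∑ x ∈ (Finset.univ : Finset P).erase 1, ‖f₀ x + κ‖ ^ 2 =
      ∑ x ∈ (Finset.univ : Finset P).erase 1, ‖f₀ x‖ ^ 2 + 2 * (-f₀ 1 * conj κ).re +
        ((Fintype.card P : ℝ) - 1) * ‖κ‖ ^ 2 := by
    rw [Finset.sum_congr rfl fun (x : P) _ => norm_add_sq_expand (f₀ (x : L)) κ,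
      Finset.sum_add_distrib, Finset.sum_add_distrib, Finset.sum_const,
      Finset.card_erase_of_mem (Finset.mem_univ _), Finset.card_univ, nsmul_eq_mul,
      ← Finset.mul_sum, ← Complex.re_sum, ← Finset.sum_mul, e1, Nat.cast_sub hP.le]
    simp
  rw [e2]
  have e3 : |(-f₀ 1 * conj κ).re| ≤ ‖f₀ 1‖ * ‖κ‖ := by
    refine (Complex.abs_re_le_norm _).trans ?_
    rw [norm_mul, norm_neg, Complex.norm_conj]
  have e4 := neg_le_of_abs_le e3
  set N := (Fintype.card P : ℝ) - 1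
  set a := ‖f₀ 1‖
  set k := ‖κ‖
  have e5 : 0 ≤ a ^ 2 / N - 2 * (a * k) + N * k ^ 2 := by
    have : a ^ 2 / N - 2 * (a * k) + N * k ^ 2 = (a - N * k) ^ 2 / N := by
      field_simp; ring
    rw [this]; positivity
  linarith

end Sums

variable {G : Type u} [Group G] [Fintype G]

theorem irr_set_finite {L : Type u} [Group L] [Finite L] :
    {φ : L → ℂ | IsIrrCharacter L φ}.Finite := by
  have : Finite (IrrCharacter L) := inferInstance
  exact this

/-- irreducible members of `SH M ⊥` of degree `n` -/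
noncomputable def Yset (M : Subgroup G) [Fintype ↥M] (n : ℂ) : Finset (↥M → ℂ) :=
  Set.Finite.toFinset (s := {φ : ↥M → ℂ | IsIrrCharacter ↥M φ ∧ φ ∈ SH M ⊥ ∧ φ 1 = n})
    (irr_set_finite.subset fun _ h => h.1)

theorem mem_Yset {M : Subgroup G} [Fintype ↥M] {n : ℂ} {φ : ↥M → ℂ} :
    φ ∈ Yset M n ↔ IsIrrCharacter ↥M φ ∧ φ ∈ SH M ⊥ ∧ φ 1 = n := by
  simp [Yset]

/-- the standing assumptions on `S` and on `T` -/
structure IsGood (M W₁ U W₂ : Subgroup G) [Fintype ↥M] (η : Lin W₁ W₂ → G → ℂ)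
    (μ : Lin W₁ W₂ → ↥M → ℂ) (δ : Lin W₁ W₂ → ℤ) (u : ℕ) : Prop where
  F : IsFrame M W₁ U W₂ η μ δ
  hp : (Nat.card W₂).Prime
  hq : (Nat.card W₁).Prime
  u_pos : 0 < u
  deg : ∀ ψ, IsJ W₁ W₂ ψ → ψ ≠ 1 → μ ψ 1 = (u : ℂ)
  sgn : ∀ ψ, IsJ W₁ W₂ ψ → ψ ≠ 1 → δ ψ = 1
  col : ∀ ψ, IsJ W₁ W₂ ψ → ψ ≠ 1 → colI μ ψ ∈ SH M ⊥
  cliff : ∀ χ ∈ SH M ⊥, IsIrrCharacter ↥M χ → ∃ t : ℕ, 0 < t ∧
    (t : ℂ) * χ 1 = (Nat.card W₁ * u : ℕ) ∧ 2 * t ≤ (Yset M (χ 1)).card
  supp : ∀ a ∈ typeA0 M, supportR M a = ⊥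
  coset : ∀ a ∈ typeA M, a ∉ fittingHallOf M → ∀ x ∈ fittingHallOf M, x * a ∈ typeA M
  P_sub : ∀ x ∈ fittingHallOf M, x ≠ 1 → x ∈ typeA M
  card : Nat.card M = Nat.card (fittingHallOf M) * Nat.card W₁ * Nat.card U

variable {M W₁ U W₂ : Subgroup G} [Fintype ↥M] {η : Lin W₁ W₂ → G → ℂ}
  {μ : Lin W₁ W₂ → ↥M → ℂ} {δ : Lin W₁ W₂ → ℤ} {u : ℕ}

/-- `M_F` as a subgroup of `M` -/
abbrev PM (M : Subgroup G) : Subgroup ↥M := (fittingHallOf M).subgroupOf M

theorem PM_normal (M : Subgroup G) : (PM M).Normal := by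
  have : PM M = fittingHall ↥M := by
    rw [PM, fittingHallOf, subgroupOf]
    exact Subgroup.comap_map_eq_self_of_injective M.subtype_injective _
  rw [this]; infer_instance

theorem fhOf_le' (M : Subgroup G) : fittingHallOf M ≤ M := by
  rw [fittingHallOf]; exact map_subtype_le _

namespace IsGood

variable (h : IsGood M W₁ U W₂ η μ δ u)

include h

theorem deg_col {ψ : Lin W₁ W₂} (hψ : IsJ W₁ W₂ ψ) (h1 : ψ ≠ 1) :
    colI μ ψ 1 = (Nat.card W₁ * u : ℕ) := by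
  rw [h.F.col_on _ (one_mem _), h.deg ψ hψ h1]; push_cast; rfl

theorem A_conj {a : ↥M} (ha : (a : G) ∈ typeA M) (x : ↥M) : ((x * a * x⁻¹ : ↥M) : G) ∈ typeA M :=
  (dadeHyp h.F.hG h.F.hM (Or.inr (Or.inl rfl))).conj_mem x x.2 a ha

theorem A_conj_iff (a x : ↥M) : ((x * a * x⁻¹ : ↥M) : G) ∈ typeA M ↔ (a : G) ∈ typeA M := by
  refine ⟨fun k => ?_, fun k => h.A_conj k x⟩
  have := h.A_conj k x⁻¹
  have e : x⁻¹ * (x * a * x⁻¹) * x⁻¹⁻¹ = a := by group
  rwa [e] at this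

theorem one_not_A : (1 : G) ∉ typeA M :=
  (dadeHyp h.F.hG h.F.hM (Or.inr (Or.inl rfl))).one_not_mem

theorem PM_le : PM M ≤ commutator ↥M := by
  intro x hx
  by_cases hx1 : x = 1
  · rw [hx1]; exact one_mem _
  · exact h.F.A_sub (h.P_sub x (mem_subgroupOf.1 hx) (fun e => hx1 (Subtype.ext e)))

/-- constancy on cosets of `M_F` -/
theorem const {ψ₁ : Lin W₁ W₂} (hψ₁ : IsJ W₁ W₂ ψ₁) (h1 : ψ₁ ≠ 1) {f : ↥M → ℂ}
    (hf : IsClassFunction ↥M f)
    (hcol : ∀ ψ, IsJ W₁ W₂ ψ → ψ ≠ 1 → classInner f (colI μ ψ - colI μ ψ₁) = 0)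
    (hirr : ∀ χ ∈ SH M ⊥, IsIrrCharacter ↥M χ → ∀ t : ℕ, 0 < t →
      (t : ℂ) * χ 1 = (Nat.card W₁ * u : ℕ) → classInner f (colI μ ψ₁ - (t : ℂ) • χ) = 0) :
    ∃ κ : ℂ, (∀ x ∈ PM M, x ≠ 1 → f x = κ) ∧
      ∀ x ∈ PM M, ∀ y : ↥M, (y : G) ∈ typeA M → (y : G) ∉ fittingHallOf M → f (x * y) = f y := by
  classical
  set m := colI μ ψ₁ with hm
  have hm1 : m 1 = (Nat.card W₁ * u : ℕ) := h.deg_col hψ₁ h1
  have hm0 : m 1 ≠ 0 := by
    rw [hm1]; exact_mod_cast (Nat.mul_pos Nat.card_pos h.u_pos).ne'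
  have hM0 : (Nat.card M : ℂ) ≠ 0 := by exact_mod_cast Nat.card_pos.ne'
  let f₁ : ↥M → ℂ := fun x => if (x : G) ∈ typeA M then f x else 0
  set κ : ℂ := -(classInner f₁ m * Nat.card M / conj (m 1)) with hκ
  let f₂ : ↥M → ℂ := fun x => if x = 1 then κ else f₁ x
  have hf1one : f₁ 1 = 0 := by
    simp only [f₁]; rw [if_neg]; exact h.one_not_A
  have hf2 : f₂ = f₁ + fun x => if x = 1 then κ else 0 := by
    funext x
    simp only [f₂, Pi.add_apply]
    by_cases hx : x = 1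
    · subst hx; rw [if_pos rfl, if_pos rfl, hf1one, zero_add]
    · rw [if_neg hx, if_neg hx, add_zero]
  have hcl : IsClassFunction ↥M f₂ := by
    intro g x
    simp only [f₂, f₁]
    have e1 : x * g * x⁻¹ = 1 ↔ g = 1 := by
      constructor
      · intro e
        have : g = x⁻¹ * (x * g * x⁻¹) * x := by group
        rw [this, e]; group
      · rintro rfl; group
    have e2 := h.A_conj_iff g x
    have e3 : f (x * g * x⁻¹) = f g := hf g x
    by_cases hg : g = 1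
    · rw [if_pos (e1.2 hg), if_pos hg]
    · rw [if_neg (fun e => hg (e1.1 e)), if_neg hg]
      by_cases hA : (g : G) ∈ typeA M
      · rw [if_pos (e2.2 hA), if_pos hA, e3]
      · rw [if_neg (fun e => hA (e2.1 e)), if_neg hA]
  have hdelta : ∀ g : ↥M → ℂ, classInner (fun x => if x = 1 then κ else 0) g =
      (Nat.card M : ℂ)⁻¹ * (κ * conj (g 1)) := by
    intro g
    rw [classInner]
    congr 1
    rw [Finset.sum_eq_single 1]
    · simp
    · intro b _ hb; rw [if_neg hb, zero_mul]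
    · intro hb; exact absurd (Finset.mem_univ _) hb
  have hsup : ∀ α : ↥M → ℂ, SuppOn (typeA M) α → classInner f₂ α = classInner f α := by
    intro α hα
    rw [classInner, classInner]
    congr 1
    refine Finset.sum_congr rfl fun x _ => ?_
    by_cases hA : (x : G) ∈ typeA M
    · have hx1 : x ≠ 1 := by rintro rfl; exact h.one_not_A hA
      simp only [f₂, f₁]
      rw [if_neg hx1, if_pos hA]
    · rw [hα x hA]; simp
  have hm2 : classInner f₂ m = 0 := by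
    rw [hf2, classInner_add_left, hdelta, hκ]
    have : conj (m 1) ≠ 0 := by rw [Ne, map_eq_zero]; exact hm0
    field_simp
    ring
  have hmS : m ∈ SM M ⊥ := h.F.col_mem hψ₁ h1
  have hSH : ∀ χ ∈ SH M ⊥, classInner f₂ χ = 0 := by
    intro χ hχ
    have hχS : χ ∈ SM M ⊥ := h.F.SH_sub' _ hχ
    rcases h.F.SM_cases hχS with hi | ⟨ψ, hψ, hψ1, rfl⟩
    · obtain ⟨t, ht, ht1, -⟩ := h.cliff χ hχ hi.1
      have hz : m - (t : ℂ) • χ ∈ zspanOn (SM M ⊥) ({1}ᶜ : Set ↥M) :=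
        sub_smul_mem t hmS hχS (by rw [ht1, hm1])
      have e1 := hsup _ (h.F.span_supp hz)
      rw [hirr χ hχ hi.1 t ht ht1, classInner_sub_right, hm2, classInner_smul_right, zero_sub,
        neg_eq_zero, mul_eq_zero] at e1
      rcases e1 with e1 | e1
      · simp at e1; exact absurd e1 ht.ne'
      · exact e1
    · have hz : colI μ ψ - m ∈ zspanOn (SM M ⊥) ({1}ᶜ : Set ↥M) :=
        sub_mem_of_eq hχS hmS (by rw [h.deg_col hψ hψ1, hm1])
      have e1 := hsup _ (h.F.span_supp hz)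
      rw [hcol ψ hψ hψ1, classInner_sub_right, hm2, sub_zero] at e1
      exact e1
  -- constancy of `f₂` on the cosets
  have hfK : IsClassFunction ↥(commutator ↥M) (fun k => f₂ k) := fun g x => hcl g x
  have hco : ∀ x ∈ PM M, ∀ y ∈ commutator ↥M, f₂ (x * y) = f₂ y := by
    intro x hx y hy
    have := const_of_orth (P := (PM M).subgroupOf (commutator ↥M)) hfK (fun θ hθ hker => by
      have h2 : indFun (commutator ↥M) θ ∈ SH M ⊥ := by
        refine ⟨θ, hθ, ?_, ?_, rfl⟩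
        · intro a ha
          have : a = 1 := by
            have h3 : ((a : ↥M) : G) ∈ (⊥ : Subgroup G) := mem_subgroupOf.1 ha
            rw [Subgroup.mem_bot] at h3
            exact Subtype.ext (Subtype.ext h3)
          rw [this]
        · obtain ⟨x, hx, hx'⟩ := hker
          exact ⟨x, mem_subgroupOf.1 hx, hx'⟩
      rw [← hSH _ h2, frobenius_reciprocity' _ _ hcl]) (x := ⟨x, h.PM_le hx⟩)
      (mem_subgroupOf.2 hx) ⟨y, hy⟩
    exact this
  refine ⟨κ, ?_, ?_⟩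
  · intro x hx hx1
    have e1 := hco x hx 1 (one_mem _)
    rw [mul_one] at e1
    have hA : (x : G) ∈ typeA M := h.P_sub x (mem_subgroupOf.1 hx) (fun e => hx1 (Subtype.ext e))
    simp only [f₂, f₁, if_pos] at e1
    rw [if_neg hx1, if_pos hA] at e1
    exact e1
  · intro x hx y hy hyP
    have e1 := hco x hx y (h.F.A_sub hy)
    have hA : ((x * y : ↥M) : G) ∈ typeA M := h.coset y hy hyP x (mem_subgroupOf.1 hx)
    have hx1 : x * y ≠ 1 := by intro e; rw [e] at hA; exact h.one_not_A hA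
    have hy1 : y ≠ 1 := by rintro rfl; exact h.one_not_A hy
    simp only [f₂, f₁] at e1
    rw [if_neg hx1, if_neg hy1, if_pos hA, if_pos hy] at e1
    exact e1

end IsGood

end Cfsg.Agent.PF
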