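import Cfsg.Agent.PF.Good2

set_option autoImplicit false

/-! The two functions `σλ` and `η_10` (lead). -/

namespace Cfsg.Agent.PF

open Subgroup ComplexConjugate
open Cfsg.Agent.H3 Cfsg.Agent.H11

universe u v w

variable {G : Type u} [Group G] [Fintype G]
variable {M W₁ U W₂ : Subgroup G} [Fintype ↥M] {η : Lin W₁ W₂ → G → ℂ}
  {μ : Lin W₁ W₂ → ↥M → ℂ} {δ : Lin W₁ W₂ → ℤ} {u : ℕ}

namespace IsGood

variable (h : IsGood M W₁ U W₂ η μ δ u)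

include h

theorem real_deg {lam : ↥M → ℂ} (hl : lam ∈ SH M ⊥) (hirr : IsIrrCharacter ↥M lam) :
    conj (lam 1) = lam 1 := by
  obtain ⟨t, ht, ht1, -⟩ := h.cliff lam hl hirr
  have ht0 : (t : ℂ) ≠ 0 := by exact_mod_cast ht.ne'
  have h2 := congrArg conj ht1
  rw [map_mul, Complex.conj_natCast, Complex.conj_natCast, ← ht1] at h2
  exact mul_left_cancel₀ ht0 h2

theorem Y_sub (n : ℂ) : (↑(Yset M n) : Set (↥M → ℂ)) ⊆ SM M ⊥ := fun φ hφ => by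
  rw [Finset.mem_coe, mem_Yset] at hφ
  exact h.F.SH_sub' _ hφ.2.1

/-- the bridge at `χ` -/
theorem bridge' {ψ : Lin W₁ W₂} (hψ : IsJ W₁ W₂ ψ) (hψ1 : ψ ≠ 1) {χ : ↥M → ℂ}
    (hχ : χ ∈ SH M ⊥) (hirr : IsIrrCharacter ↥M χ) {t : ℕ} (ht : 0 < t)
    (ht1 : (t : ℂ) * χ 1 = (Nat.card W₁ * u : ℕ)) {σ : (↥M → ℂ) → G → ℂ}
    (hσ : CohMap (↑(Yset M (χ 1))) (tauM M) σ) :
    ∃ x : ℤ, (x = 0 ∨ (x = 1 ∧ (Yset M (χ 1)).card = 2 * t)) ∧
      (tauM M (colI μ ψ - (t : ℂ) • χ) =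
          colI η ψ - (t : ℂ) • σ χ + (x : ℂ) • ∑ χ' ∈ Yset M (χ 1), σ χ' ∨
        (Nat.card W₂ = 3 ∧ tauM M (colI μ ψ - (t : ℂ) • χ) =
          -(colI η ψ⁻¹) - (t : ℂ) • σ χ + (x : ℂ) • ∑ χ' ∈ Yset M (χ 1), σ χ')) := by
  obtain ⟨t', ht', ht1', hN'⟩ := h.cliff χ hχ hirr
  have hn := h.real_deg hχ hirr
  have hχ0 : χ 1 ≠ 0 := irr_one_ne_zero hirr
  have e : t = t' := by
    have := ht1.trans ht1'.symm
    exact_mod_cast mul_right_cancel₀ hχ0 this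
  subst e
  have hmem : χ ∈ Yset M (χ 1) := mem_Yset.2 ⟨hirr, hχ, rfl⟩
  obtain ⟨x, hx, hb⟩ := h.F.bridge h.hp hψ hψ1 (Y := Yset M (χ 1)) (h.Y_sub _)
    (fun φ hφ => (mem_Yset.1 hφ).1) (fun φ hφ => h.Yset_conj hn hφ) ht
    (fun φ hφ => by rw [(mem_Yset.1 hφ).2.2, ht1, h.deg_col hψ hψ1]) hN' hσ hmem
  refine ⟨x, hx, ?_⟩
  rw [h.sgn ψ hψ hψ1] at hb
  simpa using hb

theorem sig_irr {χ : ↥M → ℂ} (hχ : χ ∈ SH M ⊥) (hirr : IsIrrCharacter ↥M χ)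
    {σ : (↥M → ℂ) → G → ℂ} (hσ : CohMap (↑(Yset M (χ 1))) (tauM M) σ) {φ : ↥M → ℂ}
    (hφ : φ ∈ Yset M (χ 1)) :
    SIrr (σ φ) ∧ σ (conjFun φ) = conjFun (σ φ) ∧ (∀ ω, classInner (σ φ) (η ω) = 0) :=
  h.F.coh_irr (h.Y_sub _) (fun φ hφ => by
    rw [Finset.mem_coe] at hφ ⊢; exact h.Yset_conj (h.real_deg hχ hirr) hφ) hσ
    (by exact_mod_cast hφ) (mem_Yset.1 hφ).1

theorem sig_eta {χ : ↥M → ℂ} (hχ : χ ∈ SH M ⊥) (hirr : IsIrrCharacter ↥M χ)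
    {σ : (↥M → ℂ) → G → ℂ} (hσ : CohMap (↑(Yset M (χ 1))) (tauM M) σ) {φ : ↥M → ℂ}
    (hφ : φ ∈ Yset M (χ 1)) (ω : Lin W₁ W₂) : classInner (η ω) (σ φ) = 0 := by
  rw [← classInner_conj_symm, (h.sig_irr hχ hirr hσ hφ).2.2 ω, map_zero]

theorem sig_sig {χ : ↥M → ℂ} (hχ : χ ∈ SH M ⊥) (hirr : IsIrrCharacter ↥M χ)
    {σ : (↥M → ℂ) → G → ℂ} (hσ : CohMap (↑(Yset M (χ 1))) (tauM M) σ) {φ φ' : ↥M → ℂ}
    (hφ : φ ∈ Yset M (χ 1)) (hφ' : φ' ∈ Yset M (χ 1)) [Decidable (φ = φ')] :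
    classInner (σ φ) (σ φ') = if φ = φ' then 1 else 0 := by
  rw [hσ.inner (zspan_mem (by exact_mod_cast hφ)) (zspan_mem (by exact_mod_cast hφ')),
    classInner_irr (mem_Yset.1 hφ).1 (mem_Yset.1 hφ').1]
  by_cases e : φ = φ'
  · rw [if_pos e, if_pos e]
  · rw [if_neg e, if_neg e]

/-- different degrees -/
theorem sig_sig' {χ χ' : ↥M → ℂ} (hχ : χ ∈ SH M ⊥) (hirr : IsIrrCharacter ↥M χ)
    (hχ' : χ' ∈ SH M ⊥) (hirr' : IsIrrCharacter ↥M χ') (hne : χ 1 ≠ χ' 1)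
    {σ σ' : (↥M → ℂ) → G → ℂ} (hσ : CohMap (↑(Yset M (χ 1))) (tauM M) σ)
    (hσ' : CohMap (↑(Yset M (χ' 1))) (tauM M) σ') {φ φ' : ↥M → ℂ}
    (hφ : φ ∈ Yset M (χ 1)) (hφ' : φ' ∈ Yset M (χ' 1)) :
    classInner (σ φ) (σ' φ') = 0 := by
  have hn := h.real_deg hχ hirr
  have hn' := h.real_deg hχ' hirr'
  refine coh_coh_orth h.F (h.Y_sub _) (h.Y_sub _) hσ hσ' (by exact_mod_cast hφ)
    (by exact_mod_cast h.Yset_conj hn hφ) (by exact_mod_cast hφ')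
    (by exact_mod_cast h.Yset_conj hn' hφ') ?_ ?_
  · rintro rfl
    exact hne ((mem_Yset.1 hφ).2.2.symm.trans (mem_Yset.1 hφ').2.2)
  · rintro rfl
    exact hne ((mem_Yset.1 hφ).2.2.symm.trans (mem_Yset.1 (h.Yset_conj hn' hφ')).2.2)

theorem gen_supp {ψ : Lin W₁ W₂} (hψ : IsJ W₁ W₂ ψ) (hψ1 : ψ ≠ 1) {χ : ↥M → ℂ}
    (hχ : χ ∈ SH M ⊥) {t : ℕ} (ht1 : (t : ℂ) * χ 1 = (Nat.card W₁ * u : ℕ)) :
    colI μ ψ - (t : ℂ) • χ ∈ zspanOn (SM M ⊥) ({1}ᶜ : Set ↥M) :=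
  sub_smul_mem t (h.F.col_mem hψ hψ1) (h.F.SH_sub' _ hχ) (by rw [ht1, h.deg_col hψ hψ1])

theorem gen_cls {α : ↥M → ℂ} (hα : α ∈ zspanOn (SM M ⊥) ({1}ᶜ : Set ↥M)) :
    IsClassFunction ↥M α ∧ SuppOn (typeA M) α ∧ SuppOn (typeA0 M) α :=
  ⟨isGen_classFun (h.F.span_gen hα.1), h.F.span_supp hα,
    fun x hx => h.F.span_supp hα x (fun k => hx (A_sub_A0 k))⟩

/-- inner products of restrictions -/
theorem restr_inner {α : ↥M → ℂ} (hα : α ∈ zspanOn (SM M ⊥) ({1}ᶜ : Set ↥M)) {F : G → ℂ}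
    (hF : IsClassFunction G F) :
    classInner (fun x : ↥M => F x) α = classInner F (tauM M α) :=
  h.restr_tau (h.gen_cls hα).1 (h.gen_cls hα).2.2 hF

/-- `τ(μ_j − μ_k) = Σ_i (η_ij − η_ik)` -/
theorem tau_col_sub {ψ ψ' : Lin W₁ W₂} (hψ : IsJ W₁ W₂ ψ) (hψ1 : ψ ≠ 1) (hψ' : IsJ W₁ W₂ ψ')
    (hψ1' : ψ' ≠ 1) : tauM M (colI μ ψ - colI μ ψ') = colI η ψ - colI η ψ' := by
  have hI : ∀ {φ ψ : Lin W₁ W₂}, IsI W₁ W₂ φ → IsJ W₁ W₂ ψ → ψ ≠ 1 → ¬ IsI W₁ W₂ (φ * ψ) := by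
    intro φ ψ hφ hψ h1 hI
    have : φ * ψ = (φ * ψ) * 1 := (mul_one (φ * ψ)).symm
    exact h1 (lin_unique h.F.hW hφ hI hψ IsJ.one this).2
  have e : colI μ ψ - colI μ ψ' = ∑ φ ∈ idxI W₁ W₂, (μ (φ * ψ) - μ (φ * ψ')) := by
    rw [Finset.sum_sub_distrib]; rfl
  have e' : colI η ψ - colI η ψ' = ∑ φ ∈ idxI W₁ W₂, (η (φ * ψ) - η (φ * ψ')) := by
    rw [Finset.sum_sub_distrib]; rfl
  rw [e, e', tauM, dade_sum']
  refine Finset.sum_congr rfl fun φ hφ => ?_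
  rw [mem_idxI] at hφ
  obtain ⟨g1, g2⟩ := h.F.galois h.hp hψ hψ' hψ1 hψ1'
  obtain ⟨k1, k2⟩ := h.F.tau_mu_sub (ω := φ * ψ) (ω' := φ * ψ') (fun w hw => by
      rw [MonoidHom.mul_apply, MonoidHom.mul_apply, hψ w hw, hψ' w hw]) (hI hφ hψ hψ1)
    (hI hφ hψ' hψ1') (by rw [h.F.deg_eq hφ, h.F.deg_eq hφ, g1])
    (by rw [h.F.sign_congr φ ψ hφ, h.F.sign_congr φ ψ' hφ, g2])
  rw [h.F.sign_congr φ ψ hφ, h.sgn ψ hψ hψ1] at k2
  simpa using k2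

theorem col_sub_mem {ψ ψ' : Lin W₁ W₂} (hψ : IsJ W₁ W₂ ψ) (hψ1 : ψ ≠ 1) (hψ' : IsJ W₁ W₂ ψ')
    (hψ1' : ψ' ≠ 1) : colI μ ψ - colI μ ψ' ∈ zspanOn (SM M ⊥) ({1}ᶜ : Set ↥M) :=
  sub_mem_of_eq (h.F.col_mem hψ hψ1) (h.F.col_mem hψ' hψ1')
    (by rw [h.deg_col hψ hψ1, h.deg_col hψ' hψ1'])

theorem sig_col {χ : ↥M → ℂ} (hχ : χ ∈ SH M ⊥) (hirr : IsIrrCharacter ↥M χ)
    {σ : (↥M → ℂ) → G → ℂ} (hσ : CohMap (↑(Yset M (χ 1))) (tauM M) σ) {φ : ↥M → ℂ}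
    (hφ : φ ∈ Yset M (χ 1)) (ω : Lin W₁ W₂) : classInner (σ φ) (colI η ω) = 0 := by
  rw [colI, classInner_sum_right]
  exact Finset.sum_eq_zero fun i _ => (h.sig_irr hχ hirr hσ hφ).2.2 _

/-- The function `σλ` is, up to a function constant on cosets of `M_F`, an explicit combination
of irreducible members. -/
theorem sigma_const {lam : ↥M → ℂ} (hl : lam ∈ SH M ⊥) (hirr : IsIrrCharacter ↥M lam)
    {σ : (↥M → ℂ) → G → ℂ} (hσ : CohMap (↑(Yset M (lam 1))) (tauM M) σ)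
    {ψ₁ : Lin W₁ W₂} (hψ₁ : IsJ W₁ W₂ ψ₁) (h1 : ψ₁ ≠ 1) :
    ∃ (f₀ : ↥M → ℂ) (κ : ℂ), (∀ y, Ec M y f₀ = 0) ∧ ‖f₀ 1‖ = ‖lam 1‖ ∧
      classInner f₀ f₀ = 1 ∧ (∀ x : ↥M, x ≠ 1 → (x : G) ∉ typeA M → f₀ x = 0) ∧
      (∀ x ∈ PM M, x ≠ 1 → σ lam x - f₀ x = κ) ∧
      (∀ x ∈ PM M, ∀ y : ↥M, (y : G) ∈ typeA M → (y : G) ∉ fittingHallOf M →
        σ lam (x * y : ↥M) - f₀ (x * y) = σ lam y - f₀ y) := by
  classical
  obtain ⟨t, ht, ht1, -⟩ := h.cliff lam hl hirr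
  have ht0 : (t : ℂ) ≠ 0 := by exact_mod_cast ht.ne'
  obtain ⟨x, hx, hb⟩ := h.bridge' hψ₁ h1 hl hirr ht ht1 hσ
  set Y := Yset M (lam 1) with hY
  have hlY : lam ∈ Y := mem_Yset.2 ⟨hirr, hl, rfl⟩
  set f₀ : ↥M → ℂ := lam - ((x : ℂ) / t) • ∑ φ ∈ Y, φ with hf₀
  have hYirr : ∀ φ ∈ Y, IsIrrCharacter ↥M φ := fun φ hφ => (mem_Yset.1 hφ).1
  have hYS : ∀ φ ∈ Y, φ ∈ SH M ⊥ := fun φ hφ => (mem_Yset.1 hφ).2.1
  have hYdeg : ∀ φ ∈ Y, φ 1 = lam 1 := fun φ hφ => (mem_Yset.1 hφ).2.2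
  have hcl₀ : IsClassFunction ↥M f₀ := classFun_sub (irr_classFun hirr)
    (classFun_smul _ (classFun_sum _ _ fun φ hφ => irr_classFun (hYirr φ hφ)))
  have hσcl : IsClassFunction G (σ lam) :=
    isGen_classFun (h.sig_irr hl hirr hσ hlY).1.isGen
  -- inner products of `f₀` with the members
  have hin : ∀ χ, IsIrrCharacter ↥M χ → classInner f₀ χ =
      (if lam = χ then 1 else 0) - ((x : ℂ) / t) * (if χ ∈ Y then 1 else 0) := by
    intro χ hχ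
    rw [hf₀, classInner_sub_left, classInner_smul_left, classInner_sum_left,
      classInner_irr hirr hχ]
    congr 2
    rw [Finset.sum_congr rfl fun φ hφ => classInner_irr (hYirr φ hφ) hχ]
    rw [Finset.sum_ite_eq' Y χ]
  have hmuY : ∀ ω, μ ω ∉ Y := fun ω hω =>
    h.F.irr_ne_mu (h.F.SH_sub' _ (hYS _ hω)) (hYirr _ hω) ω rfl
  have hcol : ∀ ψ, classInner f₀ (colI μ ψ) = 0 := by
    intro ψ
    rw [colI, classInner_sum_right]
    refine Finset.sum_eq_zero fun φ _ => ?_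
    rw [hin _ (h.F.irr _), if_neg (h.F.irr_ne_mu (h.F.SH_sub' _ hl) hirr _), if_neg (hmuY _)]
    simp
  have hin2 : classInner f₀ f₀ = 1 := by
    have e1 : classInner f₀ f₀ = classInner f₀ lam - conj ((x : ℂ) / t) *
        ∑ φ ∈ Y, classInner f₀ φ := by
      conv_lhs => rw [hf₀, classInner_sub_right, classInner_smul_right, classInner_sum_right]
    rw [e1, hin lam hirr, if_pos rfl, if_pos hlY,
      Finset.sum_congr rfl fun φ hφ => by rw [hin φ (hYirr φ hφ), if_pos hφ],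
      Finset.sum_sub_distrib, Finset.sum_ite_eq Y lam, if_pos hlY, Finset.sum_const,
      nsmul_eq_mul, map_div₀, Complex.conj_natCast]
    rcases hx with rfl | ⟨rfl, hN⟩
    · simp
    · rw [hN]; simp only [Int.cast_one, map_one]; push_cast; field_simp; ring
  have hsum1 : (∑ φ ∈ Y, φ) 1 = (Y.card : ℂ) * lam 1 := by
    rw [Finset.sum_apply, Finset.sum_congr rfl hYdeg, Finset.sum_const, nsmul_eq_mul]
  have hone : ‖f₀ 1‖ = ‖lam 1‖ := by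
    have e1 : f₀ 1 = lam 1 - ((x : ℂ) / t) * ((Y.card : ℂ) * lam 1) := by
      rw [hf₀, Pi.sub_apply, Pi.smul_apply, hsum1, smul_eq_mul]
    rw [e1]
    rcases hx with rfl | ⟨rfl, hN⟩
    · simp
    · rw [hN]
      have : lam 1 - (((1 : ℤ) : ℂ) / t) * (((2 * t : ℕ) : ℂ) * lam 1) = -lam 1 := by
        push_cast; field_simp; ring
      rw [this, norm_neg]
  have hEc : ∀ y, Ec M y f₀ = 0 := by
    intro y
    letI : Fintype ↥(PM M) := Fintype.ofFinite _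
    rw [hf₀, Ec, Eav_sub, Eav_smul, Eav_sum]
    have e1 := h.Ec_zero_irr hl hirr y
    have e2 : ∀ φ ∈ Y, Eav (fun x : PM M => (x : ↥M) * y) φ = 0 := fun φ hφ =>
      h.Ec_zero_irr (hYS φ hφ) (hYirr φ hφ) y
    rw [Finset.sum_eq_zero e2, mul_zero, sub_zero]
    exact e1
  have hoff : ∀ x : ↥M, x ≠ 1 → (x : G) ∉ typeA M → f₀ x = 0 := by
    intro z hz hzA
    rw [hf₀, Pi.sub_apply, Pi.smul_apply, Finset.sum_apply,
      h.F.SM_supp (h.F.SH_sub' _ hl) hz hzA, Finset.sum_eq_zero fun φ hφ =>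
        h.F.SM_supp (h.F.SH_sub' _ (hYS φ hφ)) hz hzA]
    simp
  -- the constancy
  have hfcl : IsClassFunction ↥M (fun x : ↥M => σ lam x) := fun g z => hσcl g z
  have hconst := h.const hψ₁ h1 (f := (fun x : ↥M => σ lam x) - f₀)
    (classFun_sub hfcl hcl₀) ?_ ?_
  · obtain ⟨κ, h2, h3⟩ := hconst
    refine ⟨f₀, κ, hEc, hone, hin2, hoff, h2, h3⟩
  · intro ψ hψ hψ1
    rw [classInner_sub_left, h.restr_inner (h.col_sub_mem hψ hψ1 hψ₁ h1) hσcl,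
      h.tau_col_sub hψ hψ1 hψ₁ h1, classInner_sub_right, classInner_sub_right, hcol, hcol,
      h.sig_col hl hirr hσ hlY, h.sig_col hl hirr hσ hlY]
    simp
  · intro χ hχ hχirr t' ht' ht1'
    rw [classInner_sub_left, h.restr_inner (h.gen_supp hψ₁ h1 hχ ht1') hσcl]
    by_cases hd : lam 1 = χ 1
    · -- same family
      have ett : t' = t := by
        have := ht1'.trans ht1.symm
        rw [hd] at this
        exact_mod_cast mul_right_cancel₀ (irr_one_ne_zero hχirr) this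
      subst ett
      have hχY : χ ∈ Y := mem_Yset.2 ⟨hχirr, hχ, hd.symm⟩
      have e1 : tauM M (colI μ ψ₁ - (t' : ℂ) • χ) =
          tauM M (colI μ ψ₁ - (t' : ℂ) • lam) + (t' : ℂ) • (σ lam - σ χ) := by
        have hm : lam - χ ∈ zspanOn (↑Y : Set (↥M → ℂ)) ({1}ᶜ : Set ↥M) :=
          sub_mem_of_eq (by exact_mod_cast hlY) (by exact_mod_cast hχY) hd
        have e3 := hσ.2 _ hm
        rw [hσ.sub (zspan_mem (by exact_mod_cast hlY)) (zspan_mem (by exact_mod_cast hχY))] at e3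
        rw [e3, tauM, ← dade_smul, ← dade_add]
        congr 1
        rw [smul_sub]; abel
      have e2 : classInner (σ lam) (tauM M (colI μ ψ₁ - (t' : ℂ) • lam)) = (x : ℂ) - t' := by
        have k1 : ∀ ω, classInner (σ lam) (colI η ω) = 0 := h.sig_col hl hirr hσ hlY
        have k2 : classInner (σ lam) (σ lam) = 1 := by
          rw [h.sig_sig hl hirr hσ hlY hlY, if_pos rfl]
        have k3 : classInner (σ lam) (∑ φ ∈ Y, σ φ) = 1 := by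
          rw [classInner_sum_right, Finset.sum_congr rfl fun φ hφ =>
            h.sig_sig hl hirr hσ hlY hφ, Finset.sum_ite_eq Y lam, if_pos hlY]
        rcases hb with hb | ⟨-, hb⟩
        · rw [hb, classInner_add_right, classInner_sub_right, classInner_smul_right,
            classInner_smul_right, k1, k2, k3]
          simp; ring
        · rw [hb, classInner_add_right, classInner_sub_right, classInner_smul_right,
            classInner_smul_right, classInner_neg_right, k1, k2, k3]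
          simp; ring
      rw [e1, classInner_add_right, e2, classInner_smul_right, classInner_sub_right,
        h.sig_sig hl hirr hσ hlY hlY, if_pos rfl, h.sig_sig hl hirr hσ hlY hχY,
        classInner_sub_right, hcol, classInner_smul_right, hin χ hχirr, if_pos hχY,
        Complex.conj_natCast]
      field_simp
      ring
    · obtain ⟨σ', hσ'⟩ := h.exists_coh hχ hχirr
      have hχY' : χ ∈ Yset M (χ 1) := mem_Yset.2 ⟨hχirr, hχ, rfl⟩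
      obtain ⟨x', -, hb'⟩ := h.bridge' hψ₁ h1 hχ hχirr ht' ht1' hσ'
      have k1 : ∀ ω, classInner (σ lam) (colI η ω) = 0 := h.sig_col hl hirr hσ hlY
      have k2 : ∀ φ ∈ Yset M (χ 1), classInner (σ lam) (σ' φ) = 0 := fun φ hφ =>
        h.sig_sig' hl hirr hχ hχirr hd hσ hσ' hlY hφ
      have k3 : classInner (σ lam) (∑ φ ∈ Yset M (χ 1), σ' φ) = 0 := by
        rw [classInner_sum_right, Finset.sum_eq_zero k2]
      have hχY : χ ∉ Y := fun k => hd (mem_Yset.1 k).2.2.symm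
      have hne : lam ≠ χ := fun k => hd (by rw [k])
      have e2 : classInner (σ lam) (tauM M (colI μ ψ₁ - (t' : ℂ) • χ)) = 0 := by
        rcases hb' with hb' | ⟨-, hb'⟩
        · rw [hb', classInner_add_right, classInner_sub_right, classInner_smul_right,
            classInner_smul_right, k1, k2 χ hχY', k3]
          simp
        · rw [hb', classInner_add_right, classInner_sub_right, classInner_smul_right,
            classInner_smul_right, classInner_neg_right, k1, k2 χ hχY', k3]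
          simp
      rw [e2, classInner_sub_right, hcol, classInner_smul_right, hin χ hχirr, if_neg hχY,
        if_neg hne]
      simp

end IsGood

end Cfsg.Agent.PF
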