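import Cfsg.Agent.PF.Good3

set_option autoImplicit false

/-! `η_φ` and `η_ψ` on `M` (lead). -/

namespace Cfsg.Agent.PF

open Subgroup ComplexConjugate
open Cfsg.Agent.H3 Cfsg.Agent.H11

universe u v w

variable {G : Type u} [Group G] [Fintype G]
variable {M W₁ U W₂ : Subgroup G} [Fintype ↥M] {η : Lin W₁ W₂ → G → ℂ}
  {μ : Lin W₁ W₂ → ↥M → ℂ} {δ : Lin W₁ W₂ → ℤ} {u : ℕ}

theorem sum_right_single {X : Type v} [Group X] [Fintype X] {ι : Type w} [DecidableEq ι]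
    (s : Finset ι) (f : ι → X → ℂ) (a : X → ℂ) {i : ι} (hi : i ∈ s)
    (h : ∀ j ∈ s, j ≠ i → classInner a (f j) = 0) :
    classInner a (∑ j ∈ s, f j) = classInner a (f i) := by
  rw [classInner_sum_right, Finset.sum_eq_single_of_mem i hi h]

theorem Ec_smul (y : ↥M) (c : ℂ) (f : ↥M → ℂ) : Ec M y (c • f) = c * Ec M y f := by
  letI : Fintype ↥(PM M) := Fintype.ofFinite _
  exact Eav_smul _ c f

theorem Ec_sub (y : ↥M) (f g : ↥M → ℂ) : Ec M y (f - g) = Ec M y f - Ec M y g := by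
  letI : Fintype ↥(PM M) := Fintype.ofFinite _
  exact Eav_sub _ f g

theorem Ec_add (y : ↥M) (f g : ↥M → ℂ) : Ec M y (f + g) = Ec M y f + Ec M y g := by
  letI : Fintype ↥(PM M) := Fintype.ofFinite _
  exact Eav_add _ f g

theorem Ec_sum {ι : Type w} (y : ↥M) (s : Finset ι) (f : ι → ↥M → ℂ) :
    Ec M y (∑ i ∈ s, f i) = ∑ i ∈ s, Ec M y (f i) := by
  letI : Fintype ↥(PM M) := Fintype.ofFinite _
  exact Eav_sum _ s f

theorem norm_sum_irr {K : Subgroup ↥M} [Fintype K] {f : K → ℂ} (hf : IsIrrCharacter K f)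
    {g : ↥M → ℂ} (hg : ∀ k : K, ‖g k‖ = ‖f k‖) :
    ∑ x ∈ (Set.toFinite (↑K : Set ↥M)).toFinset, ‖g x‖ ^ 2 = (Nat.card K : ℝ) := by
  classical
  have e1 := classInner_self_of_irr hf
  rw [classInner_self_eq] at e1
  have e2 : (Nat.card K : ℝ)⁻¹ * ∑ k : K, ‖f k‖ ^ 2 = 1 := by exact_mod_cast e1
  have hK : (Nat.card K : ℝ) ≠ 0 := by exact_mod_cast Nat.card_pos.ne'
  have e3 : ∑ k : K, ‖f k‖ ^ 2 = (Nat.card K : ℝ) := by
    field_simp at e2; exact e2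
  rw [← e3]
  symm
  refine Finset.sum_bij (fun (k : K) _ => (k : ↥M)) (fun k _ => by simp) (fun a _ b _ e =>
    Subtype.ext e) (fun b hb => ⟨⟨b, by simpa using hb⟩, Finset.mem_univ _, rfl⟩)
    (fun k _ => by rw [hg k])

namespace IsGood

variable (h : IsGood M W₁ U W₂ η μ δ u)

include h

theorem eta_inner_col {ω ω' : Lin W₁ W₂} (hne : ∀ φ, IsI W₁ W₂ φ → ω ≠ φ * ω') :
    classInner (η ω) (colI η ω') = 0 := by
  rw [colI, classInner_sum_right]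
  refine Finset.sum_eq_zero fun φ hφ => ?_
  rw [mem_idxI] at hφ
  classical
  rw [h.F.fam.orthonormal, if_neg (hne φ hφ)]

theorem eta_inner_col_self (ω : Lin W₁ W₂) : classInner (η ω) (colI η ω) = 1 := by
  classical
  rw [colI, sum_right_single (idxI W₁ W₂) (fun φ => η (φ * ω)) (η ω) (i := 1)
    (mem_idxI.2 IsI.one)]
  · rw [brg_one_mul, h.F.fam.orthonormal, if_pos rfl]
  · intro φ _ hne
    rw [h.F.fam.orthonormal, if_neg]
    intro e
    apply hne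
    have : φ * ω = 1 * ω := by rw [← e, brg_one_mul]
    exact mul_right_cancel this

theorem jne {ψ ψ' φ : Lin W₁ W₂} (hψ : IsJ W₁ W₂ ψ) (hψ' : IsJ W₁ W₂ ψ') (hφ : IsI W₁ W₂ φ)
    (hne : ψ ≠ ψ') : ψ ≠ φ * ψ' := by
  intro e
  have : 1 * ψ = φ * ψ' := by rw [brg_one_mul]; exact e
  exact hne (lin_unique h.F.hW IsI.one hφ hψ hψ' this).2

theorem ine {ψ φ φ' : Lin W₁ W₂} (hψ : IsJ W₁ W₂ ψ) (hψ1 : ψ ≠ 1) (hφ : IsI W₁ W₂ φ)
    (hφ' : IsI W₁ W₂ φ') : φ ≠ φ' * ψ := by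
  intro e
  have : φ * 1 = φ' * ψ := by rw [brg_mul_one]; exact e
  exact hψ1 (lin_unique h.F.hW hφ hφ' IsJ.one hψ this).2.symm

theorem inv_ne_one {ψ : Lin W₁ W₂} (h1 : ψ ≠ 1) : ψ⁻¹ ≠ 1 := fun e => h1 (brg_inv_eq_one e)

/-- `η_φ`, `φ ∈ I`, is orthogonal to `τ (μ_j − t χ)`. -/
theorem etaI_orth {φ ψ : Lin W₁ W₂} (hφ : IsI W₁ W₂ φ) (hψ : IsJ W₁ W₂ ψ) (hψ1 : ψ ≠ 1)
    {χ : ↥M → ℂ} (hχ : χ ∈ SH M ⊥) (hirr : IsIrrCharacter ↥M χ) {t : ℕ} (ht : 0 < t)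
    (ht1 : (t : ℂ) * χ 1 = (Nat.card W₁ * u : ℕ)) :
    classInner (η φ) (tauM M (colI μ ψ - (t : ℂ) • χ)) = 0 := by
  obtain ⟨σ, hσ⟩ := h.exists_coh hχ hirr
  obtain ⟨x, -, hb⟩ := h.bridge' hψ hψ1 hχ hirr ht ht1 hσ
  have hχY : χ ∈ Yset M (χ 1) := mem_Yset.2 ⟨hirr, hχ, rfl⟩
  have k1 : classInner (η φ) (colI η ψ) = 0 :=
    h.eta_inner_col fun φ' hφ' => h.ine hψ hψ1 hφ hφ'
  have k1' : classInner (η φ) (colI η ψ⁻¹) = 0 :=
    h.eta_inner_col fun φ' hφ' => h.ine hψ.inv (h.inv_ne_one hψ1) hφ hφ'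
  have k2 := h.sig_eta hχ hirr hσ hχY φ
  have k3 : classInner (η φ) (∑ φ' ∈ Yset M (χ 1), σ φ') = 0 := by
    rw [classInner_sum_right, Finset.sum_eq_zero fun φ' hφ' => h.sig_eta hχ hirr hσ hφ' φ]
  rcases hb with hb | ⟨-, hb⟩
  · rw [hb, classInner_add_right, classInner_sub_right, classInner_smul_right,
      classInner_smul_right, k1, k2, k3]
    simp
  · rw [hb, classInner_add_right, classInner_sub_right, classInner_smul_right,
      classInner_smul_right, classInner_neg_right, k1', k2, k3]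
    simp

theorem eta_cls (ω : Lin W₁ W₂) : IsClassFunction G (η ω) :=
  isGen_classFun (eta_sirr h.F.fam ω).isGen

/-- `η_φ`, `φ ∈ I`, is constant on `M_F ∖ 1`. -/
theorem etaI_const {φ ψ₁ : Lin W₁ W₂} (hφ : IsI W₁ W₂ φ) (hψ₁ : IsJ W₁ W₂ ψ₁) (h1 : ψ₁ ≠ 1) :
    ∃ κ : ℂ, ∀ x ∈ PM M, x ≠ 1 → η φ (x : ↥M) = κ := by
  have hcl := h.eta_cls φ
  have hconst := h.const hψ₁ h1 (f := fun x : ↥M => η φ x) (fun g z => hcl g z) ?_ ?_
  · obtain ⟨κ, h2, -⟩ := hconst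
    exact ⟨κ, h2⟩
  · intro ψ hψ hψ1
    rw [h.restr_inner (h.col_sub_mem hψ hψ1 hψ₁ h1) hcl, h.tau_col_sub hψ hψ1 hψ₁ h1,
      classInner_sub_right, h.eta_inner_col fun φ' hφ' => h.ine hψ hψ1 hφ hφ',
      h.eta_inner_col fun φ' hφ' => h.ine hψ₁ h1 hφ hφ', sub_zero]
  · intro χ hχ hirr t ht ht1
    rw [h.restr_inner (h.gen_supp hψ₁ h1 hχ ht1) hcl]
    exact h.etaI_orth hφ hψ₁ h1 hχ hirr ht ht1

/-- the inner product of `η_ψ` with `τ(μ_ψ − tχ)` is `1`, or `0` if `|W₂| = 3`; it does not depend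
on `χ`. -/
theorem etaJ_inner {ψ : Lin W₁ W₂} (hψ : IsJ W₁ W₂ ψ) (hψ1 : ψ ≠ 1)
    {χ : ↥M → ℂ} (hχ : χ ∈ SH M ⊥) (hirr : IsIrrCharacter ↥M χ) {t : ℕ} (ht : 0 < t)
    (ht1 : (t : ℂ) * χ 1 = (Nat.card W₁ * u : ℕ)) :
    classInner (η ψ) (tauM M (colI μ ψ - (t : ℂ) • χ)) = 1 ∨
      (Nat.card W₂ = 3 ∧ classInner (η ψ) (tauM M (colI μ ψ - (t : ℂ) • χ)) = 0) := by
  obtain ⟨σ, hσ⟩ := h.exists_coh hχ hirr
  obtain ⟨x, -, hb⟩ := h.bridge' hψ hψ1 hχ hirr ht ht1 hσ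
  have hχY : χ ∈ Yset M (χ 1) := mem_Yset.2 ⟨hirr, hχ, rfl⟩
  have k1 := h.eta_inner_col_self ψ
  have k1' : classInner (η ψ) (colI η ψ⁻¹) = 0 :=
    h.eta_inner_col fun φ' hφ' => h.jne hψ hψ.inv hφ' (inv_ne_self_lin h.F.oddW hψ1).symm
  have k2 := h.sig_eta hχ hirr hσ hχY ψ
  have k3 : classInner (η ψ) (∑ φ' ∈ Yset M (χ 1), σ φ') = 0 := by
    rw [classInner_sum_right, Finset.sum_eq_zero fun φ' hφ' => h.sig_eta hχ hirr hσ hφ' ψ]
  rcases hb with hb | ⟨h3, hb⟩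
  · left
    rw [hb, classInner_add_right, classInner_sub_right, classInner_smul_right,
      classInner_smul_right, k1, k2, k3]
    simp
  · right
    refine ⟨h3, ?_⟩
    rw [hb, classInner_add_right, classInner_sub_right, classInner_smul_right,
      classInner_smul_right, classInner_neg_right, k1', k2, k3]
    simp

/-- uniformity -/
theorem etaJ_uniform {ψ : Lin W₁ W₂} (hψ : IsJ W₁ W₂ ψ) (hψ1 : ψ ≠ 1)
    {χ χ' : ↥M → ℂ} (hχ : χ ∈ SH M ⊥) (hirr : IsIrrCharacter ↥M χ) {t : ℕ} (ht : 0 < t)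
    (ht1 : (t : ℂ) * χ 1 = (Nat.card W₁ * u : ℕ)) (hχ' : χ' ∈ SH M ⊥)
    (hirr' : IsIrrCharacter ↥M χ') {t' : ℕ} (ht' : 0 < t')
    (ht1' : (t' : ℂ) * χ' 1 = (Nat.card W₁ * u : ℕ))
    (hN : classInner (η ψ) (tauM M (colI μ ψ - (t : ℂ) • χ)) = 1) :
    classInner (η ψ) (tauM M (colI μ ψ - (t' : ℂ) • χ')) = 1 := by
  rcases h.etaJ_inner hψ hψ1 hχ' hirr' ht' ht1' with k | ⟨-, k⟩
  · exact k
  exfalso
  obtain ⟨σ, hσ⟩ := h.exists_coh hχ hirr
  have hχY : χ ∈ Yset M (χ 1) := mem_Yset.2 ⟨hirr, hχ, rfl⟩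
  by_cases hd : χ 1 = χ' 1
  · have ett : t' = t := by
      have := ht1'.trans ht1.symm
      rw [hd] at this
      exact_mod_cast mul_right_cancel₀ (irr_one_ne_zero hirr') this
    subst ett
    have hχY' : χ' ∈ Yset M (χ 1) := mem_Yset.2 ⟨hirr', hχ', hd.symm⟩
    have e1 : tauM M (colI μ ψ - (t' : ℂ) • χ') =
        tauM M (colI μ ψ - (t' : ℂ) • χ) + (t' : ℂ) • (σ χ - σ χ') := by
      have hm : χ - χ' ∈ zspanOn (↑(Yset M (χ 1)) : Set (↥M → ℂ)) ({1}ᶜ : Set ↥M) :=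
        sub_mem_of_eq (by exact_mod_cast hχY) (by exact_mod_cast hχY') hd
      have e3 := hσ.2 _ hm
      rw [hσ.sub (zspan_mem (by exact_mod_cast hχY)) (zspan_mem (by exact_mod_cast hχY'))] at e3
      rw [e3, tauM, ← dade_smul, ← dade_add]
      congr 1
      rw [smul_sub]; abel
    rw [e1, classInner_add_right, hN, classInner_smul_right, classInner_sub_right,
      h.sig_eta hχ hirr hσ hχY, h.sig_eta hχ hirr hσ hχY'] at k
    simp at k
  · obtain ⟨σ', hσ'⟩ := h.exists_coh hχ' hirr'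
    have hχY' : χ' ∈ Yset M (χ' 1) := mem_Yset.2 ⟨hirr', hχ', rfl⟩
    obtain ⟨x, -, hb⟩ := h.bridge' hψ hψ1 hχ hirr ht ht1 hσ
    obtain ⟨x', -, hb'⟩ := h.bridge' hψ hψ1 hχ' hirr' ht' ht1' hσ'
    have k1 := h.eta_inner_col_self ψ
    have hinv := (inv_ne_self_lin h.F.oddW hψ1)
    have k1' : classInner (η ψ) (colI η ψ⁻¹) = 0 :=
      h.eta_inner_col fun φ' hφ' => h.jne hψ hψ.inv hφ' hinv.symm
    have k2 := h.sig_eta hχ hirr hσ hχY ψ
    have k2' := h.sig_eta hχ' hirr' hσ' hχY' ψ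
    have k3 : classInner (η ψ) (∑ φ' ∈ Yset M (χ 1), σ φ') = 0 := by
      rw [classInner_sum_right, Finset.sum_eq_zero fun φ' hφ' => h.sig_eta hχ hirr hσ hφ' ψ]
    have k3' : classInner (η ψ) (∑ φ' ∈ Yset M (χ' 1), σ' φ') = 0 := by
      rw [classInner_sum_right, Finset.sum_eq_zero fun φ' hφ' => h.sig_eta hχ' hirr' hσ' hφ' ψ]
    have hA : tauM M (colI μ ψ - (t : ℂ) • χ) = colI η ψ - (t : ℂ) • σ χ +
        (x : ℂ) • ∑ χ' ∈ Yset M (χ 1), σ χ' := by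
      rcases hb with hb | ⟨-, hb⟩
      · exact hb
      · exfalso
        rw [hb, classInner_add_right, classInner_sub_right, classInner_smul_right,
          classInner_smul_right, classInner_neg_right, k1', k2, k3] at hN
        simp at hN
    have hB : tauM M (colI μ ψ - (t' : ℂ) • χ') = -(colI η ψ⁻¹) - (t' : ℂ) • σ' χ' +
        (x' : ℂ) • ∑ φ ∈ Yset M (χ' 1), σ' φ := by
      rcases hb' with hb | ⟨-, hb⟩
      · exfalso
        rw [hb, classInner_add_right, classInner_sub_right, classInner_smul_right,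
          classInner_smul_right, k1, k2', k3'] at k
        simp at k
      · exact hb
    have hiso := h.F.tau_inner' (h.gen_supp hψ hψ1 hχ ht1) (h.gen_supp hψ hψ1 hχ' ht1')
    have hne : χ ≠ χ' := fun e => hd (by rw [e])
    classical
    have r1 : classInner (colI μ ψ - (t : ℂ) • χ) (colI μ ψ - (t' : ℂ) • χ') =
        (Nat.card W₁ : ℂ) := by
      have z1 := h.F.irr_inner_col (h.F.SH_sub' _ hχ) hirr ψ
      have z2 : classInner (colI μ ψ) χ' = 0 := by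
        rw [← classInner_conj_symm, h.F.irr_inner_col (h.F.SH_sub' _ hχ') hirr' ψ, map_zero]
      rw [classInner_sub_left, classInner_sub_right, classInner_sub_right,
        h.F.col_inner hψ hψ, if_pos rfl, classInner_smul_right, z2, classInner_smul_left, z1,
        classInner_smul_left, classInner_smul_right, classInner_irr hirr hirr', if_neg hne]
      simp
    have r2 : classInner (tauM M (colI μ ψ - (t : ℂ) • χ))
        (tauM M (colI μ ψ - (t' : ℂ) • χ')) = 0 := by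
      have z1 : classInner (colI η ψ) (colI η ψ⁻¹) = 0 := by
        rw [h.F.eta_col_inner hψ hψ.inv, if_neg hinv.symm]
      have z2 : ∀ φ ∈ Yset M (χ' 1), classInner (colI η ψ) (σ' φ) = 0 := fun φ hφ => by
        rw [← classInner_conj_symm, h.sig_col hχ' hirr' hσ' hφ, map_zero]
      have z3 : ∀ φ ∈ Yset M (χ 1), classInner (σ φ) (colI η ψ⁻¹) = 0 := fun φ hφ =>
        h.sig_col hχ hirr hσ hφ _
      have z4 : ∀ φ ∈ Yset M (χ 1), ∀ φ' ∈ Yset M (χ' 1), classInner (σ φ) (σ' φ') = 0 :=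
        fun φ hφ φ' hφ' => h.sig_sig' hχ hirr hχ' hirr' hd hσ hσ' hφ hφ'
      have z5 : ∀ a : G → ℂ, (∀ φ ∈ Yset M (χ' 1), classInner a (σ' φ) = 0) →
          classInner a (colI η ψ⁻¹) = 0 →
          classInner a (-(colI η ψ⁻¹) - (t' : ℂ) • σ' χ' +
            (x' : ℂ) • ∑ φ ∈ Yset M (χ' 1), σ' φ) = 0 := by
        intro a ha ha'
        rw [classInner_add_right, classInner_sub_right, classInner_smul_right,
          classInner_smul_right, classInner_neg_right, ha', ha χ' hχY', classInner_sum_right,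
          Finset.sum_eq_zero ha]
        simp
      rw [hA, hB, classInner_add_left, classInner_sub_left, classInner_smul_left,
        classInner_smul_left, classInner_sum_left, z5 _ z2 z1, z5 _ (z4 χ hχY) (z3 χ hχY),
        Finset.sum_eq_zero fun φ hφ => z5 _ (z4 φ hφ) (z3 φ hφ)]
      simp
    rw [r1, r2] at hiso
    have : (Nat.card W₁ : ℂ) ≠ 0 := by exact_mod_cast Nat.card_pos.ne'
    exact this hiso.symm

/-- `η_ψ`, `ψ ∈ J`, on `M` -/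
theorem etaJ_const {ψ : Lin W₁ W₂} (hψ : IsJ W₁ W₂ ψ) (hψ1 : ψ ≠ 1) :
    ∃ (f₀ : ↥M → ℂ) (κ : ℂ), (∀ y, Ec M y f₀ = 0) ∧ ‖f₀ 1‖ = (u : ℝ) ∧
      (∑ x ∈ (Set.toFinite (↑(commutator ↥M) : Set ↥M)).toFinset, ‖f₀ x‖ ^ 2 =
        (Nat.card (commutator ↥M) : ℝ)) ∧
      (∀ x ∈ commutator ↥M, x ≠ 1 → (x : G) ∉ typeA M → f₀ x = 0) ∧
      (∀ x ∈ PM M, x ≠ 1 → η ψ (x : ↥M) - f₀ x = κ) ∧
      (∀ x ∈ PM M, ∀ y : ↥M, (y : G) ∈ typeA M → (y : G) ∉ fittingHallOf M →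
        η ψ (x * y : ↥M) - f₀ (x * y) = η ψ y - f₀ y) := by
  classical
  have hcl := h.eta_cls ψ
  have hinv := (inv_ne_self_lin h.F.oddW hψ1)
  -- general facts on `μ`
  have hK : ∀ ψ' : Lin W₁ W₂, IsJ W₁ W₂ ψ' → ψ' ≠ 1 → ∀ s : ℂ, ‖s‖ = 1 →
      (∀ y, Ec M y (s • μ ψ') = 0) ∧ ‖(s • μ ψ') 1‖ = (u : ℝ) ∧
      (∑ x ∈ (Set.toFinite (↑(commutator ↥M) : Set ↥M)).toFinset, ‖(s • μ ψ') x‖ ^ 2 =
        (Nat.card (commutator ↥M) : ℝ)) ∧
      (∀ x ∈ commutator ↥M, x ≠ 1 → (x : G) ∉ typeA M → (s • μ ψ') x = 0) := by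
    intro ψ' hψ' h1' s hs
    refine ⟨fun y => ?_, ?_, ?_, ?_⟩
    · rw [Ec_smul, h.Ec_zero_mu hψ' h1' y, mul_zero]
    · rw [Pi.smul_apply, h.deg ψ' hψ' h1', smul_eq_mul, norm_mul, hs, one_mul]
      simp
    · refine norm_sum_irr (h.F.res_irr ψ') fun k => ?_
      rw [Pi.smul_apply, smul_eq_mul, norm_mul, hs, one_mul]
    · intro x hx hx1 hxA
      have e1 := h.F.SM_supp (h.F.col_mem hψ' h1') hx1 hxA
      rw [h.F.col_on _ hx, mul_eq_zero] at e1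
      rcases e1 with e1 | e1
      · exact absurd e1 (by exact_mod_cast Nat.card_pos.ne')
      · rw [Pi.smul_apply, e1, smul_zero]
  -- inner products of `μ ψ'`
  have hmc : ∀ {ψ' ψ'' : Lin W₁ W₂}, IsJ W₁ W₂ ψ' → IsJ W₁ W₂ ψ'' →
      classInner (μ ψ') (colI μ ψ'') = if ψ'' = ψ' then 1 else 0 := by
    intro ψ' ψ'' h' h''
    have e1 := h.F.col_inner_mu (φ := 1) IsI.one h'' h'
    rw [brg_one_mul] at e1
    rw [← classInner_conj_symm, e1]
    split_ifs <;> simp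
  have hmχ : ∀ (ω : Lin W₁ W₂) {χ : ↥M → ℂ}, χ ∈ SH M ⊥ → IsIrrCharacter ↥M χ →
      classInner (μ ω) χ = 0 := by
    intro ω χ hχ hirr
    rw [← classInner_conj_symm, h.F.irr_inner_mu (h.F.SH_sub' _ hχ) hirr, map_zero]
  have hec : ∀ {ψ'' : Lin W₁ W₂}, IsJ W₁ W₂ ψ'' →
      classInner (η ψ) (colI η ψ'') = if ψ'' = ψ then 1 else 0 := by
    intro ψ'' h''
    by_cases e : ψ'' = ψ
    · rw [if_pos e, e, h.eta_inner_col_self]
    · rw [if_neg e]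
      exact h.eta_inner_col fun φ' hφ' => h.jne hψ h'' hφ' (fun k => e k.symm)
  -- the key step
  have key : ∀ (ψ' : Lin W₁ W₂) (s : ℤ), IsJ W₁ W₂ ψ' → ψ' ≠ 1 → (s = 1 ∨ s = -1) →
      (∀ ψ'', IsJ W₁ W₂ ψ'' → ψ'' ≠ 1 → ((if ψ'' = ψ then (1 : ℂ) else 0) - 1 =
        s * ((if ψ'' = ψ' then 1 else 0) - (if ψ = ψ' then 1 else 0)))) →
      (∀ χ ∈ SH M ⊥, IsIrrCharacter ↥M χ → ∀ t : ℕ, 0 < t →
        (t : ℂ) * χ 1 = (Nat.card W₁ * u : ℕ) →
        classInner (η ψ) (tauM M (colI μ ψ - (t : ℂ) • χ)) = s * (if ψ = ψ' then 1 else 0)) →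
      ∃ (f₀ : ↥M → ℂ) (κ : ℂ), (∀ y, Ec M y f₀ = 0) ∧ ‖f₀ 1‖ = (u : ℝ) ∧
      (∑ x ∈ (Set.toFinite (↑(commutator ↥M) : Set ↥M)).toFinset, ‖f₀ x‖ ^ 2 =
        (Nat.card (commutator ↥M) : ℝ)) ∧
      (∀ x ∈ commutator ↥M, x ≠ 1 → (x : G) ∉ typeA M → f₀ x = 0) ∧
      (∀ x ∈ PM M, x ≠ 1 → η ψ (x : ↥M) - f₀ x = κ) ∧
      (∀ x ∈ PM M, ∀ y : ↥M, (y : G) ∈ typeA M → (y : G) ∉ fittingHallOf M →
        η ψ (x * y : ↥M) - f₀ (x * y) = η ψ y - f₀ y) := by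
    intro ψ' s hψ' hψ1' hs hcol hirr
    have hsn : ‖(s : ℂ)‖ = 1 := by rcases hs with rfl | rfl <;> simp
    have hsc : conj (s : ℂ) = s := by simp
    obtain ⟨a1, a2, a3, a4⟩ := hK ψ' hψ' hψ1' (s : ℂ) hsn
    have hconst := h.const hψ hψ1 (f := (fun x : ↥M => η ψ x) - (s : ℂ) • μ ψ')
      (classFun_sub (fun g z => hcl g z) (classFun_smul _ (irr_classFun (h.F.irr ψ')))) ?_ ?_
    · obtain ⟨κ, h2, h3⟩ := hconst
      exact ⟨(s : ℂ) • μ ψ', κ, a1, a2, a3, a4, h2, h3⟩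
    · intro ψ'' hψ'' hψ1''
      rw [classInner_sub_left, h.restr_inner (h.col_sub_mem hψ'' hψ1'' hψ hψ1) hcl,
        h.tau_col_sub hψ'' hψ1'' hψ hψ1, classInner_sub_right, hec hψ'', hec hψ, if_pos rfl,
        hcol ψ'' hψ'' hψ1'', classInner_smul_left, classInner_sub_right, hmc hψ' hψ'',
        hmc hψ' hψ, sub_self]
    · intro χ hχ hχirr t ht ht1
      rw [classInner_sub_left, h.restr_inner (h.gen_supp hψ hψ1 hχ ht1) hcl,
        hirr χ hχ hχirr t ht ht1, classInner_smul_left, classInner_sub_right, hmc hψ' hψ,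
        classInner_smul_right, hmχ ψ' hχ hχirr]
      simp
  by_cases hex : ∀ χ ∈ SH M ⊥, IsIrrCharacter ↥M χ → ∀ t : ℕ, 0 < t →
        (t : ℂ) * χ 1 = (Nat.card W₁ * u : ℕ) →
        classInner (η ψ) (tauM M (colI μ ψ - (t : ℂ) • χ)) = 1
  · refine key ψ 1 hψ hψ1 (Or.inl rfl) (fun ψ'' _ _ => ?_) (fun χ hχ hχirr t ht ht1 => ?_)
    · rw [if_pos rfl]; simp
    · rw [hex χ hχ hχirr t ht ht1, if_pos rfl]; simp
  · push Not at hex
    obtain ⟨χ₀, hχ₀, hirr₀, t₀, ht₀, ht₁, hne⟩ := hex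
    have h3 : Nat.card W₂ = 3 := by
      rcases h.etaJ_inner hψ hψ1 hχ₀ hirr₀ ht₀ ht₁ with k | ⟨k, -⟩
      · exact absurd k hne
      · exact k
    refine key ψ⁻¹ (-1) hψ.inv (h.inv_ne_one hψ1) (Or.inr rfl) (fun ψ'' hψ'' hψ1'' => ?_)
      (fun χ hχ hχirr t ht ht1 => ?_)
    · have hinv' : ¬ (ψ = ψ⁻¹) := fun e => hinv e.symm
      have hJ : ψ'' = ψ ∨ ψ'' = ψ⁻¹ := by
        have hJ : idxJ W₁ W₂ = {1, ψ, ψ⁻¹} := by
          symm
          apply Finset.eq_of_subset_of_card_le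
          · intro ω hω
            simp only [Finset.mem_insert, Finset.mem_singleton] at hω
            rw [mem_idxJ]
            rcases hω with rfl | rfl | rfl
            · exact IsJ.one
            · exact hψ
            · exact hψ.inv
          · rw [card_idxJ h.F.hW, h3, Finset.card_insert_of_notMem,
              Finset.card_insert_of_notMem, Finset.card_singleton]
            · rw [Finset.mem_singleton]; exact fun h => hinv h.symm
            · simp only [Finset.mem_insert, Finset.mem_singleton, not_or]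
              exact ⟨fun h => hψ1 h.symm, fun k => h.inv_ne_one hψ1 k.symm⟩
        have := mem_idxJ.2 hψ''
        rw [hJ] at this
        simp only [Finset.mem_insert, Finset.mem_singleton] at this
        rcases this with e | e | e
        · exact absurd e hψ1''
        · exact Or.inl e
        · exact Or.inr e
      rcases hJ with e | e
      · rw [e, if_pos rfl, if_neg hinv']; simp
      · rw [e, if_neg hinv, if_neg hinv', if_pos rfl]; simp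
    · have hinv' : ¬ (ψ = ψ⁻¹) := fun e => hinv e.symm
      rw [if_neg hinv']
      rcases h.etaJ_inner hψ hψ1 hχ hχirr ht ht1 with k | ⟨-, k⟩
      · exact absurd (h.etaJ_uniform hψ hψ1 hχ hχirr ht ht1 hχ₀ hirr₀ ht₀ ht₁ k) hne
      · rw [k]; simp

end IsGood

end Cfsg.Agent.PF
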