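import Cfsg.Agent.PF.Good4
import Cfsg.Agent.S1494
import Cfsg.Agent.S1495

set_option autoImplicit false

/-! The dichotomy (lead). -/

namespace Cfsg.Agent.PF

open Subgroup ComplexConjugate
open Cfsg.Agent.H3 Cfsg.Agent.H11

universe u v w

variable {G : Type u} [Group G] [Fintype G]
variable {M W₁ U W₂ : Subgroup G} [Fintype ↥M] {η : Lin W₁ W₂ → G → ℂ}
  {μ : Lin W₁ W₂ → ↥M → ℂ} {δ : Lin W₁ W₂ → ℤ} {u : ℕ}

theorem int_norm_ge {z : ℂ} (h : ∃ n : ℤ, z = n) (hz : z ≠ 0) : 1 ≤ ‖z‖ ^ 2 := by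
  obtain ⟨n, rfl⟩ := h
  have hn : n ≠ 0 := by rintro rfl; simp at hz
  rw [Complex.norm_intCast]
  have := Int.one_le_abs hn
  have h2 : (1 : ℝ) ≤ |(n : ℝ)| := by exact_mod_cast this
  nlinarith

/-- the arithmetic of the dichotomy -/
theorem dich_arith {X Y S : ℂ} {q t : ℕ} (hq : 2 ≤ q) (ht : 0 < t) (hX : ∃ n : ℤ, X = n)
    (hY : ∃ n : ℤ, Y = n) (hS : IsIntegral ℤ S)
    (h : (t : ℂ) * S = (q - 1 : ℂ) * (X + Y - 1) + Y ∨
      (t : ℂ) * S = -((q - 1 : ℂ) * (X + Y - 1) + Y)) : 1 ≤ ‖S‖ ^ 2 + ‖X‖ ^ 2 := by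
  obtain ⟨m, hm⟩ := hX
  obtain ⟨n, hn⟩ := hY
  have ht0 : (t : ℂ) ≠ 0 := by exact_mod_cast ht.ne'
  set w : ℤ := (q - 1 : ℤ) * (m + n - 1) + n with hw
  have hW : (q - 1 : ℂ) * (X + Y - 1) + Y = w := by rw [hm, hn, hw]; push_cast; ring
  rw [hW] at h
  by_cases h0 : w = 0
  · have hm0 : m ≠ 0 := by
      rintro rfl
      have e : (q : ℤ) * (n - 1) + 1 = 0 := by rw [hw] at h0; linarith
      have : (q : ℤ) ∣ 1 := ⟨-(n - 1), by linarith⟩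
      have h2 := Int.le_of_dvd (by norm_num) this
      omega
    have := int_norm_ge ⟨m, hm⟩ (by rw [hm]; exact_mod_cast hm0)
    nlinarith [sq_nonneg ‖S‖]
  · have hS0 : S ≠ 0 := by
      rintro rfl
      rw [mul_zero] at h
      rcases h with h | h
      · exact h0 (by exact_mod_cast h.symm)
      · exact h0 (by exact_mod_cast (neg_eq_zero.1 h.symm))
    have hrat : ∃ r : ℚ, S = r := by
      rcases h with h | h
      · refine ⟨(w : ℚ) / t, ?_⟩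
        push_cast; rw [← h]; field_simp
      · refine ⟨-(w : ℚ) / t, ?_⟩
        push_cast; rw [← h]; field_simp
    have := int_norm_ge (int_of_rat_integral hrat hS) hS0
    nlinarith [sq_nonneg ‖X‖]

theorem gen_cls' {f : G → ℂ} (hf : SIrr f) : IsClassFunction G f := isGen_classFun hf.isGen

namespace IsGood

variable (h : IsGood M W₁ U W₂ η μ δ u)

include h

theorem dich {lam : ↥M → ℂ} (hl : lam ∈ SH M ⊥) (hirr : IsIrrCharacter ↥M lam)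
    {σ : (↥M → ℂ) → G → ℂ} (hσ : CohMap (↑(Yset M (lam 1))) (tauM M) σ)
    {ι : Type v} [Fintype ι] [Nonempty ι] (s : ι → G) {φ ψ : Lin W₁ W₂} (hφ : IsI W₁ W₂ φ)
    (hφ1 : φ ≠ 1) (hψ : IsJ W₁ W₂ ψ) (hψ1 : ψ ≠ 1)
    (hgrid : ∀ i, ∀ φ' ψ', IsI W₁ W₂ φ' → IsJ W₁ W₂ ψ' →
      η (φ' * ψ') (s i) + 1 = η φ' (s i) + η ψ' (s i))
    (hint : ∀ f, IsGeneralizedCharacter G f → IsIntegral ℤ (Eav s f))
    (hI : ∀ φ', IsI W₁ W₂ φ' → φ' ≠ 1 → Eav s (η φ') = Eav s (η φ))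
    (hJ : ∀ ψ', IsJ W₁ W₂ ψ' → ψ' ≠ 1 → Eav s (η ψ') = Eav s (η ψ))
    (hτ : ∀ χ ∈ SH M ⊥, IsIrrCharacter ↥M χ → ∀ t : ℕ, (t : ℂ) * χ 1 = (Nat.card W₁ * u : ℕ) →
      Eav s (tauM M (colI μ ψ - (t : ℂ) • χ)) = 0) :
    1 ≤ ‖Eav s (σ lam)‖ ^ 2 + ‖Eav s (η φ)‖ ^ 2 := by
  classical
  obtain ⟨t, ht, ht1, -⟩ := h.cliff lam hl hirr
  obtain ⟨x, hx, hb⟩ := h.bridge' hψ hψ1 hl hirr ht ht1 hσ
  set Y := Yset M (lam 1) with hYdef
  have hlY : lam ∈ Y := mem_Yset.2 ⟨hirr, hl, rfl⟩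
  have ht0 : (t : ℂ) ≠ 0 := by exact_mod_cast ht.ne'
  have hone : Eav s (η 1) = 1 := by
    rw [h.F.fam.map_one]; exact Eav_const s (fun _ => rfl)
  -- `X`
  have hXsum : ∑ φ' ∈ idxI W₁ W₂, Eav s (η φ') = 1 + ((Nat.card W₁ : ℂ) - 1) * Eav s (η φ) := by
    rw [← Finset.add_sum_erase _ _ (mem_idxI.2 (IsI.one (W₁ := W₁) (W₂ := W₂))), hone]
    congr 1
    rw [Finset.sum_congr rfl (g := fun _ => Eav s (η φ)), Finset.sum_const,
      Finset.card_erase_of_mem (mem_idxI.2 IsI.one), card_idxI h.F.hW, nsmul_eq_mul,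
      Nat.cast_sub h.hq.one_lt.le]
    · simp
    · intro φ' hφ'
      rw [Finset.mem_erase, mem_idxI] at hφ'
      exact hI φ' hφ'.2 hφ'.1
  have hYsum : ∑ ψ' ∈ idxJ W₁ W₂, Eav s (η ψ') = 1 + ((Nat.card W₂ : ℂ) - 1) * Eav s (η ψ) := by
    rw [← Finset.add_sum_erase _ _ (mem_idxJ.2 (IsJ.one (W₁ := W₁) (W₂ := W₂))), hone]
    congr 1
    rw [Finset.sum_congr rfl (g := fun _ => Eav s (η ψ)), Finset.sum_const,
      Finset.card_erase_of_mem (mem_idxJ.2 IsJ.one), card_idxJ h.F.hW, nsmul_eq_mul,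
      Nat.cast_sub h.hp.one_lt.le]
    · simp
    · intro ψ' hψ'
      rw [Finset.mem_erase, mem_idxJ] at hψ'
      exact hJ ψ' hψ'.2 hψ'.1
  have hq1 : ((Nat.card W₁ : ℂ) - 1) ≠ 0 := by
    have := h.hq.one_lt
    intro e
    have : (Nat.card W₁ : ℂ) = 1 := by linear_combination e
    have : Nat.card W₁ = 1 := by exact_mod_cast this
    omega
  have hp1 : ((Nat.card W₂ : ℂ) - 1) ≠ 0 := by
    have := h.hp.one_lt
    intro e
    have : (Nat.card W₂ : ℂ) = 1 := by linear_combination e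
    have : Nat.card W₂ = 1 := by exact_mod_cast this
    omega
  have hX : ∃ n : ℤ, Eav s (η φ) = n := by
    refine int_of_rat_integral ?_ (hint _ (eta_sirr h.F.fam φ).isGen)
    obtain ⟨r, hr⟩ := Eav_rat s (f := ∑ φ' ∈ idxI W₁ W₂, η φ') (fun i => by
      obtain ⟨n, hn⟩ := sumI_int h.F.hW h.F.fam h.F.oddW (s i)
      exact ⟨n, by rw [Finset.sum_apply]; exact hn⟩)
    rw [Eav_sum, hXsum] at hr
    refine ⟨(r - 1) / ((Nat.card W₁ : ℚ) - 1), ?_⟩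
    push_cast
    rw [← hr]
    field_simp
    ring
  have hY : ∃ n : ℤ, Eav s (η ψ) = n := by
    refine int_of_rat_integral ?_ (hint _ (eta_sirr h.F.fam ψ).isGen)
    obtain ⟨r, hr⟩ := Eav_rat s (f := ∑ ψ' ∈ idxJ W₁ W₂, η ψ') (fun i => by
      obtain ⟨n, hn⟩ := sumJ_int h.F.hW h.F.fam h.F.oddW (s i)
      exact ⟨n, by rw [Finset.sum_apply]; exact hn⟩)
    rw [Eav_sum, hYsum] at hr
    refine ⟨(r - 1) / ((Nat.card W₂ : ℚ) - 1), ?_⟩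
    push_cast
    rw [← hr]
    field_simp
    ring
  -- the column sums
  have hcol : ∀ ψ', IsJ W₁ W₂ ψ' → ψ' ≠ 1 → Eav s (colI η ψ') =
      ((Nat.card W₁ : ℂ) - 1) * (Eav s (η φ) + Eav s (η ψ) - 1) + Eav s (η ψ) := by
    intro ψ' hψ' hψ1'
    have e1 : ∀ φ' ∈ idxI W₁ W₂, Eav s (η (φ' * ψ')) = Eav s (η φ') + (Eav s (η ψ) - 1) := by
      intro φ' hφ'
      rw [mem_idxI] at hφ'
      have e2 : Eav s (η (φ' * ψ')) = Eav s (η φ' + (η ψ' - fun _ => 1)) := by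
        refine Eav_congr s fun i => ?_
        simp only [Pi.add_apply, Pi.sub_apply]
        linear_combination hgrid i φ' ψ' hφ' hψ'
      rw [e2, Eav_add, Eav_sub, hJ ψ' hψ' hψ1',
        Eav_const s (f := fun _ => (1 : ℂ)) (c := 1) (fun _ => rfl)]
    rw [colI, Eav_sum, Finset.sum_congr rfl e1, Finset.sum_add_distrib, hXsum, Finset.sum_const,
      card_idxI h.F.hW, nsmul_eq_mul]
    ring
  -- all the `σ χ` have the same average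
  have hσeq : ∀ χ ∈ Y, Eav s (σ χ) = Eav s (σ lam) := by
    intro χ hχ
    have hχ' := mem_Yset.1 hχ
    have hm : lam - χ ∈ zspanOn (↑Y : Set (↥M → ℂ)) ({1}ᶜ : Set ↥M) :=
      sub_mem_of_eq (by exact_mod_cast hlY) (by exact_mod_cast hχ) hχ'.2.2.symm
    have e3 := hσ.2 _ hm
    rw [hσ.sub (zspan_mem (by exact_mod_cast hlY)) (zspan_mem (by exact_mod_cast hχ))] at e3
    have e1 := hτ lam hl hirr t ht1
    have e2 := hτ χ hχ'.2.1 hχ'.1 t (by rw [hχ'.2.2]; exact ht1)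
    have e4 : tauM M (colI μ ψ - (t : ℂ) • χ) =
        tauM M (colI μ ψ - (t : ℂ) • lam) + (t : ℂ) • (σ lam - σ χ) := by
      rw [e3, tauM, ← dade_smul, ← dade_add]
      congr 1
      rw [smul_sub]; abel
    rw [e4, Eav_add, e1, zero_add, Eav_smul, Eav_sub] at e2
    rcases mul_eq_zero.1 e2 with e5 | e5
    · exact absurd e5 ht0
    · linear_combination -e5
  have hsum : Eav s (∑ χ' ∈ Y, σ χ') = (Y.card : ℂ) * Eav s (σ lam) := by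
    rw [Eav_sum, Finset.sum_congr rfl hσeq, Finset.sum_const, nsmul_eq_mul]
  have h0 := hτ lam hl hirr t ht1
  refine dich_arith h.hq.two_le ht hX hY (hint _ (h.sig_irr hl hirr hσ hlY).1.isGen) ?_
  have hψi := h.inv_ne_one hψ1
  rcases hb with hb | ⟨-, hb⟩
  · rw [hb, Eav_add, Eav_sub, Eav_smul, Eav_smul, hsum, hcol ψ hψ hψ1] at h0
    rcases hx with rfl | ⟨rfl, hN⟩
    · left
      simp only [Int.cast_zero, zero_mul, add_zero] at h0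
      linear_combination -h0
    · right
      rw [hN] at h0
      push_cast at h0
      linear_combination h0
  · rw [hb, Eav_add, Eav_sub, Eav_smul, Eav_smul, Eav_neg, hsum, hcol ψ⁻¹ hψ.inv hψi] at h0
    rcases hx with rfl | ⟨rfl, hN⟩
    · right
      simp only [Int.cast_zero, zero_mul, add_zero] at h0
      linear_combination -h0
    · left
      rw [hN] at h0
      push_cast at h0
      linear_combination h0

/-! ### facts on cosets -/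

omit h in
/-- the coset as a family of points of `G` -/
def cos (M : Subgroup G) (y : ↥M) : PM M → G := fun x => ((x : ↥M) * y : ↥M)

theorem Eav_cos [Fintype ↥(PM M)] (y : ↥M) (f : G → ℂ) :
    Eav (cos M y) f = Ec M y (fun x => f x) := by
  unfold Ec
  simp only [Eav, cos]
  congr!

theorem A_conj_G {g : G} (hg : g ∈ typeA M) (z : G) : z * g * z⁻¹ ∈ tildeOf M (typeA M) :=
  ⟨g, hg, 1, one_mem _, z, by rw [mul_one]⟩

/-- elements of `A(M)` are not conjugate to elements of `V` -/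
theorem A_not_V {g : G} (hg : g ∈ typeA M) (z : G) : z * g * z⁻¹ ∉ Vset W₁ W₂ :=
  fun hv => h.F.V_tilde hv (h.A_conj_G hg z)

theorem cos_mem {y : ↥M} (hy : y ∈ BF M) (x : PM M) : cos M y x ∈ typeA M :=
  (mem_BF.1 (h.BF_mul x y hy)).1

theorem cos_int (y : ↥M) [Fintype ↥(PM M)] {f : G → ℂ} (hf : IsGeneralizedCharacter G f) :
    IsIntegral ℤ (Eav (cos M y) f) := by
  have h1 : IsGeneralizedCharacter ↥M (fun x : ↥M => f x) := by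
    obtain ⟨a, b, ha, hb, rfl⟩ := hf
    exact ⟨_, _, isChar_restrict M ha, isChar_restrict M hb, rfl⟩
  have := Eav_coset_integral (PM_normal M) h1 y
  exact this

/-- `η_ψ`, `ψ ∈ J ∖ 1` have all the same average on a coset in `A(M) ∖ M_F` -/
theorem cos_J {y : ↥M} (hy : y ∈ BF M) [Fintype ↥(PM M)] {ψ ψ' : Lin W₁ W₂}
    (hψ : IsJ W₁ W₂ ψ) (hψ1 : ψ ≠ 1) (hψ' : IsJ W₁ W₂ ψ') (hψ1' : ψ' ≠ 1) :
    Eav (cos M y) (η ψ') = Eav (cos M y) (η ψ) := by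
  have hI : ∀ {ψ : Lin W₁ W₂}, IsJ W₁ W₂ ψ → ψ ≠ 1 → ¬ IsI W₁ W₂ ψ := by
    intro ψ hψ h1 hI
    have : ψ * 1 = 1 * ψ := by rw [brg_mul_one, brg_one_mul]
    exact h1 (lin_unique h.F.hW hI IsI.one IsJ.one hψ this).1
  obtain ⟨g1, g2⟩ := h.F.galois h.hp hψ' hψ hψ1' hψ1
  obtain ⟨k1, k2⟩ := h.F.tau_mu_sub (ω := ψ') (ω' := ψ) (fun w hw => by
      rw [hψ' w hw, hψ w hw]) (hI hψ' hψ1') (hI hψ hψ1) g1 g2
  rw [h.sgn ψ' hψ' hψ1'] at k2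
  have e1 : Eav (cos M y) (tauM M (μ ψ' - μ ψ)) = 0 := by
    have hcl : IsClassFunction ↥M (μ ψ' - μ ψ) :=
      classFun_sub (irr_classFun (h.F.irr ψ')) (irr_classFun (h.F.irr ψ))
    rw [h.Eav_cos]
    have e2 : Ec M y (fun x : ↥M => tauM M (μ ψ' - μ ψ) x) = Ec M y (μ ψ' - μ ψ) := by
      letI : Fintype ↥(PM M) := Fintype.ofFinite _
      refine Eav_congr _ fun x => ?_
      exact h.tau_on hcl (A_sub_A0 (h.cos_mem hy x))
    rw [e2, Ec_sub, h.Ec_zero_mu hψ' hψ1', h.Ec_zero_mu hψ hψ1, sub_zero]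
  rw [k2] at e1
  simp only [Int.cast_one, one_smul] at e1
  rw [Eav_sub] at e1
  linear_combination e1

theorem Ec_colI {ψ : Lin W₁ W₂} (hψ : IsJ W₁ W₂ ψ) (hψ1 : ψ ≠ 1) {y : ↥M}
    (hy : y ∈ commutator ↥M) : Ec M y (colI μ ψ) = 0 := by
  have e : Ec M y (colI μ ψ) = Ec M y ((Nat.card W₁ : ℂ) • μ ψ) := by
    letI : Fintype ↥(PM M) := Fintype.ofFinite _
    refine Eav_congr _ fun x => ?_
    rw [h.F.col_on _ (mul_mem (h.PM_le x.2) hy)]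
    rfl
  rw [e, Ec_smul, h.Ec_zero_mu hψ hψ1, mul_zero]

theorem cos_tau {y : ↥M} (hy : y ∈ BF M) [Fintype ↥(PM M)] {ψ : Lin W₁ W₂}
    (hψ : IsJ W₁ W₂ ψ) (hψ1 : ψ ≠ 1) {χ : ↥M → ℂ} (hχ : χ ∈ SH M ⊥)
    (hirr : IsIrrCharacter ↥M χ) {t : ℕ} (ht1 : (t : ℂ) * χ 1 = (Nat.card W₁ * u : ℕ)) :
    Eav (cos M y) (tauM M (colI μ ψ - (t : ℂ) • χ)) = 0 := by
  have hcl := (h.gen_cls (h.gen_supp hψ hψ1 hχ ht1)).1
  rw [h.Eav_cos]
  have e2 : Ec M y (fun x : ↥M => tauM M (colI μ ψ - (t : ℂ) • χ) x) =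
      Ec M y (colI μ ψ - (t : ℂ) • χ) := by
    letI : Fintype ↥(PM M) := Fintype.ofFinite _
    refine Eav_congr _ fun x => ?_
    exact h.tau_on hcl (A_sub_A0 (h.cos_mem hy x))
  rw [e2, Ec_sub, Ec_smul, h.Ec_zero_irr hχ hirr, h.Ec_colI hψ hψ1
    (h.F.A_sub (mem_BF.1 hy).1)]
  simp

theorem etaJ_eq {g : G} (hg : ¬ Nat.card W₂ ∣ orderOf g) {ψ ψ' : Lin W₁ W₂}
    (hψ : IsJ W₁ W₂ ψ) (hψ1 : ψ ≠ 1) (hψ' : IsJ W₁ W₂ ψ') (hψ1' : ψ' ≠ 1) :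
    η ψ' g = η ψ g := by
  have := eta_const h.F.hW h.F.fam h.F.oddW h.hp hg IsI.one hψ' hψ hψ1' hψ1
  rwa [brg_one_mul, brg_one_mul] at this

theorem odd_swap : Odd (Nat.card ↥(W₂ ⊔ W₁)) := by rw [sup_comm]; exact h.F.oddW

theorem etaI_eq {g : G} (hg : ¬ Nat.card W₁ ∣ orderOf g) {φ φ' : Lin W₁ W₂}
    (hφ : IsI W₁ W₂ φ) (hφ1 : φ ≠ 1) (hφ' : IsI W₁ W₂ φ') (hφ1' : φ' ≠ 1) :
    η φ' g = η φ g := by
  have hsw : ∀ {φ : Lin W₁ W₂}, IsI W₁ W₂ φ → IsJ W₂ W₁ (swL φ) := fun {φ} hφ => by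
    rw [isJ_swL]; exact hφ
  have hsw1 : ∀ {φ : Lin W₁ W₂}, φ ≠ 1 → (swL φ : Lin W₂ W₁) ≠ 1 := fun {φ} hφ e => by
    apply hφ
    have := congrArg (swL (W₁ := W₁) (W₂ := W₂)) e
    rwa [swL_swL, swL_one] at this
  have := eta_const (selfNorm_swap h.F.hW) (fam_swap h.F.fam) h.odd_swap h.hq hg IsI.one
    (hsw hφ') (hsw hφ) (hsw1 hφ1') (hsw1 hφ1)
  simp only [swF, swL_mul, swL_one, swL_swL, brg_one_mul] at this
  exact this

theorem cos_I {y : ↥M} (hy : y ∈ BF M) [Fintype ↥(PM M)]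
    (hord : ∀ a ∈ typeA M, ¬ Nat.card W₁ ∣ orderOf a) {φ φ' : Lin W₁ W₂}
    (hφ : IsI W₁ W₂ φ) (hφ1 : φ ≠ 1) (hφ' : IsI W₁ W₂ φ') (hφ1' : φ' ≠ 1) :
    Eav (cos M y) (η φ') = Eav (cos M y) (η φ) :=
  Eav_congr _ fun x => h.etaI_eq (hord _ (h.cos_mem hy x)) hφ hφ1 hφ' hφ1'

end IsGood

end Cfsg.Agent.PF
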