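import Cfsg.Agent.PF.Cover
import Cfsg.Agent.PF.BBCount
import Cfsg.Agent.PF.Good6

set_option autoImplicit false

/-! `IsGood` for the two members of a pair (lead). -/

namespace Cfsg.Agent.PF

open Subgroup
open Cfsg.Agent.L (cj nz SylIn)
open Cfsg.Agent.OOT
open Cfsg.Agent.H21
open Cfsg.Agent.H3 Cfsg.Agent.H11

universe u
variable {G : Type u} [Group G] [Fintype G]
variable {S T W₁ W₂ U V : Subgroup G} [Fintype ↥S] [Fintype ↥T] (hG : IsMinSimpleOddOrder G)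
  {η : Lin W₁ W₂ → G → ℂ} {μ : Lin W₁ W₂ → ↥S → ℂ} {δ : Lin W₁ W₂ → ℤ}

/-- `C_U(P)` -/
abbrev CU (S U : Subgroup G) : Subgroup G := U ⊓ centralizer (fittingHallOf S : Set G)

omit [Fintype ↥S] [Fintype ↥T] in
include hG in
theorem IsPair.fixP (h : IsPair S T W₁ W₂ U V) :
    fittingHallOf S ⊓ centralizer (U : Set G) = ⊥ := by
  rcases h.S23 hG with k | k
  · exact (typeII_fix_bot (h.S_sol hG) h.hSP k).2
  · obtain ⟨-, -, -, -, -, -, h1, -⟩ := BBG.typeIII_main hG h.hS h.hSP k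
    obtain ⟨x, hx, hx1⟩ := exists_ne_one (h.U_ne hG)
    rw [Subgroup.eq_bot_iff_forall]
    rintro y ⟨hy, hy2⟩
    exact h1 x hx hx1 y hy (mem_cent_iff.1 hy2 x hx).symm

omit [Fintype ↥S] [Fintype ↥T] in
include hG in
theorem IsPair.hbar (h : IsPair S T W₁ W₂ U V) :
    IsHbar S W₁ U W₂ ⊥ (CU S U) (Nat.card W₂) :=
  hbar_of_fix_bot h.hSP (h.U_ne hG) (h.q_prime hG) (h.p_prime hG) (h.fixP hG)

include hG in
theorem IsPair.good (h : IsPair S T W₁ W₂ U V) (F : IsFrame S W₁ U W₂ η μ δ) :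
    IsGood S W₁ U W₂ η μ δ ((CU S U).relIndex U) := by
  have hb := h.hbar hG
  have hab := h.U_comm hG
  have hU0 : (⁅U, U⁆ : Subgroup G) = ⊥ := by
    rw [Subgroup.commutator_eq_bot_iff_le_centralizer]
    intro x hx
    rw [mem_cent_iff]
    intro y hy
    exact mulComm_iff.1 hab x hx y hy
  have hrel0 : 0 < (CU S U).relIndex U := by
    have := L.card_mul_relIndex (T := CU S U) (U := U) inf_le_left
    rcases Nat.eq_zero_or_pos ((CU S U).relIndex U) with e | e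
    · rw [e, mul_zero] at this
      exact absurd this.symm Nat.card_pos.ne'
    · exact e
  refine ⟨F, h.p_prime hG, h.q_prime hG, hrel0, ?_, ?_, ?_, ?_, fun a ha => h.supp hG ha,
    fun a ha haP x hx => h.coset hG ha haP hx, fun x hx hx1 => h.P_sub hG hx hx1, ?_⟩
  · intro ψ hψ h1
    exact (hb.all_col F rfl hψ h1).2
  · intro ψ hψ h1
    exact hb.col_sign F (hb.all_col F rfl hψ h1).2
  · intro ψ hψ h1
    exact SH_mono bot_le (hb.all_col F rfl hψ h1).1
  · intro χ hχ hirr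
    have hχ' : χ ∈ SH S (⊥ ⊔ ⁅U, U⁆) := by rw [hU0, sup_bot_eq]; exact hχ
    obtain ⟨k, ⟨t, hk⟩, hk2⟩ := hb.deg_dvd F hχ'
    have ht0 : 0 < t := by
      rcases Nat.eq_zero_or_pos t with e | e
      · rw [e, mul_zero] at hk; omega
      · exact e
    refine ⟨t, ht0, ?_, ?_⟩
    · rw [hk2, hk]; push_cast; ring
    · have h1 := hb.count_all F hab hχ hirr hk2 (t := t) (by rw [hk]; ring)
      have e : Nat.card {φ : ↥S → ℂ // IsIrrCharacter ↥S φ ∧ φ ∈ SH S ⊥ ∧ φ 1 = χ 1} =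
          (Yset S (χ 1)).card := by
        rw [Nat.card_congr (Equiv.subtypeEquivRight fun φ =>
          (mem_Yset (M := S) (n := χ 1) (φ := φ)).symm)]
        simp
      rwa [e] at h1
  · have e1 := h.hSP.card_M
    have e2 := h.hSP.card_M'
    rw [← e1, ← e2]; ring

/-- **(13.10')** for a pair. -/
theorem IsPair.ineq (h : IsPair S T W₁ W₂ U V) (F : IsFrame S W₁ U W₂ η μ δ)
    {ν : Lin W₂ W₁ → ↥T → ℂ} {ε : Lin W₂ W₁ → ℤ} (F' : IsFrame T W₂ V W₁ (swF η) ν ε)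
    {lam : ↥S → ℂ} (hl : lam ∈ SH S ⊥) (hirr : IsIrrCharacter ↥S lam) :
    (Nat.card (commutator ↥T) : ℝ) / Nat.card T ≤
      (‖lam 1‖ ^ 2 + ‖lam 1‖ ^ 2 / ((Nat.card (fittingHallOf S) : ℝ) - 1)) / Nat.card S +
      ((((CU T V).relIndex V : ℕ) : ℝ) ^ 2 +
        (((CU T V).relIndex V : ℕ) : ℝ) ^ 2 / ((Nat.card (fittingHallOf T) : ℝ) - 1) +
        ((Nat.card (fittingHallOf T) : ℝ) - 1)) / Nat.card T := by
  have hG := F.hG
  have hS := h.good hG F
  have hT := h.symm.good hG F'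
  refine ineq1310 hS hT ?_ ?_ ?_ ?_ hl hirr
  · intro g hg hg'
    rcases h.hII with k | k
    · exact h.disj hG F' k g hg' hg
    · exact h.symm.disj hG F k g hg hg'
  · intro g hg1 hgS hgT hV
    constructor
    · intro hd
      rcases h.symm.cover hG F' hg1 hd with k | ⟨y, hy⟩
      · exact hgT k
      · exact hV y ⟨by rw [sup_comm]; exact hy.1, hy.2.2, hy.2.1⟩
    · intro hd
      rcases h.cover hG F hg1 hd with k | ⟨y, hy⟩
      · exact hgS k
      · exact hV y hy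
  · intro a ha hd
    have h1 := ((h.mem_typeA hG).1 ha).1
    exact (h.q_prime hG).one_lt.ne' (Nat.eq_one_of_dvd_coprimes h.hSP.coprime_W₁ dvd_rfl
      (hd.trans (orderOf_dvd_card_of_mem h1)))
  · intro a ha hd
    have h1 := ((h.symm.mem_typeA hG).1 ha).1
    exact (h.p_prime hG).one_lt.ne' (Nat.eq_one_of_dvd_coprimes h.hTP.coprime_W₁ dvd_rfl
      (hd.trans (orderOf_dvd_card_of_mem h1)))

end Cfsg.Agent.PF
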