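import Cfsg.Agent.PF.Data
import Cfsg.Agent.H21.OT16e

set_option autoImplicit false

/-! Exclusivity of the types, from the classification of the types in terms of the standard
factorisation (`H14.Types`); no printed rows, only the weak type I is used.  Everything in
PF sections 4 - 11 is built on this file. -/

namespace Cfsg.Agent.PF

open Subgroup
open Cfsg.Agent.L (cj nz SylIn)
open Cfsg.Agent.H14 (IsPiSub)
open Cfsg.Agent.OOT
open Cfsg.Agent.H21
open scoped Pointwise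

universe u
variable {G : Type u} [Group G] [Finite G] (hG : IsMinSimpleOddOrder G)
variable {M W₁ U W₂ W₁' U' W₂' : Subgroup G} (hM : IsCoatom M)

include hG hM

theorem exists_sigmaDecomposition : ∃ K U : Subgroup G, IsSigmaDecomposition M K U :=
  exists_dec' hG hM

theorem not_wtypeI_of_II (h : IsOfTypeII M) : ¬ H2.WTypeI M := by
  obtain ⟨K, U, hd⟩ := exists_sigmaDecomposition hG hM
  rw [H14.TY.typeI_iff hG hM hd]
  rw [H14.TY.typeII_iff hG hM hd] at h
  exact fun h' => h.1 h'.1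

theorem not_wtypeI_of_III (h : IsOfTypeIII M ∨ IsOfTypeIV M) : ¬ H2.WTypeI M := by
  obtain ⟨K, U, hd⟩ := exists_sigmaDecomposition hG hM
  rw [H14.TY.typeI_iff hG hM hd]
  rw [H14.TY.typeIII_IV_iff hG hM hd] at h
  exact fun h' => h.1 h'.1

theorem not_wtypeI_of_V (h : IsOfTypeV M) : ¬ H2.WTypeI M := by
  obtain ⟨K, U, hd⟩ := exists_sigmaDecomposition hG hM
  rw [H14.TY.typeI_iff hG hM hd]
  rw [H14.TY.typeV_iff hG hM hd] at h
  exact fun h' => h.1 h'.1

theorem not_typeI_of_II (h : IsOfTypeII M) : ¬ IsOfTypeI M :=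
  fun h' => not_wtypeI_of_II hG hM h (H2.WTypeI.of_typeI h')

theorem not_typeI_of_III (h : IsOfTypeIII M ∨ IsOfTypeIV M) : ¬ IsOfTypeI M :=
  fun h' => not_wtypeI_of_III hG hM h (H2.WTypeI.of_typeI h')

theorem not_typeI_of_V (h : IsOfTypeV M) : ¬ IsOfTypeI M :=
  fun h' => not_wtypeI_of_V hG hM h (H2.WTypeI.of_typeI h')

theorem not_III_of_II (h : IsOfTypeII M) : ¬ (IsOfTypeIII M ∨ IsOfTypeIV M) := by
  obtain ⟨K, U, hd⟩ := exists_sigmaDecomposition hG hM
  rw [H14.TY.typeIII_IV_iff hG hM hd]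
  rw [H14.TY.typeII_iff hG hM hd] at h
  exact fun h' => h.2 h'.2.1

theorem not_V_of_II (h : IsOfTypeII M) : ¬ IsOfTypeV M := by
  obtain ⟨K, U, hd⟩ := exists_sigmaDecomposition hG hM
  rw [H14.TY.typeV_iff hG hM hd]
  rw [H14.TY.typeII_iff hG hM hd] at h
  exact fun h' => h.2 h'.2.1

theorem not_V_of_III (h : IsOfTypeIII M ∨ IsOfTypeIV M) : ¬ IsOfTypeV M := by
  obtain ⟨K, U, hd⟩ := exists_sigmaDecomposition hG hM
  rw [H14.TY.typeV_iff hG hM hd]
  rw [H14.TY.typeIII_IV_iff hG hM hd] at h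
  exact fun h' => h.2.2 h'.2.2

theorem typeCore_II (h : IsOfTypeII M) : typeCore M = fittingHallOf M := by
  rw [typeCore, if_neg (not_III_of_II hG hM h)]

theorem typeCore_I (h : IsOfTypeI M) : typeCore M = fittingHallOf M := by
  rw [typeCore, if_neg (fun h' => not_typeI_of_III hG hM h' h)]

omit hG hM in
theorem typeCore_III (h : IsOfTypeIII M ∨ IsOfTypeIV M) : typeCore M = ⁅M, M⁆ := by
  rw [typeCore, if_pos h]

theorem not_wtypeI_of_P (hP : IsTypePWith M W₁ U W₂) : ¬ H2.WTypeI M := by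
  obtain ⟨K, V, hd⟩ := exists_sigmaDecomposition hG hM
  rw [H14.TY.typeI_iff hG hM hd]
  exact fun h => H14.TY.K_ne_of_typeP hG hM hd.hall hP h.1

/-- the types of a maximal subgroup with `K ≠ 1` -/
theorem types_of_K {K V : Subgroup G} (hd : IsSigmaDecomposition M K V) (hK : K ≠ ⊥) :
    IsOfTypeII M ∨ IsOfTypeIII M ∨ IsOfTypeIV M ∨ IsOfTypeV M := by
  by_cases hV : V = ⊥
  · by_cases hF : fittingHallOf M = sigmaCore M
    · exact Or.inr (Or.inr (Or.inr ((H14.TY.typeV_iff hG hM hd).2 ⟨hK, hV, hF⟩)))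
    · rcases (H14.TY.typeIII_IV_iff hG hM hd).2 ⟨hK, hV, hF⟩ with h | h
      · exact Or.inr (Or.inl h)
      · exact Or.inr (Or.inr (Or.inl h))
  · exact Or.inl ((H14.TY.typeII_iff hG hM hd).2 ⟨hK, hV⟩)

theorem types_of_P (hP : IsTypePWith M W₁ U W₂) :
    IsOfTypeII M ∨ IsOfTypeIII M ∨ IsOfTypeIV M ∨ IsOfTypeV M := by
  obtain ⟨K, V, hd⟩ := exists_sigmaDecomposition hG hM
  exact types_of_K hG hM hd (H14.TY.K_ne_of_typeP hG hM hd.hall hP)

/-- a maximal subgroup which is not of weak type I has `K ≠ 1` -/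
theorem K_ne_of_not_w (hI : ¬ H2.WTypeI M) {K V : Subgroup G} (hd : IsSigmaDecomposition M K V) :
    K ≠ ⊥ := by
  rintro rfl
  exact hI ((H14.TY.typeI_iff hG hM hd).2 ⟨rfl, U_ne_of_K hG hM hd⟩)

theorem exists_P_of_not_w (hI : ¬ H2.WTypeI M) : ∃ W₁ U W₂ : Subgroup G, IsTypePWith M W₁ U W₂ := by
  obtain ⟨K, V, hd⟩ := exists_sigmaDecomposition hG hM
  obtain ⟨V', h⟩ := H14.TY.exists_typeP hG hM hd (K_ne_of_not_w hG hM hI hd)
  exact ⟨_, _, _, h⟩

theorem typeCore_le_derived : typeCore M ≤ ⁅M, M⁆ := by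
  rw [H14.TY.typeCore_eq hG hM]
  exact OOT.sigmaCore_le_derived hG hM

theorem A1_sub_A' : typeA1 M ⊆ typeA M := by
  rintro x ⟨h1, h2⟩
  have h2' : x ≠ 1 := h2
  by_cases hI : IsOfTypeI M
  · rw [typeA, if_pos hI]
    rw [typeCore_I hG hM hI] at h1
    exact ⟨fhOf_le M h1, h2', x, h1, h2', rfl⟩
  · rw [typeA, if_neg hI]
    exact ⟨typeCore_le_derived hG hM h1, h2', x, h1, h2', rfl⟩

end Cfsg.Agent.PF
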