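import Cfsg.Agent.PF.FrobAct
import Cfsg.Agent.PF.TypesW

set_option autoImplicit false

/-! PF section 9: definitions (helper13, part (B) of the blueprint). -/

namespace Cfsg.Agent.PF

open Subgroup
open Cfsg.Agent.L (cj nz SylIn)

universe u
variable {G : Type u} [Group G]

/-- The setting of PF section 9: `N = H₀` (normal in `M`, `H/N` a chief factor of `M`, where
`H = M_F`, on which `U` has no fixed points), `C = C_U(H/N)`, `|H/N| = p^q`, `q = |W₁|`, both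
prime, `C_{H/N}(W₁) = W₂N/N` of order `p`. -/
structure IsHbar (M W₁ U W₂ N C : Subgroup G) (p : ℕ) : Prop where
  hP : IsTypePWith M W₁ U W₂
  hU : U ≠ ⊥
  hq : (Nat.card W₁).Prime
  hp : p.Prime
  N_le : N ≤ fittingHallOf M
  N_norm : M ≤ nz N
  card : Nat.card (fittingHallOf M) = Nat.card N * p ^ Nat.card W₁
  W₂_card : Nat.card W₂ = Nat.card ↥(W₂ ⊓ N) * p
  comm : ∀ x ∈ fittingHallOf M, ∀ y ∈ fittingHallOf M, x * y * x⁻¹ * y⁻¹ ∈ N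
  pow : ∀ x ∈ fittingHallOf M, x ^ p ∈ N
  chief : ∀ X : Subgroup G, N ≤ X → X ≤ fittingHallOf M → U ≤ nz X → W₁ ≤ nz X →
    X = N ∨ X = fittingHallOf M
  fix : ∀ x ∈ fittingHallOf M, (∀ u ∈ U, u * x * u⁻¹ * x⁻¹ ∈ N) → x ∈ N
  mem_C : ∀ c, c ∈ C ↔ c ∈ U ∧ ∀ x ∈ fittingHallOf M, c * x * c⁻¹ * x⁻¹ ∈ N

/-- "Galois" case: `U` is irreducible on `H/N`. -/
def IsGal (M U N : Subgroup G) : Prop :=
  ∀ X : Subgroup G, N ≤ X → X ≤ fittingHallOf M → U ≤ nz X → X = N ∨ X = fittingHallOf M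

/-- "non-Galois" case: `X/N = H̄₁` is a `U`-invariant line, `Y/N` the sum of its conjugates under
`W₁ ∖ 1`, `U₁ = C_U(X/N)`, `a = |U : U₁|`. -/
structure IsNonGal (M W₁ U N C X Y U₁ : Subgroup G) (p a : ℕ) : Prop where
  N_le_X : N ≤ X
  X_le : X ≤ fittingHallOf M
  U_le_X : U ≤ nz X
  card_X : Nat.card X = Nat.card N * p
  N_le_Y : N ≤ Y
  Y_le : Y ≤ fittingHallOf M
  U_le_Y : U ≤ nz Y
  card_Y : Nat.card (fittingHallOf M) = Nat.card Y * p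
  cj_le_Y : ∀ w ∈ W₁, w ≠ 1 → cj w X ≤ Y
  inf_XY : X ⊓ Y = N
  sup_XY : X ⊔ Y = fittingHallOf M
  /-- any two conjugates of `Y` generate `H` -/
  sup_cj_Y : ∀ w ∈ W₁, w ≠ 1 → Y ⊔ cj w Y = fittingHallOf M
  /-- a subgroup containing `N` and all the `X^w` is `H` -/
  gen : ∀ Z : Subgroup G, (∀ w ∈ W₁, cj w X ≤ Z) → fittingHallOf M ≤ Z
  mem_U₁ : ∀ u, u ∈ U₁ ↔ u ∈ U ∧ ∀ x ∈ X, u * x * u⁻¹ * x⁻¹ ∈ N
  U₁_le : U₁ ≤ U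
  C_le : C ≤ U₁
  U₁_norm : U ≤ nz U₁
  /-- `U₁ = C_U(H/Y)` -/
  mem_U₁' : ∀ u, u ∈ U₁ ↔ u ∈ U ∧ ∀ x ∈ fittingHallOf M, u * x * u⁻¹ * x⁻¹ ∈ Y
  inf_U₁ : ∀ c, (∀ w ∈ W₁, c ∈ cj w U₁) → c ∈ C
  card_U : Nat.card U = Nat.card U₁ * a
  dvd : a ∣ p - 1
  odd : Odd a
  one_lt : 1 < a
  /-- `U` acts on `X/N` by powers -/
  act : ∀ u ∈ U, ∃ k : ℕ, ∀ x ∈ X, u * x * u⁻¹ * (x ^ k)⁻¹ ∈ N
  /-- `U/U₁` is cyclic -/
  cyc : ∃ g ∈ U, ∀ u ∈ U, ∃ k : ℕ, u * (g ^ k)⁻¹ ∈ U₁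

end Cfsg.Agent.PF
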