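import Cfsg.Agent.PF.G6c
import Cfsg.Agent.PF.G5AA
import Cfsg.Agent.PF.G5L2
import Cfsg.Agent.PF.G5E2
import Cfsg.Agent.PF.G5C
import Cfsg.Agent.PF.G5D
import Cfsg.Agent.PF.GoodOf

set_option autoImplicit false

/-! `LFacts` for a pair (lead). -/

namespace Cfsg.Agent.PF

open Subgroup ComplexConjugate
open Cfsg.Agent.L (cj nz)
open Cfsg.Agent.H3

universe u

section

variable {G : Type u} [Group G] [Fintype G] {S T W₁ W₂ U V L : Subgroup G}
  (hG : IsMinSimpleOddOrder G)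

include hG in
theorem IsPair.HG_not_tilde0 (h : IsPair S T W₁ W₂ U V) (hL : IsCoatom L) (hI : IsOfTypeI L)
    {g : G} (hg : g ∈ HG L) : g ∉ tildeOf S (typeA0 S) := by
  rintro ⟨a, ha, r, hr, y, rfl⟩
  rw [h.supp hG ha, Subgroup.mem_bot] at hr
  refine h.HG_disj_S hG hL hI hg y⁻¹ ?_
  have e1 : y⁻¹ * (y * (a * r) * y⁻¹) * y⁻¹⁻¹ = a := by rw [hr]; group
  rw [e1]; exact ha

include hG in
theorem IsPair.good' [Fintype ↥S] [Fintype ↥T] (h : IsPair S T W₁ W₂ U V)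
    {η : Lin W₁ W₂ → G → ℂ} {μ : Lin W₁ W₂ → ↥S → ℂ} {δ : Lin W₁ W₂ → ℤ}
    (F : IsFrame S W₁ U W₂ η μ δ) : IsGood S W₁ U W₂ η μ δ (Nat.card U) := by
  have := h.good hG F
  rwa [h.relU hG] at this

end

/-- (C), from `factC` -/
theorem factC_lam {G : Type u} [Group G] [Fintype G] {M W₁ U W₂ : Subgroup G} [Fintype ↥M]
    {η : Lin W₁ W₂ → G → ℂ} {μ : Lin W₁ W₂ → ↥M → ℂ} {δ : Lin W₁ W₂ → ℤ}
    (hg : IsGood M W₁ U W₂ η μ δ (Nat.card U)) {X : Set G} {e k : ℕ} {ι : Type u} [Fintype ι]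
    {Z : ι → G → ℂ} {m : ι → ℕ} {i₀ : ι} {Φ : G → ℂ} (h : IsLam X e k Z m i₀ Φ)
    (hX : ∀ x ∈ typeA0 M, x ∉ X) (hZη : ∀ i ω, classInner (Z i) (η ω) = 0) {s : ℤ}
    {ψ : Lin W₁ W₂} (hψ : IsJ W₁ W₂ ψ) (hψ1 : ψ ≠ 1) (hs : classInner Φ (η ψ) = s)
    (he : Even s) : (k - 1) * Nat.card W₁ ≤ e * (Nat.card U - 1) := by
  have key := hg.factC rfl (m := fun i => (m i : ℤ)) h.sirr h.orth h.Z_one hZη
    (fun i x hx => by
      rw [h.van i x (hX x hx)]
      push_cast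
      rfl) h.gen h.one h.real (fun x hx => h.vanΦ x (hX x hx)) hψ hψ1 hs he
  have hU : 1 ≤ Nat.card U := Nat.card_pos
  have h1 : Nat.card W₁ * ∑ i, m i ^ 2 ≤ Nat.card U - 1 := by
    have h2 : ((Nat.card W₁ * ∑ i, m i ^ 2 : ℕ) : ℤ) ≤ ((Nat.card U - 1 : ℕ) : ℤ) := by
      rw [Nat.cast_sub hU]
      push_cast
      exact key
    exact_mod_cast h2
  have h3 : k - 1 = (∑ i, m i ^ 2) * e := by
    have := h.sum
    omega
  rw [h3]
  calc (∑ i, m i ^ 2) * e * Nat.card W₁ = e * (Nat.card W₁ * ∑ i, m i ^ 2) := by ring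
    _ ≤ e * (Nat.card U - 1) := Nat.mul_le_mul_left _ h1

theorem IsPair.lfacts {G : Type u} [Group G] [Finite G] (hG : IsMinSimpleOddOrder G)
    {S T W₁ W₂ U V : Subgroup G} (h : IsPair S T W₁ W₂ U V)
    (hlt : Nat.card W₁ < Nat.card W₂) :
    ∃ rr ss : Subgroup G → ℤ, LFacts S T W₁ W₂ U V rr ss := by
  classical
  cases nonempty_fintype G
  cases nonempty_fintype ↥S
  cases nonempty_fintype ↥T
  have hII := h.typeII_of_lt hG hlt
  obtain ⟨η, μ, δ, ν, ε, F, F'⟩ := h.frames hG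
  have hgS := h.good' hG F
  have hgT := h.symm.good' hG F'
  have hXS : ∀ {L : Subgroup G}, IsCoatom L → IsOfTypeI L → ∀ g ∈ HG L,
      g ∉ tildeOf S (typeA0 S) := fun hL hI g hg => h.HG_not_tilde0 hG hL hI hg
  have hXT : ∀ {L : Subgroup G}, IsCoatom L → IsOfTypeI L → ∀ g ∈ HG L,
      g ∉ tildeOf T (typeA0 T) := fun hL hI g hg => h.symm.HG_not_tilde0 hG hL hI hg
  have key : ∀ L : {L : Subgroup G // IsCoatom L ∧ IsOfTypeI L},
      ∃ (ι : Type u) (_ : Fintype ι) (Z : ι → G → ℂ) (m : ι → ℕ) (i₀ : ι) (Φ : G → ℂ) (r s : ℤ),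
        IsLam (HG L.1) ((fittingHallOf L.1).relIndex L.1) (Nat.card (fittingHallOf L.1))
          Z m i₀ Φ ∧ IsRS η Φ r s := by
    rintro ⟨L, hL, hI⟩
    obtain ⟨ι, fι, Z, m, i₀, Φ, hlam⟩ := exists_lam hG h hL hI
    obtain ⟨r, s, hrs⟩ := hlam.exists_rs hgS hgT (hXS hL hI) (hXT hL hI)
    exact ⟨ι, fι, Z, m, i₀, Φ, r, s, hlam, hrs⟩
  choose ι fι Z m i₀ Φ r s hlam hrs using key
  have hZη : ∀ L i ω, classInner (Z L i) (η ω) = 0 := fun L i ω =>
    (hlam L).Z_eta F (hXS L.2.1 L.2.2) i ω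
  refine ⟨fun L => if hL : IsCoatom L ∧ IsOfTypeI L then r ⟨L, hL⟩ else 0,
    fun L => if hL : IsCoatom L ∧ IsOfTypeI L then s ⟨L, hL⟩ else 0, ?_⟩
  refine ⟨?_, ?_, ?_, ?_, ?_, ?_⟩
  · -- B
    intro L hL hI
    simp only [dif_pos (And.intro hL hI)]
    exact (hlam ⟨L, hL, hI⟩).grid_le' F (hXS hL hI) (hrs ⟨L, hL, hI⟩)
  · -- Cs
    intro L hL hI hev
    simp only [dif_pos (And.intro hL hI)] at hev
    obtain ⟨ψ, hψ, hψ1⟩ := exJ F.hW
    exact factC_lam hgS (hlam ⟨L, hL, hI⟩)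
      (fun x hx hX => hXS hL hI x hX (mem_tildeOf_self hx)) (hZη _) hψ hψ1
      ((hrs ⟨L, hL, hI⟩).col ψ hψ hψ1) hev
  · -- Cr
    intro L hL hI hev
    simp only [dif_pos (And.intro hL hI)] at hev
    obtain ⟨ψ, hψ, hψ1⟩ := exJ F'.hW
    refine factC_lam hgT (hlam ⟨L, hL, hI⟩)
      (fun x hx hX => hXT hL hI x hX (mem_tildeOf_self hx)) (fun i ω => hZη _ i (swL ω)) hψ hψ1
      ((hrs ⟨L, hL, hI⟩).row (swL ψ) ?_ ?_) hev
    · exact isI_swL.2 hψ
    · exact fun e => hψ1 (a_swL_inj.1 (e.trans swL_one.symm))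
  · -- D
    intro L hL hI he hr hs
    simp only [dif_pos (And.intro hL hI)] at hr hs
    refine h.dens hG hII F F' hL hI ?_
    intro R hLR hR hRd
    have hd := lam_density (G := G) (κ := {A : Subgroup G // IsCoatom A ∧ IsOfTypeI A})
      (R.subtype _) ⟨L, hL, hI⟩ (by rw [Finset.mem_subtype]; exact hLR) (fun A => HG A.1)
      (fun A => (fittingHallOf A.1).relIndex A.1) (fun A => Nat.card (fittingHallOf A.1))
      ι Z m i₀ Φ (fun A _ => hlam A) ?_ ?_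
    · refine le_trans (le_of_eq ?_) hd
      refine Finset.sum_bij' (fun A hA => ⟨A, hR A (Finset.mem_of_mem_erase hA)⟩)
        (fun A _ => A.1) ?_ ?_ ?_ ?_ ?_
      · intro A hA
        rw [Finset.mem_erase, Finset.mem_subtype]
        exact ⟨fun e => (Finset.mem_erase.1 hA).1 (congrArg Subtype.val e),
          (Finset.mem_erase.1 hA).2⟩
      · intro A hA
        rw [Finset.mem_erase, Finset.mem_subtype] at hA
        rw [Finset.mem_erase]
        exact ⟨fun e => hA.1 (Subtype.ext e), hA.2⟩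
      · intro A hA; rfl
      · intro A hA; rfl
      · intro A hA
        have h2 := Cfsg.Agent.L.card_mul_relIndex (H21.fhOf_le A)
        have h3 : (Nat.card A : ℝ) = (fittingHallOf A).relIndex A * Nat.card (fittingHallOf A) := by
          rw [mul_comm]
          exact_mod_cast h2.symm
        rw [h3]
    · intro A hA B hB hAB
      rw [Finset.mem_subtype] at hA hB
      rw [Set.disjoint_left]
      intro g hg
      exact h.HG_disj hG A.2.1 A.2.2 B.2.1 B.2.2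
        (hRd _ hA _ hB (fun e => hAB (Subtype.ext e))) hg
    · intro A hA hne
      rw [Finset.mem_subtype] at hA
      have hdis : Disjoint (HG A.1) (HG L) := by
        rw [Set.disjoint_left]
        intro g hg
        exact h.HG_disj hG A.2.1 A.2.2 hL hI (hRd _ hA _ hLR (fun e => hne (Subtype.ext e))) hg
      exact (hlam ⟨L, hL, hI⟩).inner_zero_of_odd F (hXS hL hI) (hrs ⟨L, hL, hI⟩) hr hs he
        ((hlam A).sirr _).norm (hZη A _) (fun i => (hlam A).cross (hlam ⟨L, hL, hI⟩) hdis _ i)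
  · -- E
    intro L hL hI hIII hs
    simp only [dif_pos (And.intro hL hI)] at hs
    refine h.fact_E hG hIII hL hI F' (hlam ⟨L, hL, hI⟩) (hZη _) (s := s ⟨L, hL, hI⟩) ?_
      (hrs ⟨L, hL, hI⟩).col
    exact G6.odd_ne_zero hs
  · -- F
    intro L L' hL hI hL' hI' hnc
    simp only [dif_pos (And.intro hL hI), dif_pos (And.intro hL' hI')]
    refine (hlam ⟨L, hL, hI⟩).grid_cross (hlam ⟨L', hL', hI'⟩) ?_ F (hXS hL hI) (hXS hL' hI')
      (hrs ⟨L, hL, hI⟩) (hrs ⟨L', hL', hI'⟩)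
    rw [Set.disjoint_left]
    intro g hg
    exact h.HG_disj hG hL hI hL' hI' hnc hg

end Cfsg.Agent.PF
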