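import Cfsg.Agent.PF.Classes

set_option autoImplicit false

/-! The maximal subgroups containing `N_G(U)`, `S` of type II. -/

namespace Cfsg.Agent.PF

open Subgroup
open Cfsg.Agent.L (cj nz SylIn)
open Cfsg.Agent.H14 (IsPiSub)
open Cfsg.Agent.OOT
open Cfsg.Agent.H21
open scoped Pointwise commutatorElement

universe u
variable {G : Type u} [Group G] [Finite G]
variable {S T W₁ W₂ U V N : Subgroup G} (hG : IsMinSimpleOddOrder G)

omit [Finite G] in
theorem mem_conj_of_nz {A : Subgroup G} {g x : G} (hg : g ∈ nz A) (hx : x ∈ A) :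
    g * x * g⁻¹ ∈ A := (Subgroup.mem_normalizer_iff.1 hg _).1 hx

/-- `U` abelian: `M'' ≤ M_F`. -/
theorem derived_two_le_H {M : Subgroup G} (h : IsTypePWith M W₁ U W₂) (hU : IsMulCommutative U) :
    ⁅⁅M, M⁆, ⁅M, M⁆⁆ ≤ fittingHallOf M := by
  rw [Subgroup.commutator_le]
  intro a ha b hb
  obtain ⟨x, hx, u, hu, rfl⟩ := h.U_compl.2.2.2 a ha
  obtain ⟨y, hy, v, hv, rfl⟩ := h.U_compl.2.2.2 b hb
  have hun := (h.U_le.trans (le_normalizer_fhOf M)) hu
  have hvn := (h.U_le.trans (le_normalizer_fhOf M)) hv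
  have e : u * v * u⁻¹ = v := by rw [mulComm_iff.1 hU u hu v hv, mul_inv_cancel_right]
  have : ⁅x * u, y * v⁆ = x * (u * y * u⁻¹) * (v * x⁻¹ * v⁻¹) * y⁻¹ := by
    rw [commutatorElement_def]
    calc x * u * (y * v) * (x * u)⁻¹ * (y * v)⁻¹
        = x * (u * y * u⁻¹) * (u * v * u⁻¹) * x⁻¹ * v⁻¹ * y⁻¹ := by
          simp [mul_assoc]
      _ = _ := by rw [e]; simp [mul_assoc]
  rw [this]
  exact mul_mem (mul_mem (mul_mem hx (mem_conj_of_nz hun hy)) (mem_conj_of_nz hvn (inv_mem hx)))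
    (inv_mem hy)

/-- `U` is a Hall subgroup of `M`. -/
theorem U_hall_M {M : Subgroup G} (h : IsTypePWith M W₁ U W₂) :
    IsPiHallOf {p | p ∣ Nat.card U} U M := by
  refine ⟨h.U_le, fun p _ hd => hd, fun p hp hd hi => ?_⟩
  have e : U.relIndex ⁅M, M⁆ * (⁅M, M⁆).relIndex M = U.relIndex M :=
    Subgroup.relIndex_mul_relIndex _ _ _ h.U_le' (commutator_le_self M)
  rw [← e, complIn_relIndex_right h.U_compl, complIn_relIndex_left h.W₁_compl] at hi
  rcases hp.dvd_mul.1 hi with k | k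
  · exact hp.one_lt.ne' (Nat.eq_one_of_dvd_coprimes h.coprime_HU k hd)
  · exact hp.one_lt.ne' (Nat.eq_one_of_dvd_coprimes h.coprime_UW₁ hd k)

/-- elements of order prime to `|W₁|` lie in `M'` -/
theorem le_commutator_of_coprime {M X : Subgroup G} (h : IsTypePWith M W₁ U W₂) (hX : X ≤ M)
    (hc : (Nat.card X).Coprime (Nat.card W₁)) : X ≤ ⁅M, M⁆ := by
  have h1 : IsPiHallOf {p | p ∣ Nat.card ↥⁅M, M⁆} ⁅M, M⁆ M := by
    refine ⟨commutator_le_self M, fun p _ hd => hd, fun p hp hd hi => ?_⟩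
    rw [complIn_relIndex_left h.W₁_compl] at hi
    exact hp.one_lt.ne' (Nat.eq_one_of_dvd_coprimes h.coprime_W₁ hi hd)
  intro x hx
  have h2 : (commutator ↥M).map M.subtype = ⁅M, M⁆ := Subgroup.map_subtype_commutator M
  have h3 : (commutator ↥M).index = Nat.card W₁ := by
    rw [← relIndex_commutator, complIn_relIndex_left h.W₁_compl]
  have h4 : (⟨x, hX hx⟩ : M) ∈ commutator ↥M := by
    rw [← QuotientGroup.eq_one_iff, ← orderOf_eq_one_iff]
    refine Nat.eq_one_of_dvd_coprimes hc ?_ ?_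
    · refine (orderOf_map_dvd (QuotientGroup.mk' (commutator ↥M)) _).trans ?_
      rw [← Subgroup.orderOf_coe]
      exact Subgroup.orderOf_dvd_natCard _ hx
    · rw [← h3, Subgroup.index_eq_card]
      exact orderOf_dvd_natCard _
  rw [← h2]
  exact ⟨_, h4, rfl⟩

theorem nz_U_not_conj_S {M : Subgroup G} (hs : Group.IsSolvable M) (h : IsTypePWith M W₁ U W₂)
    (hII : IsOfTypeII M) (hNU : nz U ≤ N) (g : G) : N ≠ cj g M := by
  rintro rfl
  have hU : U ≤ cj g M := le_normalizer.trans hNU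
  have h1 := IsPiHallOf.cj (U_hall_M h) g
  have h2 := IsPiHallOf.of_card h1 hU (L.card_cj _ _).symm
  have hs' : Group.IsSolvable ↥(cj g M) := H1.isSolvable_map _ hs
  obtain ⟨x, hx, e⟩ := IsPiHallOf.conj hs' h2 h1
  rw [L.cj_cj] at e
  apply (typeII_of hs h hII).2.2.2.2.1
  rw [← L.cj_le_cj (g := x * g), ← L.nz_cj, e]
  refine hNU.trans ?_
  have : cj x (cj g M) = cj g M := L.cj_eq_self_of_mem hx
  rw [L.cj_cj] at this
  exact this.ge

include hG in
theorem IsPair.nz_U_not_conj_T (h : IsPair S T W₁ W₂ U V) (hNU : nz U ≤ N) (g : G) :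
    N ≠ cj g T := by
  intro hL
  have hP := isTypePWith_cj g h.hTP
  rw [← hL] at hP
  have hUL : U ≤ N := le_normalizer.trans hNU
  have hWL : W₁ ≤ N := h.hSP.U_normal.trans hNU
  have c1 : (Nat.card U).Coprime (Nat.card (cj g W₂)) := by
    rw [L.card_cj]
    exact (Nat.Coprime.coprime_dvd_left (Subgroup.card_dvd_of_le h.hSP.W₂_le_H)
      h.hSP.coprime_HU).symm
  have c2 : (Nat.card W₁).Coprime (Nat.card (cj g W₂)) := by
    rw [L.card_cj]; exact h.pq_coprime
  have d1 := le_commutator_of_coprime hP hUL c1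
  have d2 := le_commutator_of_coprime hP hWL c2
  have hVc : IsMulCommutative (cj g V) := isMulComm_cj.2 (h.symm.U_comm hG)
  have d3 : U ≤ fittingHallOf N := by
    rw [← commutator_U_W₁ h.hSP]
    exact (Subgroup.commutator_mono d1 d2).trans (derived_two_le_H hP hVc)
  have c3 : (Nat.card U).Coprime (Nat.card (fittingHallOf N)) := by
    rw [hL, ← cj_fhOf, L.card_cj, (h.symm.P_struct hG).2]
    exact Nat.Coprime.pow_right _ h.hSP.coprime_UW₁
  apply h.U_ne hG
  have := H1.inf_eq_bot_of_card_coprime c3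
  rwa [inf_eq_left.2 d3] at this

include hG in
theorem IsPair.L_typeI (h : IsPair S T W₁ W₂ U V) (hII : IsOfTypeII S) (hL : IsCoatom N)
    (hNU : nz U ≤ N) : IsOfTypeI N := by
  rcases h.typeI_or_conj hG hL with k | ⟨g, k⟩ | ⟨g, k⟩
  · exact k
  · exact absurd k (nz_U_not_conj_S (h.S_sol hG) h.hSP hII hNU g)
  · exact absurd k (h.nz_U_not_conj_T hG hNU g)

end Cfsg.Agent.PF
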