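import Cfsg.Agent.PF.Partner

set_option autoImplicit false

/-! `N_G(X) ≤ S` for `1 ≠ X ≤ P` -/

namespace Cfsg.Agent.PF

open Subgroup
open Cfsg.Agent.L (cj nz SylIn)
open Cfsg.Agent.H14 (IsPiSub)
open Cfsg.Agent.OOT
open Cfsg.Agent.H21
open scoped Pointwise

universe u
variable {G : Type u} [Group G] [Finite G]
variable {S T W₁ W₂ U V : Subgroup G} (hG : IsMinSimpleOddOrder G)

omit [Finite G] in
/-- normal form `x u w` of the elements of `M` -/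
theorem exists_xuw {M : Subgroup G} (h : IsTypePWith M W₁ U W₂) {m : G} (hm : m ∈ M) :
    ∃ x ∈ fittingHallOf M, ∃ u ∈ U, ∃ w ∈ W₁, m = x * u * w := by
  obtain ⟨d, hd, w, hw, rfl⟩ := h.W₁_compl.2.2.2 m hm
  obtain ⟨x, hx, u, hu, rfl⟩ := h.U_compl.2.2.2 d hd
  exact ⟨x, hx, u, hu, w, hw, rfl⟩

theorem fh_sub_typeA {M : Subgroup G} (hG : IsMinSimpleOddOrder G) (hM : IsCoatom M)
    (h : IsTypePWith M W₁ U W₂)
    (h23 : IsOfTypeII M ∨ IsOfTypeIII M) {x : G} (hx : x ∈ fittingHallOf M) (hx1 : x ≠ 1) :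
    x ∈ typeA M := by
  have hI : ¬ IsOfTypeI M := by
    rcases h23 with k | k
    · exact not_typeI_of_II hG hM k
    · exact not_typeI_of_III hG hM (Or.inl k)
  rw [typeA, if_neg hI]
  refine ⟨h.H_le' hx, hx1, x, ?_, hx1, rfl⟩
  rcases h23 with k | k
  · rw [typeCore_II hG hM k]; exact hx
  · rw [typeCore_III (Or.inl k)]; exact h.H_le' hx

include hG in
theorem IsPair.P_comm (h : IsPair S T W₁ W₂ U V) {a b : G} (ha : a ∈ fittingHallOf S)
    (hb : b ∈ fittingHallOf S) : a * b = b * a :=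
  mulComm_iff.1 (h.P_struct hG).1.1 a ha b hb

include hG in
theorem IsPair.mem_A0_of_P (h : IsPair S T W₁ W₂ U V) {x : G} (hx : x ∈ fittingHallOf S)
    (hx1 : x ≠ 1) : x ∈ typeA0 S :=
  Or.inl (fh_sub_typeA hG h.hS h.hSP (h.S23 hG) hx hx1)

include hG in
/-- `N_G(X) ≤ S` for `1 ≠ X ≤ P` -/
theorem IsPair.nz_le (h : IsPair S T W₁ W₂ U V) {X : Subgroup G} (hX : X ≤ fittingHallOf S)
    (hX1 : X ≠ ⊥) : nz X ≤ S := by
  intro g hg
  obtain ⟨x, hx, hx1⟩ := exists_ne_one hX1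
  obtain ⟨h3, h4⟩ := A0_TI hG h.hS h.hSP
  by_contra hgS
  refine hx1 (h3 g (by rw [h4]; exact hgS) x (h.mem_A0_of_P hG (hX hx) hx1) ?_)
  refine h.mem_A0_of_P hG (hX ((Subgroup.mem_normalizer_iff.1 hg _).1 hx)) ?_
  intro e
  exact hx1 (conj_eq_one_iff.1 e)

end Cfsg.Agent.PF
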