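import Cfsg.Agent.PF.GoodOf
import Cfsg.Agent.S1502

set_option autoImplicit false

/-! (13.10') in numerical form (lead). -/

namespace Cfsg.Agent.PF

open Subgroup
open Cfsg.Agent.L (cj nz SylIn)
open Cfsg.Agent.OOT
open Cfsg.Agent.H21
open Cfsg.Agent.H3 Cfsg.Agent.H11

universe u
variable {G : Type u} [Group G] [Fintype G]
variable {S T W₁ W₂ U V : Subgroup G} [Fintype ↥S] [Fintype ↥T] (hG : IsMinSimpleOddOrder G)

/-- the pure real inequality -/
theorem num_conv {p q k c u v d P Q L s t t' : ℝ} (hp : 0 < p) (hq : 0 < q) (hc : 0 < c)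
    (hu : 0 < u) (hv : 0 < v) (hd : 1 ≤ d) (hP : 1 < P) (hQ : 1 < Q) (hL : L = q * k)
    (hs : s = P * q * (c * u)) (ht : t = Q * p * (d * v)) (ht' : t' * p = t)
    (h : t' / t ≤ (L ^ 2 + L ^ 2 / (P - 1)) / s + (v ^ 2 + v ^ 2 / (Q - 1) + (Q - 1)) / t) :
    1 < p * q * k ^ 2 / ((P - 1) * (u * c)) + v / (Q - 1) + 1 / v := by
  have hP1 : 0 < P - 1 := by linarith
  have hQ1 : 0 < Q - 1 := by linarith
  have ht0 : 0 < t := by rw [ht]; positivity
  have ht'0 : 0 < t' := by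
    by_contra hcon
    push Not at hcon
    nlinarith
  have e1 : t' / t = 1 / p := by rw [← ht']; field_simp
  have e2 : (L ^ 2 + L ^ 2 / (P - 1)) / s = q * k ^ 2 / ((P - 1) * (u * c)) := by
    rw [hL, hs]; field_simp; ring
  have e3 : (v ^ 2 + v ^ 2 / (Q - 1) + (Q - 1)) / t =
      (1 / d) * (v / ((Q - 1) * p) + (Q - 1) / (Q * p * v)) := by
    rw [ht]
    have hd0 : 0 < d := by linarith
    field_simp
    ring
  have e4 : (1 / d) * (v / ((Q - 1) * p) + (Q - 1) / (Q * p * v)) ≤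
      v / ((Q - 1) * p) + (Q - 1) / (Q * p * v) := by
    have h1 : 1 / d ≤ 1 := by
      rw [div_le_one (by linarith)]; exact hd
    have h2 : 0 ≤ v / ((Q - 1) * p) + (Q - 1) / (Q * p * v) := by positivity
    nlinarith
  have e5 : (Q - 1) / (Q * p * v) < 1 / (p * v) := by
    rw [div_lt_div_iff₀ (by positivity) (by positivity)]
    nlinarith [mul_pos hp hv]
  rw [e1, e2, e3] at h
  have e6 : 1 / p < q * k ^ 2 / ((P - 1) * (u * c)) + (v / ((Q - 1) * p) + 1 / (p * v)) := by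
    linarith
  have e7 := mul_lt_mul_of_pos_left e6 hp
  have e8 : p * (1 / p) = 1 := by field_simp
  have e9 : p * (q * k ^ 2 / ((P - 1) * (u * c)) + (v / ((Q - 1) * p) + 1 / (p * v))) =
      p * q * k ^ 2 / ((P - 1) * (u * c)) + v / (Q - 1) + 1 / v := by
    field_simp
    ring
  rw [e8, e9] at e7
  exact e7

include hG in
/-- (13.10'), numerical form -/
theorem IsPair.num (h : IsPair S T W₁ W₂ U V) {η : Lin W₁ W₂ → G → ℂ}
    {μ : Lin W₁ W₂ → ↥S → ℂ} {δ : Lin W₁ W₂ → ℤ} (F : IsFrame S W₁ U W₂ η μ δ)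
    {ν : Lin W₂ W₁ → ↥T → ℂ} {ε : Lin W₂ W₁ → ℤ} (F' : IsFrame T W₂ V W₁ (swF η) ν ε)
    {lam : ↥S → ℂ} (hl : lam ∈ SH S ⊥)
    (hirr : IsIrrCharacter ↥S lam) {k : ℕ} (hk : lam 1 = (Nat.card W₁ * k : ℕ)) :
    (1 : ℝ) < (Nat.card W₂ : ℝ) * Nat.card W₁ * (k : ℝ) ^ 2 /
        (((Nat.card W₂ : ℝ) ^ Nat.card W₁ - 1) *
          (((CU S U).relIndex U : ℕ) * (Nat.card (CU S U) : ℝ))) +
      (((CU T V).relIndex V : ℕ) : ℝ) / ((Nat.card W₁ : ℝ) ^ Nat.card W₂ - 1) +
      1 / (((CU T V).relIndex V : ℕ) : ℝ) := by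
  have h1 := h.ineq F F' hl hirr
  have hp := h.p_prime hG
  have hq := h.q_prime hG
  have cP := (h.P_struct hG).2
  have cQ := (h.symm.P_struct hG).2
  have cU := L.card_mul_relIndex (T := CU S U) (U := U) inf_le_left
  have cV := L.card_mul_relIndex (T := CU T V) (U := V) inf_le_left
  have cS : Nat.card S = Nat.card (fittingHallOf S) * Nat.card W₁ *
      (Nat.card (CU S U) * (CU S U).relIndex U) := by
    rw [cU, ← h.hSP.card_M, ← h.hSP.card_M']; ring
  have cT : Nat.card T = Nat.card (fittingHallOf T) * Nat.card W₂ *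
      (Nat.card (CU T V) * (CU T V).relIndex V) := by
    rw [cV, ← h.hTP.card_M, ← h.hTP.card_M']; ring
  have cT' : Nat.card (commutator ↥T) * Nat.card W₂ = Nat.card T := by
    have e : Nat.card (commutator ↥T) = Nat.card ↥⁅T, T⁆ := by
      rw [← Subgroup.map_subtype_commutator]
      exact (H1.card_map_subtype _).symm
    rw [e, h.hTP.card_M]
  have pos1 : 0 < (CU S U).relIndex U := by
    rcases Nat.eq_zero_or_pos ((CU S U).relIndex U) with e | e
    · rw [e, mul_zero] at cU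
      exact absurd cU.symm Nat.card_pos.ne'
    · exact e
  have pos2 : 0 < (CU T V).relIndex V := by
    rcases Nat.eq_zero_or_pos ((CU T V).relIndex V) with e | e
    · rw [e, mul_zero] at cV
      exact absurd cV.symm Nat.card_pos.ne'
    · exact e
  have hPgt : 1 < Nat.card (fittingHallOf S) := by
    rw [cP]; exact Nat.one_lt_pow hq.ne_zero hp.one_lt
  have hQgt : 1 < Nat.card (fittingHallOf T) := by
    rw [cQ]; exact Nat.one_lt_pow hp.ne_zero hq.one_lt
  have hL : ‖lam 1‖ = (Nat.card W₁ : ℝ) * k := by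
    rw [hk]
    push_cast
    rw [norm_mul, Complex.norm_natCast, Complex.norm_natCast]
  have key := num_conv (p := (Nat.card W₂ : ℝ)) (q := (Nat.card W₁ : ℝ)) (k := (k : ℝ))
    (c := (Nat.card (CU S U) : ℝ)) (u := (((CU S U).relIndex U : ℕ) : ℝ))
    (v := (((CU T V).relIndex V : ℕ) : ℝ)) (d := (Nat.card (CU T V) : ℝ))
    (P := (Nat.card (fittingHallOf S) : ℝ)) (Q := (Nat.card (fittingHallOf T) : ℝ))
    (L := ‖lam 1‖) (s := (Nat.card S : ℝ)) (t := (Nat.card T : ℝ))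
    (t' := (Nat.card (commutator ↥T) : ℝ))
    (by exact_mod_cast hp.pos) (by exact_mod_cast hq.pos) (by exact_mod_cast Nat.card_pos)
    (by exact_mod_cast pos1) (by exact_mod_cast pos2)
    (by exact_mod_cast Nat.one_le_iff_ne_zero.2 Nat.card_pos.ne') (by exact_mod_cast hPgt)
    (by exact_mod_cast hQgt) hL (by exact_mod_cast cS) (by exact_mod_cast cT)
    (by exact_mod_cast cT') h1
  rw [cP, cQ] at key
  push_cast at key
  exact key

end Cfsg.Agent.PF
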