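import Mathlib

set_option autoImplicit false

/-! Numerical case analysis for S1547 (lead). -/

namespace Cfsg.Agent.PF

/-- the non-Galois case -/
theorem num_i {p q a u c v E Q : ℝ} (hp : 5 ≤ p) (hq : 3 ≤ q) (ha : 0 ≤ a) (h2a : 2 * a ≤ p - 1)
    (hu : 2 * q + 1 ≤ u) (hc : 1 ≤ c) (hE : p ^ 3 ≤ E) (hv : 2 * p + 1 ≤ v)
    (hQ : 2 * v ≤ Q - 1)
    (h : 1 < p * q * a ^ 2 / ((E - 1) * (u * c)) + v / (Q - 1) + 1 / v) : False := by
  have hv0 : 0 < v := by linarith
  have hE1 : 0 < E - 1 := by
    have : (5 : ℝ) ^ 3 ≤ p ^ 3 := pow_le_pow_left₀ (by norm_num) hp 3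
    norm_num at this
    linarith
  have hu0 : 0 < u := by linarith
  have hc0 : 0 < c := by linarith
  have h1 : p * q * a ^ 2 / ((E - 1) * (u * c)) ≤ 1 / 8 := by
    rw [div_le_iff₀ (by positivity)]
    have e1 : a ^ 2 ≤ (p - 1) ^ 2 / 4 := by nlinarith
    have e2 : (p ^ 3 - 1) * (2 * q + 1) ≤ (E - 1) * (u * c) := by
      have : 2 * q + 1 ≤ u * c := by nlinarith
      have h3 : p ^ 3 - 1 ≤ E - 1 := by linarith
      have h4 : 0 ≤ p ^ 3 - 1 := by nlinarith [pow_pos (show (0:ℝ) < p by linarith) 3]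
      exact mul_le_mul h3 this (by linarith) hE1.le
    have e3 : p * q * a ^ 2 ≤ p * q * ((p - 1) ^ 2 / 4) := by
      apply mul_le_mul_of_nonneg_left e1; positivity
    have e4 : p * (p - 1) ^ 2 ≤ p ^ 3 - 1 := by nlinarith
    nlinarith [mul_le_mul_of_nonneg_right e4 (show (0:ℝ) ≤ 2 * q by linarith)]
  have h2 : v / (Q - 1) ≤ 1 / 2 := by
    rw [div_le_div_iff₀ (by linarith) (by norm_num)]; linarith
  have h3 : 1 / v ≤ 1 / 11 := by
    rw [div_le_div_iff₀ hv0 (by norm_num)]; linarith
  linarith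

/-- the first term in the Galois case -/
theorem num_A {p q u c E : ℝ} (hp : 1 < p) (hq : 0 < q) (hu : 0 < u) (hc : 0 < c)
    (hE : u * (p - 1) ≤ E - 1) :
    p * q * u ^ 2 / ((E - 1) * (u * c)) ≤ p * q / ((p - 1) * c) := by
  have hE1 : 0 < E - 1 := lt_of_lt_of_le (mul_pos hu (by linarith)) hE
  rw [div_le_div_iff₀ (by positivity) (by have := sub_pos.2 hp; positivity)]
  have : p * q * u * c * (u * (p - 1)) ≤ p * q * u * c * (E - 1) :=
    mul_le_mul_of_nonneg_left hE (by positivity)
  nlinarith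

theorem frac_p {p : ℝ} {n : ℝ} (hn : 1 < n) (hp : n ≤ p) : p / (p - 1) ≤ n / (n - 1) := by
  rw [div_le_div_iff₀ (by linarith) (by linarith)]; nlinarith

theorem num_ii {p q u c v : ℕ} (hp : p.Prime) (hq : q.Prime) (hp2 : p ≠ 2) (hq2 : q ≠ 2)
    (hpq : p ≠ q) (hu : 2 * q + 1 ≤ u) (huq : q ∣ u - 1) (hud : u * (p - 1) ∣ p ^ q - 1)
    (hc : 2 * q + 1 ≤ c) (hv : 2 * p + 1 ≤ v) (hvd : v * (q - 1) ∣ q ^ p - 1)
    (h : (1 : ℝ) < (p : ℝ) * q * (u : ℝ) ^ 2 / (((p : ℝ) ^ q - 1) * ((u : ℝ) * c)) +
      (v : ℝ) / ((q : ℝ) ^ p - 1) + 1 / (v : ℝ)) : q = 3 ∧ p = 5 ∧ u = 31 ∧ c < 13 := by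
  have hp3 : 3 ≤ p := by
    have := hp.two_le; omega
  have hq3 : 3 ≤ q := by
    have := hq.two_le; omega
  have hP1 : 1 ≤ p ^ q := Nat.one_le_pow _ _ hp.pos
  have hQ1 : 1 ≤ q ^ p := Nat.one_le_pow _ _ hq.pos
  have hPl : 0 < p ^ q - 1 := by
    have : 1 < p ^ q := Nat.one_lt_pow hq.ne_zero hp.one_lt
    omega
  have hQl : 0 < q ^ p - 1 := by
    have : 1 < q ^ p := Nat.one_lt_pow hp.ne_zero hq.one_lt
    omega
  have hE : (u : ℝ) * (p - 1) ≤ (p : ℝ) ^ q - 1 := by
    have h1 := Nat.le_of_dvd hPl hud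
    have h2 : ((u * (p - 1) : ℕ) : ℝ) ≤ ((p ^ q - 1 : ℕ) : ℝ) := by exact_mod_cast h1
    rw [Nat.cast_mul, Nat.cast_sub hp.one_lt.le, Nat.cast_sub hP1] at h2
    push_cast at h2
    exact h2
  obtain ⟨m, hm⟩ := hvd
  have hm0 : 1 ≤ m := by
    rcases Nat.eq_zero_or_pos m with e | e
    · rw [e, mul_zero] at hm; omega
    · exact e
  have hmR : (v : ℝ) * (q - 1) * m = (q : ℝ) ^ p - 1 := by
    have h2 : ((v * (q - 1) * m : ℕ) : ℝ) = ((q ^ p - 1 : ℕ) : ℝ) := by exact_mod_cast hm.symm
    rw [Nat.cast_mul, Nat.cast_mul, Nat.cast_sub hq.one_lt.le, Nat.cast_sub hQ1] at h2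
    push_cast at h2
    exact h2
  have pR : (3 : ℝ) ≤ p := by exact_mod_cast hp3
  have qR : (3 : ℝ) ≤ q := by exact_mod_cast hq3
  have uR : (2 * q + 1 : ℝ) ≤ u := by exact_mod_cast hu
  have cR : (2 * q + 1 : ℝ) ≤ c := by exact_mod_cast hc
  have vR : (2 * p + 1 : ℝ) ≤ v := by exact_mod_cast hv
  have mR : (1 : ℝ) ≤ m := by exact_mod_cast hm0
  have hA := num_A (p := (p : ℝ)) (q := (q : ℝ)) (u := (u : ℝ)) (c := (c : ℝ))
    (E := (p : ℝ) ^ q) (by linarith) (by linarith) (by linarith) (by linarith) hE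
  have hB1 : (v : ℝ) / ((q : ℝ) ^ p - 1) = 1 / ((q - 1) * m) := by
    rw [← hmR]
    have : (0 : ℝ) < v := by linarith
    have : (0 : ℝ) < q - 1 := by linarith
    field_simp
  have hA2 : (p : ℝ) * q / ((p - 1) * c) = (p / (p - 1)) * (q / c) := by
    have : (0 : ℝ) < c := by linarith
    have : (0 : ℝ) < (p : ℝ) - 1 := by linarith
    field_simp
  have hqc : (q : ℝ) / c ≤ q / (2 * q + 1) := by
    apply div_le_div_of_nonneg_left (by linarith) (by linarith) cR
  have hqc2 : (q : ℝ) / (2 * q + 1) ≤ 1 / 2 := by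
    rw [div_le_div_iff₀ (by linarith) (by norm_num)]; linarith
  have hqc0 : (0 : ℝ) ≤ q / c := by
    have : (0 : ℝ) < c := by linarith
    positivity
  rw [hB1] at h
  rw [hA2] at hA
  by_cases hq5 : q = 3
  · subst hq5
    have hp5 : 5 ≤ p := by
      have : p ≠ 3 := hpq
      have : p ≠ 4 := by rintro rfl; norm_num at hp
      omega
    by_cases hp11 : 11 ≤ p
    · exfalso
      have pR' : (11 : ℝ) ≤ p := by exact_mod_cast hp11
      have f1 := frac_p (p := (p : ℝ)) (n := 11) (by norm_num) pR'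
      have f2 : (p / (p - 1) : ℝ) * ((3 : ℕ) / c) ≤ 11 / 10 * (3 / 7) := by
        push_cast at *
        have : (3 : ℝ) / c ≤ 3 / 7 := by linarith
        have h0 : (0 : ℝ) ≤ p / (p - 1) := by
          have : (0 : ℝ) < (p : ℝ) - 1 := by linarith
          positivity
        norm_num at f1
        nlinarith
      by_cases hm1 : m = 1
      · subst hm1
        have hv50 : (50 : ℝ) ≤ v := by
          have h1 : (3 : ℕ) ^ 11 ≤ 3 ^ p := Nat.pow_le_pow_right (by norm_num) hp11
          have h2 : 3 ^ p - 1 = v * 2 := by simpa using hm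
          have : 50 ≤ v := by norm_num at h1; omega
          exact_mod_cast this
        have f3 : 1 / (v : ℝ) ≤ 1 / 50 := by
          rw [div_le_div_iff₀ (by linarith) (by norm_num)]; linarith
        push_cast at *
        norm_num at *
        linarith
      · have hm2 : (2 : ℝ) ≤ m := by
          have : 2 ≤ m := by omega
          exact_mod_cast this
        have f3 : 1 / (v : ℝ) ≤ 1 / 23 := by
          rw [div_le_div_iff₀ (by linarith) (by norm_num)]; linarith
        have f4 : 1 / ((((3 : ℕ) : ℝ) - 1) * m) ≤ 1 / 4 := by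
          push_cast
          rw [div_le_div_iff₀ (by linarith) (by norm_num)]; linarith
        linarith
    · -- p = 5 or 7
      have hp57 : p = 5 ∨ p = 7 := by
        have h6 : p ≠ 6 := by rintro rfl; norm_num at hp
        have h8 : p ≠ 8 := by rintro rfl; norm_num at hp
        have h9 : p ≠ 9 := by rintro rfl; norm_num at hp
        have h10 : p ≠ 10 := by rintro rfl; norm_num at hp
        omega
      rcases hp57 with rfl | rfl
      · -- p = 5
        have hu31 : u = 31 := by
          have h1 : u * 4 ∣ 124 := by simpa using hud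
          have h2 := Nat.le_of_dvd (by norm_num) h1
          have : u ≤ 31 := by omega
          interval_cases u <;> omega
        refine ⟨rfl, rfl, hu31, ?_⟩
        by_contra hc13
        have hcR : (13 : ℝ) ≤ c := by exact_mod_cast (not_lt.1 hc13)
        have f3 : 1 / (v : ℝ) ≤ 1 / 11 := by
          rw [div_le_div_iff₀ (by linarith) (by norm_num)]; push_cast at vR; linarith
        have f4 : 1 / ((((3 : ℕ) : ℝ) - 1) * m) ≤ 1 / 2 := by
          push_cast
          rw [div_le_div_iff₀ (by linarith) (by norm_num)]; linarith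
        have f5 : (((5 : ℕ) : ℝ) / (((5 : ℕ) : ℝ) - 1)) * (((3 : ℕ) : ℝ) / c) ≤ 5 / 4 * (3 / 13) := by
          push_cast
          have : (3 : ℝ) / c ≤ 3 / 13 := by
            rw [div_le_div_iff₀ (by linarith) (by norm_num)]; linarith
          norm_num
          linarith
        linarith
      · -- p = 7
        exfalso
        have hu19 : u = 19 := by
          have h1 : u * 6 ∣ 342 := by simpa using hud
          have h2 := Nat.le_of_dvd (by norm_num) h1
          have : u ≤ 57 := by omega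
          interval_cases u <;> omega
        have f3 : 1 / (v : ℝ) ≤ 1 / 15 := by
          rw [div_le_div_iff₀ (by linarith) (by norm_num)]; push_cast at vR; linarith
        have f4 : 1 / ((((3 : ℕ) : ℝ) - 1) * m) ≤ 1 / 2 := by
          push_cast
          rw [div_le_div_iff₀ (by linarith) (by norm_num)]; linarith
        have f5 : ((7 : ℕ) : ℝ) * ((3 : ℕ) : ℝ) * (u : ℝ) ^ 2 /
            ((((7 : ℕ) : ℝ) ^ 3 - 1) * ((u : ℝ) * c)) ≤ 1 / 6 := by
          rw [hu19]
          have hc7 : (7 : ℝ) ≤ c := by push_cast at cR; linarith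
          rw [div_le_div_iff₀ (by push_cast; norm_num; linarith) (by norm_num)]
          push_cast
          nlinarith
        linarith
  · have hq5' : 5 ≤ q := by
      have : q ≠ 4 := by rintro rfl; norm_num at hq
      omega
    have qR5 : (5 : ℝ) ≤ q := by exact_mod_cast hq5'
    exfalso
    by_cases hp5 : p = 3
    · subst hp5
      have f1 : (((3 : ℕ) : ℝ) / (((3 : ℕ) : ℝ) - 1)) * (q / c) ≤ 3 / 2 * (q / (2 * q + 1)) := by
        push_cast; norm_num; linarith
      by_cases hq7 : q = 5
      · subst hq7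
        have hv31 : v = 31 := by
          have h1 : v * 4 ∣ 124 := ⟨m, by simpa using hm⟩
          have h2 := Nat.le_of_dvd (by norm_num) h1
          have : v ≤ 31 := by omega
          interval_cases v <;> omega
        have hm1 : m = 1 := by
          rw [hv31] at hm
          norm_num at hm
          omega
        rw [hm1, hv31] at h
        push_cast at *
        norm_num at *
        linarith
      · have hq7' : 7 ≤ q := by
          have : q ≠ 6 := by rintro rfl; norm_num at hq
          omega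
        have qR7 : (7 : ℝ) ≤ q := by exact_mod_cast hq7'
        by_cases hm1 : m = 1
        · subst hm1
          have hv57 : (57 : ℝ) ≤ v := by
            have e : (v : ℝ) * (q - 1) = (q : ℝ) ^ 3 - 1 := by simpa using hmR
            have e2 : (v : ℝ) = q ^ 2 + q + 1 := by
              have h0 : ((q : ℝ) - 1) ≠ 0 := by linarith
              have e3 : (v : ℝ) * (q - 1) = (q ^ 2 + q + 1) * (q - 1) := by rw [e]; ring
              exact mul_right_cancel₀ h0 e3
            rw [e2]; nlinarith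
          have f3 : 1 / (v : ℝ) ≤ 1 / 57 := by
            rw [div_le_div_iff₀ (by linarith) (by norm_num)]; linarith
          have f4 : 1 / (((q : ℝ) - 1) * ((1 : ℕ) : ℝ)) ≤ 1 / 6 := by
            push_cast
            rw [div_le_div_iff₀ (by linarith) (by norm_num)]; linarith
          linarith
        · have hm2 : (2 : ℝ) ≤ m := by
            have : 2 ≤ m := by omega
            exact_mod_cast this
          have f3 : 1 / (v : ℝ) ≤ 1 / 7 := by
            rw [div_le_div_iff₀ (by linarith) (by norm_num)]; push_cast at vR; linarith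
          have f4 : 1 / (((q : ℝ) - 1) * m) ≤ 1 / 12 := by
            rw [div_le_div_iff₀ (by nlinarith) (by norm_num)]; nlinarith
          linarith
    · have hp5' : 5 ≤ p := by
        have : p ≠ 4 := by rintro rfl; norm_num at hp
        omega
      have pR5 : (5 : ℝ) ≤ p := by exact_mod_cast hp5'
      have f1 := frac_p (p := (p : ℝ)) (n := 5) (by norm_num) pR5
      have f2 : (p / (p - 1) : ℝ) * (q / c) ≤ 5 / 4 * (1 / 2) := by
        have h0 : (0 : ℝ) ≤ p / (p - 1) := by
          have : (0 : ℝ) < (p : ℝ) - 1 := by linarith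
          positivity
        norm_num at f1
        have : (q : ℝ) / c ≤ 1 / 2 := hqc.trans hqc2
        nlinarith
      have f3 : 1 / (v : ℝ) ≤ 1 / 11 := by
        rw [div_le_div_iff₀ (by linarith) (by norm_num)]; linarith
      have f4 : 1 / (((q : ℝ) - 1) * m) ≤ 1 / 4 := by
        rw [div_le_div_iff₀ (by nlinarith) (by norm_num)]; nlinarith
      linarith

end Cfsg.Agent.PF
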