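import Cfsg.Agent.PF.Num2
import Cfsg.Agent.S1546

set_option autoImplicit false

/-! Numerical case analysis for `u = (p^q-1)/(p-1)` (lead). -/

namespace Cfsg.Agent.PF

theorem num_iii {p q c v : ℕ} (hp : p.Prime) (hq : q.Prime) (hp2 : p ≠ 2) (hq2 : q ≠ 2)
    (hpq : p ≠ q) (hc : 2 * q + 1 ≤ c) (hv : 2 * p + 1 ≤ v) (hvd : v * (q - 1) ∣ q ^ p - 1)
    (h : (1 : ℝ) < (p : ℝ) * q / (((p : ℝ) - 1) * c) +
      (v : ℝ) / ((q : ℝ) ^ p - 1) + 1 / (v : ℝ)) : q = 3 ∧ (p = 5 ∨ p = 7) := by
  have hp3 : 3 ≤ p := by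
    have := hp.two_le; omega
  have hq3 : 3 ≤ q := by
    have := hq.two_le; omega
  have hP1 : 1 ≤ p ^ q := Nat.one_le_pow _ _ hp.pos
  have hQ1 : 1 ≤ q ^ p := Nat.one_le_pow _ _ hq.pos
  have hPl : 0 < p ^ q - 1 := by
    have : 1 < p ^ q := Nat.one_lt_pow hq.ne_zero hp.one_lt
    omega
  have hQl : 0 < q ^ p - 1 := by
    have : 1 < q ^ p := Nat.one_lt_pow hp.ne_zero hq.one_lt
    omega
  obtain ⟨m, hm⟩ := hvd
  have hm0 : 1 ≤ m := by
    rcases Nat.eq_zero_or_pos m with e | e
    · rw [e, mul_zero] at hm; omega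
    · exact e
  have hmR : (v : ℝ) * (q - 1) * m = (q : ℝ) ^ p - 1 := by
    have h2 : ((v * (q - 1) * m : ℕ) : ℝ) = ((q ^ p - 1 : ℕ) : ℝ) := by exact_mod_cast hm.symm
    rw [Nat.cast_mul, Nat.cast_mul, Nat.cast_sub hq.one_lt.le, Nat.cast_sub hQ1] at h2
    push_cast at h2
    exact h2
  have pR : (3 : ℝ) ≤ p := by exact_mod_cast hp3
  have qR : (3 : ℝ) ≤ q := by exact_mod_cast hq3
  have cR : (2 * q + 1 : ℝ) ≤ c := by exact_mod_cast hc
  have vR : (2 * p + 1 : ℝ) ≤ v := by exact_mod_cast hv
  have mR : (1 : ℝ) ≤ m := by exact_mod_cast hm0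
  have hB1 : (v : ℝ) / ((q : ℝ) ^ p - 1) = 1 / ((q - 1) * m) := by
    rw [← hmR]
    have : (0 : ℝ) < v := by linarith
    have : (0 : ℝ) < q - 1 := by linarith
    field_simp
  have hA2 : (p : ℝ) * q / ((p - 1) * c) = (p / (p - 1)) * (q / c) := by
    have : (0 : ℝ) < c := by linarith
    have : (0 : ℝ) < (p : ℝ) - 1 := by linarith
    field_simp
  have hqc : (q : ℝ) / c ≤ q / (2 * q + 1) := by
    apply div_le_div_of_nonneg_left (by linarith) (by linarith) cR
  have hqc2 : (q : ℝ) / (2 * q + 1) ≤ 1 / 2 := by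
    rw [div_le_div_iff₀ (by linarith) (by norm_num)]; linarith
  have hqc0 : (0 : ℝ) ≤ q / c := by
    have : (0 : ℝ) < c := by linarith
    positivity
  rw [hB1] at h
  rw [hA2] at h
  by_cases hq5 : q = 3
  · subst hq5
    have hp5 : 5 ≤ p := by
      have : p ≠ 3 := hpq
      have : p ≠ 4 := by rintro rfl; norm_num at hp
      omega
    by_cases hp11 : 11 ≤ p
    · exfalso
      have pR' : (11 : ℝ) ≤ p := by exact_mod_cast hp11
      have f1 := frac_p (p := (p : ℝ)) (n := 11) (by norm_num) pR'
      have f2 : (p / (p - 1) : ℝ) * ((3 : ℕ) / c) ≤ 11 / 10 * (3 / 7) := by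
        push_cast at *
        have : (3 : ℝ) / c ≤ 3 / 7 := by linarith
        have h0 : (0 : ℝ) ≤ p / (p - 1) := by
          have : (0 : ℝ) < (p : ℝ) - 1 := by linarith
          positivity
        norm_num at f1
        nlinarith
      by_cases hm1 : m = 1
      · subst hm1
        have hv50 : (50 : ℝ) ≤ v := by
          have h1 : (3 : ℕ) ^ 11 ≤ 3 ^ p := Nat.pow_le_pow_right (by norm_num) hp11
          have h2 : 3 ^ p - 1 = v * 2 := by simpa using hm
          have : 50 ≤ v := by norm_num at h1; omega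
          exact_mod_cast this
        have f3 : 1 / (v : ℝ) ≤ 1 / 50 := by
          rw [div_le_div_iff₀ (by linarith) (by norm_num)]; linarith
        push_cast at *
        norm_num at *
        linarith
      · have hm2 : (2 : ℝ) ≤ m := by
          have : 2 ≤ m := by omega
          exact_mod_cast this
        have f3 : 1 / (v : ℝ) ≤ 1 / 23 := by
          rw [div_le_div_iff₀ (by linarith) (by norm_num)]; linarith
        have f4 : 1 / ((((3 : ℕ) : ℝ) - 1) * m) ≤ 1 / 4 := by
          push_cast
          rw [div_le_div_iff₀ (by linarith) (by norm_num)]; linarith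
        linarith
    · -- p = 5 or 7
      have hp57 : p = 5 ∨ p = 7 := by
        have h6 : p ≠ 6 := by rintro rfl; norm_num at hp
        have h8 : p ≠ 8 := by rintro rfl; norm_num at hp
        have h9 : p ≠ 9 := by rintro rfl; norm_num at hp
        have h10 : p ≠ 10 := by rintro rfl; norm_num at hp
        omega
      exact ⟨rfl, hp57⟩
  · have hq5' : 5 ≤ q := by
      have : q ≠ 4 := by rintro rfl; norm_num at hq
      omega
    have qR5 : (5 : ℝ) ≤ q := by exact_mod_cast hq5'
    exfalso
    by_cases hp5 : p = 3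
    · subst hp5
      have f1 : (((3 : ℕ) : ℝ) / (((3 : ℕ) : ℝ) - 1)) * (q / c) ≤ 3 / 2 * (q / (2 * q + 1)) := by
        push_cast; norm_num; linarith
      by_cases hq7 : q = 5
      · subst hq7
        have hv31 : v = 31 := by
          have h1 : v * 4 ∣ 124 := ⟨m, by simpa using hm⟩
          have h2 := Nat.le_of_dvd (by norm_num) h1
          have : v ≤ 31 := by omega
          interval_cases v <;> omega
        have hm1 : m = 1 := by
          rw [hv31] at hm
          norm_num at hm
          omega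
        rw [hm1, hv31] at h
        push_cast at *
        norm_num at *
        linarith
      · have hq7' : 7 ≤ q := by
          have : q ≠ 6 := by rintro rfl; norm_num at hq
          omega
        have qR7 : (7 : ℝ) ≤ q := by exact_mod_cast hq7'
        by_cases hm1 : m = 1
        · subst hm1
          have hv57 : (57 : ℝ) ≤ v := by
            have e : (v : ℝ) * (q - 1) = (q : ℝ) ^ 3 - 1 := by simpa using hmR
            have e2 : (v : ℝ) = q ^ 2 + q + 1 := by
              have h0 : ((q : ℝ) - 1) ≠ 0 := by linarith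
              have e3 : (v : ℝ) * (q - 1) = (q ^ 2 + q + 1) * (q - 1) := by rw [e]; ring
              exact mul_right_cancel₀ h0 e3
            rw [e2]; nlinarith
          have f3 : 1 / (v : ℝ) ≤ 1 / 57 := by
            rw [div_le_div_iff₀ (by linarith) (by norm_num)]; linarith
          have f4 : 1 / (((q : ℝ) - 1) * ((1 : ℕ) : ℝ)) ≤ 1 / 6 := by
            push_cast
            rw [div_le_div_iff₀ (by linarith) (by norm_num)]; linarith
          linarith
        · have hm2 : (2 : ℝ) ≤ m := by
            have : 2 ≤ m := by omega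
            exact_mod_cast this
          have f3 : 1 / (v : ℝ) ≤ 1 / 7 := by
            rw [div_le_div_iff₀ (by linarith) (by norm_num)]; push_cast at vR; linarith
          have f4 : 1 / (((q : ℝ) - 1) * m) ≤ 1 / 12 := by
            rw [div_le_div_iff₀ (by nlinarith) (by norm_num)]; nlinarith
          linarith
    · have hp5' : 5 ≤ p := by
        have : p ≠ 4 := by rintro rfl; norm_num at hp
        omega
      have pR5 : (5 : ℝ) ≤ p := by exact_mod_cast hp5'
      have f1 := frac_p (p := (p : ℝ)) (n := 5) (by norm_num) pR5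
      have f2 : (p / (p - 1) : ℝ) * (q / c) ≤ 5 / 4 * (1 / 2) := by
        have h0 : (0 : ℝ) ≤ p / (p - 1) := by
          have : (0 : ℝ) < (p : ℝ) - 1 := by linarith
          positivity
        norm_num at f1
        have : (q : ℝ) / c ≤ 1 / 2 := hqc.trans hqc2
        nlinarith
      have f3 : 1 / (v : ℝ) ≤ 1 / 11 := by
        rw [div_le_div_iff₀ (by linarith) (by norm_num)]; linarith
      have f4 : 1 / (((q : ℝ) - 1) * m) ≤ 1 / 4 := by
        rw [div_le_div_iff₀ (by nlinarith) (by norm_num)]; nlinarith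
      linarith

end Cfsg.Agent.PF
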