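import Cfsg.Agent.PF.Num1
import Cfsg.Agent.PF.Num3

set_option autoImplicit false

/-! Consequences of (13.10'): both members of a pair are Galois, `C_U(P) = 1` (lead). -/

namespace Cfsg.Agent.PF

open Subgroup
open Cfsg.Agent.L (cj nz SylIn)
open Cfsg.Agent.OOT
open Cfsg.Agent.H21
open Cfsg.Agent.H3 Cfsg.Agent.H11

universe u
variable {G : Type u} [Group G] [Finite G]
variable {S T W₁ W₂ U V : Subgroup G} (hG : IsMinSimpleOddOrder G)

include hG in
theorem IsPair.hbar' (h : IsPair S T W₁ W₂ U V) :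
    IsHbar S W₁ U W₂ ⊥ (CU S U) (Nat.card W₂) :=
  hbar_of_fix_bot h.hSP (h.U_ne hG) (h.q_prime hG) (h.p_prime hG) (by
    cases nonempty_fintype G
    exact h.fixP hG)

include hG in
theorem IsPair.odd (_h : IsPair S T W₁ W₂ U V) (X : Subgroup G) : Odd (Nat.card X) :=
  hG.1.of_dvd_nat (Subgroup.card_subgroup_dvd_card X)

include hG in
theorem IsPair.q_ne_two (h : IsPair S T W₁ W₂ U V) : Nat.card W₁ ≠ 2 := by
  intro e
  have := h.odd hG W₁
  rw [e] at this
  exact absurd this (by decide)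

include hG in
theorem IsPair.q_ge (h : IsPair S T W₁ W₂ U V) : 3 ≤ Nat.card W₁ := by
  have h1 := (h.q_prime hG).two_le
  have h2 := h.q_ne_two hG
  omega

include hG in
/-- `2u ≤ p^q - 1` -/
theorem IsPair.u_bound (h : IsPair S T W₁ W₂ U V) :
    2 * (CU S U).relIndex U ≤ Nat.card W₂ ^ Nat.card W₁ - 1 := by
  have hb := h.hbar' hG
  have hp := h.p_prime hG
  have hq := h.q_prime hG
  have p3 := h.symm.q_ge hG
  have hP1 : 1 < Nat.card W₂ ^ Nat.card W₁ := Nat.one_lt_pow hq.ne_zero hp.one_lt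
  rcases hb.dichotomy (h.odd hG S) with hg | ⟨X, Y, U₁, a, hn⟩
  · have h1 := Nat.le_of_dvd (by omega) (hb.gal_dvd hg)
    have h2 : (CU S U).relIndex U * 2 ≤ (CU S U).relIndex U * (Nat.card W₂ - 1) :=
      Nat.mul_le_mul_left _ (by omega)
    omega
  · have ha : 2 * a ≤ Nat.card W₂ - 1 := by
      obtain ⟨t, ht⟩ := hn.dvd
      have hodd := h.odd hG W₂
      have h2 : 2 ∣ t := by
        have h3 : 2 ∣ a * t := by
          rw [← ht]
          obtain ⟨s, hs⟩ := hodd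
          exact ⟨s, by omega⟩
        exact (Nat.Coprime.dvd_of_dvd_mul_left hn.odd.coprime_two_left h3)
      obtain ⟨r, rfl⟩ := h2
      have : r ≠ 0 := by rintro rfl; omega
      have : 1 ≤ r := by omega
      rw [ht]
      nlinarith
    classical
    have hf : Fintype ↥W₁ := Fintype.ofFinite _
    have h1 : (CU S U).relIndex U ≤ ∏ _w : ↥W₁, a := by
      have h2 := Subgroup.relIndex_iInf_le (L := U) (fun w : ↥W₁ => cj (w : G) U₁)
      have h3 : ∀ w : ↥W₁, (cj (w : G) U₁).relIndex U = a := by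
        intro w
        have e1 : cj (w : G) U = U := L.mem_nz_iff.1 (h.hSP.U_normal w.2)
        have e2 : (cj (w : G) U₁).relIndex (cj (w : G) U) = U₁.relIndex U := by
          have a1 := L.card_mul_relIndex (L.cj_mono (g := (w : G)) hn.U₁_le)
          have a2 := L.card_mul_relIndex hn.U₁_le
          rw [L.card_cj, L.card_cj, ← a2] at a1
          exact Nat.eq_of_mul_eq_mul_left Nat.card_pos a1
        rw [e1] at e2
        rw [e2]
        have a2 := L.card_mul_relIndex hn.U₁_le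
        rw [hn.card_U] at a2
        exact Nat.eq_of_mul_eq_mul_left Nat.card_pos a2
      have h4 : (CU S U).relIndex U ≤ (⨅ w : ↥W₁, cj (w : G) U₁).relIndex U := by
        apply Nat.le_of_dvd
        · exact Nat.pos_of_ne_zero Subgroup.index_ne_zero_of_finite
        · apply Subgroup.relIndex_dvd_of_le_left
          intro c hc
          apply hn.inf_U₁
          intro w hw
          exact (Subgroup.mem_iInf.1 hc) ⟨w, hw⟩
      refine h4.trans (h2.trans (le_of_eq ?_))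
      exact Finset.prod_congr rfl fun w _ => h3 w
    rw [Finset.prod_const, Finset.card_univ, ← Nat.card_eq_fintype_card] at h1
    have h5 : 2 * a ^ Nat.card W₁ ≤ (2 * a) ^ Nat.card W₁ := by
      rw [mul_pow]
      apply Nat.mul_le_mul_right
      calc 2 = 2 ^ 1 := rfl
        _ ≤ 2 ^ Nat.card W₁ := Nat.pow_le_pow_right (by norm_num) hq.pos
    have h6 : (2 * a) ^ Nat.card W₁ ≤ (Nat.card W₂ - 1) ^ Nat.card W₁ :=
      Nat.pow_le_pow_left ha _
    have h7 : (Nat.card W₂ - 1) ^ Nat.card W₁ < Nat.card W₂ ^ Nat.card W₁ :=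
      Nat.pow_lt_pow_left (by omega) hq.ne_zero
    omega

/-- frames for both members of a pair -/
theorem IsPair.frames {G : Type u} [Group G] [Fintype G] (hG : IsMinSimpleOddOrder G)
    {S T W₁ W₂ U V : Subgroup G} [Fintype ↥S] [Fintype ↥T] (h : IsPair S T W₁ W₂ U V) :
    ∃ (η : Lin W₁ W₂ → G → ℂ) (μ : Lin W₁ W₂ → ↥S → ℂ) (δ : Lin W₁ W₂ → ℤ)
      (ν : Lin W₂ W₁ → ↥T → ℂ) (ε : Lin W₂ W₁ → ℤ),
      IsFrame S W₁ U W₂ η μ δ ∧ IsFrame T W₂ V W₁ (swF η) ν ε := by
  obtain ⟨η, hη⟩ := Cfsg.Agent.S1502.result W₁ W₂ h.hSP.selfNormalizing (h.odd hG _)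
  obtain ⟨μ, δ, F⟩ := exists_frame hG h.hS h.hSP hη
  obtain ⟨ν, ε, F'⟩ := exists_frame hG h.hT h.hTP (fam_swap hη)
  exact ⟨η, μ, δ, ν, ε, F, F'⟩

include hG in
/-- both members of a pair are "Galois" -/
theorem IsPair.gal (h : IsPair S T W₁ W₂ U V) : IsGal S U ⊥ := by
  classical
  rcases h.S23 hG with hII | hIII
  swap
  · obtain ⟨-, -, -, -, -, -, -, h1⟩ := BBG.typeIII_main hG h.hS h.hSP hIII
    intro X _ hX hU
    exact h1 X hX hU
  have hb := h.hbar' hG
  rcases hb.dichotomy (h.odd hG S) with hg | ⟨X, Y, U₁, a, hn⟩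
  · exact hg
  exfalso
  cases nonempty_fintype G
  cases nonempty_fintype ↥S
  cases nonempty_fintype ↥T
  obtain ⟨η, μ, δ, ν, ε, F, F'⟩ := h.frames hG
  have ha : 2 * a ≤ Nat.card W₂ - 1 := by
    obtain ⟨t, ht⟩ := hn.dvd
    have hodd := h.odd hG W₂
    have p3 := h.symm.q_ge hG
    have h2 : 2 ∣ t := by
      have h3 : 2 ∣ a * t := by
        rw [← ht]
        obtain ⟨s, hs⟩ := hodd
        exact ⟨s, by omega⟩
      exact (Nat.Coprime.dvd_of_dvd_mul_left hn.odd.coprime_two_left h3)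
    obtain ⟨r, rfl⟩ := h2
    have : r ≠ 0 := by rintro rfl; omega
    have : 1 ≤ r := by omega
    rw [ht]
    nlinarith
  have hcount := hb.nonGal_count F hn
  have hpos : 0 < (Nat.card W₂ - 1) / a * (⁅U, U⁆).relIndex U₁ := by
    apply Nat.mul_pos
    · apply Nat.div_pos
      · omega
      · exact hn.one_lt.le
    · exact Nat.pos_of_ne_zero Subgroup.index_ne_zero_of_finite
  have hne := hpos.trans_le hcount
  obtain ⟨⟨χ, hirr, hmem, hdeg⟩⟩ := (Nat.card_pos_iff.1 hne).1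
  have key := h.num hG F F' (SH_mono bot_le hmem) hirr hdeg
  have b1 := hb.u_lower (h.odd hG S)
  have b2 := (h.symm.hbar' hG).u_lower (h.odd hG T)
  have b3 := h.symm.u_bound hG
  have q3 := h.q_ge hG
  have p3 := h.symm.q_ge hG
  have a3 : 3 ≤ a := by
    have h1 := hn.one_lt
    have h2 := hn.odd
    obtain ⟨s, hs⟩ := h2
    omega
  have hQ1 : 1 ≤ Nat.card W₁ ^ Nat.card W₂ := Nat.one_le_pow _ _ (by omega)
  have b3' : (2 : ℝ) * (((CU T V).relIndex V : ℕ) : ℝ) ≤
      (Nat.card W₁ : ℝ) ^ Nat.card W₂ - 1 := by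
    have h1 : ((2 * (CU T V).relIndex V : ℕ) : ℝ) ≤
      ((Nat.card W₁ ^ Nat.card W₂ - 1 : ℕ) : ℝ) := by exact_mod_cast b3
    rw [Nat.cast_sub hQ1] at h1
    push_cast at h1
    exact h1
  refine num_i (p := (Nat.card W₂ : ℝ)) (q := (Nat.card W₁ : ℝ)) (a := (a : ℝ))
    (u := (((CU S U).relIndex U : ℕ) : ℝ)) (c := (Nat.card (CU S U) : ℝ))
    (v := (((CU T V).relIndex V : ℕ) : ℝ)) (E := (Nat.card W₂ : ℝ) ^ Nat.card W₁)
    (Q := (Nat.card W₁ : ℝ) ^ Nat.card W₂) ?_ ?_ ?_ ?_ ?_ ?_ ?_ ?_ b3' key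
  · have : 5 ≤ Nat.card W₂ := by omega
    exact_mod_cast this
  · exact_mod_cast q3
  · positivity
  · have : 2 * a + 1 ≤ Nat.card W₂ := by omega
    have h1 : ((2 * a + 1 : ℕ) : ℝ) ≤ (Nat.card W₂ : ℝ) := by exact_mod_cast this
    push_cast at h1
    linarith
  · exact_mod_cast b1
  · exact_mod_cast Nat.card_pos
  · have : Nat.card W₂ ^ 3 ≤ Nat.card W₂ ^ Nat.card W₁ := Nat.pow_le_pow_right (by omega) q3
    exact_mod_cast this
  · exact_mod_cast b2

end Cfsg.Agent.PF
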