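import Cfsg.Agent.PF.Num5

set_option autoImplicit false

/-! `u = (p^q-1)/(p-1)` or `u = (p^q-1)/(q(p-1))` (lead). -/

namespace Cfsg.Agent.PF

open Subgroup
open Cfsg.Agent.L (cj nz SylIn)
open Cfsg.Agent.OOT
open Cfsg.Agent.H21
open Cfsg.Agent.H3 Cfsg.Agent.H11

/-- for `p ≡ 1 mod q`, the divisors of `(p^q-1)/(q(p-1))` are `≡ 1 mod q` -/
theorem dvd_mod_of_one {p q N x : ℕ} (hp : p.Prime) (hq : q.Prime) (hq2 : q ≠ 2)
    (h : p % q = 1) (hN : N * (p - 1) = p ^ q - 1) (hx : x * q ∣ N) : x % q = 1 := by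
  have hfq : Fact q.Prime := ⟨hq⟩
  have hp1 := hp.one_lt
  have hqp : q ∣ p - 1 := by
    have h1 : p ≡ 1 [MOD q] := by
      change p % q = 1 % q
      rw [h, Nat.mod_eq_of_lt hq.one_lt]
    exact (Nat.modEq_iff_dvd' hp1.le).1 h1.symm
  have hP : 1 ≤ p ^ q := Nat.one_le_pow _ _ hp.pos
  have hNe : N = (p ^ q - 1) / (p - 1) := by
    rw [← hN, Nat.mul_div_cancel _ (by omega)]
  have hN0 : N ≠ 0 := by
    rintro rfl
    rw [zero_mul] at hN
    have : 1 < p ^ q := Nat.one_lt_pow hq.ne_zero hp1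
    omega
  -- `q² ∤ N`
  have hv : padicValNat q N = 1 := by
    have h1 := padicValNat.pow_sub_pow (p := q) (x := p) (y := 1) (hq.odd_of_ne_two hq2) hp1 hqp
      (by
        intro hd
        rw [(Nat.prime_dvd_prime_iff_eq hq hp).1 hd, Nat.mod_self] at h
        omega) (n := q) hq.ne_zero
    rw [one_pow, ← hN, padicValNat.mul hN0 (by omega), padicValNat_self] at h1
    omega
  have hx0 : x ≠ 0 := by
    rintro rfl
    rw [zero_mul, zero_dvd_iff] at hx
    exact hN0 hx
  have hqx : ¬ q ∣ x := by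
    rintro ⟨t, rfl⟩
    have h1 : q ^ 2 ∣ N := by
      refine dvd_trans ?_ hx
      exact ⟨t, by ring⟩
    have h2 := (padicValNat_dvd_iff_le hN0).1 h1
    omega
  have hprime : ∀ r : ℕ, r.Prime → r ∣ x → r % q = 1 := by
    intro r hr hrx
    have hfr : Fact r.Prime := ⟨hr⟩
    have hrq : r ≠ q := by rintro rfl; exact hqx hrx
    have hrN : r ∣ N := (hrx.trans (Dvd.intro _ rfl)).trans hx
    have h1 : (p : ZMod r) ^ q = 1 := by
      have h2 : ((N * (p - 1) + 1 : ℕ) : ZMod r) = ((p ^ q : ℕ) : ZMod r) := by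
        congr 1; omega
      rw [Nat.cast_add, Nat.cast_mul, (ZMod.natCast_eq_zero_iff N r).2 hrN, zero_mul, zero_add,
        Nat.cast_one, Nat.cast_pow] at h2
      exact h2.symm
    have h2 : orderOf (p : ZMod r) ∣ q := orderOf_dvd_of_pow_eq_one h1
    rcases (Nat.dvd_prime hq).1 h2 with h3 | h3
    · exfalso
      rw [orderOf_eq_one_iff] at h3
      have h4 : r ∣ p - 1 := by
        have h5 : ((p - 1 : ℕ) : ZMod r) = 0 := by
          rw [Nat.cast_sub hp1.le, h3, Nat.cast_one, sub_self]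
        exact (ZMod.natCast_eq_zero_iff _ _).1 h5
      have h5 : N ≡ q [MOD r] := by
        rw [hNe, S1546.geom p q hp.two_le]
        exact (S1546.mod_sub p q hp.two_le).of_dvd h4
      have h6 : r ∣ q := Nat.modEq_zero_iff_dvd.1 (h5.symm.trans (Nat.modEq_zero_iff_dvd.2 hrN))
      exact hrq ((Nat.prime_dvd_prime_iff_eq hr hq).1 h6)
    · have hp0 : (p : ZMod r) ≠ 0 := by
        intro e
        rw [e, zero_pow hq.ne_zero] at h1
        exact zero_ne_one h1
      have h4 : q ∣ r - 1 := by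
        rw [← h3]
        exact ZMod.orderOf_dvd_card_sub_one hp0
      have h6 : r ≡ 1 [MOD q] := ((Nat.modEq_iff_dvd' hr.one_lt.le).2 h4).symm
      change r % q = 1 % q at h6
      rwa [Nat.mod_eq_of_lt hq.one_lt] at h6
  have key : ∀ n : ℕ, n ∣ x → n ≡ 1 [MOD q] := by
    intro n
    induction n using Nat.recOnMul with
    | zero => intro hd; exact absurd (zero_dvd_iff.1 hd) hx0
    | one => intro _; rfl
    | prime r hr =>
      intro hd
      change r % q = 1 % q
      rw [hprime r hr hd, Nat.mod_eq_of_lt hq.one_lt]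
    | mul a b iha ihb =>
      intro hd
      have h1 := iha ((Dvd.intro _ rfl).trans hd)
      have h2 := ihb ((Dvd.intro_left _ rfl).trans hd)
      exact h1.mul h2
  have := key x dvd_rfl
  change x % q = 1 % q at this
  rwa [Nat.mod_eq_of_lt hq.one_lt] at this

universe u
variable {G : Type u} [Group G] [Finite G]
variable {S T W₁ W₂ U V : Subgroup G} (hG : IsMinSimpleOddOrder G)

include hG in
theorem IsPair.relU (h : IsPair S T W₁ W₂ U V) : (CU S U).relIndex U = Nat.card U := by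
  rw [h.CU_eq_bot hG, Subgroup.relIndex_bot_left]

include hG in
/-- (G3)(iii) -/
theorem IsPair.U_card (h : IsPair S T W₁ W₂ U V) :
    (Nat.card W₂ % Nat.card W₁ ≠ 1 →
        Nat.card U * (Nat.card W₂ - 1) = Nat.card W₂ ^ Nat.card W₁ - 1) ∧
      (Nat.card W₂ % Nat.card W₁ = 1 →
        Nat.card U * Nat.card W₁ * (Nat.card W₂ - 1) = Nat.card W₂ ^ Nat.card W₁ - 1) := by
  classical
  have hp := h.p_prime hG
  have hq := h.q_prime hG
  have q3 := h.q_ge hG
  have p3 := h.symm.q_ge hG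
  have hb := h.hbar' hG
  have hb' := h.symm.hbar' hG
  have b1 := hb.u_lower (h.odd hG S)
  have b2 := hb'.u_lower (h.odd hG T)
  have hd := h.v_dvd hG
  have hcop := hb.gal_coprime (h.gal hG)
  rw [h.relU hG] at b1 hd hcop
  have hd' := h.symm.v_dvd hG
  obtain ⟨k, hk⟩ := hd
  have hP1 : 1 < Nat.card W₂ ^ Nat.card W₁ := Nat.one_lt_pow hq.ne_zero hp.one_lt
  have hk0 : k ≠ 0 := by
    rintro rfl
    rw [mul_zero] at hk
    omega
  have hN : Nat.card U * k * (Nat.card W₂ - 1) = Nat.card W₂ ^ Nat.card W₁ - 1 := by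
    rw [hk]; ring
  have hNe : (Nat.card W₂ ^ Nat.card W₁ - 1) / (Nat.card W₂ - 1) = Nat.card U * k := by
    rw [← hN, Nat.mul_div_cancel _ (by omega)]
  obtain ⟨hNodd, hN1, hN2⟩ := S1546.result (Nat.card W₂) (Nat.card W₁) hp hq
    (h.symm.q_ne_two hG) (h.q_ne_two hG)
  rw [hNe] at hNodd hN1 hN2
  have hkodd : Odd k := hNodd.of_dvd_nat (Dvd.intro_left _ rfl)
  have key : k ≠ 1 → (1 : ℝ) < (Nat.card W₂ : ℝ) * Nat.card W₁ / (((Nat.card W₂ : ℝ) - 1) * k) +
      (((CU T V).relIndex V : ℕ) : ℝ) / ((Nat.card W₁ : ℝ) ^ Nat.card W₂ - 1) +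
      1 / (((CU T V).relIndex V : ℕ) : ℝ) := by
    intro hk1
    cases nonempty_fintype G
    cases nonempty_fintype ↥S
    cases nonempty_fintype ↥T
    obtain ⟨η, μ, δ, ν, ε, F, F'⟩ := h.frames hG
    obtain ⟨χ, hχ, hirr⟩ := hb.gal_irr F (h.gal hG) (Or.inr (by
      rw [h.relU hG, hk]
      intro e
      have h0 : 0 < Nat.card U * (Nat.card W₂ - 1) := Nat.mul_pos (by omega) (by omega)
      have : k = 1 := by
        have h1 : Nat.card U * (Nat.card W₂ - 1) * k = Nat.card U * (Nat.card W₂ - 1) * 1 := by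
          rw [mul_one]; exact e.symm
        exact Nat.eq_of_mul_eq_mul_left h0 h1
      exact hk1 this))
    have hdeg := hb.gal_deg F (h.gal hG) hχ
    have key := h.num hG F F' (SH_mono bot_le hχ) hirr hdeg
    rw [h.relU hG, h.CU_eq_bot hG, Subgroup.card_bot, Nat.cast_one, mul_one] at key
    have e1 : (Nat.card W₂ : ℝ) ^ Nat.card W₁ - 1 =
        (Nat.card U : ℝ) * ((Nat.card W₂ : ℝ) - 1) * k := by
      have h2 : ((Nat.card W₂ ^ Nat.card W₁ - 1 : ℕ) : ℝ) =
        ((Nat.card U * (Nat.card W₂ - 1) * k : ℕ) : ℝ) := by exact_mod_cast hk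
      rw [Nat.cast_sub hP1.le, Nat.cast_mul, Nat.cast_mul, Nat.cast_sub hp.one_lt.le] at h2
      push_cast at h2
      exact h2
    have e2 : (Nat.card W₂ : ℝ) * Nat.card W₁ * (Nat.card U : ℝ) ^ 2 /
        (((Nat.card W₂ : ℝ) ^ Nat.card W₁ - 1) * (Nat.card U : ℝ)) =
        (Nat.card W₂ : ℝ) * Nat.card W₁ / (((Nat.card W₂ : ℝ) - 1) * k) := by
      rw [e1]
      have u0 : (Nat.card U : ℝ) ≠ 0 := by
        have : 0 < Nat.card U := Nat.card_pos
        exact_mod_cast this.ne'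
      have k0 : (k : ℝ) ≠ 0 := by exact_mod_cast hk0
      have p0 : (Nat.card W₂ : ℝ) - 1 ≠ 0 := by
        have : (1 : ℝ) < Nat.card W₂ := by exact_mod_cast hp.one_lt
        linarith
      field_simp
    rw [e2] at key
    exact key
  constructor
  · intro hmod
    obtain ⟨-, hN3⟩ := hN2 hmod
    by_cases hk1 : k = 1
    · rw [hk1, mul_one] at hN; exact hN
    exfalso
    have hk2 : 2 * Nat.card W₁ + 1 ≤ k := by
      have h1 := hN3 k (Dvd.intro_left _ rfl)
      have h2 : Nat.card W₁ ∣ k - 1 := by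
        have h3 : k ≡ 1 [MOD Nat.card W₁] := by
          change k % Nat.card W₁ = 1 % Nat.card W₁
          rw [h1, Nat.mod_eq_of_lt hq.one_lt]
        exact (Nat.modEq_iff_dvd' (by omega)).1 h3.symm
      have h3 : 2 ∣ k - 1 := by
        obtain ⟨s, hs⟩ := hkodd
        exact ⟨s, by omega⟩
      have h4 : 2 * Nat.card W₁ ∣ k - 1 :=
        Nat.Coprime.mul_dvd_of_dvd_of_dvd (hq.odd_of_ne_two (h.q_ne_two hG)).coprime_two_left h3 h2
      have := Nat.le_of_dvd (by omega) h4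
      omega
    obtain ⟨e1, e2⟩ := num_iii hp hq (h.symm.q_ne_two hG) (h.q_ne_two hG) (h.p_ne_q hG).symm hk2 b2 hd'
      (key hk1)
    rcases e2 with e2 | e2
    · rw [e1, e2] at hN
      rw [e1] at b1 hk2
      have : Nat.card U * k ≤ 31 := by omega
      nlinarith
    · rw [e1, e2] at hmod
      exact hmod rfl
  · intro hmod
    have hqp : Nat.card W₁ ∣ Nat.card W₂ - 1 := by
      have h1 : Nat.card W₂ ≡ 1 [MOD Nat.card W₁] := by
        change Nat.card W₂ % Nat.card W₁ = 1 % Nat.card W₁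
        rw [hmod, Nat.mod_eq_of_lt hq.one_lt]
      exact (Nat.modEq_iff_dvd' hp.one_lt.le).1 h1.symm
    have hqk : Nat.card W₁ ∣ k := by
      rcases (hq.dvd_mul).1 (hN1 hmod) with h1 | h1
      · exfalso
        have := Nat.eq_one_of_dvd_coprimes hcop h1 hqp
        exact hq.one_lt.ne' this
      · exact h1
    obtain ⟨k', rfl⟩ := hqk
    by_cases hk1 : k' = 1
    · rw [hk1, mul_one] at hN; exact hN
    exfalso
    have hk'0 : k' ≠ 0 := by rintro rfl; exact hk0 (mul_zero _)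
    have hk2 : 2 * Nat.card W₁ + 1 ≤ k' := by
      have h1 := dvd_mod_of_one hp hq (h.q_ne_two hG) hmod hN (x := k')
        ⟨Nat.card U, by ring⟩
      have h2 : Nat.card W₁ ∣ k' - 1 := by
        have h3 : k' ≡ 1 [MOD Nat.card W₁] := by
          change k' % Nat.card W₁ = 1 % Nat.card W₁
          rw [h1, Nat.mod_eq_of_lt hq.one_lt]
        exact (Nat.modEq_iff_dvd' (by omega)).1 h3.symm
      have h3 : 2 ∣ k' - 1 := by
        obtain ⟨s, hs⟩ := (hkodd.of_dvd_nat (Dvd.intro_left _ rfl) : Odd k')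
        exact ⟨s, by omega⟩
      have h4 : 2 * Nat.card W₁ ∣ k' - 1 :=
        Nat.Coprime.mul_dvd_of_dvd_of_dvd (hq.odd_of_ne_two (h.q_ne_two hG)).coprime_two_left h3 h2
      have := Nat.le_of_dvd (by omega) h4
      omega
    have hp7 : 7 ≤ Nat.card W₂ := by
      obtain ⟨s, hs⟩ := hqp
      obtain ⟨t, ht⟩ := h.odd hG W₂
      have h2 : 2 ∣ s := by
        have h3 : 2 ∣ Nat.card W₁ * s := ⟨t, by omega⟩
        exact (hq.odd_of_ne_two (h.q_ne_two hG)).coprime_two_left.dvd_of_dvd_mul_left h3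
      obtain ⟨r, rfl⟩ := h2
      have : r ≠ 0 := by rintro rfl; omega
      have h4 : 3 * 2 ≤ Nat.card W₁ * (2 * r) := Nat.mul_le_mul q3 (by omega)
      omega
    have key' := key (by
      intro e
      have := Nat.eq_one_of_mul_eq_one_right e
      omega)
    have pR : (7 : ℝ) ≤ Nat.card W₂ := by exact_mod_cast hp7
    have qR : (3 : ℝ) ≤ Nat.card W₁ := by exact_mod_cast q3
    have kR : (7 : ℝ) ≤ k' := by
      have : 7 ≤ k' := by omega
      exact_mod_cast this
    have vR : (15 : ℝ) ≤ (((CU T V).relIndex V : ℕ) : ℝ) := by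
      have : 15 ≤ (CU T V).relIndex V := by omega
      exact_mod_cast this
    have f1 : (Nat.card W₂ : ℝ) * Nat.card W₁ /
        (((Nat.card W₂ : ℝ) - 1) * ((Nat.card W₁ * k' : ℕ) : ℝ)) ≤ 1 / 6 := by
      push_cast
      rw [div_le_div_iff₀ (by
        apply mul_pos (by linarith)
        apply mul_pos <;> linarith) (by norm_num)]
      have : (Nat.card W₂ : ℝ) * 6 ≤ ((Nat.card W₂ : ℝ) - 1) * k' := by nlinarith
      have := mul_le_mul_of_nonneg_right this (show (0 : ℝ) ≤ Nat.card W₁ by linarith)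
      linarith
    have b3 := h.symm.u_bound hG
    have hQ1 : 1 ≤ Nat.card W₁ ^ Nat.card W₂ := Nat.one_le_pow _ _ (by omega)
    have b3' : (2 : ℝ) * (((CU T V).relIndex V : ℕ) : ℝ) ≤
        (Nat.card W₁ : ℝ) ^ Nat.card W₂ - 1 := by
      have h1 : ((2 * (CU T V).relIndex V : ℕ) : ℝ) ≤
        ((Nat.card W₁ ^ Nat.card W₂ - 1 : ℕ) : ℝ) := by exact_mod_cast b3
      rw [Nat.cast_sub hQ1] at h1
      push_cast at h1
      exact h1
    have f2 : (((CU T V).relIndex V : ℕ) : ℝ) / ((Nat.card W₁ : ℝ) ^ Nat.card W₂ - 1) ≤ 1 / 2 := by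
      rw [div_le_div_iff₀ (by linarith) (by norm_num)]
      linarith
    have f3 : 1 / (((CU T V).relIndex V : ℕ) : ℝ) ≤ 1 / 15 := by
      rw [div_le_div_iff₀ (by linarith) (by norm_num)]
      linarith
    linarith

end Cfsg.Agent.PF
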