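import Cfsg.Agent.PF.BBB
import Cfsg.Agent.PF.Bridge
import Cfsg.Agent.H3.Gallagher2
import Cfsg.Agent.H27.Util
import Cfsg.Agent.H27.GalInt
import Cfsg.Agent.H3.Integral

set_option autoImplicit false

/-! Averages over cosets, rationality (lead). -/

namespace Cfsg.Agent.PF

open Subgroup ComplexConjugate
open Cfsg.Agent.H3 Cfsg.Agent.H11

universe u v w

/-- average of `f` along a finite family of points -/
noncomputable def Eav {X : Type u} {ι : Type v} [Fintype ι] (s : ι → X) (f : X → ℂ) : ℂ :=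
  (Fintype.card ι : ℂ)⁻¹ * ∑ i, f (s i)

section Eav

variable {X : Type u} {ι : Type v} [Fintype ι] (s : ι → X)

theorem Eav_add (f g : X → ℂ) : Eav s (f + g) = Eav s f + Eav s g := by
  simp only [Eav, Pi.add_apply, Finset.sum_add_distrib, mul_add]

theorem Eav_sub (f g : X → ℂ) : Eav s (f - g) = Eav s f - Eav s g := by
  simp only [Eav, Pi.sub_apply, Finset.sum_sub_distrib, mul_sub]

theorem Eav_smul (c : ℂ) (f : X → ℂ) : Eav s (c • f) = c * Eav s f := by
  simp only [Eav, Pi.smul_apply, smul_eq_mul, ← Finset.mul_sum]; ring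

theorem Eav_neg (f : X → ℂ) : Eav s (-f) = - Eav s f := by
  simp only [Eav, Pi.neg_apply, Finset.sum_neg_distrib, mul_neg]

theorem Eav_sum {κ : Type w} (t : Finset κ) (f : κ → X → ℂ) :
    Eav s (∑ k ∈ t, f k) = ∑ k ∈ t, Eav s (f k) := by
  simp only [Eav, Finset.sum_apply]
  rw [Finset.sum_comm, Finset.mul_sum]

theorem Eav_congr {f g : X → ℂ} (h : ∀ i, f (s i) = g (s i)) : Eav s f = Eav s g := by
  simp only [Eav]
  rw [Finset.sum_congr rfl fun i _ => h i]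

theorem Eav_const [Nonempty ι] {f : X → ℂ} {c : ℂ} (h : ∀ i, f (s i) = c) : Eav s f = c := by
  simp only [Eav]
  rw [Finset.sum_congr rfl fun i _ => h i, Finset.sum_const, Finset.card_univ, nsmul_eq_mul,
    ← mul_assoc, inv_mul_cancel₀ (by exact_mod_cast Fintype.card_ne_zero), one_mul]

theorem Eav_zero {f : X → ℂ} (h : ∀ i, f (s i) = 0) : Eav s f = 0 := by
  simp only [Eav]
  rw [Finset.sum_eq_zero fun i _ => h i, mul_zero]

/-- Cauchy-Schwarz -/
theorem Eav_norm_le [Nonempty ι] (f : X → ℂ) :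
    (Fintype.card ι : ℝ) * ‖Eav s f‖ ^ 2 ≤ ∑ i, ‖f (s i)‖ ^ 2 := by
  have hn : (0 : ℝ) < Fintype.card ι := by exact_mod_cast Fintype.card_pos
  have h1 : ‖∑ i, f (s i)‖ ≤ ∑ i, ‖f (s i)‖ := norm_sum_le _ _
  have h2 : (∑ i, ‖f (s i)‖) ^ 2 ≤ (Fintype.card ι : ℝ) * ∑ i, ‖f (s i)‖ ^ 2 := by
    have := sq_sum_le_card_mul_sum_sq (s := (Finset.univ : Finset ι)) (f := fun i => ‖f (s i)‖)
    simpa [Finset.card_univ] using this
  have h3 : ‖Eav s f‖ = (Fintype.card ι : ℝ)⁻¹ * ‖∑ i, f (s i)‖ := by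
    rw [Eav, norm_mul, norm_inv]; simp
  rw [h3]
  have h4 : ‖∑ i, f (s i)‖ ^ 2 ≤ (∑ i, ‖f (s i)‖) ^ 2 :=
    pow_le_pow_left₀ (norm_nonneg _) h1 2
  rw [mul_pow, ← mul_assoc]
  have e : (Fintype.card ι : ℝ) * (Fintype.card ι : ℝ)⁻¹ ^ 2 = (Fintype.card ι : ℝ)⁻¹ := by
    field_simp
  rw [e, inv_mul_le_iff₀ hn]
  exact h4.trans h2

/-- rational -/
theorem Eav_rat {f : X → ℂ} (h : ∀ i, ∃ n : ℤ, f (s i) = n) : ∃ r : ℚ, Eav s f = r := by
  choose n hn using h
  refine ⟨(Fintype.card ι : ℚ)⁻¹ * ∑ i, (n i : ℚ), ?_⟩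
  rw [Eav, Finset.sum_congr rfl fun i _ => hn i]
  push_cast
  rfl

end Eav

theorem int_of_rat_integral {z : ℂ} (h : ∃ r : ℚ, z = r) (hz : IsIntegral ℤ z) :
    ∃ n : ℤ, z = n := by
  obtain ⟨r, rfl⟩ := h
  obtain ⟨n, hn⟩ := exists_int_of_isIntegral_rat hz
  exact ⟨n, by rw [hn]; simp⟩

section Coset

variable {L : Type u} [Group L] [Fintype L]

/-- a class function orthogonal to all the irreducible characters not containing `P` in the kernel
is constant on the cosets of `P` -/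
theorem const_of_orth {P : Subgroup L} {f : L → ℂ} (hf : IsClassFunction L f)
    (h : ∀ θ, IsIrrCharacter L θ → (∃ x ∈ P, θ x ≠ θ 1) → classInner f θ = 0)
    {x : L} (hx : x ∈ P) (y : L) : f (x * y) = f y := by
  classical
  letI : Fintype (IrrCharacter L) := Fintype.ofFinite _
  rw [classFun_expand_apply hf, classFun_expand_apply hf]
  refine Finset.sum_congr rfl fun χ _ => ?_
  by_cases hχ : ∃ x ∈ P, (χ : L → ℂ) x ≠ (χ : L → ℂ) 1
  · rw [h χ χ.2 hχ]; simp
  · push Not at hχ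
    rw [H27.char_ker_mul (irr_isChar χ.2) (hχ x hx)]

/-- coset averages of irreducible characters not containing `P` in the kernel vanish -/
theorem Eav_coset_zero {P : Subgroup L} (hP : P.Normal) [Fintype P] {θ : L → ℂ}
    (hθ : IsIrrCharacter L θ) (h : ∃ x ∈ P, θ x ≠ θ 1) (y : L) :
    Eav (fun x : P => (x : L) * y) θ = 0 := by
  obtain ⟨x, hx, hx'⟩ := h
  rw [Eav, sum_coset_irr hP hθ ⟨⟨x, hx⟩, hx'⟩ y, mul_zero]

/-- coset averages of generalized characters are algebraic integers -/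
theorem Eav_coset_integral {P : Subgroup L} (hP : P.Normal) [Fintype P] {f : L → ℂ}
    (hf : IsGeneralizedCharacter L f) (y : L) :
    IsIntegral ℤ (Eav (fun x : P => (x : L) * y) f) := by
  obtain ⟨a, b, ha, hb, rfl⟩ := hf
  rw [Eav_sub]
  have key : ∀ a : L → ℂ, IsCharacter L a → IsIntegral ℤ (Eav (fun x : P => (x : L) * y) a) := by
    intro a ha
    have h1 := H27.isCharacter_isIntegral (H27.isChar_avg ha P) y
    rw [Nat.card_eq_fintype_card] at h1
    exact h1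
  exact (key a ha).sub (key b hb)

theorem isGen_integral {f : L → ℂ} (hf : IsGeneralizedCharacter L f) (y : L) :
    IsIntegral ℤ (f y) := by
  obtain ⟨a, b, ha, hb, rfl⟩ := hf
  exact (H27.isCharacter_isIntegral ha y).sub (H27.isCharacter_isIntegral hb y)

end Coset

section Gal

variable {G : Type u} [Group G] [Fintype G] {W₁ W₂ : Subgroup G}

theorem unit_eq_of_pow {a b : ℂˣ} {N m : ℕ} (ha : a ^ N = 1) (hb : b ^ N = 1)
    (hm : m.Coprime N) (h : a ^ m = b ^ m) : a = b := by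
  have h1 : (a / b) ^ m = 1 := by rw [div_pow, h, div_self']
  have h2 : (a / b) ^ N = 1 := by rw [div_pow, ha, hb, div_self']
  have h3 : (a / b) ^ Nat.gcd m N = 1 := pow_gcd_eq_one.2 ⟨h1, h2⟩
  rw [hm, pow_one] at h3
  exact div_eq_one.1 h3

/-- a sum over a set of indices closed under powers prime to `|G|` is rational -/
theorem eta_sum_int {η : Lin W₁ W₂ → G → ℂ} (hW : IsSelfNormalizingCyclic W₁ W₂)
    (hη : IsCyclicTIFamily W₁ W₂ η) (hodd : Odd (Nat.card ↥(W₁ ⊔ W₂)))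
    (s : Finset (Lin W₁ W₂)) (hs : ∀ ω ∈ s, ∀ k : ℕ, k.Coprime (Nat.card G) → ω ^ k ∈ s) (g : G) :
    ∃ n : ℤ, ∑ ω ∈ s, η ω g = n := by
  classical
  have hN : Nat.card G ≠ 0 := Nat.card_pos.ne'
  have hseq : ∀ ω, H27.IsGalSeq (Nat.card G) (fun m => η ω (g ^ m)) := by
    intro ω
    obtain ⟨a, b, ha, hb, hab⟩ := (eta_sirr hη ω).isGen
    have h1 := H27.IsGalSeq.char ha hN (g := g) (pow_card_eq_one')
    have h2 := (H27.IsGalSeq.intCast (N := Nat.card G) (-1)).mul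
      (H27.IsGalSeq.char hb hN (g := g) (pow_card_eq_one'))
    have h3 := h1.add h2
    rw [hab]
    convert h3 using 2
    simp [sub_eq_add_neg]
  have h := (H27.IsGalSeq.sum s (fun ω _ => hseq ω)).int_of_const hN ?_
  · obtain ⟨k, hk⟩ := h
    exact ⟨k, by rw [← hk]; simp⟩
  · intro m hm
    have hm' : m.Coprime (Nat.card G) := (H27.mem_cop.1 hm).2
    simp only [pow_one]
    have e1 : ∀ ω ∈ s, η ω (g ^ m) = η (ω ^ m) g := fun ω _ =>
      PF.family_pow hW hodd hη ω g hm'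
    rw [Finset.sum_congr rfl e1]
    have hinj : ∀ ω ω' : Lin W₁ W₂, ω ^ m = ω' ^ m → ω = ω' := by
      intro ω ω' h
      have hWN : ∀ w : ↥(W₁ ⊔ W₂), w ^ Nat.card G = 1 := fun w => by
        apply Subtype.ext; exact pow_card_eq_one' (x := (w : G))
      apply MonoidHom.ext
      intro w
      refine unit_eq_of_pow (N := Nat.card G) (m := m) ?_ ?_ hm' ?_
      · rw [← map_pow, hWN, map_one]
      · rw [← map_pow, hWN, map_one]
      · have := congrArg (fun f : Lin W₁ W₂ => f w) h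
        simpa using this
    have himg : s.image (fun ω => ω ^ m) = s := by
      apply Finset.eq_of_subset_of_card_le
      · intro ω hω
        rw [Finset.mem_image] at hω
        obtain ⟨ω', h1, rfl⟩ := hω
        exact hs ω' h1 m hm'
      · rw [Finset.card_image_of_injective _ (fun a b h => hinj a b h)]
    conv_rhs => rw [← himg]
    rw [Finset.sum_image (fun a _ b _ h => hinj a b h)]

theorem isI_pow {ω : Lin W₁ W₂} (h : IsI W₁ W₂ ω) (k : ℕ) : IsI W₁ W₂ (ω ^ k) := fun w hw => by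
  rw [MonoidHom.pow_apply, h w hw, one_pow]

theorem isJ_pow {ω : Lin W₁ W₂} (h : IsJ W₁ W₂ ω) (k : ℕ) : IsJ W₁ W₂ (ω ^ k) := fun w hw => by
  rw [MonoidHom.pow_apply, h w hw, one_pow]

theorem sumI_int {η : Lin W₁ W₂ → G → ℂ} (hW : IsSelfNormalizingCyclic W₁ W₂)
    (hη : IsCyclicTIFamily W₁ W₂ η) (hodd : Odd (Nat.card ↥(W₁ ⊔ W₂))) (g : G) :
    ∃ n : ℤ, ∑ ω ∈ idxI W₁ W₂, η ω g = n :=
  eta_sum_int hW hη hodd _ (fun ω hω k _ => mem_idxI.2 (isI_pow (mem_idxI.1 hω) k)) g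

theorem sumJ_int {η : Lin W₁ W₂ → G → ℂ} (hW : IsSelfNormalizingCyclic W₁ W₂)
    (hη : IsCyclicTIFamily W₁ W₂ η) (hodd : Odd (Nat.card ↥(W₁ ⊔ W₂))) (g : G) :
    ∃ n : ℤ, ∑ ω ∈ idxJ W₁ W₂, η ω g = n :=
  eta_sum_int hW hη hodd _ (fun ω hω k _ => mem_idxJ.2 (isJ_pow (mem_idxJ.1 hω) k)) g

end Gal

end Cfsg.Agent.PF
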