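import Cfsg.Agent.PF.Rows
import Cfsg.Agent.H1.FrobComp

set_option autoImplicit false

/-! Supports after (12.7): with every type I subgroup Frobenius, a type-P maximal subgroup is not
supported by anybody. -/

namespace Cfsg.Agent.PF

open Subgroup
open Cfsg.Agent.L (cj nz SylIn)
open Cfsg.Agent.H14 (IsPiSub)
open Cfsg.Agent.OOT
open Cfsg.Agent.H21
open scoped Pointwise

universe u
variable {G : Type u} [Group G]

/-- centralizers of kernel elements lie in the kernel -/
theorem frobKernel_cent {E : Subgroup G} (hE : IsFrobeniusComplement E) {x y : G}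
    (hx : x ∈ frobeniusKernel E) (hx1 : x ≠ 1) (hy : x * y = y * x) : y ∈ frobeniusKernel E := by
  by_cases hy1 : y = 1
  · exact Or.inl hy1
  right
  intro g hg
  have h1 := H1.frob_centralizer_le (H1.frob_conj hE g) hg hy1
    (Subgroup.mem_centralizer_singleton_iff.2 (show x * y = y * x from hy))
  rcases hx with h | h
  · exact hx1 h
  · exact h g h1

variable [Finite G] (hG : IsMinSimpleOddOrder G)
variable {M W₁ U W₂ : Subgroup G}

/-- a group with type-P data is not a Frobenius group with kernel `M_F` -/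
theorem not_frobenius_of_typeP (h : IsTypePWith M W₁ U W₂) :
    ¬ ∃ E : Subgroup ↥M, IsFrobeniusComplement E ∧
      frobeniusKernel E = ((fittingHall ↥M : Subgroup ↥M) : Set ↥M) := by
  rintro ⟨E, hE, hK⟩
  obtain ⟨x, hx, hx1⟩ := exists_ne_one h.selfNormalizing.2.1
  obtain ⟨w, hw, hw1⟩ := exists_ne_one h.W₁_ne
  obtain ⟨x', hx', ex⟩ := h.W₂_le_H hx
  have h1 : (⟨w, h.W₁_le hw⟩ : M) ∈ frobeniusKernel E := by
    refine frobKernel_cent hE (x := x') ?_ ?_ ?_
    · rw [hK]; exact hx'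
    · rintro rfl; exact hx1 (by rw [← ex]; rfl)
    · apply Subtype.ext
      change (x' : G) * w = w * x'
      have ex' : (x' : G) = x := ex
      rw [ex']
      exact (h.selfNormalizing.2.2.2.1 w hw x hx).symm
  rw [hK] at h1
  have h2 : w ∈ fittingHallOf M := ⟨_, h1, rfl⟩
  have h3 : w ∈ ⁅M, M⁆ ⊓ W₁ := ⟨h.H_le' h2, hw⟩
  rw [h.W₁_compl.2.2.1] at h3
  exact hw1 h3

include hG

theorem cent_singleton_le_coatom {x : G} (hx1 : x ≠ 1) :
    ∃ L : Subgroup G, IsCoatom L ∧ centralizer ({x} : Set G) ≤ L :=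
  exists_coatom_ge (centralizer_singleton_ne_top hG hx1)

/-- Only a type II subgroup can support another one. -/
theorem typeII_of_supports (hM : IsCoatom M) {x : G} (hx : x ∈ typeA0 M)
    (hc : ¬ centralizer ({x} : Set G) ≤ M) {L : Subgroup G} (hL : IsCoatom L)
    (hxL : centralizer ({x} : Set G) ≤ L) : IsOfTypeII L := by
  obtain ⟨-, -, h3⟩ := row1391 hG hM (X := typeA0 M) (Or.inr rfl)
  obtain ⟨-, -, -, -, ⟨k1, k2⟩, k3, -⟩ := h3 x hx hc L hL hxL
  rcases k3 with k | k
  · exfalso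
    apply k2
    rw [typeA, if_pos k] at k1
    obtain ⟨a1, a2, y, hy, hy1, e⟩ := k1
    rw [typeA1, typeCore_I hG hL k]
    refine ⟨?_, a2⟩
    exact row1540 hG hL k y hy hy1 ⟨a1, mem_cent_singleton.2 e⟩
  · exact k

/-- With type-P data no centralizer sticks out. -/
theorem cent_le_of_mem_A0 (hM : IsCoatom M) (h : IsTypePWith M W₁ U W₂) {x : G}
    (hx : x ∈ typeA0 M) : centralizer ({x} : Set G) ≤ M := by
  by_contra hc
  obtain ⟨-, h2, h3⟩ := row1391 hG hM (X := typeA0 M) (Or.inr rfl)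
  obtain ⟨k1, -⟩ := h2 x hx hc
  have hx1 : x ≠ 1 := fun e => k1.2 e
  obtain ⟨L, hL, hxL⟩ := cent_singleton_le_coatom hG hx1
  have hII := typeII_of_supports hG hM hx hc hL hxL
  obtain ⟨-, -, -, -, -, -, k⟩ := h3 x hx hc L hL hxL
  exact not_frobenius_of_typeP h (k hII)

theorem A0_TI (hM : IsCoatom M) (h : IsTypePWith M W₁ U W₂) :
    IsTISubset (typeA0 M) ∧ normalizer (typeA0 M) = M := by
  have hn := (row1537 hG hM (A := typeA0 M) (Or.inr (Or.inr rfl))).1
  refine ⟨?_, hn⟩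
  intro g hg x hx hgx
  exfalso
  obtain ⟨h1, -, -⟩ := row1391 hG hM (X := typeA0 M) (Or.inr rfl)
  obtain ⟨m, hm, e⟩ := h1 x hx g hgx
  apply hg
  rw [hn]
  have : m⁻¹ * g ∈ centralizer ({x} : Set G) := by
    rw [mem_cent_singleton]
    have h2 : m⁻¹ * (m * x * m⁻¹) * g = m⁻¹ * (g * x * g⁻¹) * g := by rw [e]
    have h3 : x * (m⁻¹ * g) = m⁻¹ * g * x := by simpa [mul_assoc] using h2
    exact h3.symm
  have h2 := cent_le_of_mem_A0 hG hM h hx this
  have h3 := mul_mem hm h2
  rwa [mul_inv_cancel_left] at h3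

end Cfsg.Agent.PF
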