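import Cfsg.Agent.PF.FrobAct
import Cfsg.Agent.PF.Supp
import Cfsg.Agent.PF.BBG

set_option autoImplicit false

/-! The pair `S, T` (PF Section 13): S1543 and first consequences. -/

namespace Cfsg.Agent.PF

open Subgroup
open Cfsg.Agent.L (cj nz SylIn)
open Cfsg.Agent.H14 (IsPiSub)
open Cfsg.Agent.OOT
open Cfsg.Agent.H21
open scoped Pointwise

universe u
variable {G : Type u} [Group G] [Finite G]

/-- The standing hypothesis of PF Section 13. -/
structure IsPair (S T W₁ W₂ U V : Subgroup G) : Prop where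
  hS : IsCoatom S
  hT : IsCoatom T
  hSP : IsTypePWith S W₁ U W₂
  hTP : IsTypePWith T W₂ V W₁
  hST : S ⊓ T = W₁ ⊔ W₂
  hII : IsOfTypeII S ∨ IsOfTypeII T
  hS25 : IsOfTypeII S ∨ IsOfTypeIII S ∨ IsOfTypeIV S ∨ IsOfTypeV S
  hT25 : IsOfTypeII T ∨ IsOfTypeIII T ∨ IsOfTypeIV T ∨ IsOfTypeV T

variable {S T W₁ W₂ U V : Subgroup G}

omit [Finite G] in
theorem IsPair.symm (h : IsPair S T W₁ W₂ U V) : IsPair T S W₂ W₁ V U :=
  ⟨h.hT, h.hS, h.hTP, h.hSP, by rw [inf_comm, sup_comm]; exact h.hST, h.hII.symm, h.hT25, h.hS25⟩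

variable (hG : IsMinSimpleOddOrder G)

include hG in
theorem IsPair.S_sol (h : IsPair S T W₁ W₂ U V) : Group.IsSolvable S := coatom_sol hG h.hS

include hG in
theorem IsPair.T_sol (h : IsPair S T W₁ W₂ U V) : Group.IsSolvable T := coatom_sol hG h.hT

include hG in
/-- `S` is of type II or III. -/
theorem IsPair.S23 (h : IsPair S T W₁ W₂ U V) : IsOfTypeII S ∨ IsOfTypeIII S := by
  rcases h.hS25 with k | k | k | k
  · exact Or.inl k
  · exact Or.inr k
  · exact absurd k (BBG.no_typeIV hG h.hS)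
  · exact absurd k (BBG.no_typeV hG h.hS)

include hG in
/-- `q = |W₁|` is prime -/
theorem IsPair.q_prime (h : IsPair S T W₁ W₂ U V) : (Nat.card W₁).Prime := by
  rcases h.S23 hG with k | k
  · exact (typeII_of (h.S_sol hG) h.hSP k).2.1
  · exact (typeIII_of (h.S_sol hG) h.hSP k).2.1

include hG in
theorem IsPair.p_prime (h : IsPair S T W₁ W₂ U V) : (Nat.card W₂).Prime := h.symm.q_prime hG

include hG in
theorem IsPair.U_ne (h : IsPair S T W₁ W₂ U V) : U ≠ ⊥ := by
  rcases h.S23 hG with k | k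
  · exact (typeII_of (h.S_sol hG) h.hSP k).1
  · exact (typeIII_of (h.S_sol hG) h.hSP k).1

include hG in
theorem IsPair.U_comm (h : IsPair S T W₁ W₂ U V) : IsMulCommutative U := by
  rcases h.S23 hG with k | k
  · exact (typeII_of (h.S_sol hG) h.hSP k).2.2.2.1
  · exact (typeIII_of (h.S_sol hG) h.hSP k).2.2.2.1

include hG in
theorem IsPair.P_struct (h : IsPair S T W₁ W₂ U V) :
    IsElementaryAbelian (Nat.card W₂) (fittingHallOf S) ∧
      Nat.card (fittingHallOf S) = Nat.card W₂ ^ Nat.card W₁ := by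
  rcases h.S23 hG with k | k
  · exact H_struct h.hSP (h.U_ne hG) (h.p_prime hG) (typeII_fix_bot (h.S_sol hG) h.hSP k).2
  · obtain ⟨-, -, h1, h2, -⟩ := BBG.typeIII_main hG h.hS h.hSP k
    exact ⟨h1, h2⟩

include hG in
theorem IsPair.typeII_of_lt (h : IsPair S T W₁ W₂ U V) (hlt : Nat.card W₁ < Nat.card W₂) :
    IsOfTypeII S := by
  rcases h.S23 hG with k | k
  · exact k
  · obtain ⟨-, h1, -⟩ := BBG.typeIII_main hG h.hS h.hSP k
    exact absurd h1 hlt.le.not_gt

end Cfsg.Agent.PF
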