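import Cfsg.Agent.PF.Hbar
import Cfsg.Agent.S1388
import Cfsg.Agent.S1545
import Cfsg.Agent.H23.Coprime
import Cfsg.Agent.H1.Coprime

set_option autoImplicit false

/-! PF section 9: first consequences of `IsHbar` (helper13). -/

namespace Cfsg.Agent.PF

open Subgroup
open Cfsg.Agent.L (cj nz SylIn)
open Cfsg.Agent.OOT
open Cfsg.Agent.H21
open scoped Pointwise

universe u
variable {G : Type u} [Group G]

theorem le_nz_of_conj {A X : Subgroup G} (h : ∀ a ∈ A, ∀ x ∈ X, a * x * a⁻¹ ∈ X) : A ≤ nz X :=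
  H23.le_normalizer_of_conj_mem h

theorem conj_of_le_nz {A X : Subgroup G} (h : A ≤ nz X) {a x : G} (ha : a ∈ A) (hx : x ∈ X) :
    a * x * a⁻¹ ∈ X := (Subgroup.mem_normalizer_iff.1 (h ha) x).1 hx

theorem conj_of_le_nz' {A X : Subgroup G} (h : A ≤ nz X) {a x : G} (ha : a ∈ A) (hx : x ∈ X) :
    a⁻¹ * x * a ∈ X := by
  have := conj_of_le_nz h (inv_mem ha) hx
  rwa [inv_inv] at this

/-- a group of prime order `r` acting without fixed points on `K`: `r ∣ |K| - 1` -/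
theorem dvd_card_sub_one [Finite G] {r : ℕ} [hr : Fact r.Prime] {K : Subgroup G} {x : G}
    (hρK : x ∈ nz K) (hρr : x ^ r = 1) (hfix : ∀ y ∈ K, x * y = y * x → y = 1) :
    r ∣ Nat.card K - 1 := by
  let _ : MulAction (zpowers (⟨x, hρK⟩ : normalizer (K : Set G))) K :=
    MulAction.compHom K ((K.normalizerMonoidHom).comp
      (zpowers (⟨x, hρK⟩ : normalizer (K : Set G))).subtype)
  have hpg : IsPGroup r (zpowers (⟨x, hρK⟩ : normalizer (K : Set G))) := by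
    rw [IsPGroup.iff_card]
    have h1 : Nat.card (zpowers (⟨x, hρK⟩ : normalizer (K : Set G))) ∣ r := by
      rw [Nat.card_zpowers]
      exact orderOf_dvd_of_pow_eq_one (Subtype.ext hρr)
    rcases (Nat.dvd_prime hr.out).mp h1 with h2 | h2
    · exact ⟨0, by rw [h2, pow_zero]⟩
    · exact ⟨1, by rw [h2, pow_one]⟩
  have h1 := hpg.card_modEq_card_fixedPoints K
  have h2 : Nat.card (MulAction.fixedPoints
      (zpowers (⟨x, hρK⟩ : normalizer (K : Set G))) K) = 1 := by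
    rw [Nat.card_eq_one_iff_unique]
    constructor
    · constructor
      have key : ∀ a : MulAction.fixedPoints (zpowers (⟨x, hρK⟩ : normalizer (K : Set G))) K,
          (a : K) = 1 := by
        rintro ⟨a, ha⟩
        have h3 := ha ⟨⟨x, hρK⟩, mem_zpowers _⟩
        have h4 : x * (a : G) * x⁻¹ = a := congrArg Subtype.val h3
        apply Subtype.ext
        exact hfix a a.2 (mul_inv_eq_iff_eq_mul.mp h4)
      intro a b
      apply Subtype.ext
      rw [key a, key b]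
    · refine ⟨⟨1, fun s => ?_⟩⟩
      show (K.normalizerMonoidHom (s : normalizer (K : Set G))) 1 = 1
      rw [map_one]
  rw [h2] at h1
  exact (Nat.modEq_iff_dvd' (Nat.card_pos (α := K))).mp h1.symm

variable {M W₁ U W₂ N C : Subgroup G} {p : ℕ}

namespace IsHbar

theorem C_le (h : IsHbar M W₁ U W₂ N C p) : C ≤ U := fun c hc => ((h.mem_C c).1 hc).1

theorem N_le_M (h : IsHbar M W₁ U W₂ N C p) : N ≤ M :=
  h.N_le.trans (h.hP.H_le'.trans (commutator_le_self M))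

theorem H_le_M (h : IsHbar M W₁ U W₂ N C p) : fittingHallOf M ≤ M :=
  h.hP.H_le'.trans (commutator_le_self M)

theorem U_nz_N (h : IsHbar M W₁ U W₂ N C p) : U ≤ nz N := h.hP.U_le.trans h.N_norm

theorem W₁_nz_N (h : IsHbar M W₁ U W₂ N C p) : W₁ ≤ nz N := h.hP.W₁_le.trans h.N_norm

theorem comm_cent (h : IsHbar M W₁ U W₂ N C p) [Finite G] :
    ⁅U, U⁆ ≤ centralizer (fittingHallOf M : Set G) := (S1388.result M W₁ U W₂ h.hP).1

/-- `U' ≤ C` -/
theorem comm_U (h : IsHbar M W₁ U W₂ N C p) [Finite G] : ⁅U, U⁆ ≤ C := by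
  intro c hc
  rw [h.mem_C]
  refine ⟨Subgroup.commutator_le_self U hc, fun x hx => ?_⟩
  have h1 := mem_cent_iff.1 (h.comm_cent hc) x hx
  have h2 : c * x * c⁻¹ * x⁻¹ = 1 := by rw [h1]; group
  rw [h2]
  exact one_mem _

theorem H_ne_N (h : IsHbar M W₁ U W₂ N C p) [Finite G] : fittingHallOf M ≠ N := by
  intro e
  have h1 := h.card
  rw [e] at h1
  have h2 : 0 < Nat.card N := Nat.card_pos
  have h3 : 1 < p ^ Nat.card W₁ := Nat.one_lt_pow h.hq.ne_zero h.hp.one_lt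
  have h4 : Nat.card N * 1 < Nat.card N * p ^ Nat.card W₁ := Nat.mul_lt_mul_of_pos_left h3 h2
  omega

theorem C_ne (h : IsHbar M W₁ U W₂ N C p) [Finite G] : C ≠ U := by
  intro e
  apply h.H_ne_N
  refine le_antisymm (fun x hx => h.fix x hx fun u hu => ?_) h.N_le
  rw [← e] at hu
  exact ((h.mem_C u).1 hu).2 x hx

theorem nz_C [Finite G] (h : IsHbar M W₁ U W₂ N C p) {A : Subgroup G} (hA : A ≤ M) (hAU : A ≤ nz U) :
    A ≤ nz C := by
  apply le_nz_of_conj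
  intro a ha c hc
  rw [h.mem_C] at hc ⊢
  refine ⟨conj_of_le_nz hAU ha hc.1, fun x hx => ?_⟩
  have h1 : a⁻¹ * x * a ∈ fittingHallOf M :=
    conj_of_le_nz' (le_normalizer_fhOf M) (hA ha) hx
  have h2 := conj_of_le_nz h.N_norm (hA ha) (hc.2 _ h1)
  have h3 : a * (c * (a⁻¹ * x * a) * c⁻¹ * (a⁻¹ * x * a)⁻¹) * a⁻¹ =
      a * c * a⁻¹ * x * (a * c * a⁻¹)⁻¹ * x⁻¹ := by group
  rwa [h3] at h2

theorem U_le_nz_C [Finite G] (h : IsHbar M W₁ U W₂ N C p) : U ≤ nz C :=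
  h.nz_C h.hP.U_le (L.le_nz U)

theorem W₁_le_nz_C [Finite G] (h : IsHbar M W₁ U W₂ N C p) : W₁ ≤ nz C :=
  h.nz_C h.hP.W₁_le h.hP.U_normal

end IsHbar

theorem nz_sup_of {A N D : Subgroup G} (h1 : ∀ a ∈ A, ∀ x ∈ N, a * x * a⁻¹ ∈ N ⊔ D)
    (h2 : ∀ a ∈ A, ∀ x ∈ D, a * x * a⁻¹ ∈ N ⊔ D) : A ≤ nz (N ⊔ D) := by
  apply le_nz_of_conj
  intro a ha x hx
  have h3 : cj a (N ⊔ D) ≤ N ⊔ D := by
    rw [L.cj_sup]
    refine sup_le ?_ ?_
    · exact L.cj_le_of_forall (h1 a ha)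
    · exact L.cj_le_of_forall (h2 a ha)
  exact h3 (L.conj_mem_cj hx)

theorem typeP_sup (hP : IsTypePWith M W₁ U W₂) [Finite G] : M = fittingHallOf M ⊔ U ⊔ W₁ := by
  rw [complIn_sup hP.U_compl, complIn_sup hP.W₁_compl]

namespace IsHbar

variable [Finite G]

/-- `H₀C ⊴ M`; more generally for `D ≤ C` normalized by `U` and `W₁` -/
theorem norm_sup (h : IsHbar M W₁ U W₂ N C p) {D : Subgroup G} (hD : D ≤ C)
    (hU : U ≤ nz D) (hW : W₁ ≤ nz D) : M ≤ nz (N ⊔ D) := by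
  have hN : ∀ {A : Subgroup G}, A ≤ M → ∀ a ∈ A, ∀ x ∈ N, a * x * a⁻¹ ∈ N ⊔ D := by
    intro A hA a ha x hx
    exact le_sup_left (a := N) (conj_of_le_nz h.N_norm (hA ha) hx)
  rw [typeP_sup h.hP]
  refine sup_le (sup_le ?_ ?_) ?_
  · refine nz_sup_of (hN h.H_le_M) fun a ha d hd => ?_
    have h1 := ((h.mem_C d).1 (hD hd)).2 a ha
    have h2 : a * d * a⁻¹ = (d * a * d⁻¹ * a⁻¹)⁻¹ * d := by group
    rw [h2]
    exact mul_mem (le_sup_left (a := N) (inv_mem h1)) (le_sup_right (a := N) hd)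
  · exact nz_sup_of (hN h.hP.U_le) fun a ha d hd => le_sup_right (a := N) (conj_of_le_nz hU ha hd)
  · exact nz_sup_of (hN h.hP.W₁_le) fun a ha d hd => le_sup_right (a := N) (conj_of_le_nz hW ha hd)

theorem card_sup (h : IsHbar M W₁ U W₂ N C p) {D : Subgroup G} (hD : D ≤ U) :
    Nat.card ↥(N ⊔ D) = Nat.card N * Nat.card D := by
  refine H23.card_sup_of_inf_eq_bot (hD.trans h.U_nz_N) ?_
  rw [eq_bot_iff, ← h.hP.U_compl.2.2.1]
  exact fun x hx => ⟨h.N_le hx.2, hD hx.1⟩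

/-- `H ∩ (N D) = N` -/
theorem inf_sup (h : IsHbar M W₁ U W₂ N C p) {D : Subgroup G} (hD : D ≤ U) :
    fittingHallOf M ⊓ (N ⊔ D) = N := by
  apply le_antisymm
  · rintro x ⟨hx, hx2⟩
    obtain ⟨n, hn, d, hd, rfl⟩ := (H23.mem_sup_iff_of_le_normalizer (hD.trans h.U_nz_N)).1 hx2
    have h1 : d ∈ fittingHallOf M := by
      have := mul_mem (inv_mem (h.N_le hn)) hx
      rwa [inv_mul_cancel_left] at this
    have h2 : d ∈ fittingHallOf M ⊓ U := ⟨h1, hD hd⟩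
    rw [h.hP.U_compl.2.2.1, Subgroup.mem_bot] at h2
    rw [h2, mul_one]
    exact hn
  · exact le_inf h.N_le le_sup_left

end IsHbar

theorem q_dvd_sub_U [Finite G] (hP : IsTypePWith M W₁ U W₂) (hq : (Nat.card W₁).Prime)
    {D : Subgroup G} (hD : D ≤ U) (hW : W₁ ≤ nz D) :
    Nat.card W₁ ∣ Nat.card D - 1 := by
  have : Fact (Nat.card W₁).Prime := ⟨hq⟩
  obtain ⟨w, hw, hw1⟩ := exists_ne_one hP.W₁_ne
  refine dvd_card_sub_one (hW hw) ?_ fun y hy hc => fix_W₁_U hP hw hw1 (hD hy) hc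
  have := pow_card_eq_one' (x := (⟨w, hw⟩ : W₁))
  exact congrArg Subtype.val this

theorem odd_of_le [Finite G] {A B : Subgroup G} (h : A ≤ B) (hB : Odd (Nat.card B)) :
    Odd (Nat.card A) := Odd.of_dvd_nat hB (Subgroup.card_dvd_of_le h)

/-- `|D| ≡ 1 mod 2q` for every `W₁`-invariant subgroup `D` of `U` -/
theorem IsTypePWith.sub_U_mod [Finite G] (hP : IsTypePWith M W₁ U W₂) (hq : (Nat.card W₁).Prime)
    (hodd : Odd (Nat.card M)) {D : Subgroup G} (hD : D ≤ U) (hW : W₁ ≤ nz D) :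
    2 * Nat.card W₁ ∣ Nat.card D - 1 := by
  have h1 := q_dvd_sub_U hP hq hD hW
  have h2 : Odd (Nat.card D) := odd_of_le (hD.trans hP.U_le) hodd
  have h3 : Odd (Nat.card W₁) := odd_of_le hP.W₁_le hodd
  have h4 : 2 ∣ Nat.card D - 1 := by
    obtain ⟨k, hk⟩ := h2
    exact ⟨k, by omega⟩
  exact Nat.Coprime.mul_dvd_of_dvd_of_dvd h3.coprime_two_left h4 h1

theorem mod_of_mul {m a b : ℕ} (hm : m ∣ a - 1) (hab : m ∣ a * b - 1) (ha : 0 < a) (hb : 0 < b) :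
    m ∣ b - 1 := by
  obtain ⟨k, hk⟩ := hm
  have e : a = m * k + 1 := by omega
  subst e
  have h1 : (m * k + 1) * b - 1 = m * (k * b) + (b - 1) := by
    have : (m * k + 1) * b = m * (k * b) + b := by ring
    omega
  rw [h1] at hab
  exact (Nat.dvd_add_right (Dvd.intro _ rfl)).1 hab

namespace IsHbar

variable [Finite G]

theorem card_U (h : IsHbar M W₁ U W₂ N C p) : Nat.card C * C.relIndex U = Nat.card U :=
  L.card_mul_relIndex h.C_le

theorem u_pos (h : IsHbar M W₁ U W₂ N C p) : 0 < C.relIndex U := by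
  rcases Nat.eq_zero_or_pos (C.relIndex U) with e | e
  · have := h.card_U
    rw [e, mul_zero] at this
    exact absurd this.symm Nat.card_pos.ne'
  · exact e

theorem u_ne_one (h : IsHbar M W₁ U W₂ N C p) : C.relIndex U ≠ 1 := by
  intro e
  have := h.card_U
  rw [e, mul_one] at this
  exact h.C_ne (L.eq_of_le_of_card_le h.C_le this.ge)

/-- `u ≡ 1 mod q`, for `u = |U : C|` -/
theorem q_dvd (h : IsHbar M W₁ U W₂ N C p) : Nat.card W₁ ∣ C.relIndex U - 1 := by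
  have h1 := q_dvd_sub_U h.hP h.hq h.C_le h.W₁_le_nz_C
  have h2 := q_dvd_sub_U h.hP h.hq le_rfl h.hP.U_normal
  rw [← h.card_U] at h2
  exact mod_of_mul h1 h2 Nat.card_pos h.u_pos

theorem two_q_dvd (h : IsHbar M W₁ U W₂ N C p) (hodd : Odd (Nat.card M)) :
    2 * Nat.card W₁ ∣ C.relIndex U - 1 := by
  have h1 := IsTypePWith.sub_U_mod h.hP h.hq hodd h.C_le h.W₁_le_nz_C
  have h2 := IsTypePWith.sub_U_mod h.hP h.hq hodd le_rfl h.hP.U_normal
  rw [← h.card_U] at h2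
  exact mod_of_mul h1 h2 Nat.card_pos h.u_pos

theorem u_lower (h : IsHbar M W₁ U W₂ N C p) (hodd : Odd (Nat.card M)) :
    2 * Nat.card W₁ + 1 ≤ C.relIndex U := by
  have h1 := h.two_q_dvd hodd
  have h2 := h.u_pos
  have h3 := h.u_ne_one
  have := Nat.le_of_dvd (by omega) h1
  omega

/-- `N ∩ W₂ = 1` if `|W₂| = p`. -/
theorem W₂_inf (h : IsHbar M W₁ U W₂ N C p) (hp : Nat.card W₂ = p) : W₂ ⊓ N = ⊥ := by
  have h1 := h.W₂_card
  rw [hp] at h1
  have h2 : Nat.card ↥(W₂ ⊓ N) = 1 := by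
    have := h.hp.pos
    exact (Nat.eq_of_mul_eq_mul_right this (by rw [one_mul]; exact h1)).symm
  exact Subgroup.card_eq_one.1 h2

end IsHbar

end Cfsg.Agent.PF
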