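import Mathlib.GroupTheory.Nilpotent
import Mathlib.GroupTheory.SpecificGroups.Cyclic
import Cfsg.Agent.PF.Sec9a

set_option autoImplicit false

/-! Quotients `H/N` with the action of `M` (helper13). -/

namespace Cfsg.Agent.PF

open Subgroup
open Cfsg.Agent.L (cj nz)

universe u

theorem nil_sup_commutator {G : Type u} [Group G] [Finite G] [Group.IsNilpotent G]
    {D : Subgroup G} (h : D ⊔ _root_.commutator G = ⊤) : D = ⊤ := by
  rcases eq_top_or_exists_le_coatom D with e | ⟨K, hK, hDK⟩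
  · exact e
  exfalso
  have hn : K.Normal :=
    NormalizerCondition.normal_of_coatom K Group.normalizerCondition_of_isNilpotent hK
  obtain ⟨x, hx⟩ : ∃ x, x ∉ K := by
    by_contra hc
    push Not at hc
    exact hK.1 (eq_top_iff.2 fun y _ => hc y)
  have hz : zpowers (QuotientGroup.mk' K x) = ⊤ := by
    have h1 : K < (zpowers (QuotientGroup.mk' K x)).comap (QuotientGroup.mk' K) := by
      refine lt_of_le_of_ne (fun y hy => ?_) (fun e => hx ?_)
      · have h0 : QuotientGroup.mk' K y = 1 := (QuotientGroup.eq_one_iff y).2 hy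
        rw [Subgroup.mem_comap, h0]
        exact one_mem _
      · rw [e]
        exact Subgroup.mem_comap.2 (mem_zpowers _)
    have h2 := hK.2 _ h1
    rw [← Subgroup.map_comap_eq_self_of_surjective (QuotientGroup.mk'_surjective K) (zpowers _), h2]
    exact Subgroup.map_top_of_surjective _ (QuotientGroup.mk'_surjective K)
  have hc : IsCyclic (G ⧸ K) := ⟨QuotientGroup.mk' K x, fun y => by
    have : y ∈ zpowers (QuotientGroup.mk' K x) := by rw [hz]; trivial
    exact this⟩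
  have hle : _root_.commutator G ≤ K := by
    rw [_root_.commutator_def, Subgroup.commutator_le]
    intro a _ b _
    rw [← QuotientGroup.eq_one_iff, ← QuotientGroup.mk'_apply, map_commutatorElement,
      commutatorElement_eq_one_iff_mul_comm]
    exact (IsCyclic.commGroup (α := G ⧸ K)).mul_comm _ _
  exact hK.1 (top_le_iff.1 (h ▸ sup_le hDK hle))

theorem nil_sup_commutator' {G : Type u} [Group G] [Finite G] {H D : Subgroup G}
    (hH : Group.IsNilpotent H) (hD : D ≤ H) (h : D ⊔ ⁅H, H⁆ = H) : D = H := by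
  have h1 : D.subgroupOf H ⊔ _root_.commutator ↥H = ⊤ := by
    apply Subgroup.map_injective H.subtype_injective
    rw [Subgroup.map_sup, Subgroup.subgroupOf_map_subtype, inf_eq_left.2 hD,
      Subgroup.map_subtype_commutator, h, ← MonoidHom.range_eq_map, Subgroup.range_subtype]
  have h2 := nil_sup_commutator h1
  rw [Subgroup.subgroupOf_eq_top] at h2
  exact le_antisymm hD h2

variable {G : Type u} [Group G] {M H N : Subgroup G}

/-- `V = H/N` with the action `ρ` of `M` -/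
structure IsQ {V : Type u} [CommGroup V] (M H N : Subgroup G) (π : ↥H →* V) (ρ : ↥M →* MulAut V) :
    Prop where
  surj : Function.Surjective π
  ker : ∀ x : H, π x = 1 ↔ (x : G) ∈ N
  act : ∀ (m : M) (x y : H), (y : G) = m * x * (m : G)⁻¹ → ρ m (π x) = π y

theorem exists_isQ (hH : M ≤ nz H) (hHM : H ≤ M) (hN : M ≤ nz N)
    (hc : ∀ x ∈ H, ∀ y ∈ H, x * y * x⁻¹ * y⁻¹ ∈ N) :
    ∃ (V : Type u) (_ : CommGroup V) (π : ↥H →* V) (ρ : ↥M →* MulAut V), IsQ M H N π ρ := by
  have hnorm : (N.subgroupOf H).Normal := by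
    constructor
    intro n hn g
    rw [Subgroup.mem_subgroupOf] at hn ⊢
    exact conj_of_le_nz hN (hHM g.2) hn
  have hcomm : ∀ a b : ↥H ⧸ N.subgroupOf H, a * b = b * a := by
    intro a b
    obtain ⟨x, rfl⟩ := QuotientGroup.mk_surjective a
    obtain ⟨y, rfl⟩ := QuotientGroup.mk_surjective b
    rw [← QuotientGroup.mk_mul, ← QuotientGroup.mk_mul, QuotientGroup.eq]
    rw [Subgroup.mem_subgroupOf]
    have h1 := hc _ (inv_mem y.2) _ (inv_mem x.2)
    have h2 : (((x * y)⁻¹ * (y * x) : H) : G) = (y : G)⁻¹ * (x : G)⁻¹ * ((y : G)⁻¹)⁻¹ * ((x : G)⁻¹)⁻¹ := by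
      push_cast
      group
    rw [h2]
    exact h1
  let _ : CommGroup (↥H ⧸ N.subgroupOf H) :=
    { (inferInstance : Group (↥H ⧸ N.subgroupOf H)) with mul_comm := hcomm }
  let e : ∀ m : M, H ≃* H := fun m => H.normalizerMonoidHom ⟨m, hH m.2⟩
  have he : ∀ (m : M) (x : H), ((e m x : H) : G) = m * x * (m : G)⁻¹ := fun m x => rfl
  have hmap : ∀ m : M, (N.subgroupOf H).map (e m).toMonoidHom = N.subgroupOf H := by
    intro m
    ext x
    constructor
    · rintro ⟨y, hy, rfl⟩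
      rw [Subgroup.mem_subgroupOf]
      show ((e m y : H) : G) ∈ N
      rw [he]
      exact conj_of_le_nz hN m.2 hy
    · intro hx
      refine ⟨(e m).symm x, ?_, (e m).apply_symm_apply x⟩
      show ((((e m).symm x : H)) : G) ∈ N
      have h1 : (((e m).symm x : H) : G) = (m : G)⁻¹ * x * m := by
        have h2 := he m ((e m).symm x)
        rw [(e m).apply_symm_apply] at h2
        rw [h2]; group
      rw [h1]
      exact conj_of_le_nz' hN m.2 hx
  let ρ : ↥M →* MulAut (↥H ⧸ N.subgroupOf H) :=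
    { toFun := fun m => QuotientGroup.congr _ _ (e m) (hmap m)
      map_one' := by
        ext a
        obtain ⟨x, rfl⟩ := QuotientGroup.mk_surjective a
        show ((e 1 x : H) : ↥H ⧸ N.subgroupOf H) = x
        congr 1
        apply Subtype.ext
        rw [he]; simp
      map_mul' := by
        intro m m'
        ext a
        obtain ⟨x, rfl⟩ := QuotientGroup.mk_surjective a
        show ((e (m * m') x : H) : ↥H ⧸ N.subgroupOf H) = ((e m (e m' x) : H) : ↥H ⧸ N.subgroupOf H)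
        congr 1
        apply Subtype.ext
        rw [he, he, he]
        push_cast
        group }
  refine ⟨↥H ⧸ N.subgroupOf H, inferInstance, QuotientGroup.mk' _, ρ,
    QuotientGroup.mk'_surjective _, ?_, ?_⟩
  · intro x
    rw [QuotientGroup.mk'_apply, QuotientGroup.eq_one_iff, Subgroup.mem_subgroupOf]
  · intro m x y hxy
    show ((e m x : H) : ↥H ⧸ N.subgroupOf H) = y
    congr 1
    apply Subtype.ext
    rw [he, hxy]

namespace IsQ

variable {V : Type u} [CommGroup V] {π : ↥H →* V} {ρ : ↥M →* MulAut V}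

/-- the subgroup of `H` corresponding to a subgroup of `V` -/
def up (π : ↥H →* V) (X : Subgroup V) : Subgroup G := (X.comap π).map H.subtype

theorem mem_up {X : Subgroup V} {x : G} : x ∈ up π X ↔ ∃ h : x ∈ H, π ⟨x, h⟩ ∈ X := by
  constructor
  · rintro ⟨y, hy, rfl⟩
    exact ⟨y.2, hy⟩
  · rintro ⟨h, hx⟩
    exact ⟨⟨x, h⟩, hx, rfl⟩

theorem up_le {X : Subgroup V} : up π X ≤ H := fun _ hx => (mem_up.1 hx).1

theorem le_up (hQ : IsQ M H N π ρ) (hNH : N ≤ H) {X : Subgroup V} : N ≤ up π X := by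
  intro x hx
  rw [mem_up]
  exact ⟨hNH hx, by rw [(hQ.ker _).2 hx]; exact one_mem _⟩

theorem up_mono {X Y : Subgroup V} (h : X ≤ Y) : up π X ≤ up π Y := by
  intro x hx
  rw [mem_up] at hx ⊢
  exact ⟨hx.1, h hx.2⟩

theorem coe_mem_up {X : Subgroup V} {x : H} : (x : G) ∈ up π X ↔ π x ∈ X := by
  rw [mem_up]
  exact ⟨fun h => h.2, fun h => ⟨x.2, h⟩⟩

theorem up_inj (hQ : IsQ M H N π ρ) {X Y : Subgroup V} (h : up π X = up π Y) : X = Y := by
  ext v
  obtain ⟨x, rfl⟩ := hQ.surj v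
  rw [← coe_mem_up, h, coe_mem_up]

theorem up_top : up π (⊤ : Subgroup V) = H := by
  ext x
  rw [mem_up]
  exact ⟨fun h => h.1, fun h => ⟨h, trivial⟩⟩

theorem up_bot (hQ : IsQ M H N π ρ) (hNH : N ≤ H) : up π (⊥ : Subgroup V) = N := by
  ext x
  rw [mem_up]
  constructor
  · rintro ⟨h, h2⟩
    exact (hQ.ker _).1 h2
  · intro h
    exact ⟨hNH h, (hQ.ker _).2 h⟩

theorem up_inf {X Y : Subgroup V} : up π (X ⊓ Y) = up π X ⊓ up π Y := by
  ext x
  rw [mem_up, Subgroup.mem_inf, mem_up, mem_up]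
  constructor
  · rintro ⟨h, h1, h2⟩
    exact ⟨⟨h, h1⟩, ⟨h, h2⟩⟩
  · rintro ⟨⟨h, h1⟩, ⟨_, h2⟩⟩
    exact ⟨h, h1, h2⟩

/-- `X/N` as a subgroup of `V` -/
def down (π : ↥H →* V) (X : Subgroup G) : Subgroup V := (X.subgroupOf H).map π

theorem mem_down (hQ : IsQ M H N π ρ) {X : Subgroup G} (hNX : N ≤ X) {x : H} :
    π x ∈ down π X ↔ (x : G) ∈ X := by
  constructor
  · rintro ⟨y, hy, he⟩
    have h1 : π (x * y⁻¹) = 1 := by rw [map_mul, map_inv, he, mul_inv_cancel]
    have h2 := hNX ((hQ.ker _).1 h1)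
    have h3 : (x : G) = (x * y⁻¹ : H) * y := by push_cast; group
    rw [h3]
    exact mul_mem h2 hy
  · intro h
    exact ⟨x, h, rfl⟩

theorem up_down (hQ : IsQ M H N π ρ) {X : Subgroup G} (hNX : N ≤ X) (hX : X ≤ H) :
    up π (down π X) = X := by
  ext x
  rw [mem_up]
  constructor
  · rintro ⟨h, h2⟩
    exact (hQ.mem_down hNX).1 h2
  · intro h
    exact ⟨hX h, (hQ.mem_down hNX (x := ⟨x, hX h⟩)).2 h⟩

theorem down_up (hQ : IsQ M H N π ρ) (hNH : N ≤ H) (X : Subgroup V) : down π (up π X) = X := by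
  ext v
  obtain ⟨x, rfl⟩ := hQ.surj v
  rw [hQ.mem_down (hQ.le_up hNH), coe_mem_up]

theorem act_up (hQ : IsQ M H N π ρ) (hH : M ≤ nz H) {X : Subgroup V} {m : M} :
    (∀ v ∈ X, ρ m v ∈ X) ↔ ∀ x ∈ up π X, (m : G) * x * (m : G)⁻¹ ∈ up π X := by
  constructor
  · intro h x hx
    rw [mem_up] at hx ⊢
    obtain ⟨h1, h2⟩ := hx
    have h3 : (m : G) * x * (m : G)⁻¹ ∈ H := conj_of_le_nz hH m.2 h1
    refine ⟨h3, ?_⟩
    rw [← hQ.act m ⟨x, h1⟩ ⟨_, h3⟩ rfl]
    exact h _ h2
  · intro h v hv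
    obtain ⟨x, rfl⟩ := hQ.surj v
    have h3 : (m : G) * x * (m : G)⁻¹ ∈ H := conj_of_le_nz hH m.2 x.2
    rw [hQ.act m x ⟨_, h3⟩ rfl, ← coe_mem_up]
    exact h _ (coe_mem_up.2 hv)

theorem act_eq_iff (hQ : IsQ M H N π ρ) (hH : M ≤ nz H) {m : M} {x : H} :
    ρ m (π x) = π x ↔ (m : G) * x * (m : G)⁻¹ * (x : G)⁻¹ ∈ N := by
  have h3 : (m : G) * x * (m : G)⁻¹ ∈ H := conj_of_le_nz hH m.2 x.2
  rw [hQ.act m x ⟨_, h3⟩ rfl, ← mul_inv_eq_one, ← map_inv, ← map_mul, hQ.ker]
  rfl

theorem card_up [Finite G] (hQ : IsQ M H N π ρ) (hNH : N ≤ H) (X : Subgroup V) :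
    Nat.card (up π X) = Nat.card N * Nat.card X := by
  have hfV : Finite V := Finite.of_surjective _ hQ.surj
  have h1 : Nat.card (up π X) = Nat.card (X.comap π) :=
    Nat.card_congr ((X.comap π).equivMapOfInjective _ H.subtype_injective).symm.toEquiv
  have h2 := Subgroup.card_mul_index (X.comap π)
  have h3 : (X.comap π).index = X.index := Subgroup.index_comap_of_surjective X hQ.surj
  have h4 := Subgroup.card_mul_index π.ker
  have h5 : π.ker.index = Nat.card V := by
    rw [Subgroup.index_ker, MonoidHom.range_eq_top.2 hQ.surj, Subgroup.card_top]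
  have h6 : Nat.card π.ker = Nat.card N := by
    have : π.ker = N.subgroupOf H := by
      ext x
      rw [MonoidHom.mem_ker, hQ.ker, Subgroup.mem_subgroupOf]
    rw [this]
    exact Nat.card_congr (Subgroup.subgroupOfEquivOfLe hNH).toEquiv
  have h7 := Subgroup.card_mul_index X
  have h8 : 0 < X.index := Nat.pos_of_ne_zero Subgroup.index_ne_zero_of_finite
  rw [h1]
  apply Nat.eq_of_mul_eq_mul_right h8
  rw [← h3, h2, ← h4, h5, h6, h3, ← h7, mul_assoc]

theorem card_eq [Finite G] (hQ : IsQ M H N π ρ) (hNH : N ≤ H) :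
    Nat.card H = Nat.card N * Nat.card V := by
  have := hQ.card_up hNH ⊤
  rwa [up_top, Subgroup.card_top] at this

end IsQ

end Cfsg.Agent.PF
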