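import Cfsg.Agent.PF.Quot9
import Cfsg.Agent.PF.Act9b

set_option autoImplicit false

/-! PF (9.7) for `IsHbar` (helper13). -/

namespace Cfsg.Agent.PF

open Subgroup
open Cfsg.Agent.L (cj nz)
open Cfsg.Agent.OOT
open Cfsg.Agent.H21
open scoped Pointwise commutatorElement

universe u
variable {G : Type u} [Group G] [Finite G] {M W₁ U W₂ N C : Subgroup G} {p : ℕ}

namespace IsHbar

theorem M_nz_H (_h : IsHbar M W₁ U W₂ N C p) : M ≤ nz (fittingHallOf M) := le_normalizer_fhOf M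

theorem exists_Q (h : IsHbar M W₁ U W₂ N C p) :
    ∃ (V : Type u) (_ : CommGroup V) (π : ↥(fittingHallOf M) →* V) (ρ : ↥M →* MulAut V),
      IsQ M (fittingHallOf M) N π ρ :=
  exists_isQ h.M_nz_H h.H_le_M h.N_norm h.comm

variable {V : Type u} [CommGroup V] {π : ↥(fittingHallOf M) →* V} {ρ : ↥M →* MulAut V}

theorem ρ_eq_one (h : IsHbar M W₁ U W₂ N C p) (hQ : IsQ M (fittingHallOf M) N π ρ) {c : M}
    (hc : (c : G) ∈ U) : ρ c = 1 ↔ (c : G) ∈ C := by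
  rw [h.mem_C]
  constructor
  · intro h1
    refine ⟨hc, fun x hx => ?_⟩
    have h2 : ρ c (π ⟨x, hx⟩) = π ⟨x, hx⟩ := by rw [h1]; rfl
    exact (hQ.act_eq_iff h.M_nz_H).1 h2
  · rintro ⟨-, h1⟩
    ext v
    obtain ⟨x, rfl⟩ := hQ.surj v
    exact (hQ.act_eq_iff h.M_nz_H).2 (h1 x x.2)

theorem act9 (h : IsHbar M W₁ U W₂ N C p) (hQ : IsQ M (fittingHallOf M) N π ρ) :
    Act9 ρ (U.subgroupOf M) (W₁.subgroupOf M) p := by
  have hcW : Nat.card (W₁.subgroupOf M) = Nat.card W₁ :=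
    Nat.card_congr (Subgroup.subgroupOfEquivOfLe h.hP.W₁_le).toEquiv
  have hpq : (Nat.card (fittingHallOf M)).Coprime (Nat.card W₁) := h.hP.coprime_HW₁
  have hpH : p ∣ Nat.card (fittingHallOf M) := by
    rw [h.card]
    exact Dvd.dvd.mul_left (dvd_pow_self p h.hq.ne_zero) _
  have hne : p ≠ Nat.card W₁ := by
    intro e
    rw [← e] at hpq
    have := Nat.eq_one_of_dvd_coprimes hpq hpH (dvd_refl p)
    exact h.hp.one_lt.ne' this
  constructor
  · exact h.hp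
  · rw [hcW]; exact h.hq
  · rw [hcW]
    have h1 := hQ.card_eq h.N_le
    rw [h.card] at h1
    exact (Nat.eq_of_mul_eq_mul_left Nat.card_pos h1).symm
  · intro v
    obtain ⟨x, rfl⟩ := hQ.surj v
    rw [← map_pow, hQ.ker]
    exact h.pow x x.2
  · intro w hw u hu
    exact conj_of_le_nz h.hP.U_normal (a := (w : G)) (x := (u : G)) hw hu
  · intro u hu u' hu'
    rw [← map_mul, ← map_mul]
    ext v
    obtain ⟨x, rfl⟩ := hQ.surj v
    have h1 : ((u * u' : M) : G) * x * ((u * u' : M) : G)⁻¹ =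
        ((u' * u : M) : G) * x * ((u' * u : M) : G)⁻¹ := by
      have h2 : ⁅(u : G)⁻¹, (u' : G)⁻¹⁆ ∈ ⁅U, U⁆ :=
        Subgroup.commutator_mem_commutator (inv_mem hu) (inv_mem hu')
      have h3 := mem_cent_iff.1 (h.comm_cent h2) x x.2
      rw [commutatorElement_def] at h3
      push_cast
      have h4 : (u : G) * u' * x * ((u : G) * u')⁻¹ =
          (u' : G) * u * ((u : G)⁻¹ * (u' : G)⁻¹ * ((u : G)⁻¹)⁻¹ * ((u' : G)⁻¹)⁻¹ * x) *
            ((u : G) * u')⁻¹ := by group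
      rw [h4, h3]; group
    have h5 : ((u * u' : M) : G) * x * ((u * u' : M) : G)⁻¹ ∈ fittingHallOf M :=
      conj_of_le_nz h.M_nz_H (u * u').2 x.2
    rw [hQ.act (u * u') x ⟨_, h5⟩ rfl, hQ.act (u' * u) x ⟨_, h5⟩ h1]
  · intro X hX1 hX2
    have k1 : U ≤ nz (IsQ.up π X) := by
      apply le_nz_of_conj
      intro a ha
      exact (hQ.act_up h.M_nz_H (m := ⟨a, h.hP.U_le ha⟩)).1 (hX1 ⟨a, h.hP.U_le ha⟩ ha)
    have k2 : W₁ ≤ nz (IsQ.up π X) := by
      apply le_nz_of_conj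
      intro a ha
      exact (hQ.act_up h.M_nz_H (m := ⟨a, h.hP.W₁_le ha⟩)).1 (hX2 ⟨a, h.hP.W₁_le ha⟩ ha)
    rcases h.chief _ (hQ.le_up h.N_le) IsQ.up_le k1 k2 with e | e
    · left
      exact hQ.up_inj (e.trans (hQ.up_bot h.N_le).symm)
    · right
      exact hQ.up_inj (e.trans IsQ.up_top.symm)
  · intro v hv
    obtain ⟨x, rfl⟩ := hQ.surj v
    rw [hQ.ker]
    apply h.fix x x.2
    intro u hu
    exact (hQ.act_eq_iff h.M_nz_H (m := ⟨u, h.hP.U_le hu⟩)).1 (hv ⟨u, h.hP.U_le hu⟩ hu)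
  · intro w hw hw1 u hu hρ
    have hWz : ∀ a ∈ W₁, a ∈ zpowers (w : G) := by
      intro a ha
      have h1 : zpowers (w : G) = W₁ := by
        apply L.eq_of_le_of_card_le (by rwa [zpowers_le])
        have h2 : Nat.card (zpowers (w : G)) ∣ Nat.card W₁ :=
          Subgroup.card_dvd_of_le (by rwa [zpowers_le])
        rcases (Nat.dvd_prime h.hq).1 h2 with e | e
        · exfalso
          apply hw1
          rw [Subgroup.card_eq_one, zpowers_eq_bot] at e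
          exact Subtype.ext e
        · exact e.ge
      rw [h1]; exact ha
    have hcomm : Commute (ρ w) (ρ u) := by
      rw [map_mul, map_mul, map_inv] at hρ
      exact mul_inv_eq_iff_eq_mul.1 hρ
    have hfix : ∀ a ∈ W₁, (u : G)⁻¹ * (a * u * a⁻¹) ∈ C := by
      intro a ha
      obtain ⟨k, hk⟩ := Subgroup.mem_zpowers_iff.1 (hWz a ha)
      have h1 : ρ (u⁻¹ * (w ^ k * u * (w ^ k)⁻¹)) = 1 := by
        rw [map_mul, map_mul, map_mul, map_inv, map_inv, map_zpow]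
        have := (hcomm.zpow_left k).eq
        rw [this, mul_inv_cancel_right, inv_mul_cancel]
      have h2 : ((u⁻¹ * (w ^ k * u * (w ^ k)⁻¹) : M) : G) = (u : G)⁻¹ * (a * u * a⁻¹) := by
        push_cast
        rw [hk]
      rw [h.ρ_eq_one hQ, h2] at h1
      · exact h1
      · rw [h2]
        exact mul_mem (inv_mem hu) (conj_of_le_nz h.hP.U_normal ha hu)
    obtain ⟨c, hc, hcD⟩ := H1.exists_fixed_in_coset' W₁ U C h.C_le h.W₁_le_nz_C
      h.hP.coprime_UW₁.symm (Or.inr (by have := h.hP.U_nilpotent; infer_instance)) (u : G) hu hfix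
    have hc1 : c = 1 := by
      refine fix_W₁_U h.hP hw (fun e => hw1 (Subtype.ext e)) hc.1 ?_
      exact (mem_cent_iff.1 hc.2 _ hw).symm
    rw [hc1, mul_one] at hcD
    exact (h.ρ_eq_one hQ hu).2 (inv_mem_iff.1 hcD)
  · have h1 : ¬ W₂ ≤ N := by
      intro h2
      have h3 := h.W₂_card
      rw [inf_eq_left.2 h2] at h3
      have h4 : 0 < Nat.card W₂ := Nat.card_pos
      have h5 := h.hp.one_lt
      have h6 : Nat.card W₂ * 1 < Nat.card W₂ * p := Nat.mul_lt_mul_of_pos_left h5 h4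
      omega
    obtain ⟨x, hx, hxN⟩ := SetLike.not_le_iff_exists.1 h1
    have hxH := h.hP.W₂_le_H hx
    refine ⟨π ⟨x, hxH⟩, fun e => hxN ((hQ.ker _).1 e), fun w hw => ?_⟩
    apply hQ.act w ⟨x, hxH⟩
    have h2 : (w : G) * x = x * w := W₂_comm h.hP hw hx
    show x = w * x * (w : G)⁻¹
    rw [h2, mul_inv_cancel_right]
  · rw [hcW]; exact hne

theorem gal9 (h : IsHbar M W₁ U W₂ N C p) (hQ : IsQ M (fittingHallOf M) N π ρ) :
    Gal9 ρ (U.subgroupOf M) ↔ IsGal M U N := by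
  constructor
  · intro hg X hNX hX hU
    have h1 := hg (IsQ.down π X) ?_
    · rcases h1 with e | e
      · left
        rw [← hQ.up_down hNX hX, e, hQ.up_bot h.N_le]
      · right
        rw [← hQ.up_down hNX hX, e, IsQ.up_top]
    · intro u hu
      refine (hQ.act_up h.M_nz_H).2 ?_
      rw [hQ.up_down hNX hX]
      intro x hx
      exact conj_of_le_nz hU hu hx
  · intro hg X hX
    have k1 : U ≤ nz (IsQ.up π X) := by
      apply le_nz_of_conj
      intro a ha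
      exact (hQ.act_up h.M_nz_H (m := ⟨a, h.hP.U_le ha⟩)).1 (hX ⟨a, h.hP.U_le ha⟩ ha)
    rcases hg _ (hQ.le_up h.N_le) IsQ.up_le k1 with e | e
    · left
      exact hQ.up_inj (e.trans (hQ.up_bot h.N_le).symm)
    · right
      exact hQ.up_inj (e.trans IsQ.up_top.symm)

/-- Galois case: `U/C` acts freely on `H/N` -/
theorem gal_free (h : IsHbar M W₁ U W₂ N C p) (hgal : IsGal M U N) {u : G} (hu : u ∈ U)
    (huC : u ∉ C) {x : G} (hx : x ∈ fittingHallOf M) (hux : u * x * u⁻¹ * x⁻¹ ∈ N) : x ∈ N := by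
  obtain ⟨V, _, π, ρ, hQ⟩ := h.exists_Q
  have h1 := (h.act9 hQ).gal_free ((h.gal9 hQ).2 hgal) (u := ⟨u, h.hP.U_le hu⟩) hu
    (fun e => huC ((h.ρ_eq_one hQ hu).1 e)) (v := π ⟨x, hx⟩) ((hQ.act_eq_iff h.M_nz_H).2 hux)
  exact (hQ.ker _).1 h1

/-- Galois case: `U/C` is cyclic -/
theorem gal_cyclic (h : IsHbar M W₁ U W₂ N C p) (hgal : IsGal M U N) :
    ∃ g ∈ U, ∀ u ∈ U, ∃ k : ℕ, u * (g ^ k)⁻¹ ∈ C := by
  obtain ⟨V, _, π, ρ, hQ⟩ := h.exists_Q
  obtain ⟨g, hg, hg2⟩ := (h.act9 hQ).gal_cyclic ((h.gal9 hQ).2 hgal)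
  refine ⟨g, hg, fun u hu => ?_⟩
  obtain ⟨k, hk⟩ := hg2 ⟨u, h.hP.U_le hu⟩ hu
  refine ⟨k, ?_⟩
  have h1 : ρ (⟨u, h.hP.U_le hu⟩ * (g ^ k)⁻¹) = 1 := by
    rw [map_mul, map_inv, hk, mul_inv_cancel]
  have h2 := (h.ρ_eq_one hQ (c := ⟨u, h.hP.U_le hu⟩ * (g ^ k)⁻¹)
    (mul_mem hu (inv_mem (pow_mem hg k)))).1 h1
  exact h2

theorem card_map (h : IsHbar M W₁ U W₂ N C p) (hQ : IsQ M (fittingHallOf M) N π ρ) :
    Nat.card ((U.subgroupOf M).map ρ) = C.relIndex U := by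
  rw [← Subgroup.relIndex_ker, ← Subgroup.relIndex_subgroupOf h.hP.U_le,
    ← Subgroup.inf_relIndex_right, ← Subgroup.inf_relIndex_right (C.subgroupOf M)]
  congr 1
  ext c
  rw [Subgroup.mem_inf, Subgroup.mem_inf, MonoidHom.mem_ker]
  constructor
  · rintro ⟨h1, h2⟩
    exact ⟨(h.ρ_eq_one hQ h2).1 h1, h2⟩
  · rintro ⟨h1, h2⟩
    exact ⟨(h.ρ_eq_one hQ h2).2 h1, h2⟩

theorem gal_coprime (h : IsHbar M W₁ U W₂ N C p) (hgal : IsGal M U N) :
    (C.relIndex U).Coprime (p - 1) := by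
  obtain ⟨V, _, π, ρ, hQ⟩ := h.exists_Q
  rw [← h.card_map hQ]
  exact ((h.act9 hQ).gal_count ((h.gal9 hQ).2 hgal)).2

/-- Galois case: `u | (p^q - 1)/(p - 1)` -/
theorem gal_dvd (h : IsHbar M W₁ U W₂ N C p) (hgal : IsGal M U N) :
    C.relIndex U * (p - 1) ∣ p ^ Nat.card W₁ - 1 := by
  obtain ⟨V, _, π, ρ, hQ⟩ := h.exists_Q
  rw [← h.card_map hQ]
  have h1 := ((h.act9 hQ).gal_count ((h.gal9 hQ).2 hgal)).1
  rwa [Nat.card_congr (Subgroup.subgroupOfEquivOfLe h.hP.W₁_le).toEquiv] at h1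

end IsHbar

end Cfsg.Agent.PF
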