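import Cfsg.Agent.PF.Defs9
import Cfsg.Agent.PF.Bridge
import Cfsg.Agent.PF.Char9f
import Cfsg.Agent.PF.Sec9c
import Cfsg.Agent.S1517

set_option autoImplicit false

/-! The bridge of PF section 9 (helper22, helper13): `IsBridge.tau_eq` (the substitute for (9.11)),
`gal_bridge`, `nonGal_bridge_of`. -/

namespace Cfsg.Agent.PF

open Subgroup ComplexConjugate
open Cfsg.Agent.H3 Cfsg.Agent.H11
open Cfsg.Agent.L (nz)

universe u v

variable {G : Type u} [Group G] [Fintype G] {M W₁ U W₂ : Subgroup G} [Fintype ↥M]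
  {η : Lin W₁ W₂ → G → ℂ} {μ : Lin W₁ W₂ → ↥M → ℂ} {δ : Lin W₁ W₂ → ℤ}
  {N C X Y U₁ : Subgroup G} {p a : ℕ}

/-- `⟨τ α, η_ij − η_ij'⟩ = δ ⟨α, μ_ij − μ_ij'⟩` for the conjugate index `j'` of `j` -/
theorem IsFrame.inner_eta_sub_inv (F : IsFrame M W₁ U W₂ η μ δ)
    {α : ↥M → ℂ} (hα : α ∈ zspanOn (SM M ⊥) ({1}ᶜ : Set ↥M)) {φ ψ : Lin W₁ W₂}
    (hφ : IsI W₁ W₂ φ) (hψ : IsJ W₁ W₂ ψ) (h1 : ψ ≠ 1) :
    classInner (tauM M α) (η (φ * ψ)) - classInner (tauM M α) (η (φ * ψ⁻¹)) =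
      (δ ψ : ℂ) * (classInner α (μ (φ * ψ)) - classInner α (μ (φ * ψ⁻¹))) := by
  have h1' : ψ⁻¹ ≠ 1 := fun h => h1 (brg_inv_eq_one h)
  have hψ' : IsJ W₁ W₂ ψ⁻¹ := hψ.inv
  have hI : ∀ ψ : Lin W₁ W₂, IsJ W₁ W₂ ψ → ψ ≠ 1 → ¬ IsI W₁ W₂ (φ * ψ) := by
    intro ψ hψ h1 hI
    have : φ * ψ = (φ * ψ) * 1 := (mul_one (φ * ψ)).symm
    exact h1 (lin_unique F.hW hφ hI hψ IsJ.one this).2
  obtain ⟨k1, k2⟩ := F.tau_mu_sub (ω := φ * ψ) (ω' := φ * ψ⁻¹) (fun w hw => by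
      rw [MonoidHom.mul_apply, MonoidHom.mul_apply, hψ w hw, hψ' w hw]) (hI ψ hψ h1)
    (hI ψ⁻¹ hψ' h1') (by rw [F.deg_eq hφ, F.deg_eq hφ, F.a_deg_inv])
    (by rw [F.sign_congr φ ψ hφ, F.sign_congr φ ψ⁻¹ hφ, F.sign_inv])
  rw [F.sign_congr φ ψ hφ] at k2
  have e := tau_inner F.hG F.hM (isGen_classFun (F.span_gen hα.1)) (fun x hx => F.span_supp hα x
    (fun h => hx (A_sub_A0 h))) (classFun_sub (irr_classFun (F.irr (φ * ψ)))
    (irr_classFun (F.irr (φ * ψ⁻¹)))) k1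
  rw [k2, classInner_smul_right, classInner_sub_right, classInner_sub_right] at e
  have hs : (δ ψ : ℂ) * conj (δ ψ : ℂ) = 1 := by
    rcases F.sign ψ with h | h <;> rw [h] <;> simp
  rw [← e, ← mul_assoc, hs, one_mul]

theorem int_pair (m d : ℤ) (hd : d = 1 ∨ d = -1) :
    1 ≤ m ^ 2 + (m - d) ^ 2 ∧ (m ^ 2 + (m - d) ^ 2 = 1 → m = d ∨ m = 0) := by
  constructor
  · by_cases h : m = 0
    · subst h; rcases hd with rfl | rfl <;> norm_num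
    · have : 0 < m ^ 2 := by positivity
      nlinarith [sq_nonneg (m - d)]
  · intro h
    by_cases h0 : m = 0
    · exact Or.inr h0
    · left
      have h1 : 0 < m ^ 2 := by positivity
      have h2 : (m - d) ^ 2 = 0 := by nlinarith [sq_nonneg (m - d)]
      have := pow_eq_zero_iff (two_ne_zero) |>.1 h2
      omega

/-- the substitute for (9.11) -/
theorem IsBridge.tau_eq (F : IsFrame M W₁ U W₂ η μ δ) {ψ : Lin W₁ W₂} {Y : Finset (↥M → ℂ)}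
    {σ : (↥M → ℂ) → G → ℂ} {χ : ↥M → ℂ} {t : ℕ} (B : IsBridge M μ ψ Y σ χ t) :
    ∃ (ψ' : Lin W₁ W₂) (ε x : ℤ), ((ψ' = ψ ∧ ε = δ ψ) ∨ (ψ' = ψ⁻¹ ∧ ε = - δ ψ)) ∧
      (x = 0 ∨ (x = 1 ∧ Y.card = 2 * t)) ∧
      tauM M (colI μ ψ - (t : ℂ) • χ) =
        (ε : ℂ) • colI η ψ' - (t : ℂ) • σ χ + (x : ℂ) • ∑ φ ∈ Y, σ φ := by
  classical
  letI : Fintype (Lin W₁ W₂) := Fintype.ofFinite _
  have hψ := B.isJ
  have hψ1 := B.ne
  have hYS : (↑Y : Set (↥M → ℂ)) ⊆ SM M ⊥ := fun φ hφ => B.Y_mem φ (by exact_mod_cast hφ)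
  have hYirr := B.Y_irr
  have hYc := B.Y_conj
  have ht := B.pos
  have hN := B.big
  have hσ := B.coh
  have hχ := B.mem
  have hdeg : ∀ χ' ∈ Y, (t : ℂ) * χ' 1 = colI μ ψ 1 := fun χ' h => by
    rw [B.Y_deg χ' h, B.deg]
  have hinv1 : ψ⁻¹ ≠ 1 := fun h => hψ1 (brg_inv_eq_one h)
  have hinv2 : ψ⁻¹ ≠ ψ := inv_ne_self_lin F.oddW hψ1
  set q := Nat.card W₁ with hq
  have hχS : χ ∈ SM M ⊥ := hYS (by exact_mod_cast hχ)
  have hχirr := hYirr χ hχ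
  set α := colI μ ψ - (t : ℂ) • χ with hαdef
  have hα : α ∈ zspanOn (SM M ⊥) ({1}ᶜ : Set ↥M) :=
    sub_smul_mem t (F.col_mem hψ hψ1) hχS (hdeg χ hχ)
  set θ := tauM M α with hθdef
  have hθg : IsGeneralizedCharacter G θ := F.tau_gen' hα
  have hθV : ∀ v ∈ Vset W₁ W₂, θ v = 0 := fun v hv => F.span_V hα hv
  have haex : ∀ ω, ∃ n : ℤ, classInner θ (η ω) = n := fun ω =>
    classInner_gen_int hθg (eta_sirr F.fam ω).isGen
  choose a ha using haex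
  have hσirr : ∀ χ' ∈ Y, SIrr (σ χ') := fun χ' h =>
    (F.coh_irr hYS hYc hσ (by exact_mod_cast h) (hYirr χ' h)).1
  -- the coefficients on Y
  obtain ⟨b₀, hb₀⟩ := classInner_gen_int hθg (hσirr χ hχ).isGen
  set x : ℤ := b₀ + t with hx
  have hcolχ : ∀ χ' ∈ Y, classInner (colI μ ψ) χ' = 0 := by
    intro χ' h
    rw [← classInner_conj_symm, F.irr_inner_col (hYS (by exact_mod_cast h)) (hYirr χ' h)]; simp
  have hb : ∀ χ' ∈ Y, classInner θ (σ χ') = ((if χ' = χ then x - t else x : ℤ) : ℂ) := by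
    intro χ' hχ'
    by_cases h : χ' = χ
    · subst h
      rw [if_pos rfl, hb₀, hx]; push_cast; ring
    · rw [if_neg h]
      have hm : χ - χ' ∈ zspanOn (↑Y : Set (↥M → ℂ)) ({1}ᶜ : Set ↥M) := by
        refine sub_mem_of_eq (by exact_mod_cast hχ) (by exact_mod_cast hχ') ?_
        have h1 := (hdeg χ hχ).trans (hdeg χ' hχ').symm
        exact mul_left_cancel₀ (by exact_mod_cast ht.ne') h1
      have h1 := F.tau_inner' hα (zspanOn_mono hYS hm)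
      rw [← hσ.2 _ hm, hσ.sub (zspan_mem (by exact_mod_cast hχ))
        (zspan_mem (by exact_mod_cast hχ')), classInner_sub_right, hb₀, hαdef,
        classInner_sub_left, classInner_sub_right, classInner_sub_right, hcolχ χ hχ,
        hcolχ χ' hχ', classInner_smul_left, classInner_smul_left,
        classInner_irr hχirr hχirr, if_pos rfl, classInner_irr hχirr (hYirr χ' hχ'),
        if_neg (fun h' => h h'.symm)] at h1
      rw [hx]; push_cast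
      linear_combination (-1 : ℂ) * h1
  -- the coefficients on the grid
  have hαmu : ∀ φ ψ', IsI W₁ W₂ φ → IsJ W₁ W₂ ψ' →
      classInner α (μ (φ * ψ')) = if ψ = ψ' then 1 else 0 := by
    intro φ ψ' hφ hψ'
    rw [hαdef, classInner_sub_left, F.col_inner_mu hφ hψ hψ', classInner_smul_left,
      F.irr_inner_mu hχS hχirr, mul_zero, sub_zero]
  have hcol : ∀ φ, IsI W₁ W₂ φ → a (φ * ψ⁻¹) = a (φ * ψ) - δ ψ := by
    intro φ hφ
    have h3 := F.inner_eta_sub_inv hα hφ hψ hψ1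
    rw [← hθdef, ha, ha, hαmu φ ψ hφ hψ, hαmu φ ψ⁻¹ hφ hψ.inv, if_pos rfl,
      if_neg (fun h' => hinv2 h'.symm), sub_zero, mul_one] at h3
    have h4 : a (φ * ψ) - a (φ * ψ⁻¹) = δ ψ := by exact_mod_cast h3
    omega
  have hgrid : ∀ φ, IsI W₁ W₂ φ → a (φ * ψ) + a 1 = a φ + a ψ := by
    intro φ hφ
    have h1 := grid_add F.fam (isGen_classFun hθg) hθV hφ hψ
    rw [ha, ha, ha, ha] at h1
    exact_mod_cast h1
  -- norm
  have hqcol : classInner (colI μ ψ) (colI μ ψ) = (q : ℂ) := by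
    rw [F.col_inner hψ hψ, if_pos rfl]
  have hnorm : classInner θ θ = ((q + t ^ 2 : ℕ) : ℂ) := by
    rw [hθdef, F.tau_inner' hα hα, hαdef, classInner_sub_left, classInner_sub_right,
      classInner_sub_right, hqcol, classInner_smul_left, classInner_smul_left,
      classInner_smul_right, classInner_smul_right, hcolχ χ hχ, F.irr_inner_col hχS hχirr,
      classInner_irr hχirr hχirr, if_pos rfl]
    simp; ring
  -- Bessel
  set s := (Finset.univ : Finset (Lin W₁ W₂)).disjSum Y with hs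
  have horth := F.bridge_orth hYS hYirr hYc hσ
  have hbes := bessel_le s (Sum.elim η σ) (fun _ => (1 : ℝ)) (fun _ _ => one_ne_zero) horth θ
  set J' : Finset (Lin W₁ W₂) := (((idxJ W₁ W₂).erase 1).erase ψ).erase ψ⁻¹ with hJ'
  have hsum : ∑ i ∈ s, ‖classInner θ (Sum.elim η σ i)‖ ^ 2 / (1 : ℝ) =
      (((∑ φ ∈ idxI W₁ W₂, (a φ ^ 2 + ((a (φ * ψ) ^ 2 + (a (φ * ψ) - δ ψ) ^ 2) +
        ∑ ψ' ∈ J', a (φ * ψ') ^ 2))) +
        ((x - t) ^ 2 + (Y.card - 1 : ℤ) * x ^ 2) : ℤ) : ℝ) := by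
    rw [hs, Finset.sum_disjSum]
    simp only [Sum.elim_inl, Sum.elim_inr, div_one]
    rw [Int.cast_add]
    congr 1
    · have e1 : ∀ ω, ‖classInner θ (η ω)‖ ^ 2 = ((a ω ^ 2 : ℤ) : ℝ) := by
        intro ω; rw [ha]; push_cast; rw [Complex.norm_intCast, sq_abs]
      rw [Finset.sum_congr rfl fun ω _ => e1 ω, ← Int.cast_sum, sum_lin F.hW]
      congr 1
      refine Finset.sum_congr rfl fun φ hφ => ?_
      rw [mem_idxI] at hφ
      have m1 : (1 : Lin W₁ W₂) ∈ idxJ W₁ W₂ := mem_idxJ.2 IsJ.one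
      have m2 : ψ ∈ (idxJ W₁ W₂).erase 1 := Finset.mem_erase.2 ⟨hψ1, mem_idxJ.2 hψ⟩
      have m3 : ψ⁻¹ ∈ ((idxJ W₁ W₂).erase 1).erase ψ :=
        Finset.mem_erase.2 ⟨hinv2, Finset.mem_erase.2 ⟨hinv1, mem_idxJ.2 hψ.inv⟩⟩
      rw [← Finset.add_sum_erase _ _ m1, ← Finset.add_sum_erase _ _ m2,
        ← Finset.add_sum_erase _ _ m3, brg_mul_one, hcol φ hφ, add_assoc (a (φ * ψ) ^ 2)]
    · have e1 : ∀ χ' ∈ Y, ‖classInner θ (σ χ')‖ ^ 2 =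
          (((if χ' = χ then x - t else x) ^ 2 : ℤ) : ℝ) := by
        intro χ' h; rw [hb χ' h, Complex.norm_intCast, sq_abs]; push_cast; rfl
      rw [Finset.sum_congr rfl e1, ← Int.cast_sum, ← Finset.add_sum_erase _ _ hχ, if_pos rfl]
      congr 2
      have e2 : ∀ χ' ∈ Y.erase χ, (if χ' = χ then x - t else x) ^ 2 = x ^ 2 := by
        intro χ' h
        rw [if_neg (Finset.mem_erase.1 h).1]
      rw [Finset.sum_congr rfl e2, Finset.sum_const, nsmul_eq_mul, Finset.card_erase_of_mem hχ,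
        Nat.cast_sub (Finset.card_pos.2 ⟨χ, hχ⟩)]
      norm_num
  rw [hsum, hnorm, Complex.natCast_re] at hbes
  have hbes' : (∑ φ ∈ idxI W₁ W₂, (a φ ^ 2 + ((a (φ * ψ) ^ 2 + (a (φ * ψ) - δ ψ) ^ 2) +
        ∑ ψ' ∈ J', a (φ * ψ') ^ 2))) + ((x - t) ^ 2 + (Y.card - 1 : ℤ) * x ^ 2) ≤
      ((q + t ^ 2 : ℕ) : ℤ) := by
    exact_mod_cast hbes
  have hirr := int_irr Y.card t ht hN x
  have hcard : (∑ φ ∈ idxI W₁ W₂, (1 : ℤ)) = q := by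
    rw [Finset.sum_const, card_idxI F.hW]; simp [hq]
  have hJn : ∀ φ, 0 ≤ ∑ ψ' ∈ J', a (φ * ψ') ^ 2 := fun φ =>
    Finset.sum_nonneg fun ψ' _ => sq_nonneg _
  have hterm : ∀ φ ∈ idxI W₁ W₂, (1 : ℤ) ≤ a φ ^ 2 + ((a (φ * ψ) ^ 2 + (a (φ * ψ) - δ ψ) ^ 2) +
        ∑ ψ' ∈ J', a (φ * ψ') ^ 2) := fun φ _ => by
    have h1 := (int_pair (a (φ * ψ)) (δ ψ) (F.sign ψ)).1
    have h2 := hJn φ
    have h3 := sq_nonneg (a φ)
    linarith
  have hge : (q : ℤ) ≤ ∑ φ ∈ idxI W₁ W₂, (a φ ^ 2 + ((a (φ * ψ) ^ 2 + (a (φ * ψ) - δ ψ) ^ 2) +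
        ∑ ψ' ∈ J', a (φ * ψ') ^ 2)) := by
    rw [← hcard]; exact Finset.sum_le_sum hterm
  push_cast at hbes'
  have hB : (x - t) ^ 2 + (Y.card - 1 : ℤ) * x ^ 2 = (t : ℤ) ^ 2 := by
    have := hirr.1; linarith
  have hA : ∑ φ ∈ idxI W₁ W₂, (a φ ^ 2 + ((a (φ * ψ) ^ 2 + (a (φ * ψ) - δ ψ) ^ 2) +
        ∑ ψ' ∈ J', a (φ * ψ') ^ 2)) = ∑ φ ∈ idxI W₁ W₂, (1 : ℤ) := by
    rw [hcard]; linarith
  have hA' := (Finset.sum_eq_sum_iff_of_le hterm).1 hA.symm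
  have hA0 : ∀ φ, IsI W₁ W₂ φ → a φ = 0 ∧ (a (φ * ψ) = δ ψ ∨ a (φ * ψ) = 0) ∧
      ∀ ψ' ∈ J', a (φ * ψ') = 0 := by
    intro φ hφ
    have h1 := hA' φ (mem_idxI.2 hφ)
    have h2 := int_pair (a (φ * ψ)) (δ ψ) (F.sign ψ)
    have h3 := hJn φ
    have h4 := sq_nonneg (a φ)
    have h5 : a φ ^ 2 = 0 := by linarith [h2.1]
    have h6 : ∑ ψ' ∈ J', a (φ * ψ') ^ 2 = 0 := by linarith [h2.1]
    refine ⟨(pow_eq_zero_iff two_ne_zero).1 h5, h2.2 (by linarith), fun ψ' hψ' => ?_⟩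
    have h7 := (Finset.sum_eq_zero_iff_of_nonneg (fun ψ' _ => sq_nonneg _)).1 h6 ψ' hψ'
    exact (pow_eq_zero_iff two_ne_zero).1 h7
  have ha1 := hA0 1 IsI.one
  rw [brg_one_mul] at ha1
  have hconst : ∀ φ, IsI W₁ W₂ φ → a (φ * ψ) = a ψ := by
    intro φ hφ
    have := hgrid φ hφ
    rw [ha1.1, (hA0 φ hφ).1] at this
    omega
  -- the expansion
  have hexp := bessel_eq_case s (Sum.elim η σ) (fun _ => (1 : ℝ)) (fun _ _ => one_ne_zero) horth θ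
    (by rw [hsum, hnorm, Complex.natCast_re, hA, hcard, hB]; push_cast; ring)
  have hexp2 : θ = (∑ φ ∈ idxI W₁ W₂, ∑ ψ' ∈ idxJ W₁ W₂, (a (φ * ψ') : ℂ) • η (φ * ψ')) +
      ∑ χ' ∈ Y, classInner θ (σ χ') • σ χ' := by
    conv_lhs => rw [hexp]
    rw [hs, Finset.sum_disjSum]
    congr 1
    · simp only [Sum.elim_inl, Complex.ofReal_one, div_one]
      rw [← sum_lin F.hW (fun ω => (a ω : ℂ) • η ω)]
      refine Finset.sum_congr rfl fun ω _ => by rw [ha]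
    · simp only [Sum.elim_inr, Complex.ofReal_one, div_one]
  have hY : ∑ χ' ∈ Y, classInner θ (σ χ') • σ χ' =
      -((t : ℂ) • σ χ) + (x : ℂ) • ∑ χ' ∈ Y, σ χ' := by
    have e1 : ∀ χ' ∈ Y, classInner θ (σ χ') • σ χ' =
        (x : ℂ) • σ χ' + (if χ' = χ then -((t : ℂ) • σ χ) else 0) := by
      intro χ' h
      rw [hb χ' h]
      by_cases h' : χ' = χ
      · subst h'
        rw [if_pos rfl, if_pos rfl]; push_cast
        rw [sub_smul, sub_eq_add_neg]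
      · rw [if_neg h', if_neg h', add_zero]
    rw [Finset.sum_congr rfl e1, Finset.sum_add_distrib, ← Finset.smul_sum,
      Finset.sum_ite_eq' Y χ, if_pos hχ, add_comm]
  have hmemJ' : ∀ ψ', IsJ W₁ W₂ ψ' → ψ' ≠ 1 → ψ' ≠ ψ → ψ' ≠ ψ⁻¹ → ψ' ∈ J' := by
    intro ψ' h1 h2 h3 h4
    exact Finset.mem_erase.2 ⟨h4, Finset.mem_erase.2 ⟨h3, Finset.mem_erase.2 ⟨h2, mem_idxJ.2 h1⟩⟩⟩
  rcases ha1.2.1 with hm | hm
  · refine ⟨ψ, δ ψ, x, Or.inl ⟨rfl, rfl⟩, hirr.2 hB, ?_⟩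
    rw [hexp2, hY]
    have e1 : ∀ φ ∈ idxI W₁ W₂, ∑ ψ' ∈ idxJ W₁ W₂, (a (φ * ψ') : ℂ) • η (φ * ψ') =
        (δ ψ : ℂ) • η (φ * ψ) := by
      intro φ hφ
      rw [mem_idxI] at hφ
      rw [Finset.sum_eq_single ψ]
      · rw [hconst φ hφ, hm]
      · intro ψ' hψ' hne
        rw [mem_idxJ] at hψ'
        by_cases h1 : ψ' = 1
        · rw [h1, brg_mul_one, (hA0 φ hφ).1]; simp
        · by_cases h2 : ψ' = ψ⁻¹
          · rw [h2, hcol φ hφ, hconst φ hφ, hm]; simp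
          · rw [(hA0 φ hφ).2.2 ψ' (hmemJ' ψ' hψ' h1 hne h2)]; simp
      · intro h; exact absurd (mem_idxJ.2 hψ) h
    rw [Finset.sum_congr rfl e1, ← Finset.smul_sum, ← add_assoc, ← sub_eq_add_neg]
    rfl
  · refine ⟨ψ⁻¹, -δ ψ, x, Or.inr ⟨rfl, rfl⟩, hirr.2 hB, ?_⟩
    rw [hexp2, hY]
    have e1 : ∀ φ ∈ idxI W₁ W₂, ∑ ψ' ∈ idxJ W₁ W₂, (a (φ * ψ') : ℂ) • η (φ * ψ') =
        ((-δ ψ : ℤ) : ℂ) • η (φ * ψ⁻¹) := by
      intro φ hφ
      rw [mem_idxI] at hφ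
      rw [Finset.sum_eq_single ψ⁻¹]
      · rw [hcol φ hφ, hconst φ hφ, hm, zero_sub]
      · intro ψ' hψ' hne
        rw [mem_idxJ] at hψ'
        by_cases h1 : ψ' = 1
        · rw [h1, brg_mul_one, (hA0 φ hφ).1]; simp
        · by_cases h2 : ψ' = ψ
          · rw [h2, hconst φ hφ, hm]; simp
          · rw [(hA0 φ hφ).2.2 ψ' (hmemJ' ψ' hψ' h1 h2 hne)]; simp
      · intro h; exact absurd (mem_idxJ.2 hψ.inv) h
    rw [Finset.sum_congr rfl e1, ← Finset.smul_sum, ← add_assoc, ← sub_eq_add_neg]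
    rfl

/-! ### Existence -/

theorem SH_sub_SM (hP : IsTypePWith M W₁ U W₂) (A : Subgroup G) : SH M A ⊆ SM M ⊥ := by
  rintro χ ⟨θ, h1, -, ⟨y, hy, hy1⟩, rfl⟩
  refine ⟨θ, h1, fun a ha => ?_, ⟨y, a_fh_le_core hP hy, hy1⟩, rfl⟩
  have : a = 1 := Subtype.ext (Subgroup.mem_bot.1 ha)
  rw [this]

theorem SH_conj_mem {A : Subgroup G} {χ : ↥M → ℂ} (h : χ ∈ SH M A) : conjFun χ ∈ SH M A := by
  obtain ⟨θ, h1, h2, ⟨y, hy, hy1⟩, rfl⟩ := h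
  refine ⟨conjFun θ, isIrr_conj h1, fun a ha => ?_, ⟨y, hy, fun h => hy1 ?_⟩, conj_ind⟩
  · show conj (θ a) = conj (θ 1)
    rw [h2 a ha]
  · exact (starRingEnd ℂ).injective h

/-- a nonempty conjugation closed set of members of the same degree is coherent -/
theorem IsFrame.coh_of_deg (F : IsFrame M W₁ U W₂ η μ δ) {S : Set (↥M → ℂ)} (hne : S.Nonempty)
    (hS : S ⊆ SM M ⊥) (hc : ∀ χ ∈ S, conjFun χ ∈ S) (hdeg : ∀ φ ∈ S, ∀ ψ ∈ S, φ 1 = ψ 1) :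
    ∃ σ, CohMap S (tauM M) σ := by
  obtain ⟨R, hR, -⟩ := F.cohSys
  exact isCoherent_cohMap (Cfsg.Agent.S1517.result S (tauM M) R (cohSys_mono hR hne hS hc) hdeg)

/-- existence of a bridge, Galois case (`t = 1`) -/
theorem IsHbar.gal_bridge (h : IsHbar M W₁ U W₂ N C p) (F : IsFrame M W₁ U W₂ η μ δ)
    (hgal : IsGal M U N) {χ : ↥M → ℂ} (hχ : χ ∈ SH M (N ⊔ ⁅C, C⁆)) (hirr : IsIrrCharacter ↥M χ)
    {ψ : Lin W₁ W₂} (hψ : IsJ W₁ W₂ ψ) (h1 : ψ ≠ 1) (hu : μ ψ 1 = (C.relIndex U : ℂ)) :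
    ∃ Y σ, IsBridge M μ ψ Y σ χ 1 := by
  classical
  have hS := SH_sub_SM h.hP (N ⊔ ⁅C, C⁆)
  have hχS := hS hχ
  have hd := h.gal_deg F hgal hχ
  have hd' := h.gal_deg F hgal (SH_conj_mem hχ)
  have hmem : ∀ φ ∈ ({χ, conjFun χ} : Finset (↥M → ℂ)), φ = χ ∨ φ = conjFun χ := by
    intro φ hφ
    simpa using hφ
  have hYdeg : ∀ φ ∈ ({χ, conjFun χ} : Finset (↥M → ℂ)), φ 1 = χ 1 := by
    intro φ hφ
    rcases hmem φ hφ with rfl | rfl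
    · rfl
    · rw [hd', hd]
  have hYmem : ∀ φ ∈ ({χ, conjFun χ} : Finset (↥M → ℂ)), φ ∈ SM M ⊥ := by
    intro φ hφ
    rcases hmem φ hφ with rfl | rfl
    · exact hχS
    · exact F.SM_conj hχS
  have hYc : ∀ φ ∈ ({χ, conjFun χ} : Finset (↥M → ℂ)),
      conjFun φ ∈ ({χ, conjFun χ} : Finset (↥M → ℂ)) := by
    intro φ hφ
    rcases hmem φ hφ with rfl | rfl
    · simp
    · rw [conjFun_conjFun]; simp
  obtain ⟨σ, hσ⟩ := F.coh_of_deg (S := (({χ, conjFun χ} : Finset (↥M → ℂ)) : Set (↥M → ℂ)))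
    ⟨χ, by simp⟩ (fun φ hφ => hYmem φ (by exact_mod_cast hφ))
    (fun φ hφ => by exact_mod_cast hYc φ (by exact_mod_cast hφ))
    (fun φ hφ φ' hφ' => by
      rw [hYdeg φ (by exact_mod_cast hφ), hYdeg φ' (by exact_mod_cast hφ')])
  refine ⟨{χ, conjFun χ}, σ, hψ, h1, ?_, hYmem, hYc, hYdeg, hσ, by simp, ?_, Nat.one_pos, ?_⟩
  · intro φ hφ
    rcases hmem φ hφ with rfl | rfl
    · exact hirr
    · exact isIrr_conj hirr
  · rw [F.col_on ψ (one_mem _), hu, hd]; push_cast; ring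
  · rw [Finset.card_pair (F.SM_conj_ne hχS).symm]

/-- existence of a bridge, non-Galois case (`t = |U₁ : C|`); `Y` consists of all irreducible
members of `SH M (H₀U')` of degree `qa`. -/
theorem IsHbar.nonGal_bridge_of (h : IsHbar M W₁ U W₂ N C p) (F : IsFrame M W₁ U W₂ η μ δ)
    (hn : IsNonGal M W₁ U N C X Y U₁ p a)
    (hcount : (p - 1) / a * (⁅U, U⁆).relIndex U₁ ≤
      Nat.card {χ : ↥M → ℂ // IsIrrCharacter ↥M χ ∧ χ ∈ SH M (N ⊔ ⁅U, U⁆) ∧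
        χ 1 = (Nat.card W₁ * a : ℕ)})
    {ψ : Lin W₁ W₂} (hψ : IsJ W₁ W₂ ψ) (h1 : ψ ≠ 1) (hu : μ ψ 1 = (C.relIndex U : ℂ)) :
    ∃ Y' σ χ, IsBridge M μ ψ Y' σ χ (C.relIndex U₁) ∧
      (∀ φ, φ ∈ Y' ↔ IsIrrCharacter ↥M φ ∧ φ ∈ SH M (N ⊔ ⁅U, U⁆) ∧
        φ 1 = (Nat.card W₁ * a : ℕ)) ∧
      ((p - 1) / a) * (⁅U, U⁆).relIndex U₁ ≤ Y'.card := by
  classical
  have hfin : {φ : ↥M → ℂ | IsIrrCharacter ↥M φ ∧ φ ∈ SH M (N ⊔ ⁅U, U⁆) ∧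
      φ 1 = (Nat.card W₁ * a : ℕ)}.Finite := by
    have : Finite (IrrCharacter ↥M) := inferInstance
    have h2 : {φ : ↥M → ℂ | IsIrrCharacter ↥M φ}.Finite := this
    exact h2.subset fun _ h => h.1
  set Y' := hfin.toFinset with hY'
  have hmem : ∀ φ, φ ∈ Y' ↔ IsIrrCharacter ↥M φ ∧ φ ∈ SH M (N ⊔ ⁅U, U⁆) ∧
      φ 1 = (Nat.card W₁ * a : ℕ) := by
    intro φ; rw [hY', Set.Finite.mem_toFinset]; rfl
  have hcard : ((p - 1) / a) * (⁅U, U⁆).relIndex U₁ ≤ Y'.card := by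
    refine hcount.trans (le_of_eq ?_)
    have e : Nat.card {χ : ↥M → ℂ // IsIrrCharacter ↥M χ ∧ χ ∈ SH M (N ⊔ ⁅U, U⁆) ∧
        χ 1 = (Nat.card W₁ * a : ℕ)} = ({φ : ↥M → ℂ | IsIrrCharacter ↥M φ ∧
          φ ∈ SH M (N ⊔ ⁅U, U⁆) ∧ φ 1 = (Nat.card W₁ * a : ℕ)} : Set (↥M → ℂ)).ncard := rfl
    rw [e, Set.ncard_eq_toFinset_card _ hfin]
  -- arithmetic
  have hCU₁ := hn.C_le
  have hU₁U := hn.U₁_le
  have hU'C : ⁅U, U⁆ ≤ C := h.comm_U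
  have hrel : (⁅U, U⁆).relIndex C * C.relIndex U₁ = (⁅U, U⁆).relIndex U₁ :=
    Subgroup.relIndex_mul_relIndex _ _ _ hU'C hCU₁
  have hrel2 : C.relIndex U₁ * U₁.relIndex U = C.relIndex U :=
    Subgroup.relIndex_mul_relIndex _ _ _ hCU₁ hU₁U
  have hrel3 : U₁.relIndex U = a := by
    have e1 : Nat.card U₁ * U₁.relIndex U = Nat.card U := by
      have := Subgroup.card_mul_index (U₁.subgroupOf U)
      rwa [Nat.card_congr (Subgroup.subgroupOfEquivOfLe hU₁U).toEquiv] at this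
    rw [hn.card_U] at e1
    exact Nat.eq_of_mul_eq_mul_left Nat.card_pos e1
  have hpos1 : 0 < C.relIndex U₁ := Nat.pos_of_ne_zero (by
    rw [Subgroup.relIndex]; exact Subgroup.index_ne_zero_of_finite)
  have hpos2 : 0 < (⁅U, U⁆).relIndex C := Nat.pos_of_ne_zero (by
    rw [Subgroup.relIndex]; exact Subgroup.index_ne_zero_of_finite)
  have ha2 : 2 ≤ (p - 1) / a := by
    have hpodd : Odd p := by
      have h3 : p ∣ Nat.card M := by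
        refine dvd_trans ?_ (Subgroup.card_dvd_of_le (by
          rw [fittingHallOf]; exact map_subtype_le _ : fittingHallOf M ≤ M))
        rw [h.card]
        exact dvd_mul_of_dvd_right (dvd_pow_self p h.hq.ne_zero) _
      exact Odd.of_dvd_nat F.oddM h3
    have hp1 : 1 < p := h.hp.one_lt
    obtain ⟨k, hk⟩ := hn.dvd
    have ha0 : 0 < a := by have := hn.one_lt; omega
    rw [hk, Nat.mul_div_cancel_left _ ha0]
    have hk0 : k ≠ 0 := by rintro rfl; omega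
    have hk1 : k ≠ 1 := by
      rintro rfl
      have h4 := hn.odd
      obtain ⟨r, hr⟩ := hpodd
      obtain ⟨r', hr'⟩ := h4
      omega
    omega
  have hbig : 2 * C.relIndex U₁ ≤ Y'.card := by
    refine le_trans ?_ hcard
    rw [← hrel]
    calc 2 * C.relIndex U₁ ≤ (p - 1) / a * C.relIndex U₁ := Nat.mul_le_mul_right _ ha2
      _ ≤ (p - 1) / a * ((⁅U, U⁆).relIndex C * C.relIndex U₁) :=
        Nat.mul_le_mul_left _ (Nat.le_mul_of_pos_left _ hpos2)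
  have hne : Y'.Nonempty := by
    rw [← Finset.card_pos]; omega
  obtain ⟨χ, hχ⟩ := hne
  have hYS : ∀ φ ∈ Y', φ ∈ SM M ⊥ := fun φ hφ => SH_sub_SM h.hP _ ((hmem φ).1 hφ).2.1
  have hYc : ∀ φ ∈ Y', conjFun φ ∈ Y' := by
    intro φ hφ
    obtain ⟨k1, k2, k3⟩ := (hmem φ).1 hφ
    refine (hmem _).2 ⟨isIrr_conj k1, SH_conj_mem k2, ?_⟩
    show conj (φ 1) = _
    rw [k3, Complex.conj_natCast]
  have hYdeg : ∀ φ ∈ Y', φ 1 = χ 1 := by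
    intro φ hφ
    rw [((hmem φ).1 hφ).2.2, ((hmem χ).1 hχ).2.2]
  obtain ⟨σ, hσ⟩ := F.coh_of_deg (S := (Y' : Set (↥M → ℂ))) ⟨χ, by exact_mod_cast hχ⟩
    (fun φ hφ => hYS φ (by exact_mod_cast hφ))
    (fun φ hφ => by exact_mod_cast hYc φ (by exact_mod_cast hφ))
    (fun φ hφ φ' hφ' => by
      rw [hYdeg φ (by exact_mod_cast hφ), hYdeg φ' (by exact_mod_cast hφ')])
  refine ⟨Y', σ, χ, ⟨hψ, h1, fun φ hφ => ((hmem φ).1 hφ).1, hYS, hYc, hYdeg, hσ, hχ, ?_, hpos1,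
    hbig⟩, hmem, hcard⟩
  rw [F.col_on ψ (one_mem _), hu, ((hmem χ).1 hχ).2.2, ← hrel2, hrel3]
  push_cast; ring

end Cfsg.Agent.PF
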