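import Cfsg.Agent.PF.SecC9
import Cfsg.Agent.S1376

set_option autoImplicit false

/-! PF (10.7): `M` of type III, IV or V; nothing of type P supports `M`. -/

namespace Cfsg.Agent.PF

open Subgroup
open Cfsg.Agent.L (cj nz SylIn)
open Cfsg.Agent.H3 hiding cj
open Cfsg.Agent.H21

universe u

section group

variable {G : Type u} [Group G] [Finite G] (hG : IsMinSimpleOddOrder G)
variable {M W₁ U W₂ N : Subgroup G} (hM : IsCoatom M)

include hG hM

theorem kappa_nonempty (hP : IsTypePWith M W₁ U W₂) : (kappa M).Nonempty := by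
  obtain ⟨r, hr, hrW⟩ := Nat.exists_prime_and_dvd
    (n := Nat.card W₁) (fun e => hP.W₁_ne (Subgroup.card_eq_one.1 e))
  exact ⟨r, H14.TY.kappa_of_typeP hG hM hP hr hrW⟩

/-- type P does not support type P -/
theorem not_supports (hP : IsTypePWith M W₁ U W₂) {W₁' U' W₂' : Subgroup G}
    (hN : IsTypePWith N W₁' U' W₂') : ¬ Supports N M := by
  rintro ⟨hNc, x, hx, hx1⟩
  obtain ⟨hx1, hx2⟩ := hx1
  have hW := not_wtypeI_of_P hG hM hP
  obtain ⟨-, h0, -⟩ := row1391w' hG hM (Or.inr ⟨hW, Or.inr rfl⟩ : (H2.WTypeI M ∧ typeA0 M = H2.wA M) ∨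
    (¬ H2.WTypeI M ∧ (typeA0 M = typeA M ∨ typeA0 M = typeA0 M)))
  obtain ⟨h1, -⟩ := h0 x hx hx1
  have h1' : x ∈ sigmaCore M := by
    rw [← H14.TY.typeCore_eq hG hM]; exact h1.1
  have h2 := Cfsg.Agent.S1376.result hG M hM x h1' (by simpa using h1.2) hx1 N hNc hx2
    (kappa_nonempty hG hNc hN)
  have h3 := kappa_nonempty hG hM hP
  rw [h2.1] at h3
  exact Set.not_nonempty_empty h3

theorem typ345_H (h : IsOfTypeV M) (hP : IsTypePWith M W₁ U W₂) : fittingHallOf M = ⁅M, M⁆ := by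
  have h1 := (typeV_of (OOT.coatom_sol hG hM) hP h).1
  have h2 := complIn_sup hP.U_compl
  rwa [h1, sup_bot_eq] at h2

theorem A1_eq (h : Typ345 M) (hP : IsTypePWith M W₁ U W₂) :
    typeA1 M = ((⁅M, M⁆ : Subgroup G) : Set G) \ {1} := by
  rw [typeA1]
  rcases h with h | h | h
  · rw [typeCore_III (Or.inl h)]
  · rw [typeCore_III (Or.inr h)]
  · rw [typeCore, if_neg (fun h' => not_V_of_III hG hM h' h), typ345_H hG hM h hP]

omit hM in
theorem not_conj_partner {T V : Subgroup G} (hP : IsTypePWith M W₁ U W₂)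
    (hT : IsTypePWith T W₂ V W₁) (g : G) : T.map (MulAut.conj g).toMonoidHom ≠ M := by
  intro h
  have h1 := isTypePWith_cj g hT
  rw [show cj g T = M from h] at h1
  have h2 := card_W₁_eq hP h1
  rw [L.card_cj] at h2
  have h3 := hP.coprime_W₁
  have h4 : (Nat.card W₁).Coprime (Nat.card W₂) :=
    Nat.Coprime.coprime_dvd_right (Subgroup.card_dvd_of_le hP.W₂_le') h3
  rw [← h2, Nat.coprime_self] at h4
  exact hP.W₁_ne (Subgroup.card_eq_one.1 h4)

theorem tilde_disjoint {T V : Subgroup G} (hT : IsCoatom T) (hTII : IsOfTypeII T)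
    (hP : IsTypePWith M W₁ U W₂) (hTP : IsTypePWith T W₂ V W₁) :
    tildeOf M (typeA1 M) ∩ tildeOf T (typeA T) = ∅ :=
  tilde_disj_II hG hM hT hTII (not_conj_partner hG hP hTP)
    (fun g => not_supports hG hM hP (isTypePWith_cj g hTP))

end group

end Cfsg.Agent.PF
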