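import Cfsg.Agent.PF.SecC10
import Cfsg.Agent.PF.BridgeC

set_option autoImplicit false

/-! PF (10.7) -/

namespace Cfsg.Agent.PF

open Subgroup
open Cfsg.Agent.L (nz SylIn)
open Cfsg.Agent.H3
open Cfsg.Agent.H21 (exists_ne_one)

universe u

variable {G : Type u} [Group G] [Fintype G] {M W₁ U W₂ : Subgroup G} [Fintype ↥M]
  {η : Lin W₁ W₂ → G → ℂ} {μ : Lin W₁ W₂ → ↥M → ℂ} {δ : Lin W₁ W₂ → ℤ} {d : ℕ} {e n : ℤ}

theorem inner_eq_zero_of_disjoint {A B : Set G} (hAB : A ∩ B = ∅) {f g : G → ℂ}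
    (hf : ∀ x, x ∉ A → f x = 0) (hg : ∀ x, x ∉ B → g x = 0) : classInner f g = 0 := by
  unfold classInner
  rw [Finset.sum_eq_zero, mul_zero]
  intro x _
  by_cases hx : x ∈ A
  · have : x ∉ B := fun h => by
      have : x ∈ A ∩ B := ⟨hx, h⟩
      rw [hAB] at this
      exact this
    rw [hg x this]; simp
  · rw [hf x hx]; simp

theorem gen_one_real {f : G → ℂ} (hf : IsGeneralizedCharacter G f) : conjFun f 1 = f 1 := by
  obtain ⟨χ, ψ, h1, h2, rfl⟩ := hf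
  obtain ⟨a, ha⟩ := char_one_eq_nat h1
  obtain ⟨b, hb⟩ := char_one_eq_nat h2
  simp [conjFun, ha, hb]

/-- (10.7) -/
theorem ten7 (T : IsTen M W₁ U W₂ η μ δ d e n) {X : Finset (↥M → ℂ)}
    {τ₁ : (↥M → ℂ) → G → ℂ} (hX : IsXCoh M W₁ X τ₁) {ζ : ↥M → ℂ} (hζ : ζ ∈ X)
    (hΓ : tauM M (colI μ 1 - ζ) = colI η 1 - τ₁ ζ)
    {Q V : Subgroup G} [Fintype ↥Q] (hQ : IsCoatom Q) (hQP : IsTypePWith Q W₂ V W₁)
    (hQII : IsOfTypeII Q) :
    ∀ u ∈ V, u ≠ 1 → ∀ x ∈ fittingHallOf Q, u * x = x * u → x = 1 := by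
  classical
  have F := T.F
  obtain ⟨ν, ε', F'⟩ := exists_frame F.hG hQ hQP (fam_swap F.fam)
  rcases typeII_bridge' F' hQII with h | ⟨Y, σ, ψ, t, x, ε, j, j', hYS, hYirr, hYc, hσ, hψ, hj, hj1,
    hj', hj'1, hε, hdeg, hbr⟩
  · exact h
  exfalso
  have hdisj := tilde_disjoint F.hG F.hM hQ hQII F.hP hQP
  have hA1 : typeA M = typeA1 M := by
    rw [A1_eq F.hG F.hM T.typ F.hP, F.A_eq T.typ]
  -- anything supported on `A(M)` is orthogonal to anything supported on `A(Q)`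
  have horth : ∀ (α : ↥Q → ℂ) (β : ↥M → ℂ), IsClassFunction ↥Q α → SuppOn (typeA Q) α →
      IsClassFunction ↥M β → SuppOn (typeA M) β →
      classInner (tauM Q α) (tauM M β) = 0 := by
    intro α β hα hαs hβ hβs
    rw [Set.inter_comm] at hdisj
    refine inner_eq_zero_of_disjoint hdisj (fun g hg => ?_) (fun g hg => ?_)
    · exact tau_supp F'.hG F'.hM A_sub_A0 hα hαs hg
    · rw [← hA1] at hg
      exact tau_supp F.hG F.hM A_sub_A0 hβ hβs hg
  -- `σ χ ⊥ η`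
  have hση : ∀ χ ∈ Y, SIrr (σ χ) ∧ σ (conjFun χ) = conjFun (σ χ) ∧
      ∀ ω, classInner (σ χ) (η ω) = 0 := by
    intro χ hχ
    obtain ⟨h1, h2, h3⟩ := F'.coh_irr hYS (fun χ hχ => hYc χ hχ) hσ hχ (hYirr χ hχ)
    refine ⟨h1, h2, fun ω => ?_⟩
    have := h3 (swL ω)
    rwa [swF, swL_swL] at this
  have hne1 : ∀ χ ∈ Y, conjFun χ ≠ χ := fun χ hχ => F'.SM_conj_ne (hYS hχ)
  have hζne : conjFun ζ ≠ ζ := F.SM_conj_ne (hX.sub hζ)
  -- `σ χ ⊥ τ₁ ζ`
  have hσζ : ∀ χ ∈ Y, classInner (σ χ) (τ₁ ζ) = 0 := by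
    intro χ hχ
    have hcχ := hYc χ hχ
    obtain ⟨s1, s2, -⟩ := hση χ hχ
    obtain ⟨t1, t2, -⟩ := hX.t1 F hζ
    have hcz := hX.conj_mem ζ hζ
    have e1 : tauM Q (χ - conjFun χ) = σ χ - conjFun (σ χ) := by
      have hm : χ - conjFun χ ∈ zspanOn (Y : Set (↥Q → ℂ)) ({1}ᶜ : Set ↥Q) := by
        rw [zspanOn_one]
        refine ⟨zspan_sub (zspan_mem hχ) (zspan_mem hcχ), ?_⟩
        rw [Pi.sub_apply, gen_one_real (isGen_of_irr (hYirr χ hχ)), sub_self]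
      rw [← hσ.2 _ hm, hσ.sub (zspan_mem hχ) (zspan_mem hcχ), s2]
    have e2 : tauM M (ζ - conjFun ζ) = τ₁ ζ - conjFun (τ₁ ζ) := by
      rw [hX.tau_sub hζ hcz, t2]
    have hm : χ - conjFun χ ∈ zspanOn (SM Q ⊥) ({1}ᶜ : Set ↥Q) := by
      rw [zspanOn_one]
      refine ⟨zspan_sub (zspan_mem (hYS hχ)) (zspan_mem (hYS hcχ)), ?_⟩
      rw [Pi.sub_apply, gen_one_real (isGen_of_irr (hYirr χ hχ)), sub_self]
    have e3 := horth (χ - conjFun χ) (ζ - conjFun ζ)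
      (classFun_sub (irr_classFun (hYirr χ hχ)) (irr_classFun (hYirr _ hcχ))) (F'.span_supp hm)
      (classFun_sub (hX.classFun hζ) (hX.classFun hcz)) (hX.supp_sub F hζ hcz)
    rw [e1, e2] at e3
    have e4 : classInner (σ χ) (conjFun (σ χ)) = 0 := by
      rw [← s2, hσ.inner (zspan_mem hχ) (zspan_mem hcχ)]
      exact classInner_of_irr_ne (hYirr χ hχ) (hYirr _ hcχ) (hne1 χ hχ).symm
    have e5 : classInner (τ₁ ζ) (conjFun (τ₁ ζ)) = 0 := by
      rw [← t2, hX.t1_inner hζ hcz]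
      exact hX.inner_ne hζ hcz hζne.symm
    have s3 : SIrr (conjFun (σ χ)) := by
      rw [← s2]; exact (hση _ hcχ).1
    have t3 : SIrr (conjFun (τ₁ ζ)) := by
      rw [← t2]; exact (hX.t1 F hcz).1
    refine (signed_orth4 (u := 1) (v := 1) s1 s3 t1 t3 one_ne_zero one_ne_zero e4 e5
      (by simpa using e3) (gen_one_real s1.isGen).symm ?_).1
    simpa using (gen_one_real t1.isGen).symm
  -- the contradiction
  have hm : colI ν j - (t : ℂ) • ψ ∈ zspanOn (SM Q ⊥) ({1}ᶜ : Set ↥Q) := by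
    rw [← H3.zsmul_eq_smul, zspanOn_one]
    refine ⟨zspan_sub (zspan_mem (F'.col_mem hj hj1)) (zspan_smul _ (zspan_mem (hYS hψ))), ?_⟩
    rw [H3.zsmul_eq_smul, Pi.sub_apply, hdeg, Pi.smul_apply, smul_eq_mul, sub_self]
  have e1 := horth (colI ν j - (t : ℂ) • ψ) (colI μ 1 - ζ)
    (classFun_sub (isGen_classFun (F'.col_gen j)) (classFun_smul _ (irr_classFun (hYirr ψ hψ))))
    (F'.span_supp hm) (isGen_classFun (gam_gen T hX hζ)) (gam_supp T hX hζ)
  have hsw : IsI W₁ W₂ (swL j') := isI_swL.2 hj'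
  have f1 : classInner (colI (swF η) j') (colI η 1) = 1 := by
    rw [colI_swF, rowJ, colI, classInner_sum_left, Finset.sum_eq_single 1]
    · rw [classInner_sum_right, Finset.sum_eq_single (swL j')]
      · exact F.eta_inner_self _
      · intro φ hφ hne
        apply F.eta_inner_ne
        rw [lin_mul_one, lin_mul_one]
        exact hne.symm
      · intro h
        exact absurd (mem_idxI.2 hsw) h
    · intro ψ' hψ' hne
      rw [classInner_sum_right]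
      refine Finset.sum_eq_zero fun φ hφ => F.eta_inner_ne fun h => hne ?_
      exact (lin_unique F.hW hsw (mem_idxI.1 hφ) (mem_idxJ.1 hψ') IsJ.one h).2
    · intro h
      exact absurd (mem_idxJ.2 IsJ.one) h
  have f2 : ∀ χ ∈ Y, classInner (σ χ) (colI η 1 - τ₁ ζ) = 0 := by
    intro χ hχ
    rw [classInner_sub_right, hσζ χ hχ, sub_zero, colI, classInner_sum_right]
    exact Finset.sum_eq_zero fun φ _ => (hση χ hχ).2.2 _
  have f3 : classInner (colI (swF η) j') (τ₁ ζ) = 0 := by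
    rw [colI, classInner_sum_left]
    exact Finset.sum_eq_zero fun φ _ => (hX.t1_eta F hζ _).2
  rw [hbr, hΓ, classInner_add_left, classInner_sub_left, classInner_smul_left,
    classInner_smul_left, classInner_smul_left, f2 ψ hψ, classInner_sum_left,
    Finset.sum_eq_zero f2, classInner_sub_right, f1, f3] at e1
  rcases hε with rfl | rfl <;> simp at e1

end Cfsg.Agent.PF
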