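import Cfsg.Agent.PF.SecC11

set_option autoImplicit false

/-! PF (10.8), analytic part -/

namespace Cfsg.Agent.PF

open Subgroup
open Cfsg.Agent.L (nz SylIn)
open Cfsg.Agent.H3
open Cfsg.Agent.H21 (exists_ne_one)

universe u

variable {G : Type u} [Group G] [Fintype G] {M W₁ U W₂ : Subgroup G} [Fintype ↥M]
  {η : Lin W₁ W₂ → G → ℂ} {μ : Lin W₁ W₂ → ↥M → ℂ} {δ : Lin W₁ W₂ → ℤ} {d : ℕ} {e n : ℤ}

omit [Fintype ↥M] in
theorem isIC_pow (hW : IsSelfNormalizingCyclic W₁ W₂) {φ : Lin W₁ W₂} (hφ : IsI W₁ W₂ φ) :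
    φ ^ Nat.card W₁ = 1 := by
  ext w
  obtain ⟨a, ha, b, hb, e⟩ := (complIn_W hW).2.2.2 w w.2
  have haW : a ∈ W₁ ⊔ W₂ := Subgroup.mem_sup_left ha
  have hbW : b ∈ W₁ ⊔ W₂ := Subgroup.mem_sup_right hb
  have hw : w = ⟨a, haW⟩ * ⟨b, hbW⟩ := Subtype.ext e
  have h1 : φ w = φ ⟨a, haW⟩ := by rw [hw, map_mul, hφ ⟨b, hbW⟩ hb, mul_one]
  have h2 : (⟨a, haW⟩ : ↥(W₁ ⊔ W₂)) ^ Nat.card W₁ = 1 := by
    apply Subtype.ext
    have := congrArg Subtype.val (pow_card_eq_one' (x := (⟨a, ha⟩ : W₁)))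
    rw [Subgroup.coe_pow, Subgroup.coe_one] at this ⊢
    exact this
  have h3 : (φ ^ Nat.card W₁) w = 1 := by
    rw [MonoidHom.pow_apply, h1, ← map_pow, h2, map_one]
  rw [h3]; rfl

/-- the sum `Σ_i η_i0 (g)` is an odd integer -/
theorem colI_odd (F : IsFrame M W₁ U W₂ η μ δ) {g : G}
    (hg : (orderOf g).Coprime (Nat.card W₁)) : ∃ m : ℤ, colI η 1 g = m ∧ Odd m := by
  classical
  have h1 : ∀ φ : Lin W₁ W₂, ∃ m : ℤ, IsI W₁ W₂ φ → η φ g = m := by
    intro φ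
    by_cases hφ : IsI W₁ W₂ φ
    · obtain ⟨m, hm⟩ := eta_int F.hW F.fam F.oddW φ (g := g)
        (Nat.Coprime.coprime_dvd_right (orderOf_dvd_of_pow_eq_one (isIC_pow F.hW hφ)) hg)
      exact ⟨m, fun _ => hm⟩
    · exact ⟨0, fun h => absurd h hφ⟩
  choose m hm using h1
  have hinv : ∀ φ, IsI W₁ W₂ φ → m φ⁻¹ = m φ := by
    intro φ hφ
    have e1 := congrFun (F.conj_eta φ) g
    rw [conjFun, hm φ hφ, hm φ⁻¹ hφ.inv, conj_int] at e1
    exact_mod_cast e1.symm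
  refine ⟨∑ φ ∈ idxI W₁ W₂, m φ, ?_, ?_⟩
  · rw [colI, Finset.sum_apply, Int.cast_sum]
    refine Finset.sum_congr rfl fun φ hφ => ?_
    rw [lin_mul_one, hm φ (mem_idxI.1 hφ)]
  · have h1I : (1 : Lin W₁ W₂) ∈ idxI W₁ W₂ := mem_idxI.2 IsI.one
    have hm1 : m 1 = 1 := by
      have e1 := hm 1 IsI.one
      rw [F.fam.map_one] at e1
      have e2 : ((m 1 : ℤ) : ℂ) = 1 := e1.symm
      exact_mod_cast e2
    have key : ∑ φ ∈ (idxI W₁ W₂).erase 1, ((m φ : ℤ) : ZMod 2) = 0 := by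
      refine Finset.sum_involution (fun φ _ => φ⁻¹) ?_ ?_ ?_ ?_
      · intro φ hφ
        rw [Finset.mem_erase, mem_idxI] at hφ
        rw [hinv φ hφ.2]
        exact CharTwo.add_self_eq_zero _
      · intro φ hφ _
        rw [Finset.mem_erase, mem_idxI] at hφ
        exact inv_ne_self_lin F.oddW hφ.1
      · intro φ hφ
        rw [Finset.mem_erase, mem_idxI] at hφ ⊢
        exact ⟨lin_inv_ne hφ.1, hφ.2.inv⟩
      · intro φ hφ
        exact inv_inv φ
    rw [← Int.not_even_iff_odd, ← ZMod.intCast_eq_zero_iff_even, Int.cast_sum,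
      ← Finset.add_sum_erase _ _ h1I, key, hm1]
    simp

section

variable (T : IsTen M W₁ U W₂ η μ δ d e n) {X : Finset (↥M → ℂ)}
    {τ₁ : (↥M → ℂ) → G → ℂ} (hX : IsXCoh M W₁ X τ₁) {ζ : ↥M → ℂ} (hζ : ζ ∈ X)
    (h₁ : CohMap (SM M ⊥) (tauM M) τ₁)
    (hΓ : tauM M (colI μ 1 - ζ) = colI η 1 - τ₁ ζ)

omit [Fintype G] [Fintype ↥M] in
theorem typeA_conj [Fintype G] (F : Typ345 M) (hG : IsMinSimpleOddOrder G) (hM : IsCoatom M)
    (hP : IsTypePWith M W₁ U W₂) [Fintype ↥M] {x : ↥M} (y : ↥M) :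
    ((y * x * y⁻¹ : ↥M) : G) ∈ ((⁅M, M⁆ : Subgroup G) : Set G) \ {1} ↔
      (x : G) ∈ ((⁅M, M⁆ : Subgroup G) : Set G) \ {1} := by
  have h1 : ∀ z : ↥M, (z : G) ∈ ((⁅M, M⁆ : Subgroup G) : Set G) \ {1} ↔
      z ∈ commutator ↥M ∧ z ≠ 1 := by
    intro z
    rw [mem_commC_iff]
    constructor
    · rintro ⟨a, b⟩
      exact ⟨a, fun e => b (by rw [e]; rfl)⟩
    · rintro ⟨a, b⟩
      exact ⟨a, fun e => b (Subtype.ext e)⟩
  rw [h1, h1]
  constructor
  · rintro ⟨a, b⟩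
    refine ⟨?_, fun e => b (by rw [e]; simp)⟩
    have := Subgroup.Normal.conj_mem (inferInstance : (commutator ↥M).Normal) _ a y⁻¹
    simpa [mul_assoc] using this
  · rintro ⟨a, b⟩
    refine ⟨Subgroup.Normal.conj_mem inferInstance _ a y, fun e => b ?_⟩
    have h2 : y⁻¹ * (y * x * y⁻¹) * y = y⁻¹ * 1 * y := by rw [e]
    simpa [mul_assoc] using h2

include T hX hζ h₁ hΓ in
/-- `(τ₁ ζ)^ρ = ζ` on `M' ∖ 1` -/
theorem rho_zeta {a : ↥M} (ha : (a : G) ∈ typeA M) : rhoM M (τ₁ ζ) a = ζ a := by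
  classical
  have F := T.F
  haveI := Fintype.ofFinite (IrrCharacter ↥(commutator ↥M))
  have hA := F.A_eq T.typ
  have hτcl : IsClassFunction G (τ₁ ζ) := isGen_classFun (hX.t1 F hζ).1.isGen
  set h : ↥M → ℂ := fun x => if (x : G) ∈ typeA M then rhoM M (τ₁ ζ) x - ζ x else 0 with hh
  have hcl : IsClassFunction ↥M h := by
    intro x y
    have e1 : (((y * x * y⁻¹ : ↥M) : G) ∈ typeA M) ↔ (x : G) ∈ typeA M := by
      rw [hA]
      exact typeA_conj T.typ F.hG F.hM F.hP y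
    simp only [hh]
    by_cases hx : (x : G) ∈ typeA M
    · rw [if_pos hx, if_pos (e1.2 hx), rho_classFun F.hG F.hM hτcl x y (A_sub_A0 hx),
        hX.classFun hζ x y]
    · rw [if_neg hx, if_neg (fun h' => hx (e1.1 h'))]
  have hinner : ∀ β : ↥M → ℂ, IsClassFunction ↥M β → SuppOn (typeA M) β →
      classInner β h = classInner (tauM M β) (τ₁ ζ) - classInner β ζ := by
    intro β hβ hs
    rw [tau_inner_rho F.hG F.hM hβ hs.A0 hτcl, ← classInner_sub_right]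
    unfold classInner
    congr 1
    refine Finset.sum_congr rfl fun x _ => ?_
    by_cases hx : (x : G) ∈ typeA M
    · simp only [hh, if_pos hx, Pi.sub_apply]
    · rw [hs x hx, zero_mul, zero_mul]
  -- members of `S(M)`
  have hk : ∀ χ ∈ SM M (⊥ : Subgroup ↥M), (Nat.card W₁ : ℂ) * classInner χ h =
      χ 1 * classInner ζ h := by
    intro χ hχ
    have hχc := F.SM_char hχ
    obtain ⟨m, hm⟩ := char_one_eq_nat hχc
    have hmem : (Nat.card W₁ : ℤ) • χ - (m : ℤ) • ζ ∈ zspanOn (SM M ⊥) ({1}ᶜ : Set ↥M) := by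
      rw [zspanOn_one]
      refine ⟨zspan_sub (zspan_smul _ (zspan_mem hχ)) (zspan_smul _ (zspan_mem (hX.sub hζ))), ?_⟩
      rw [H3.zsmul_eq_smul, H3.zsmul_eq_smul, Pi.sub_apply, Pi.smul_apply, Pi.smul_apply, smul_eq_mul,
        smul_eq_mul, hm, hX.deg ζ hζ]
      push_cast; ring
    have hc := h₁.2 _ hmem
    have e1 := hinner ((Nat.card W₁ : ℤ) • χ - (m : ℤ) • ζ) (by
      rw [H3.zsmul_eq_smul, H3.zsmul_eq_smul]
      exact classFun_sub (classFun_smul _ (char_classFun hχc)) (classFun_smul _ (hX.classFun hζ)))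
      (F.span_supp hmem)
    rw [← hc, h₁.inner hmem.1 (zspan_mem (hX.sub hζ)), sub_self, classInner_sub_left,
      classInner_zsmul_left, classInner_zsmul_left] at e1
    rw [hm]
    push_cast at e1
    linear_combination e1
  have hk0 : classInner (colI μ 1) h = classInner ζ h := by
    have e1 := hinner (colI μ 1 - ζ) (isGen_classFun (gam_gen T hX hζ)) (gam_supp T hX hζ)
    rw [hΓ, classInner_sub_left, classInner_sub_left, classInner_sub_left,
      (eta_col_inner_t1 T hX hζ 1).1, (col_inner_X T hX hζ 1).1, hX.t1_self F hζ,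
      classInner_self_of_irr (hX.irr ζ hζ)] at e1
    linear_combination e1
  have hW0 : (Nat.card W₁ : ℂ) ≠ 0 := by exact_mod_cast Nat.card_pos.ne'
  haveI := Fintype.ofFinite ↥(commutator ↥M)
  have hθ : ∀ θ : IrrCharacter ↥(commutator ↥M),
      classInner (fun k : ↥(commutator ↥M) => h k) (θ : ↥(commutator ↥M) → ℂ) =
        (starRingEnd ℂ) (classInner ζ h) * (θ : ↥(commutator ↥M) → ℂ) 1 := by
    intro θ
    rw [← frobenius_reciprocity' (commutator ↥M) _ hcl, ← classInner_conj_symm]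
    have hreal : (starRingEnd ℂ) ((θ : ↥(commutator ↥M) → ℂ) 1) = (θ : ↥(commutator ↥M) → ℂ) 1 :=
      gen_one_real (isGen_of_irr θ.2)
    rw [← hreal, ← map_mul]
    congr 1
    by_cases h1 : (θ : ↥(commutator ↥M) → ℂ) = fun _ => 1
    · have e1 : indFun (commutator ↥M) (θ : ↥(commutator ↥M) → ℂ) = colI μ 1 := by
        rw [← F.ind_res 1, h1, F.mu_one]
      rw [e1, hk0, h1]; ring
    · have hmem : indFun (commutator ↥M) (θ : ↥(commutator ↥M) → ℂ) ∈ SM M ⊥ := by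
        rw [F.SM_eq T.typ]
        exact ⟨θ, θ.2, h1, fun a ha => by
          have : a = 1 := Subtype.ext (by simpa using ha)
          rw [this], rfl⟩
      have e1 := hk _ hmem
      rw [indFun_one_apply, F.index, mul_assoc] at e1
      have e2 := mul_left_cancel₀ hW0 e1
      rw [e2]; ring
  have haK : a ∈ commutator ↥M := by
    rw [hA] at ha
    exact mem_commC_iff.2 ha.1
  have ha1 : (⟨a, haK⟩ : ↥(commutator ↥M)) ≠ 1 := by
    intro h'
    rw [hA] at ha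
    apply ha.2
    have := congrArg (fun z : ↥(commutator ↥M) => ((z : ↥M) : G)) h'
    simpa using this
  have e1 := classFun_expand_apply (classFun_restrict (commutator ↥M) hcl)
    (⟨a, haK⟩ : ↥(commutator ↥M))
  have e2 : h a = 0 := by
    have e3 : ∑ χ : IrrCharacter ↥(commutator ↥M),
        classInner (fun k : ↥(commutator ↥M) => h k) (χ : ↥(commutator ↥M) → ℂ) *
          (χ : ↥(commutator ↥M) → ℂ) ⟨a, haK⟩ = 0 := by
      have e4 : ∀ χ : IrrCharacter ↥(commutator ↥M),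
          classInner (fun k : ↥(commutator ↥M) => h k) (χ : ↥(commutator ↥M) → ℂ) *
          (χ : ↥(commutator ↥M) → ℂ) ⟨a, haK⟩ = (starRingEnd ℂ) (classInner ζ h) *
          ((χ : ↥(commutator ↥M) → ℂ) 1 * (χ : ↥(commutator ↥M) → ℂ) ⟨a, haK⟩) := by
        intro χ
        rw [hθ χ]; ring
      rw [Finset.sum_congr rfl fun χ _ => e4 χ, ← Finset.mul_sum, sum_degree_mul, if_neg ha1,
        mul_zero]
    rw [e3] at e1
    exact e1
  simp only [hh, if_pos ha] at e2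
  exact sub_eq_zero.1 e2

end

end Cfsg.Agent.PF
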