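import Cfsg.Agent.PF.SecC13

set_option autoImplicit false

/-! PF (10.8), covering -/

namespace Cfsg.Agent.PF

open Subgroup
open Cfsg.Agent.L (cj nz SylIn)
open Cfsg.Agent.H3 hiding cj
open Cfsg.Agent.H21 (exists_ne_one le_normalizer_fhOf)
open Cfsg.Agent.H14 (IsPiSub)
open scoped Pointwise

universe u

section group

variable {G : Type u} [Group G] [Finite G]

theorem W_coprime {M W₁ U W₂ : Subgroup G} (hP : IsTypePWith M W₁ U W₂) :
    (Nat.card W₁).Coprime (Nat.card W₂) :=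
  Nat.Coprime.coprime_dvd_right (Subgroup.card_dvd_of_le hP.W₂_le') hP.coprime_W₁

theorem mem_H_of_free {Q V W₁ W₂ : Subgroup G} (hs : Group.IsSolvable Q)
    (hQP : IsTypePWith Q W₂ V W₁)
    (hfree : ∀ u ∈ V, u ≠ 1 → ∀ x ∈ fittingHallOf Q, u * x = x * u → x = 1) {g x : G}
    (hg : g ∈ ⁅Q, Q⁆) (hx : x ∈ fittingHallOf Q) (hx1 : x ≠ 1) (hc : g * x = x * g) :
    g ∈ fittingHallOf Q := by
  have hQ' : ⁅Q, Q⁆ ≤ Q := commutator_le_self Q
  have h1 : (orderOf g).Coprime (Nat.card V) := by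
    rw [Nat.coprime_iff_gcd_eq_one]
    by_contra hne
    obtain ⟨s, hs', hsd⟩ := Nat.exists_prime_and_dvd hne
    have hsg : s ∣ orderOf g := hsd.trans (Nat.gcd_dvd_left _ _)
    have hsV : s ∣ Nat.card V := hsd.trans (Nat.gcd_dvd_right _ _)
    set c := g ^ (orderOf g / s) with hc'
    have hco : orderOf c = s := orderOf_pow_orderOf_div (orderOf_pos g).ne' hsg
    have hcQ : c ∈ ⁅Q, Q⁆ := Subgroup.pow_mem _ hg _
    have hcx : c * x = x * c := (show Commute g x from hc).pow_left _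
    have hpi : IsPiSub {p | p ∣ Nat.card V} (zpowers c) := by
      intro p hp hd
      rw [Nat.card_zpowers, hco] at hd
      rw [(Nat.prime_dvd_prime_iff_eq hp hs').1 hd]
      exact hsV
    obtain ⟨h, hh, hle⟩ := OOT.IsPiHallOf.exists_conj_le (H1.isSolvable_of_le hQ' hs)
      hQP.U_isPiHall (K := zpowers c) (by rwa [zpowers_le]) hpi
    have hcu : h * c * h⁻¹ ∈ V := hle (conj_mem_cj.2 (mem_zpowers c))
    have hxF : h * x * h⁻¹ ∈ fittingHallOf Q :=
      (Subgroup.mem_normalizer_iff.1 (le_normalizer_fhOf Q (hQ' hh)) x).1 hx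
    have hcne : h * c * h⁻¹ ≠ 1 := by
      intro e
      have h3 : c = 1 := by
        have h2 : h⁻¹ * (h * c * h⁻¹) * h = h⁻¹ * 1 * h := by rw [e]
        simpa [mul_assoc] using h2
      rw [h3, orderOf_one] at hco
      exact hs'.one_lt.ne hco
    have h4 := hfree _ hcu hcne _ hxF (by
      have h2 : h * (c * x) * h⁻¹ = h * (x * c) * h⁻¹ := by rw [hcx]
      simpa [mul_assoc] using h2)
    apply hx1
    have h2 : h⁻¹ * (h * x * h⁻¹) * h = h⁻¹ * 1 * h := by rw [h4]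
    simpa [mul_assoc] using h2
  have h2 : g ^ Nat.card V ∈ fittingHallOf Q := by
    have hn : ((fittingHallOf Q).subgroupOf ⁅Q, Q⁆).Normal :=
      Subgroup.normal_subgroupOf_of_le_normalizer (hQ'.trans (le_normalizer_fhOf Q))
    have h3 := Subgroup.pow_index_mem ((fittingHallOf Q).subgroupOf ⁅Q, Q⁆) (⟨g, hg⟩ : ↥⁅Q, Q⁆)
    have h4 : ((fittingHallOf Q).subgroupOf ⁅Q, Q⁆).index = Nat.card V :=
      H21.complIn_relIndex_left hQP.U_compl
    rw [h4] at h3
    exact h3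
  obtain ⟨m, hm⟩ := exists_pow_eq_self_of_coprime (x := g) h1.symm
  rw [← hm]
  exact Subgroup.pow_mem _ h2 _

/-- conjugation of a `r`-element into a Hall subgroup of the whole group -/
theorem exists_conj_mem_hall {H : Subgroup G} (hH : (Nat.card H).Coprime H.index) {r : ℕ}
    (hr : r.Prime) (hrH : r ∣ Nat.card H) {x : G} (hx : orderOf x = r) :
    ∃ y : G, y * x * y⁻¹ ∈ H := by
  haveI : Fact r.Prime := ⟨hr⟩
  obtain ⟨P⟩ : Nonempty (Sylow r H) := inferInstance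
  have hri : ¬ r ∣ H.index := fun h => hr.one_lt.ne' (Nat.eq_one_of_dvd_coprimes hH hrH h)
  have hcard : Nat.card ((P : Subgroup H).map H.subtype) = r ^ (Nat.card G).factorization r := by
    rw [Nat.card_congr ((P : Subgroup H).equivMapOfInjective _ H.subtype_injective).toEquiv.symm,
      P.card_eq_multiplicity]
    congr 1
    rw [← H.card_mul_index, Nat.factorization_mul Nat.card_pos.ne' Subgroup.index_ne_zero_of_finite,
      Finsupp.add_apply, Nat.factorization_eq_zero_of_not_dvd hri, add_zero]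
  let P' : Sylow r G := Sylow.ofCard _ hcard
  have hxp : IsPGroup r (zpowers x) := by
    apply IsPGroup.of_card (n := 1)
    rw [Nat.card_zpowers, hx, pow_one]
  obtain ⟨S, hS⟩ := hxp.exists_le_sylow
  obtain ⟨y, hy⟩ := MulAction.exists_smul_eq G S P'
  refine ⟨y, ?_⟩
  have h1 : y * x * y⁻¹ ∈ (P' : Subgroup G) := by
    rw [← hy, Sylow.coe_subgroup_smul]
    exact Subgroup.smul_mem_pointwise_smul x (MulAut.conj y) _ (hS (mem_zpowers x))
  have h2 : (P' : Subgroup G) = (P : Subgroup H).map H.subtype := rfl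
  rw [h2] at h1
  obtain ⟨z, -, hz⟩ := h1
  rw [← hz]
  exact z.2

end group

variable {G : Type u} [Group G] [Fintype G] {M W₁ U W₂ : Subgroup G} [Fintype ↥M]
  {η : Lin W₁ W₂ → G → ℂ} {μ : Lin W₁ W₂ → ↥M → ℂ} {δ : Lin W₁ W₂ → ℤ} {d : ℕ} {e n : ℤ}

/-- elements of order not prime to `|W₁|` -/
theorem cover (F : IsFrame M W₁ U W₂ η μ δ) {Q V : Subgroup G} [Fintype ↥Q] (hQ : IsCoatom Q)
    (hQP : IsTypePWith Q W₂ V W₁) (hQII : IsOfTypeII Q)
    (hfree : ∀ u ∈ V, u ≠ 1 → ∀ x ∈ fittingHallOf Q, u * x = x * u → x = 1)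
    {g : G} (hg : ¬ (orderOf g).Coprime (Nat.card W₁)) :
    (∃ y : G, y * g * y⁻¹ ∈ (fittingHallOf Q : Set G) \ {1}) ∨
      ∃ y : G, y * g * y⁻¹ ∈ Vset W₁ W₂ := by
  have hG := F.hG
  obtain ⟨r, hr, hrg, hrW⟩ := Nat.Prime.not_coprime_iff_dvd.1 hg
  have hs := OOT.coatom_sol hG hQ
  have hrF : r ∣ Nat.card (fittingHallOf Q) := hrW.trans (Subgroup.card_dvd_of_le hQP.W₂_le_H)
  set x := g ^ (orderOf g / r) with hx'
  have hxo : orderOf x = r := orderOf_pow_orderOf_div (orderOf_pos g).ne' hrg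
  obtain ⟨y, hy⟩ := exists_conj_mem_hall (H14.TY.row1389 hG hQ).2.1 hr hrF hxo
  have hx1 : y * x * y⁻¹ ≠ 1 := by
    intro e
    have h3 : x = 1 := by
      have h2 : y⁻¹ * (y * x * y⁻¹) * y = y⁻¹ * 1 * y := by rw [e]
      simpa [mul_assoc] using h2
    rw [h3, orderOf_one] at hxo
    exact hr.one_lt.ne hxo
  have hgx : g * x = x * g := (Commute.refl g).pow_right _
  have hgx' : y * g * y⁻¹ * (y * x * y⁻¹) = y * x * y⁻¹ * (y * g * y⁻¹) := by
    have h2 : y * (g * x) * y⁻¹ = y * (x * g) * y⁻¹ := by rw [hgx]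
    simpa [mul_assoc] using h2
  have hA1 : typeA1 Q = (fittingHallOf Q : Set G) \ {1} := by
    rw [typeA1, typeCore, if_neg (not_III_of_II hG hQ hQII)]
  obtain ⟨hTI, hN⟩ := (row1538 hG hQ hQII).2.2
  have hgQ : y * g * y⁻¹ ∈ Q := by
    by_contra hne
    have hne' : y * g * y⁻¹ ∉ Subgroup.normalizer (typeA1 Q) := by rwa [hN]
    refine hx1 (hTI _ hne' (y * x * y⁻¹) (by rw [hA1]; exact ⟨hy, hx1⟩) ?_)
    have h3 : y * g * y⁻¹ * (y * x * y⁻¹) * (y * g * y⁻¹)⁻¹ = y * x * y⁻¹ := by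
      rw [hgx']; group
    rw [h3, hA1]
    exact ⟨hy, hx1⟩
  have hg1 : y * g * y⁻¹ ≠ 1 := by
    intro e
    have h3 : g = 1 := by
      have h2 : y⁻¹ * (y * g * y⁻¹) * y = y⁻¹ * 1 * y := by rw [e]
      simpa [mul_assoc] using h2
    rw [h3, orderOf_one] at hrg
    exact hr.one_lt.ne' (Nat.dvd_one.1 hrg)
  by_cases hgQ' : y * g * y⁻¹ ∈ ⁅Q, Q⁆
  · left
    exact ⟨y, mem_H_of_free hs hQP hfree hgQ' hy hx1 hgx', hg1⟩
  · right
    obtain ⟨ν, ε', F'⟩ := exists_frame F.hG hQ hQP (fam_swap F.fam)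
    obtain ⟨z, w, hw1, hw2, hw3⟩ := F'.conj_W (x := ⟨y * g * y⁻¹, hgQ⟩)
      (fun h => hgQ' (mem_commC_iff.1 h))
    have hw3' : (z : G) * (y * g * y⁻¹) * (z : G)⁻¹ = w := hw3
    refine ⟨z * y, ?_⟩
    have e1 : (z : G) * y * g * (z * y)⁻¹ = w := by
      rw [← hw3']; group
    rw [e1]
    refine ⟨by rwa [sup_comm] at hw1, hw2, fun hw => ?_⟩
    have h5 : orderOf w = orderOf g := by
      rw [← e1, ← MulAut.conj_apply, MulEquiv.orderOf_eq]
    have h6 : r ∣ Nat.card W₂ := by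
      have h7 : orderOf (⟨w, hw⟩ : W₂) ∣ Nat.card W₂ := orderOf_dvd_natCard _
      rw [Subgroup.orderOf_mk, h5] at h7
      exact hrg.trans h7
    exact hr.one_lt.ne' (Nat.eq_one_of_dvd_coprimes (W_coprime F.hP) hrW h6)

end Cfsg.Agent.PF
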