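import Cfsg.Agent.PF.SecC15

set_option autoImplicit false

/-! PF (10.8) -/

namespace Cfsg.Agent.PF

open Subgroup
open Cfsg.Agent.L (cj nz SylIn)
open Cfsg.Agent.H3 hiding cj
open Cfsg.Agent.H21 (exists_ne_one le_normalizer_fhOf)

universe u

variable {G : Type u} [Group G] [Fintype G] {M W₁ U W₂ : Subgroup G} [Fintype ↥M]
  {η : Lin W₁ W₂ → G → ℂ} {μ : Lin W₁ W₂ → ↥M → ℂ} {δ : Lin W₁ W₂ → ℤ} {d : ℕ} {e n : ℤ}

/-- `|M'| ≥ (2 |W₁| + 1) |W₂|` -/
theorem IsFrame.card_M'_ge (F : IsFrame M W₁ U W₂ η μ δ) :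
    (2 * Nat.card W₁ + 1) * Nat.card W₂ ≤ Nat.card ↥⁅M, M⁆ := by
  have h1 := F.S2_card
  have h2 := F.S2_two_le
  have e1 : Nat.card ↥(commutator ↥M) = Nat.card ↥⁅M, M⁆ := by
    rw [commutator_eq_subgroupOf, H1.card_subgroupOf (commutator_le_self M)]
  have h3 : Nat.card ↥(⁅commutator ↥M, commutator ↥M⁆) *
      ⁅commutator ↥M, commutator ↥M⁆.relIndex (commutator ↥M) = Nat.card ↥(commutator ↥M) := by
    have := Subgroup.card_mul_index (⁅commutator ↥M, commutator ↥M⁆.subgroupOf (commutator ↥M))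
    rw [H1.card_subgroupOf F.K2_lt.le] at this
    exact this
  have h4 : Nat.card W₂ ≤ Nat.card ↥(⁅commutator ↥M, commutator ↥M⁆) := by
    rw [← H1.card_subgroupOf F.hP.W₂_le_M]
    exact Nat.le_of_dvd Nat.card_pos (Subgroup.card_dvd_of_le (W₂_le_derived2 F.hP))
  rw [← e1, ← h3, mul_comm]
  refine Nat.mul_le_mul h4 ?_
  rw [← h1]
  have : 2 * Nat.card W₁ ≤ (S2 M).ncard * Nat.card W₁ := Nat.mul_le_mul_right _ h2
  omega

/-- (10.8) -/
theorem ten8 (F : IsFrame M W₁ U W₂ η μ δ) (h : Typ345 M) :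
    ¬ IsCoherent (SM M ⊥) ({1}ᶜ : Set ↥M) (tauM M) := by
  classical
  intro hcoh
  obtain ⟨τ₁, h₁⟩ := isCoherent_cohMap hcoh
  obtain ⟨d, e, n, T⟩ := exists_ten F h
  set X : Finset (↥M → ℂ) := F.S2_finite.toFinset with hXdef
  have hXS : (X : Set (↥M → ℂ)) = S2 M := by simp [hXdef]
  have hmem : ∀ χ ∈ X, χ ∈ S2 M := fun χ hχ => by rw [← hXS]; exact hχ
  have hsub : (X : Set (↥M → ℂ)) ⊆ SM M ⊥ := fun χ hχ => (F.S2_mem h (hmem χ hχ)).1
  have hX : IsXCoh M W₁ X τ₁ := ⟨hsub, fun χ hχ => (F.S2_mem h (hmem χ hχ)).2.1,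
    fun χ hχ => (F.S2_mem h (hmem χ hχ)).2.2.1, fun χ hχ => by
      have h1 := (F.S2_mem h (hmem χ hχ)).2.2.2.1
      rw [← hXS] at h1
      exact h1, h₁.mono hsub⟩
  have hcard : 2 ≤ X.card := by
    have h1 := F.S2_two_le
    rwa [← hXS, Set.ncard_coe_finset] at h1
  obtain ⟨ζ, hζ⟩ := Finset.card_pos.1 (by omega : 0 < X.card)
  obtain ⟨-, -, hΓ⟩ := ten6 T hX hζ hcard h₁
  obtain ⟨Q, V, hQ, hQP, -, hQII⟩ := exists_partnerII F.hG F.hM h F.hP
  haveI := Fintype.ofFinite ↥Q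
  have hfree := ten7 T hX hζ hΓ hQ hQP hQII
  have hs := OOT.coatom_sol F.hG hQ
  obtain ⟨hVne, -⟩ := typeII_of hs hQP hQII
  -- the orders
  have hoddQ : Odd (Nat.card Q) := by
    obtain ⟨ν, ε', F'⟩ := exists_frame F.hG hQ hQP (fam_swap F.fam)
    exact F'.oddM
  have hV := card_U_ge hQP T.prime hVne hoddQ F.three_le_W₂
  have hw1 := F.three_le_W₁
  have hw2 := F.three_le_W₂
  have hk := F.card_M'_ge
  have cM := F.hP.card_M
  have cQ := hQP.card_M
  have cQ' := hQP.card_M'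
  -- the counting
  have c1 := tilde_card F h
  have c2 := card_G0 T hX hζ h₁ hΓ
  have c3 := card_conj_union ((fittingHallOf Q : Set G) \ {1}) Q (by
    rintro y hy s ⟨hs1, hs2⟩
    refine ⟨(Subgroup.mem_normalizer_iff.1 (le_normalizer_fhOf Q hy) s).1 hs1, fun e => hs2 ?_⟩
    have h2 : y⁻¹ * (y * s * y⁻¹) * y = y⁻¹ * 1 * y := by rw [show y * s * y⁻¹ = 1 from e]
    simpa [mul_assoc] using h2)
  have c4 := card_conj_union (Vset W₁ W₂) (W₁ ⊔ W₂) (by
    intro y hy s hs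
    have hc := F.hW.2.2.2.2.1
    have e1 : (⟨y, hy⟩ : ↥(W₁ ⊔ W₂)) * ⟨s, hs.1⟩ = ⟨s, hs.1⟩ * ⟨y, hy⟩ :=
      IsCyclic.commutative.is_comm.comm _ _
    have e2 : y * s = s * y := congrArg Subtype.val e1
    rw [e2, mul_inv_cancel_right]
    exact hs)
  have c5 := card_Vset F.hW
  have c6 := H21.complIn_card (complIn_W F.hW)
  have c7 : Nat.card {a : ↥M | (a : G) ∈ typeA M} + 1 = Nat.card ↥⁅M, M⁆ := by
    have e1 : Nat.card {a : ↥M | (a : G) ∈ typeA M} =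
        (((⁅M, M⁆ : Subgroup G) : Set G) \ {1}).ncard := by
      rw [← F.A_eq h]
      have h0 : ∀ a ∈ typeA M, a ∈ M := by
        intro a ha
        rw [F.A_eq h] at ha
        exact commutator_le_self M ha.1
      exact Nat.card_congr ⟨fun a => ⟨a.1, a.2⟩, fun a => ⟨⟨a.1, h0 a.1 a.2⟩, a.2⟩, fun a => rfl,
        fun a => rfl⟩
    rw [e1, Set.ncard_diff_singleton_add_one (one_mem _)]
    rfl
  have c8 : Nat.card ↑((fittingHallOf Q : Set G) \ {1}) + 1 = Nat.card (fittingHallOf Q) := by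
    have e1 : Nat.card ↑((fittingHallOf Q : Set G) \ {1}) =
        ((fittingHallOf Q : Set G) \ {1}).ncard := rfl
    rw [e1, Set.ncard_diff_singleton_add_one (one_mem _)]
    rfl
  -- the covering
  have c9 : Nat.card G ≤ Nat.card (tildeOf M (typeA M)) +
      Nat.card {g : G | g ∉ tildeOf M (typeA M) ∧ (orderOf g).Coprime (Nat.card W₁)} +
      Nat.card {g : G | ∃ y : G, y * g * y⁻¹ ∈ (fittingHallOf Q : Set G) \ {1}} +
      Nat.card {g : G | ∃ y : G, y * g * y⁻¹ ∈ Vset W₁ W₂} := by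
    have e1 : (Set.univ : Set G) ⊆ ((tildeOf M (typeA M) ∪
      {g : G | g ∉ tildeOf M (typeA M) ∧ (orderOf g).Coprime (Nat.card W₁)}) ∪
      {g : G | ∃ y : G, y * g * y⁻¹ ∈ (fittingHallOf Q : Set G) \ {1}}) ∪
      {g : G | ∃ y : G, y * g * y⁻¹ ∈ Vset W₁ W₂} := by
      intro g _
      by_cases h1 : g ∈ tildeOf M (typeA M)
      · exact Or.inl (Or.inl (Or.inl h1))
      by_cases h2 : (orderOf g).Coprime (Nat.card W₁)
      · exact Or.inl (Or.inl (Or.inr ⟨h1, h2⟩))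
      · rcases cover F hQ hQP hQII hfree h2 with h3 | h3
        · exact Or.inl (Or.inr h3)
        · exact Or.inr h3
    have e2 := Set.ncard_le_ncard e1 (Set.toFinite _)
    rw [Set.ncard_univ] at e2
    refine e2.trans ((Set.ncard_union_le _ _).trans ?_)
    refine Nat.add_le_add_right ((Set.ncard_union_le _ _).trans ?_) _
    refine Nat.add_le_add_right ((Set.ncard_union_le _ _).trans ?_) _
    exact le_rfl
  -- conclusion
  set g : ℝ := (Nat.card G : ℝ) with hg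
  have hGpos : 0 < g := by rw [hg]; exact_mod_cast Nat.card_pos
  refine arith8 (g := g) (a := Nat.card (tildeOf M (typeA M)))
    (g0 := Nat.card {g : G | g ∉ tildeOf M (typeA M) ∧ (orderOf g).Coprime (Nat.card W₁)})
    (B := Nat.card {g : G | ∃ y : G, y * g * y⁻¹ ∈ (fittingHallOf Q : Set G) \ {1}})
    (C := Nat.card {g : G | ∃ y : G, y * g * y⁻¹ ∈ Vset W₁ W₂})
    (k := Nat.card ↥⁅M, M⁆) (w1 := Nat.card W₁) (w2 := Nat.card W₂)
    (f := Nat.card (fittingHallOf Q)) (v := Nat.card V) hGpos (by exact_mod_cast hw1)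
    (by exact_mod_cast hw2) (by exact_mod_cast hk) (by exact_mod_cast Nat.card_pos)
    (by
      have : 7 ≤ Nat.card V := by omega
      exact_mod_cast this) ?_ ?_ ?_ ?_ (by rw [hg]; exact_mod_cast c9)
  · have e1 : (Nat.card ↥M : ℝ) = Nat.card ↥⁅M, M⁆ * Nat.card W₁ := by exact_mod_cast cM.symm
    have e2 : (Nat.card {a : ↥M | (a : G) ∈ typeA M} : ℝ) = Nat.card ↥⁅M, M⁆ - 1 := by
      rw [← c7]; push_cast; ring
    rw [e1, e2] at c1
    exact c1
  · have e1 : (Nat.card ↥M : ℝ) = Nat.card ↥⁅M, M⁆ * Nat.card W₁ := by exact_mod_cast cM.symm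
    rw [e1] at c2
    exact c2
  · have e1 : (Nat.card (fittingHallOf Q) : ℝ) * Nat.card V * Nat.card W₂ = Nat.card Q := by
      rw [← cQ, ← cQ']; push_cast; ring
    have e2 : (Nat.card (fittingHallOf Q) : ℝ) - 1 =
        Nat.card ↑((fittingHallOf Q : Set G) \ {1}) := by
      rw [← c8]; push_cast; ring
    rw [e1, e2, hg]
    exact_mod_cast c3
  · have e1 : (Nat.card W₁ : ℝ) * Nat.card W₂ = Nat.card ↥(W₁ ⊔ W₂) := by exact_mod_cast c6
    have e2 : ((Nat.card W₁ : ℝ) - 1) * ((Nat.card W₂ : ℝ) - 1) = Nat.card (Vset W₁ W₂) := by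
      have : (Nat.card (Vset W₁ W₂) : ℝ) + Nat.card W₁ + Nat.card W₂ =
        Nat.card W₁ * Nat.card W₂ + 1 := by exact_mod_cast c5
      linarith
    rw [e1, e2, hg]
    exact_mod_cast c4

end Cfsg.Agent.PF
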