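import Cfsg.Agent.PF.SecC16
import Cfsg.Agent.S1502
import Cfsg.Agent.S1521

set_option autoImplicit false

/-! PF (10.10), the case `|M'| = p³`, `|W₁| ∣ p + 1` -/

namespace Cfsg.Agent.PF

open Subgroup
open Cfsg.Agent.L (cj nz SylIn)
open Cfsg.Agent.H3 hiding cj
open Cfsg.Agent.H21 (exists_ne_one le_normalizer_fhOf)

universe u

variable {G : Type u} [Group G] [Fintype G] {M W₁ U W₂ : Subgroup G} [Fintype ↥M]
  {η : Lin W₁ W₂ → G → ℂ} {μ : Lin W₁ W₂ → ↥M → ℂ} {δ : Lin W₁ W₂ → ℤ} {d : ℕ} {e n : ℤ}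

theorem IsFrame.card_K (F : IsFrame M W₁ U W₂ η μ δ) :
    Nat.card ↥(commutator ↥M) = Nat.card ↥⁅M, M⁆ := by
  have _ := F
  rw [commutator_eq_subgroupOf, H1.card_subgroupOf (commutator_le_self M)]

theorem IsFrame.card_K_mul (F : IsFrame M W₁ U W₂ η μ δ) :
    Nat.card ↥(⁅commutator ↥M, commutator ↥M⁆) *
      ⁅commutator ↥M, commutator ↥M⁆.relIndex (commutator ↥M) = Nat.card ↥(commutator ↥M) := by
  have := Subgroup.card_mul_index (⁅commutator ↥M, commutator ↥M⁆.subgroupOf (commutator ↥M))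
  rw [H1.card_subgroupOf F.K2_lt.le] at this
  exact this

/-- columns -/
noncomputable def colSet (W₁ W₂ : Subgroup G) (μ : Lin W₁ W₂ → ↥M → ℂ) : Finset (↥M → ℂ) :=
  haveI := Classical.decEq (↥M → ℂ)
  haveI := Classical.decEq (Lin W₁ W₂)
  ((idxJ W₁ W₂).erase 1).image (colI μ)

omit [Fintype ↥M] in
theorem mem_colSet {χ : ↥M → ℂ} :
    χ ∈ colSet W₁ W₂ μ ↔ ∃ ψ, IsJ W₁ W₂ ψ ∧ ψ ≠ 1 ∧ χ = colI μ ψ := by
  classical
  simp only [colSet, Finset.mem_image, Finset.mem_erase, mem_idxJ]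
  constructor
  · rintro ⟨ψ, ⟨a, b⟩, c⟩; exact ⟨ψ, b, a, c.symm⟩
  · rintro ⟨ψ, a, b, c⟩; exact ⟨ψ, ⟨b, a⟩, c.symm⟩

theorem IsFrame.col_injOn (F : IsFrame M W₁ U W₂ η μ δ) {ψ ψ' : Lin W₁ W₂} (hψ : IsJ W₁ W₂ ψ)
    (hψ' : IsJ W₁ W₂ ψ') (h : colI μ ψ = colI μ ψ') : ψ = ψ' := by
  classical
  by_contra hne
  have h1 := F.col_inner hψ hψ'
  rw [if_neg hne, ← h, F.col_inner hψ hψ, if_pos rfl] at h1
  have h2 : (Nat.card W₁ : ℂ) ≠ 0 := by exact_mod_cast Nat.card_pos.ne'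
  exact h2 h1

theorem IsFrame.card_colSet (F : IsFrame M W₁ U W₂ η μ δ) :
    (colSet W₁ W₂ μ).card + 1 = Nat.card W₂ := by
  classical
  have h1 : (colSet W₁ W₂ μ).card = ((idxJ W₁ W₂).erase 1).card := by
    unfold colSet
    convert Finset.card_image_of_injOn ?_
    intro ψ hψ ψ' hψ' h
    simp only [Finset.coe_erase, Set.mem_diff, Finset.mem_coe, mem_idxJ] at hψ hψ'
    exact F.col_injOn hψ.1 hψ'.1 h
  rw [h1, Finset.card_erase_of_mem (mem_idxJ.2 IsJ.one), card_idxJ F.hW]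
  have := F.three_le_W₂
  omega

theorem IsFrame.nm_col (F : IsFrame M W₁ U W₂ η μ δ) {ψ : Lin W₁ W₂} (hψ : IsJ W₁ W₂ ψ) :
    nm (colI μ ψ) = Nat.card W₁ := by
  classical
  apply nm_of_eq
  rw [F.col_inner hψ hψ, if_pos rfl]

section

variable (T : IsTen M W₁ U W₂ η μ δ d e n)

include T in
theorem IsTen.dg_col {ψ : Lin W₁ W₂} (hψ : IsJ W₁ W₂ ψ) (h1 : ψ ≠ 1) :
    dg (colI μ ψ) = Nat.card W₁ * d := by
  apply dg_of_eq
  rw [T.F.col_one, T.mu_one ψ (not_isI_J T.F.hW hψ h1)]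
  push_cast; rfl

include T in
/-- the facts for `|M'| = p³` -/
theorem pcube {p : ℕ} (hp : p.Prime) (hcard : Nat.card ↥⁅M, M⁆ = p ^ 3)
    (hdvd : Nat.card W₁ ∣ p + 1) :
    Nat.card W₂ = p ∧ (S2 M).ncard * Nat.card W₁ + 1 = p ^ 2 ∧ d = p ∧ e = -1 ∧
      SM M ⊥ = S2 M ∪ (colSet W₁ W₂ μ : Set (↥M → ℂ)) := by
  classical
  have F := T.F
  have hw1 := F.three_le_W₁
  have hw2 := F.three_le_W₂
  have hnp1 : ¬ Nat.card W₁ ∣ p - 1 := by
    intro h
    have h2 : Nat.card W₁ ∣ 2 := by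
      have := Nat.dvd_sub hdvd h
      have h3 : p + 1 - (p - 1) = 2 := by have := hp.one_lt; omega
      rwa [h3] at this
    have := Nat.le_of_dvd (by norm_num) h2
    omega
  have hW2 : Nat.card W₂ = p := by
    have h1 : Nat.card W₂ ∣ p ^ 3 := by
      rw [← hcard]; exact Subgroup.card_dvd_of_le F.hP.W₂_le'
    exact (Nat.prime_dvd_prime_iff_eq T.prime hp).1 (T.prime.dvd_of_dvd_pow h1)
  have hS2 := F.S2_card
  have hS2' := F.S2_two_le
  have hidx : ⁅commutator ↥M, commutator ↥M⁆.relIndex (commutator ↥M) = p ^ 2 := by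
    have h1 := F.card_K_mul
    rw [F.card_K, hcard] at h1
    obtain ⟨k, hk, hk2⟩ := (Nat.dvd_prime_pow hp).1 (Dvd.intro_left _ h1)
    rw [hk2] at h1 hS2 ⊢
    have hk0 : k ≠ 0 := by
      rintro rfl
      rw [pow_zero] at hS2
      have : 0 < (S2 M).ncard * Nat.card W₁ := Nat.mul_pos (by omega) (by omega)
      omega
    have hk1 : k ≠ 1 := by
      rintro rfl
      rw [pow_one] at hS2
      apply hnp1
      rw [← hS2]
      exact ⟨(S2 M).ncard, by rw [mul_comm]; simp⟩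
    have hk3 : k ≠ 3 := by
      rintro rfl
      have h2 : Nat.card ↥(⁅commutator ↥M, commutator ↥M⁆) = 1 :=
        Nat.eq_of_mul_eq_mul_right (pow_pos hp.pos 3) (by rw [h1, one_mul])
      have h3 : Nat.card W₂ ∣ Nat.card ↥(⁅commutator ↥M, commutator ↥M⁆) := by
        rw [← H1.card_subgroupOf F.hP.W₂_le_M]
        exact Subgroup.card_dvd_of_le (W₂_le_derived2 F.hP)
      rw [h2] at h3
      have := Nat.le_of_dvd one_pos h3
      omega
    have : k = 2 := by omega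
    rw [this]
  rw [hidx] at hS2
  -- the sums
  haveI := Fintype.ofFinite (IrrCharacter ↥(commutator ↥M))
  haveI : Fintype ↥(commutator ↥M) := Fintype.ofFinite _
  set S := Sa (K := commutator ↥M) (⊥ : Subgroup ↥M) with hS
  have hSc : (S : Set (↥M → ℂ)) = SM M ⊥ := by rw [hS, coe_Sa, F.SM_eq T.typ]
  have hsum := sum_Sa (K := commutator ↥M) inferInstance (A := ⊥) inferInstance bot_le
  rw [Subgroup.relIndex_bot_left, F.card_K, hcard, F.index, ← hS] at hsum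
  set X : Finset (↥M → ℂ) := F.S2_finite.toFinset with hXdef
  have hXS : (X : Set (↥M → ℂ)) = S2 M := by simp [hXdef]
  have hmem : ∀ χ ∈ X, χ ∈ S2 M := fun χ hχ => by rw [← hXS]; exact hχ
  have hXcard : X.card = (S2 M).ncard := by rw [← hXS, Set.ncard_coe_finset]
  have hXsub : X ⊆ S := fun χ hχ => by
    have h1 := (F.S2_mem T.typ (hmem χ hχ)).1
    rw [← hSc] at h1
    exact h1
  have hCsub : colSet W₁ W₂ μ ⊆ S := fun χ hχ => by
    obtain ⟨ψ, h1, h2, rfl⟩ := mem_colSet.1 hχ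
    have h3 := F.col_mem h1 h2
    rw [← hSc] at h3
    exact h3
  have hdisj : Disjoint X (colSet W₁ W₂ μ) := by
    rw [Finset.disjoint_left]
    intro χ h1 h2
    obtain ⟨ψ, h3, h4, rfl⟩ := mem_colSet.1 h2
    have h5 := nm_irr (F.S2_mem T.typ (hmem _ h1)).2.1
    rw [F.nm_col h3] at h5
    omega
  have sX : ∑ φ ∈ X, ((dg φ : ℝ) ^ 2 / nm φ) = (X.card : ℝ) * (Nat.card W₁ : ℝ) ^ 2 := by
    rw [Finset.sum_congr rfl (g := fun _ => (Nat.card W₁ : ℝ) ^ 2), Finset.sum_const,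
      nsmul_eq_mul]
    intro φ hφ
    obtain ⟨-, h1, h2, -⟩ := F.S2_mem T.typ (hmem φ hφ)
    rw [nm_irr h1, dg_of_eq h2]; simp
  have hw1' : (Nat.card W₁ : ℝ) ≠ 0 := by exact_mod_cast Nat.card_pos.ne'
  have sC : ∑ φ ∈ colSet W₁ W₂ μ, ((dg φ : ℝ) ^ 2 / nm φ) =
      ((colSet W₁ W₂ μ).card : ℝ) * ((Nat.card W₁ : ℝ) * (d : ℝ) ^ 2) := by
    rw [Finset.sum_congr rfl (g := fun _ => (Nat.card W₁ : ℝ) * (d : ℝ) ^ 2), Finset.sum_const,
      nsmul_eq_mul]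
    intro φ hφ
    obtain ⟨ψ, h1, h2, rfl⟩ := mem_colSet.1 hφ
    rw [F.nm_col h1, T.dg_col h1 h2]
    push_cast
    field_simp
  have hU : X ∪ colSet W₁ W₂ μ ⊆ S := Finset.union_subset hXsub hCsub
  have hpos : ∀ φ ∈ S, (0 : ℝ) < (dg φ : ℝ) ^ 2 / nm φ := by
    intro φ hφ
    have h1 : φ ∈ inducedIrrAbove (commutator ↥M) ⊥ := by
      rw [← coe_Sa]; exact hφ
    obtain ⟨θ, hθ, -, -, rfl⟩ := h1
    have h2 := nm_ind_pos (K := commutator ↥M) inferInstance hθ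
    have h3 : 0 < dg (indFun (commutator ↥M) θ) := by
      rw [dg_ind (irr_isChar hθ), F.index]
      exact Nat.mul_pos (by omega) (dg_pos hθ)
    positivity
  have s1 := Finset.sum_sdiff hU (f := fun φ => ((dg φ : ℝ) ^ 2 / nm φ))
  rw [Finset.sum_union hdisj, sX, sC, hsum] at s1
  have hXr : (X.card : ℝ) * (Nat.card W₁ : ℝ) = (p : ℝ) ^ 2 - 1 := by
    rw [hXcard]
    have : (((S2 M).ncard * Nat.card W₁ + 1 : ℕ) : ℝ) = ((p ^ 2 : ℕ) : ℝ) := by rw [hS2]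
    push_cast at this
    linarith
  have hCr : ((colSet W₁ W₂ μ).card : ℝ) = p - 1 := by
    have h1 := F.card_colSet
    rw [hW2] at h1
    have : (((colSet W₁ W₂ μ).card + 1 : ℕ) : ℝ) = (p : ℝ) := by rw [h1]
    push_cast at this
    linarith
  rw [hCr] at s1
  have s2 : ∑ φ ∈ S \ (X ∪ colSet W₁ W₂ μ), ((dg φ : ℝ) ^ 2 / nm φ) =
      (Nat.card W₁ : ℝ) * (((p : ℝ) - 1) * ((p : ℝ) ^ 2 - (d : ℝ) ^ 2)) := by
    have e1 : (X.card : ℝ) * (Nat.card W₁ : ℝ) ^ 2 =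
        ((p : ℝ) ^ 2 - 1) * (Nat.card W₁ : ℝ) := by rw [← hXr]; ring
    rw [e1] at s1
    push_cast at s1
    linear_combination s1
  have hp1 : (1 : ℝ) < p := by exact_mod_cast hp.one_lt
  have hw1p : (0 : ℝ) < Nat.card W₁ := by exact_mod_cast Nat.card_pos
  have s3 : (0 : ℝ) ≤ ∑ φ ∈ S \ (X ∪ colSet W₁ W₂ μ), ((dg φ : ℝ) ^ 2 / nm φ) :=
    Finset.sum_nonneg fun φ hφ => (hpos φ (Finset.mem_sdiff.1 hφ).1).le
  rw [s2] at s3
  have hdp : d ≤ p := by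
    have h1 : 0 ≤ ((p : ℝ) ^ 2 - (d : ℝ) ^ 2) := by
      by_contra hcon
      push Not at hcon
      have : (Nat.card W₁ : ℝ) * (((p : ℝ) - 1) * ((p : ℝ) ^ 2 - (d : ℝ) ^ 2)) < 0 :=
        mul_neg_of_pos_of_neg hw1p (mul_neg_of_pos_of_neg (by linarith) hcon)
      linarith
    have h2 : (d : ℝ) ^ 2 ≤ (p : ℝ) ^ 2 := by linarith
    have h3 : d ^ 2 ≤ p ^ 2 := by exact_mod_cast h2
    exact (Nat.pow_le_pow_iff_left two_ne_zero).1 h3
  obtain ⟨ψ, hψ, hψ1⟩ := exists_J F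
  have hdd : d ∣ p ^ 3 := by
    have h1 := F.res_irr ψ
    have h2 := T.mu_one ψ (not_isI_J F.hW hψ hψ1)
    have h3 := irr_degree_dvd_card h1 (show (fun k : ↥(commutator ↥M) => μ ψ k) 1 = (d : ℂ) from h2)
    rwa [F.card_K, hcard] at h3
  have hd : d = p := by
    obtain ⟨k, hk, hk2⟩ := (Nat.dvd_prime_pow hp).1 hdd
    have hk0 : k ≠ 0 := by
      rintro rfl
      have := T.hd
      rw [hk2] at this; simp at this
    have h1 : p ∣ d := by rw [hk2]; exact dvd_pow_self p hk0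
    exact le_antisymm hdp (Nat.le_of_dvd (by have := T.hd; omega) h1)
  refine ⟨hW2, hS2, hd, ?_, ?_⟩
  · rcases T.sign with he | he
    · exfalso
      have h1 := T.hn
      rw [he, hd] at h1
      apply hnp1
      have h2 : ((Nat.card W₁ : ℕ) : ℤ) ∣ ((p - 1 : ℕ) : ℤ) := by
        refine ⟨n, ?_⟩
        have := hp.one_lt
        rw [Nat.cast_sub (by omega)]
        push_cast
        linarith
      exact_mod_cast h2
    · exact he
  · rw [hd, sub_self, mul_zero, mul_zero] at s2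
    have h1 : S \ (X ∪ colSet W₁ W₂ μ) = ∅ := by
      by_contra hne
      obtain ⟨φ, hφ⟩ := Finset.nonempty_iff_ne_empty.2 hne
      have h3 := Finset.sum_pos (fun φ hφ => hpos φ (Finset.mem_sdiff.1 hφ).1)
        ⟨φ, hφ⟩
      rw [s2] at h3
      exact lt_irrefl _ h3
    have h2 : S = X ∪ colSet W₁ W₂ μ :=
      Finset.Subset.antisymm (Finset.sdiff_eq_empty_iff_subset.1 h1) hU
    rw [← hSc, h2, Finset.coe_union, hXS]

end

end Cfsg.Agent.PF
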