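import Cfsg.Agent.PF.SecC17

set_option autoImplicit false

/-! PF (10.10), the case `|M'| = p³`, `|W₁| ∣ p + 1` -/

namespace Cfsg.Agent.PF

open Subgroup
open Cfsg.Agent.L (cj nz SylIn)
open Cfsg.Agent.H3 hiding cj
open Cfsg.Agent.H21 (exists_ne_one le_normalizer_fhOf)

universe u

theorem arith10a {w a c R : ℤ} {N : ℤ} (hN : 8 ≤ N) (hw : 5 ≤ w) (hR : 0 ≤ R)
    (h : N * a ^ 2 + ((w - 1) * c ^ 2 + R) ≤ 4 * a + 2 * c) : a = 0 ∧ c = 0 := by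
  have h1 : 8 * a ^ 2 ≤ N * a ^ 2 := mul_le_mul_of_nonneg_right hN (sq_nonneg a)
  have h2 : 4 * c ^ 2 ≤ (w - 1) * c ^ 2 := mul_le_mul_of_nonneg_right (by linarith) (sq_nonneg c)
  have h3 := (le_abs_self a).trans (abs_le_sq' a)
  have h4 := (le_abs_self c).trans (abs_le_sq' c)
  have h5 : a ^ 2 = 0 ∧ c ^ 2 = 0 := by
    constructor <;> nlinarith [sq_nonneg a, sq_nonneg c]
  exact ⟨pow_eq_zero_iff two_ne_zero |>.1 h5.1, pow_eq_zero_iff two_ne_zero |>.1 h5.2⟩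

theorem arith10b {w g : ℤ} (hw : 5 ≤ w) : 1 ≤ g ^ 2 + (w - 1) * (g - 1) ^ 2 ∧
    (g ^ 2 + (w - 1) * (g - 1) ^ 2 ≤ 1 → g = 1) := by
  have h2 : 4 * (g - 1) ^ 2 ≤ (w - 1) * (g - 1) ^ 2 :=
    mul_le_mul_of_nonneg_right (by linarith) (sq_nonneg _)
  have h3 := abs_le_sq' (g - 1)
  have h4 := le_abs_self (g - 1)
  have h5 := neg_abs_le (g - 1)
  constructor
  · by_contra hcon
    push Not at hcon
    have h6 : (g - 1) ^ 2 = 0 := by nlinarith [sq_nonneg (g - 1), sq_nonneg g]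
    have h7 : g - 1 = 0 := pow_eq_zero_iff two_ne_zero |>.1 h6
    have h8 : g = 1 := by linarith
    rw [h8] at hcon; norm_num at hcon
  · intro h
    have h6 : (g - 1) ^ 2 = 0 := by nlinarith [sq_nonneg (g - 1), sq_nonneg g]
    have h7 : g - 1 = 0 := pow_eq_zero_iff two_ne_zero |>.1 h6
    linarith

variable {G : Type u} [Group G] [Fintype G] {M W₁ U W₂ : Subgroup G} [Fintype ↥M]
  {η : Lin W₁ W₂ → G → ℂ} {μ : Lin W₁ W₂ → ↥M → ℂ} {δ : Lin W₁ W₂ → ℤ} {d : ℕ} {e n : ℤ}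

variable (T : IsTen M W₁ U W₂ η μ δ d e n)

include T in
theorem pcube_coh {p : ℕ} (hp : p.Prime) (hcard : Nat.card ↥⁅M, M⁆ = p ^ 3)
    (hdvd : Nat.card W₁ ∣ p + 1) : ∃ τ₂, CohMap (SM M ⊥) (tauM M) τ₂ := by
  classical
  obtain ⟨hW2, hS2, hd, he, hSM⟩ := pcube T hp hcard hdvd
  have F := T.F
  have hw1 := F.three_le_W₁
  have hw2 := F.three_le_W₂
  rw [hW2] at hw2
  obtain ⟨X, τ₁, hXS, hXc, hX⟩ := F.exists_X T.typ
  rw [← hXc] at hS2
  have hXne : 0 < X.card := by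
    have := F.S2_two_le
    omega
  obtain ⟨ζ, hζ⟩ := Finset.card_pos.1 hXne
  have hn := T.hn
  rw [hd, he] at hn
  have hn2 := T.two_le
  have hSM' : SM M ⊥ = ((X : Set (↥M → ℂ)) ∪ (colSet W₁ W₂ μ : Set (↥M → ℂ))) := by
    rw [hSM, hXS]
  have hcolSet : (colSet W₁ W₂ μ : Set (↥M → ℂ)) =
      {χ | ∃ ψ, IsJ W₁ W₂ ψ ∧ ψ ≠ 1 ∧ χ = colI μ ψ} := by
    ext χ
    exact mem_colSet
  by_cases hn4 : 4 ≤ n
  · -- extension by (5.6)
    obtain ⟨R, hR, -⟩ := F.cohSys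
    have hYS : (colSet W₁ W₂ μ : Set (↥M → ℂ)) ⊆ SM M ⊥ := by
      rw [hSM']; exact Set.subset_union_right
    obtain ⟨τ₂, h2, -⟩ := coh_extend hR X (colSet W₁ W₂ μ) hX.sub hYS hX.conj_mem (by
      intro χ hχ
      obtain ⟨ψ, h1, h2, rfl⟩ := mem_colSet.1 hχ
      rw [F.col_conj]
      exact mem_colSet.2 ⟨ψ⁻¹, h1.inv, lin_inv_ne h2, rfl⟩) hX.coh (by
      intro S₁ hXS₁ hS₁ hc hY
      obtain ⟨χ, hχ, hχ1⟩ := Finset.not_subset.1 hY
      refine ⟨χ, hχ, hχ1, ζ, hXS₁ hζ, ?_⟩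
      obtain ⟨ψ, h1, h2, rfl⟩ := mem_colSet.1 hχ
      have d1 : dg ζ = Nat.card W₁ := dg_of_eq (hX.deg ζ hζ)
      have d2 : dg (colI μ ψ) = Nat.card W₁ * p := by rw [T.dg_col h1 h2, hd]
      rw [d1, d2]
      refine ⟨Dvd.intro _ rfl, ?_⟩
      have s1 : ∑ φ ∈ X, ((dg φ : ℝ) ^ 2 / nm φ) ≤ ∑ φ ∈ S₁, ((dg φ : ℝ) ^ 2 / nm φ) :=
        Finset.sum_le_sum_of_subset_of_nonneg hXS₁ (fun φ _ _ => by positivity)
      have s2 : ∑ φ ∈ X, ((dg φ : ℝ) ^ 2 / nm φ) = (X.card : ℝ) * (Nat.card W₁ : ℝ) ^ 2 := by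
        rw [Finset.sum_congr rfl (g := fun _ => (Nat.card W₁ : ℝ) ^ 2), Finset.sum_const,
          nsmul_eq_mul]
        intro φ hφ
        rw [nm_irr (hX.irr φ hφ), dg_of_eq (hX.deg φ hφ)]; simp
      refine lt_of_lt_of_le ?_ s1
      rw [s2]
      have hXr : (X.card : ℝ) * (Nat.card W₁ : ℝ) = (p : ℝ) ^ 2 - 1 := by
        have : ((X.card * Nat.card W₁ + 1 : ℕ) : ℝ) = ((p ^ 2 : ℕ) : ℝ) := by rw [hS2]
        push_cast at this
        linarith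
      have hw1r : (0 : ℝ) < Nat.card W₁ := by exact_mod_cast Nat.card_pos
      have e1 : (X.card : ℝ) * (Nat.card W₁ : ℝ) ^ 2 =
          ((p : ℝ) ^ 2 - 1) * (Nat.card W₁ : ℝ) := by rw [← hXr]; ring
      rw [e1]
      push_cast
      have hp3 : (3 : ℝ) ≤ p := by exact_mod_cast hw2
      have h4 : 4 * (Nat.card W₁ : ℝ) ≤ p + 1 := by
        have h5 : 4 * (Nat.card W₁ : ℤ) ≤ n * Nat.card W₁ :=
          mul_le_mul_of_nonneg_right hn4 (by positivity)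
        rw [hn] at h5
        have h6 : 4 * (Nat.card W₁ : ℤ) ≤ (p : ℤ) + 1 := by linarith
        exact_mod_cast h6
      have h5 : 2 * ((Nat.card W₁ : ℝ) * p) < (p : ℝ) ^ 2 - 1 := by nlinarith
      nlinarith)
    refine ⟨τ₂, ?_⟩
    rw [hSM', ← Finset.coe_union]
    exact h2
  · -- `n = 2`
    have hn2' : n = 2 := by
      obtain ⟨k, hk⟩ := T.even_n
      omega
    rw [hn2'] at hn
    have hw1p : 2 * (Nat.card W₁ : ℤ) = p + 1 := by linarith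
    have hp5 : (5 : ℤ) ≤ p := by
      have : (3 : ℤ) ≤ Nat.card W₁ := by exact_mod_cast hw1
      linarith
    have hXcard : (X.card : ℤ) = 2 * (p - 1) := by
      have h1 : (X.card : ℤ) * Nat.card W₁ + 1 = p ^ 2 := by exact_mod_cast hS2
      have h2 : (X.card : ℤ) * (p + 1) = 2 * (p - 1) * (p + 1) := by
        rw [← hw1p]
        linear_combination 2 * h1 - 2 * ((p : ℤ) - 1) * hw1p
      exact mul_right_cancel₀ (by linarith : (p : ℤ) + 1 ≠ 0) h2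
    have h1I : (1 : Lin W₁ W₂) ∈ idxI W₁ W₂ := mem_idxI.2 IsI.one
    obtain ⟨D, a, c, r, hD⟩ := ten5 T hX hζ
    have hDb := hD.bessel
    rw [← Finset.add_sum_erase _ _ h1I, hD.r_one, hn2', he, hW2] at hDb
    obtain ⟨ha, hc⟩ := arith10a (w := p) (a := a) (c := c)
      (R := ∑ φ ∈ (idxI W₁ W₂).erase 1, (r φ ^ 2 + ((p : ℤ) - 1) * (r φ + c) ^ 2))
      (N := X.card) (by rw [hXcard]; linarith) hp5
      (Finset.sum_nonneg fun φ _ => by
        have := mul_nonneg (by linarith : (0 : ℤ) ≤ (p : ℤ) - 1) (sq_nonneg (r φ + c))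
        have := sq_nonneg (r φ)
        linarith) (by
        have e1 : (0 : ℤ) ^ 2 + ((p : ℤ) - 1) * (0 + c) ^ 2 = ((p : ℤ) - 1) * c ^ 2 := by ring
        rw [e1] at hDb
        linarith)
    have hD0 := hD.eq_zero ha hc
    subst hD0
    obtain ⟨Γ, b, s, g, hΓ⟩ := tenG T hX hζ
    -- `s = -(1 + 2 b)`
    obtain ⟨ψ, hψ, hψ1⟩ := exists_J F
    have hs : s = -(1 + 2 * b) := by
      have h1 := hΓ.inner 1 ψ IsI.one hψ hψ1
      rw [hD.eq 1 ψ IsI.one hψ hψ1, add_zero, classInner_sub_right, classInner_smul_right,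
        classInner_smul_right, classInner_sub_right, hΓ.grid 1 ψ IsI.one hψ hψ1,
        hΓ.row 1 IsI.one, hΓ.inXζ, conj_int, conj_int, hn2', he] at h1
      have h2 : (-1 : ℤ) * (g 1 + s - g 1) - 2 * (b - 1) = 2 - -1 := by exact_mod_cast h1
      linarith
    have hGb := hΓ.bessel
    rw [← Finset.add_sum_erase _ _ h1I, hΓ.g_one, hW2, hs] at hGb
    have hrest : 0 ≤ ∑ φ ∈ (idxI W₁ W₂).erase 1,
        (g φ ^ 2 + ((p : ℤ) - 1) * (g φ + -(1 + 2 * b)) ^ 2) :=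
      Finset.sum_nonneg fun φ _ => by
        have := mul_nonneg (by linarith : (0 : ℤ) ≤ (p : ℤ) - 1)
          (sq_nonneg (g φ + -(1 + 2 * b)))
        have := sq_nonneg (g φ)
        linarith
    have hb : b = 0 := by
      by_contra hne
      have h1 : 1 ≤ b ^ 2 := by
        have := pow_pos (abs_pos.2 hne) 2
        rw [sq_abs] at this
        omega
      have h2 : ((p : ℤ) - 1) * (1 + -(1 + 2 * b)) ^ 2 = 4 * (p - 1) * b ^ 2 := by ring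
      rw [h2] at hGb
      have h3 : 4 * ((p : ℤ) - 1) * 1 ≤ 4 * (p - 1) * b ^ 2 :=
        mul_le_mul_of_nonneg_left h1 (by linarith)
      have h4 : 0 ≤ ((X.card : ℤ) - 1) * b ^ 2 :=
        mul_nonneg (by rw [hXcard]; linarith) (sq_nonneg b)
      nlinarith [sq_nonneg (b - 1)]
    subst hb
    have hg1 : ∀ φ ∈ (idxI W₁ W₂).erase 1, g φ = 1 := by
      have e0 : ∀ φ, g φ ^ 2 + ((p : ℤ) - 1) * (g φ + -(1 + 2 * 0)) ^ 2 =
          g φ ^ 2 + ((p : ℤ) - 1) * (g φ - 1) ^ 2 := fun φ => by ring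
      rw [Finset.sum_congr rfl fun φ _ => e0 φ] at hGb
      have hlow : ∀ φ ∈ (idxI W₁ W₂).erase 1,
          (1 : ℤ) ≤ g φ ^ 2 + ((p : ℤ) - 1) * (g φ - 1) ^ 2 := fun φ _ => (arith10b hp5).1
      have hcardI : (((idxI W₁ W₂).erase 1).card : ℤ) = Nat.card W₁ - 1 := by
        rw [Finset.card_erase_of_mem h1I, card_idxI F.hW]
        have := hw1
        push_cast [Nat.cast_sub (by omega : 1 ≤ Nat.card W₁)]
        ring
      have hsum1 : ∑ φ ∈ (idxI W₁ W₂).erase 1, (1 : ℤ) = Nat.card W₁ - 1 := by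
        rw [Finset.sum_const, nsmul_eq_mul, mul_one, hcardI]
      have hle : ∑ φ ∈ (idxI W₁ W₂).erase 1, (g φ ^ 2 + ((p : ℤ) - 1) * (g φ - 1) ^ 2) ≤
          ∑ φ ∈ (idxI W₁ W₂).erase 1, (1 : ℤ) := by
        rw [hsum1]
        nlinarith
      intro φ hφ
      have heq := (Finset.sum_eq_sum_iff_of_le hlow).1
        (le_antisymm (Finset.sum_le_sum hlow) hle) φ hφ
      exact (arith10b hp5).2 heq.symm.le
    have hΓ' : Γ = colI η 1 - τ₁ ζ := by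
      refine TenG.eq_of T hX hζ hΓ rfl fun φ hφ => ?_
      by_cases h1 : φ = 1
      · rw [h1, hΓ.g_one]
      · exact hg1 φ (Finset.mem_erase.2 ⟨h1, mem_idxI.2 hφ⟩)
    have hτΓ : tauM M (colI μ 1 - ζ) = colI η 1 - τ₁ ζ := by rw [hΓ.eq, hΓ']
    obtain ⟨τ₂, h2, -⟩ := ten_cols_coh T hX hζ (fun ψ hψ h1 => ten_col T hX hζ hD hτΓ hψ h1)
    refine ⟨τ₂, ?_⟩
    rw [hSM', hcolSet]
    exact h2

end Cfsg.Agent.PF
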