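import Cfsg.Agent.PF.SecC18
import Cfsg.Agent.H3.SibleyC2

set_option autoImplicit false

/-! PF (10.10) -/

namespace Cfsg.Agent.PF

open Subgroup
open Cfsg.Agent.L (cj nz SylIn)
open Cfsg.Agent.H3 hiding cj
open Cfsg.Agent.H21 (exists_ne_one le_normalizer_fhOf)

universe u

variable {G : Type u} [Group G] [Fintype G] {M W₁ U W₂ : Subgroup G} [Fintype ↥M]
  {η : Lin W₁ W₂ → G → ℂ} {μ : Lin W₁ W₂ → ↥M → ℂ} {δ : Lin W₁ W₂ → ℤ} {d : ℕ} {e n : ℤ}

theorem isGen_of_zspan {L : Type u} [Group L] [Fintype L] {S : Set (L → ℂ)}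
    (hS : ∀ χ ∈ S, IsGeneralizedCharacter L χ) {α : L → ℂ} (hα : α ∈ zspan S) :
    IsGeneralizedCharacter L α := by
  have hα' : α ∈ Submodule.span ℤ S := hα
  induction hα' using Submodule.span_induction with
  | mem x hx => exact hS x hx
  | zero =>
    have := isGen_sum (∅ : Finset ℕ) (fun _ => (0 : L → ℂ)) (by simp)
    simpa using this
  | add x y hx hy h1 h2 => exact isGen_add (h1 hx) (h2 hy)
  | smul a x hx h1 =>
    rw [H3.zsmul_eq_smul]
    exact isGen_intCast_smul a (h1 hx)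

/-- `S(M)` contains a nonzero element of degree zero -/
theorem SM_nonzero (F : IsFrame M W₁ U W₂ η μ δ) (h : Typ345 M) :
    ∃ α ∈ zspanOn (SM M ⊥) ({1}ᶜ : Set ↥M), α ≠ 0 := by
  obtain ⟨χ, hχ⟩ := F.S2_nonempty
  obtain ⟨h1, h2, h3, h4, h5, -⟩ := F.S2_mem h hχ
  refine ⟨χ - conjFun χ, ?_, fun h6 => h5 (sub_eq_zero.1 h6).symm⟩
  rw [zspanOn_one]
  refine ⟨zspan_sub (zspan_mem h1) (zspan_mem (F.S2_mem h h4).1), ?_⟩
  rw [Pi.sub_apply, h3, (F.S2_mem h h4).2.2.1, sub_self]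

theorem coh_1521 (F : IsFrame M W₁ U W₂ η μ δ) (h : Typ345 M)
    (hnil : Group.IsNilpotent ↥(commutator ↥M))
    (hgood : (¬ ∃ p m : ℕ, p.Prime ∧ Nat.card ↥(commutator ↥M) = p ^ m) ∨
      (∃ p m : ℕ, p.Prime ∧ Nat.card ↥(commutator ↥M) = p ^ m ∧ Nat.card W₁ ∣ p - 1)) :
    IsCoherent (SM M ⊥) ({1}ᶜ : Set ↥M) (tauM M) := by
  obtain ⟨R, hR, -⟩ := F.cohSys
  have hSM := F.SM_eq h ⊥
  rw [hSM] at hR ⊢
  haveI : Group.IsSolvable ↥M := F.sol
  refine Cfsg.Agent.S1521.result (commutator ↥M) inferInstance (tauM M) R hR F.oddM ⊥ bot_le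
    (Group.nilpotent_quotient_of_nilpotent _) ⁅commutator ↥M, commutator ↥M⁆ (sup_bot_eq _).symm
    F.K2_lt ?_ (fun k hk hk2 x hx => F.frob2 hk hk2 hx) ?_
  · rw [lt_top_iff_ne_top]
    intro h1
    have h2 := F.index
    rw [h1, Subgroup.index_top] at h2
    have := F.three_le_W₁
    omega
  · rw [Subgroup.relIndex_bot_left, F.index]
    rcases hgood with h1 | h1
    · exact Or.inr (Or.inr (Or.inl h1))
    · exact Or.inr (Or.inr (Or.inr (Or.inr h1)))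

theorem supportR_TI (F : IsFrame M W₁ U W₂ η μ δ)
    (hTI : ∀ g : G, g ∉ M → ∀ t ∈ ((⁅M, M⁆ : Subgroup G) : Set G),
      g * t * g⁻¹ ∈ ((⁅M, M⁆ : Subgroup G) : Set G) → t = 1)
    {a : G} (ha : a ∈ ⁅M, M⁆) (ha1 : a ≠ 1) : supportR M a = ⊥ := by
  have _ := F
  rw [supportR, dif_neg]
  rintro ⟨h1, -⟩
  apply h1
  intro c hc
  by_contra hcM
  apply ha1
  refine hTI c hcM a ha ?_
  have h2 : a * c = c * a := Subgroup.mem_centralizer_iff.1 hc a rfl
  rw [← h2, mul_inv_cancel_right]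
  exact ha

/-- `τ` is induction in the TI case -/
theorem tau_eq_ind (F : IsFrame M W₁ U W₂ η μ δ) (h : Typ345 M)
    (hTI : ∀ g : G, g ∉ M → ∀ t ∈ ((⁅M, M⁆ : Subgroup G) : Set G),
      g * t * g⁻¹ ∈ ((⁅M, M⁆ : Subgroup G) : Set G) → t = 1)
    {α : ↥M → ℂ} (hα : IsClassFunction ↥M α) (hs : SuppOn (typeA M) α) :
    tauM M α = indFun M α := by
  classical
  have hA := F.A_eq h
  funext g
  by_cases hg : g ∈ tildeOf M (typeA M)
  · obtain ⟨a, ha, r, hr, y, rfl⟩ := hg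
    have ha' := ha
    rw [hA] at ha'
    have haM : a ∈ M := commutator_le_self M ha'.1
    have h1 := tau_apply F.hG F.hM hα (a := ⟨a, haM⟩) (A_sub_A0 ha) (u := r) (y := y) hr
    rw [h1]
    rw [supportR_TI F hTI ha'.1 ha'.2, Subgroup.mem_bot] at hr
    rw [hr, mul_one, indFun_classFun M α a y]
    exact (indFun_eq_of_TI M _ hTI α hα (fun x hx => hs x (by
      rw [hA]; exact fun h' => hx h'.1)) ⟨a, haM⟩ ha'.1 (fun h' => ha'.2 (congrArg Subtype.val h'))).symm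
  · rw [tau_supp F.hG F.hM A_sub_A0 hα hs hg]
    rw [indFun, Finset.sum_eq_zero, mul_zero]
    intro x _
    by_cases hx : x⁻¹ * g * x ∈ M
    · rw [extendByZero_mem M _ hx]
      apply hs
      intro h1
      apply hg
      refine ⟨_, h1, 1, one_mem _, x, ?_⟩
      show g = x * (x⁻¹ * g * x * 1) * x⁻¹
      group
    · exact extendByZero_not_mem M _ hx

theorem coh_TI (F : IsFrame M W₁ U W₂ η μ δ) (h : Typ345 M) (hp : (Nat.card W₂).Prime)
    (hnil : Group.IsNilpotent ↥⁅M, M⁆) (hTI : IsTISubset ((⁅M, M⁆ : Subgroup G) : Set G)) :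
    ∃ τ₁, CohMap (SM M ⊥) (tauM M) τ₁ := by
  obtain ⟨R, hR, -⟩ := F.cohSys
  have hSM := F.SM_eq h ⊥
  have hN : Subgroup.normalizer ((⁅M, M⁆ : Subgroup G) : Set G) = M := by
    refine OOT.coatom_normalizer_eq F.hG F.hM ?_ (commutator_le_self M) (le_nz_commutator M)
    intro h1
    have := F.hP.W₂_le'
    rw [h1] at this
    exact F.hP.selfNormalizing.2.1 (le_bot_iff.1 this)
  have hTI' : ∀ g : G, g ∉ M → ∀ t ∈ ((⁅M, M⁆ : Subgroup G) : Set G),
      g * t * g⁻¹ ∈ ((⁅M, M⁆ : Subgroup G) : Set G) → t = 1 := by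
    intro g hg
    exact hTI g (by rwa [hN])
  have hpti := F.pti
  have hW₂ := W₂_le_derived2 F.hP
  have hspan : ∀ α ∈ zspanOn (SM M ⊥) ({1}ᶜ : Set ↥M), IsClassFunction ↥M α := by
    intro α hα
    refine isGen_classFun ?_
    obtain ⟨h1, -⟩ := hα
    exact isGen_of_zspan (fun χ hχ => isGen_of_char (F.SM_char hχ)) h1
  rw [hSM] at hR ⊢ hspan
  rw [commutator_eq_subgroupOf] at hR hpti hW₂ hspan ⊢
  refine sibley_c2' F.oddM (commutator_le_self M) hnil hTI hN hpti hW₂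
    (by rwa [H1.card_subgroupOf F.hP.W₂_le_M]) hR ?_
  intro α hα
  refine tau_eq_ind F h hTI' (hspan α hα) (F.span_supp ?_)
  rw [hSM, commutator_eq_subgroupOf]
  exact hα

end Cfsg.Agent.PF
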