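import Cfsg.Agent.PF.SecC1
import Cfsg.Agent.H3.PTI3

set_option autoImplicit false

/-! PF section 10: (10.2), the characters of degree `|W₁|`. -/

namespace Cfsg.Agent.PF

open Subgroup
open Cfsg.Agent.H3 (PTI SIrr CohMap dg nm)
open Cfsg.Agent.H21

universe u
variable {G : Type u} [Group G]

section sub

variable {M : Subgroup G}

theorem commutator_eq_subgroupOf (M : Subgroup G) : commutator ↥M = (⁅M, M⁆ : Subgroup G).subgroupOf M := by
  rw [← Subgroup.map_subtype_commutator M, Subgroup.subgroupOf,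
    Subgroup.comap_map_eq_self_of_injective M.subtype_injective]

theorem mem_commC_iff {x : ↥M} : x ∈ commutator ↥M ↔ (x : G) ∈ ⁅M, M⁆ := by
  rw [commutator_eq_subgroupOf, Subgroup.mem_subgroupOf]

theorem map_commutator2 (M : Subgroup G) :
    (⁅commutator ↥M, commutator ↥M⁆).map M.subtype = ⁅⁅M, M⁆, ⁅M, M⁆⁆ := by
  rw [Subgroup.map_commutator, Subgroup.map_subtype_commutator]

theorem mem_commutator2_iff {x : ↥M} :
    x ∈ ⁅commutator ↥M, commutator ↥M⁆ ↔ (x : G) ∈ ⁅⁅M, M⁆, ⁅M, M⁆⁆ := by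
  rw [← map_commutator2]
  constructor
  · intro h; exact ⟨x, h, rfl⟩
  · rintro ⟨y, hy, e⟩
    rwa [← Subtype.ext (show (y : G) = x from e)]

theorem subgroupOf_ne_bot {A : Subgroup G} (hA : A ≤ M) (h : A ≠ ⊥) : A.subgroupOf M ≠ ⊥ := by
  rw [Ne, Subgroup.subgroupOf_eq_bot, disjoint_iff, inf_eq_left.2 hA]
  exact h

variable [Finite G] {W₁ U W₂ : Subgroup G}

theorem pti_of_P (h : IsTypePWith M W₁ U W₂) :
    PTI (commutator ↥M) (W₁.subgroupOf M) (W₂.subgroupOf M) := by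
  have hW₂M := h.W₂_le_M
  refine ⟨inferInstance, ?_, ?_, subgroupOf_ne_bot h.W₁_le h.W₁_ne, ?_, ?_,
    subgroupOf_ne_bot hW₂M h.selfNormalizing.2.1, ?_, ?_, ?_⟩
  · rw [eq_bot_iff]
    rintro x ⟨h1, h2⟩
    have h3 : (x : G) ∈ ⁅M, M⁆ ⊓ W₁ := ⟨mem_commC_iff.1 h1, h2⟩
    rw [h.W₁_compl.2.2.1] at h3
    exact Subtype.ext h3
  · rw [eq_top_iff]
    rintro x -
    obtain ⟨a, ha, b, hb, e⟩ := h.W₁_compl.2.2.2 x x.2
    have haM : a ∈ M := Subgroup.commutator_le_self M ha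
    have hbM : b ∈ M := h.W₁_le hb
    have : x = ⟨a, haM⟩ * ⟨b, hbM⟩ := Subtype.ext e
    rw [this]
    exact Subgroup.mul_mem_sup (mem_commC_iff.2 ha) (Subgroup.mem_subgroupOf.2 hb)
  · have := h.W₁_cyclic
    exact isCyclic_of_surjective (Subgroup.subgroupOfEquivOfLe h.W₁_le).symm
      (Subgroup.subgroupOfEquivOfLe h.W₁_le).symm.surjective
  · rw [H1.card_subgroupOf h.W₁_le]
    exact h.W₁_hall
  · have h5 : IsCyclic W₂ := by
      have := h.selfNormalizing.2.2.2.2.1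
      exact isCyclic_of_injective (Subgroup.inclusion (le_sup_right : W₂ ≤ W₁ ⊔ W₂))
        (Subgroup.inclusion_injective _)
    exact isCyclic_of_surjective (Subgroup.subgroupOfEquivOfLe hW₂M).symm
      (Subgroup.subgroupOfEquivOfLe hW₂M).symm.surjective
  · intro x hx
    exact mem_commC_iff.2 (h.W₂_le' hx)
  · intro x hx hx1
    have hx' : (x : G) ≠ 1 := fun e => hx1 (Subtype.ext e)
    have := h.W₂_centralizer x hx hx'
    ext y
    rw [Subgroup.mem_inf, mem_commC_iff, mem_cent_singleton, Subgroup.mem_subgroupOf, ← this,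
      Subgroup.mem_inf, mem_cent_singleton]
    constructor
    · rintro ⟨h1, h2⟩
      exact ⟨h1, congrArg Subtype.val h2⟩
    · rintro ⟨h1, h2⟩
      exact ⟨h1, Subtype.ext h2⟩

theorem W₂_le_derived2 (h : IsTypePWith M W₁ U W₂) :
    W₂.subgroupOf M ≤ ⁅commutator ↥M, commutator ↥M⁆ := by
  intro x hx
  exact mem_commutator2_iff.2 ((h.W₂_le.trans inf_le_right) hx)

theorem index_commutator (h : IsTypePWith M W₁ U W₂) :
    (commutator ↥M).index = Nat.card W₁ := by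
  rw [← (pti_of_P h).cardW, H1.card_subgroupOf h.W₁_le]

end sub

end Cfsg.Agent.PF
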