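import Cfsg.Agent.PF.SecC2
import Cfsg.Agent.PF.BBA
import Cfsg.Agent.H3.IndCoh2
import Cfsg.Agent.H3.Integral
import Cfsg.Agent.S1517

set_option autoImplicit false

/-! PF section 10: (10.2), (10.3), the characters of degree `|W₁|`. -/

namespace Cfsg.Agent.PF

open Subgroup
open Cfsg.Agent.H3
open Cfsg.Agent.H21 (mulComm_iff exists_ne_one)

universe u
variable {G : Type u} [Group G] [Fintype G] {M W₁ U W₂ : Subgroup G} [Fintype ↥M]
  {η : Lin W₁ W₂ → G → ℂ} {μ : Lin W₁ W₂ → ↥M → ℂ} {δ : Lin W₁ W₂ → ℤ}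

theorem IsFrame.pti (F : IsFrame M W₁ U W₂ η μ δ) :
    PTI (commutator ↥M) (W₁.subgroupOf M) (W₂.subgroupOf M) := pti_of_P F.hP

theorem IsFrame.index (F : IsFrame M W₁ U W₂ η μ δ) : (commutator ↥M).index = Nat.card W₁ :=
  index_commutator F.hP

theorem IsFrame.sol (F : IsFrame M W₁ U W₂ η μ δ) : Group.IsSolvable ↥M :=
  OOT.coatom_sol F.hG F.hM

theorem IsFrame.K2_lt (F : IsFrame M W₁ U W₂ η μ δ) :
    ⁅commutator ↥M, commutator ↥M⁆ < commutator ↥M := by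
  haveI : Group.IsSolvable ↥M := F.sol
  have hne : commutator ↥M ≠ ⊥ := by
    intro h
    apply F.pti.ne₂
    rw [eq_bot_iff, ← h]
    exact F.pti.le
  exact Group.IsSolvable.commutator_lt_of_ne_bot hne

/-- (10.2) `M'/M'' ⋊ W₁` is a Frobenius group -/
theorem IsFrame.frob2 (F : IsFrame M W₁ U W₂ η μ δ) {k : ↥M} (hk : k ∈ commutator ↥M)
    (hk2 : k ∉ ⁅commutator ↥M, commutator ↥M⁆) {x : ↥M}
    (hx : x * k * x⁻¹ * k⁻¹ ∈ ⁅commutator ↥M, commutator ↥M⁆) : x ∈ commutator ↥M :=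
  F.pti.frob_lift inferInstance (W₂_le_derived2 F.hP) F.K2_lt.le k hk hk2 x hx

/-- irreducible characters of `K` with `K'` in the kernel are linear -/
theorem dg_one_of_derived {L : Type u} [Group L] [Fintype L] {K : Subgroup L} {θ : ↥K → ℂ}
    (hθ : IsIrrCharacter K θ) (h : ∀ a : K, (a : L) ∈ ⁅K, K⁆ → θ a = θ 1) : dg θ = 1 := by
  have h1 := deg_bound (B := ⁅K, K⁆) (C := K) (D := K) le_rfl le_rfl
    (fun x hx y hy => Subgroup.commutator_mem_commutator hx hy) hθ h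
  rw [Subgroup.relIndex_self, one_pow, one_mul] at h1
  have h2 := dg_pos hθ
  nlinarith

theorem linear_of_dg_one {L : Type u} [Group L] [Fintype L] {K : Subgroup L} {θ : ↥K → ℂ}
    (hθ : IsIrrCharacter K θ) (h : θ 1 = 1) : ∀ a : K, (a : L) ∈ ⁅K, K⁆ → θ a = θ 1 := by
  intro a ha
  rw [h]
  refine linear_commutator (irr_isChar hθ) h ?_
  have : a ∈ (⁅K, K⁆ : Subgroup L).subgroupOf K := ha
  rwa [← commutator_eq_subgroupOf] at this

theorem IsFrame.S2_irr (F : IsFrame M W₁ U W₂ η μ δ) {θ : ↥(commutator ↥M) → ℂ}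
    (hθ : IsIrrCharacter _ θ) (h1 : θ ≠ fun _ => 1)
    (h : ∀ a : ↥(commutator ↥M), (a : ↥M) ∈ ⁅commutator ↥M, commutator ↥M⁆ → θ a = θ 1) :
    IsIrrCharacter ↥M (indFun (commutator ↥M) θ) ∧
      indFun (commutator ↥M) θ 1 = (Nat.card W₁ : ℂ) := by
  have hd := dg_one_of_derived hθ h
  refine ⟨F.pti.irr_of_ne hθ (F.pti.linear_moved inferInstance (W₂_le_derived2 F.hP) F.K2_lt.le
    hθ hd h1 h), ?_⟩
  rw [indFun_one_apply, dg_eq (irr_isChar hθ), hd, F.index]; simp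

/-- (10.2) the members of `S(M'')` -/
theorem IsFrame.S2_mem (F : IsFrame M W₁ U W₂ η μ δ) (h : Typ345 M) {χ : ↥M → ℂ} (hχ : χ ∈ S2 M) :
    χ ∈ SM M ⊥ ∧ IsIrrCharacter ↥M χ ∧ χ 1 = (Nat.card W₁ : ℂ) ∧ conjFun χ ∈ S2 M ∧
      conjFun χ ≠ χ ∧ (∀ ω, χ ≠ μ ω) ∧ (∀ x : ↥M, x ∉ commutator ↥M → χ x = 0) ∧
      ∀ x ∈ ⁅commutator ↥M, commutator ↥M⁆, χ x = χ 1 := by
  have hSM : χ ∈ SM M ⊥ := by
    rw [F.SM_eq h]
    exact above_mono bot_le hχ
  have hc : conjFun χ ∈ S2 M := conj_above hχ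
  obtain ⟨θ, hθ, h1, h2, rfl⟩ := hχ
  obtain ⟨h3, h4⟩ := F.S2_irr hθ h1 h2
  have hoff : ∀ x : ↥M, x ∉ commutator ↥M → indFun (commutator ↥M) θ x = 0 :=
    fun x hx => indFun_not_mem_normal inferInstance θ hx
  refine ⟨hSM, h3, h4, hc, F.SM_conj_ne hSM, ?_, hoff, ?_⟩
  · intro ω hω
    obtain ⟨w, hw, hw1⟩ := exists_ne_one F.hP.W₁_ne
    have hwM := F.hP.W₁_le hw
    have hw2 : w ∉ W₂ := by
      intro h'
      have : w ∈ W₁ ⊓ W₂ := ⟨hw, h'⟩
      rw [F.hP.selfNormalizing.2.2.1] at this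
      exact hw1 this
    have h5 := F.apply_W ω ⟨w, Subgroup.mem_sup_left hw⟩ hwM hw2
    have h6 : (⟨w, hwM⟩ : ↥M) ∉ commutator ↥M := by
      intro h'
      have h7 : w ∈ ⁅M, M⁆ ⊓ W₁ := ⟨mem_commC_iff.1 h', hw⟩
      rw [F.hP.W₁_compl.2.2.1] at h7
      exact hw1 h7
    rw [← hω, hoff _ h6] at h5
    have h7 : ((ω ⟨w, Subgroup.mem_sup_left hw⟩ : ℂˣ) : ℂ) ≠ 0 := (ω _).ne_zero
    have h8 : (δ ω : ℂ) ≠ 0 := by
      rcases F.sign ω with e | e <;> rw [e] <;> simp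
    exact mul_ne_zero h8 h7 h5.symm
  · intro x hx
    have hxK := F.K2_lt.le hx
    have e1 := indFun_restrict_normal (H := commutator ↥M) inferInstance θ ⟨x, hxK⟩
    have e2 := indFun_restrict_normal (H := commutator ↥M) inferInstance θ 1
    show indFun (commutator ↥M) θ ((⟨x, hxK⟩ : ↥(commutator ↥M)) : ↥M) =
      indFun (commutator ↥M) θ ((1 : ↥(commutator ↥M)) : ↥M)
    rw [e1, e2]
    congr 1
    refine Finset.sum_congr rfl fun y _ => ?_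
    rw [cj_apply, cj_one_apply]
    exact h2 _ (Subgroup.Normal.conj_mem inferInstance _ hx y)

theorem IsFrame.S2_finite (_F : IsFrame M W₁ U W₂ η μ δ) : (S2 M).Finite := by
  haveI := Fintype.ofFinite (IrrCharacter ↥(commutator ↥M))
  rw [S2, ← coe_Sa]
  exact Finset.finite_toSet _

/-- the number of members of `S(M'')` -/
theorem IsFrame.S2_card (F : IsFrame M W₁ U W₂ η μ δ) :
    (S2 M).ncard * Nat.card W₁ + 1 =
      ⁅commutator ↥M, commutator ↥M⁆.relIndex (commutator ↥M) := by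
  haveI := Fintype.ofFinite (IrrCharacter ↥(commutator ↥M))
  have h1 := sum_Sa (K := commutator ↥M) inferInstance
    (A := ⁅commutator ↥M, commutator ↥M⁆) inferInstance F.K2_lt.le
  have h2 : ∀ φ ∈ Sa (K := commutator ↥M) ⁅commutator ↥M, commutator ↥M⁆,
      ((dg φ : ℝ) ^ 2 / nm φ) = (Nat.card W₁ : ℝ) ^ 2 := by
    intro φ hφ
    rw [mem_Sa] at hφ
    obtain ⟨θ, hθ, e1, e2, rfl⟩ := hφ
    obtain ⟨h3, h4⟩ := F.S2_irr hθ e1 e2
    rw [nm_irr h3, dg_of_eq h4]; simp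
  rw [Finset.sum_congr rfl h2, Finset.sum_const, F.index, nsmul_eq_mul] at h1
  have h3 : (S2 M).ncard = (Sa (K := commutator ↥M) ⁅commutator ↥M, commutator ↥M⁆).card := by
    rw [S2, ← coe_Sa, Set.ncard_coe_finset]
  have h4 : (Nat.card W₁ : ℝ) ≠ 0 := by exact_mod_cast Nat.card_pos.ne'
  have h5 : ((S2 M).ncard : ℝ) * Nat.card W₁ + 1 =
      ⁅commutator ↥M, commutator ↥M⁆.relIndex (commutator ↥M) := by
    rw [h3]
    have : (Nat.card W₁ : ℝ) * (((Sa (K := commutator ↥M)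
        ⁅commutator ↥M, commutator ↥M⁆).card : ℝ) * Nat.card W₁) =
        Nat.card W₁ * ((⁅commutator ↥M, commutator ↥M⁆.relIndex (commutator ↥M) : ℝ) - 1) := by
      rw [← h1]; ring
    have := mul_left_cancel₀ h4 this
    linarith
  exact_mod_cast h5

theorem IsFrame.S2_nonempty (F : IsFrame M W₁ U W₂ η μ δ) : (S2 M).Nonempty :=
  exists_above inferInstance inferInstance F.K2_lt

theorem IsFrame.oddK2 (F : IsFrame M W₁ U W₂ η μ δ) :
    Odd (⁅commutator ↥M, commutator ↥M⁆.relIndex (commutator ↥M)) := by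
  have h := F.oddM
  have h1 : ⁅commutator ↥M, commutator ↥M⁆.relIndex (commutator ↥M) ∣ Nat.card ↥M := by
    refine dvd_trans ?_ (Subgroup.card_subgroup_dvd_card (commutator ↥M))
    exact Subgroup.index_dvd_card _
  exact Odd.of_dvd_nat h h1

theorem IsFrame.oddW₁ (F : IsFrame M W₁ U W₂ η μ δ) : Odd (Nat.card W₁) :=
  Odd.of_dvd_nat F.oddM (Subgroup.card_dvd_of_le F.hP.W₁_le)

theorem IsFrame.oddW₂ (F : IsFrame M W₁ U W₂ η μ δ) : Odd (Nat.card W₂) :=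
  Odd.of_dvd_nat F.oddM (Subgroup.card_dvd_of_le F.hP.W₂_le_M)

theorem IsFrame.three_le_W₁ (F : IsFrame M W₁ U W₂ η μ δ) : 3 ≤ Nat.card W₁ := by
  have h1 : Nat.card W₁ ≠ 1 := fun h => F.hP.W₁_ne (Subgroup.card_eq_one.1 h)
  obtain ⟨k, hk⟩ := F.oddW₁
  have := Nat.card_pos (α := W₁)
  omega

theorem IsFrame.three_le_W₂ (F : IsFrame M W₁ U W₂ η μ δ) : 3 ≤ Nat.card W₂ := by
  have h1 : Nat.card W₂ ≠ 1 := fun h => F.hP.selfNormalizing.2.1 (Subgroup.card_eq_one.1 h)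
  obtain ⟨k, hk⟩ := F.oddW₂
  have := Nat.card_pos (α := W₂)
  omega

theorem IsFrame.S2_two_le (F : IsFrame M W₁ U W₂ η μ δ) : 2 ≤ (S2 M).ncard := by
  have h1 := F.S2_card
  have h2 : 0 < (S2 M).ncard := (Set.ncard_pos F.S2_finite).2 F.S2_nonempty
  obtain ⟨k, hk⟩ := F.oddK2
  obtain ⟨l, hl⟩ := F.oddW₁
  have h3 : (S2 M).ncard ≠ 1 := by
    intro h
    rw [h] at h1
    omega
  omega

/-- members of `S(M)` of degree `|W₁|` are the members of `S(M'')` -/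
theorem IsFrame.S2_of_deg (F : IsFrame M W₁ U W₂ η μ δ) (h : Typ345 M) {χ : ↥M → ℂ}
    (hχ : χ ∈ SM M ⊥) (h1 : χ 1 = (Nat.card W₁ : ℂ)) : χ ∈ S2 M := by
  rw [F.SM_eq h] at hχ
  obtain ⟨θ, hθ, h2, -, rfl⟩ := hχ
  refine ⟨θ, hθ, h2, linear_of_dg_one hθ ?_, rfl⟩
  rw [indFun_one_apply, F.index] at h1
  have h4 : (Nat.card W₁ : ℂ) ≠ 0 := by exact_mod_cast Nat.card_pos.ne'
  exact mul_left_cancel₀ h4 (by rw [h1, mul_one])

/-- `S(M'')` is coherent, as a member of the type `IsXCoh` -/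
theorem IsFrame.exists_X (F : IsFrame M W₁ U W₂ η μ δ) (h : Typ345 M) :
    ∃ (X : Finset (↥M → ℂ)) (τ₁ : (↥M → ℂ) → G → ℂ), (X : Set (↥M → ℂ)) = S2 M ∧
      X.card = (S2 M).ncard ∧ IsXCoh M W₁ X τ₁ := by
  classical
  obtain ⟨R, hR, -⟩ := F.cohSys
  have hsub : S2 M ⊆ SM M ⊥ := fun χ hχ => (F.S2_mem h hχ).1
  have hR2 := cohSys_mono hR F.S2_nonempty hsub (fun χ hχ => (F.S2_mem h hχ).2.2.2.1)
  have hcoh := Cfsg.Agent.S1517.result (S2 M) (tauM M) R hR2 (fun φ hφ ψ hψ => by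
    rw [(F.S2_mem h hφ).2.2.1, (F.S2_mem h hψ).2.2.1])
  obtain ⟨τ₁, h₁⟩ := isCoherent_cohMap hcoh
  refine ⟨F.S2_finite.toFinset, τ₁, by simp, by rw [Set.ncard_eq_toFinset_card _ F.S2_finite],
    ⟨by simpa using hsub, ?_, ?_, ?_, by simpa using h₁⟩⟩
  · intro χ hχ
    exact (F.S2_mem h (by simpa using hχ)).2.1
  · intro χ hχ
    exact (F.S2_mem h (by simpa using hχ)).2.2.1
  · intro χ hχ
    have := (F.S2_mem h (χ := χ) (by simpa using hχ)).2.2.2.1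
    simpa using this

theorem exists_J (F : IsFrame M W₁ U W₂ η μ δ) : ∃ ψ, IsJ W₁ W₂ ψ ∧ ψ ≠ 1 := by
  classical
  have h1 := card_idxJ F.hW
  have h2 := F.three_le_W₂
  obtain ⟨ψ, hψ, hne⟩ := Finset.exists_mem_ne (s := idxJ W₁ W₂) (by rw [h1]; omega) 1
  exact ⟨ψ, mem_idxJ.1 hψ, hne⟩

theorem exists_I (F : IsFrame M W₁ U W₂ η μ δ) : ∃ φ, IsI W₁ W₂ φ ∧ φ ≠ 1 := by
  classical
  have h1 := card_idxI F.hW
  have h2 := F.three_le_W₁
  obtain ⟨φ, hφ, hne⟩ := Finset.exists_mem_ne (s := idxI W₁ W₂) (by rw [h1]; omega) 1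
  exact ⟨φ, mem_idxI.1 hφ, hne⟩

/-- (10.3) -/
theorem exists_ten (F : IsFrame M W₁ U W₂ η μ δ) (h : Typ345 M) :
    ∃ (d : ℕ) (e n : ℤ), IsTen M W₁ U W₂ η μ δ d e n := by
  have hp := card_W₂_prime F.hG F.hM F.hP h
  obtain ⟨ψ, hψ, hψ1⟩ := exists_J F
  obtain ⟨d, hd0, hd, hdvd⟩ := F.deg ψ
  obtain ⟨n, hn⟩ := hdvd
  have key : ∀ ω, ¬ IsI W₁ W₂ ω → μ ω 1 = d ∧ δ ω = δ ψ := by
    intro ω hω
    obtain ⟨φ, ψ', h1, h2, rfl⟩ := lin_factor F.hW ω
    have h3 : ψ' ≠ 1 := by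
      rintro rfl
      exact hω fun w hw => by rw [MonoidHom.mul_apply, h1 w hw, MonoidHom.one_apply, mul_one]
    obtain ⟨g1, g2⟩ := F.galois hp hψ h2 hψ1 h3
    exact ⟨by rw [F.deg_eq h1, ← g1, hd], by rw [F.sign_congr φ ψ' h1, ← g2]⟩
  have hodd : Odd d := by
    have h1 : d ∣ Nat.card ↥M := irr_degree_dvd_card (F.irr ψ) hd
    exact Odd.of_dvd_nat F.oddM h1
  have hd1 : 1 < d := by
    have hne : d ≠ 1 := by
      rintro rfl
      have hirr := F.res_irr ψ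
      have h1 : (fun k : ↥(commutator ↥M) => μ ψ k) ≠ fun _ => 1 := by
        intro h1
        apply hψ1
        refine F.res_inj ψ 1 hψ IsJ.one (fun k hk => ?_)
        rw [F.mu_one]
        exact congrFun h1 ⟨k, hk⟩
      have h2 : (fun k : ↥(commutator ↥M) => μ ψ k) 1 = 1 := by simpa using hd
      obtain ⟨x, hx, hne⟩ := F.pti.linear_moved inferInstance (W₂_le_derived2 F.hP) F.K2_lt.le
        hirr (dg_of_eq (by simpa using h2)) h1 (linear_of_dg_one hirr h2)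
      exact hne (cj_restrict _ (irr_classFun (F.irr ψ)) x)
    omega
  have hW := F.oddW₁
  have hn0 : 0 < n := by
    by_contra hcon
    push Not at hcon
    have h1 : (0 : ℤ) < d - δ ψ := by
      rcases F.sign ψ with e | e
      · rw [e]; have : (1 : ℤ) < d := by exact_mod_cast hd1
        omega
      · rw [e]; omega
    rw [hn] at h1
    have h2 : (0 : ℤ) ≤ Nat.card W₁ := by positivity
    nlinarith
  have heven : Even n := by
    have h1 : Even ((d : ℤ) - δ ψ) := by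
      obtain ⟨k, hk⟩ := hodd
      rcases F.sign ψ with e | e
      · rw [e, hk]; exact ⟨k, by push_cast; ring⟩
      · rw [e, hk]; exact ⟨k + 1, by push_cast; ring⟩
    rw [hn] at h1
    rcases Int.even_mul.1 h1 with h2 | h2
    · exfalso
      have h3 : Even (Nat.card W₁) := by exact_mod_cast h2
      exact (Nat.not_even_iff_odd.2 hW) h3
    · exact h2
  refine ⟨d, δ ψ, n, F, h, hp, F.sign ψ, fun ω hω => (key ω hω).1, fun ω hω => (key ω hω).2,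
    by rw [hn]; ring, hd1, hodd, ?_, heven⟩
  obtain ⟨k, hk⟩ := heven
  omega

end Cfsg.Agent.PF
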