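import Cfsg.Agent.PF.SecC3

set_option autoImplicit false

/-! PF section 10: preparations for (10.5). -/

namespace Cfsg.Agent.PF

open Subgroup
open Cfsg.Agent.H3
open Cfsg.Agent.H21 (mulComm_iff exists_ne_one)

universe u
variable {G : Type u} [Group G] [Fintype G] {M W₁ U W₂ : Subgroup G} [Fintype ↥M]
  {η : Lin W₁ W₂ → G → ℂ} {μ : Lin W₁ W₂ → ↥M → ℂ} {δ : Lin W₁ W₂ → ℤ} {d : ℕ} {e n : ℤ}

/-! ### index bookkeeping -/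

section index
variable (hW : IsSelfNormalizingCyclic W₁ W₂)

theorem lin_mul_one (a : Lin W₁ W₂) : a * 1 = a := by
  ext w; simp

theorem lin_one_mul (a : Lin W₁ W₂) : 1 * a = a := by
  ext w; simp

include hW

theorem not_isI_mul {φ ψ : Lin W₁ W₂} (hφ : IsI W₁ W₂ φ) (hψ : IsJ W₁ W₂ ψ) (h1 : ψ ≠ 1) :
    ¬ IsI W₁ W₂ (φ * ψ) := by
  intro h
  have := lin_unique hW hφ h hψ IsJ.one (lin_mul_one _).symm
  exact h1 this.2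

theorem not_isI_J {ψ : Lin W₁ W₂} (hψ : IsJ W₁ W₂ ψ) (h1 : ψ ≠ 1) : ¬ IsI W₁ W₂ ψ := by
  have := not_isI_mul hW IsI.one hψ h1
  rwa [lin_one_mul] at this

theorem mul_ne_left {φ ψ : Lin W₁ W₂} (hφ : IsI W₁ W₂ φ) (hψ : IsJ W₁ W₂ ψ) (h1 : ψ ≠ 1) :
    φ * ψ ≠ φ := by
  intro h
  exact not_isI_mul hW hφ hψ h1 (by rw [h]; exact hφ)

theorem mul_ne_J {φ ψ ψ' : Lin W₁ W₂} (hφ : IsI W₁ W₂ φ) (hψ : IsJ W₁ W₂ ψ)
    (hψ' : IsJ W₁ W₂ ψ') (h1 : φ ≠ 1) : φ * ψ ≠ ψ' := by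
  intro h
  exact h1 (lin_unique hW hφ IsI.one hψ hψ' (h.trans (lin_one_mul _).symm)).1

theorem I_ne_J {φ ψ : Lin W₁ W₂} (hφ : IsI W₁ W₂ φ) (hψ : IsJ W₁ W₂ ψ) (h1 : φ ≠ 1) :
    φ ≠ ψ := by
  intro h
  exact h1 (lin_unique hW hφ IsI.one IsJ.one hψ
    ((lin_mul_one _).trans (h.trans (lin_one_mul _).symm))).1

end index

/-! ### inner products -/

theorem IsFrame.mu_inner_ne (F : IsFrame M W₁ U W₂ η μ δ) {ω ω' : Lin W₁ W₂} (h : ω ≠ ω') :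
    classInner (μ ω) (μ ω') = 0 :=
  classInner_of_irr_ne (F.irr ω) (F.irr ω') (fun e => h (F.inj e))

theorem IsFrame.mu_inner_self (F : IsFrame M W₁ U W₂ η μ δ) (ω : Lin W₁ W₂) :
    classInner (μ ω) (μ ω) = 1 := classInner_self_of_irr (F.irr ω)

theorem IsFrame.eta_inner_ne (F : IsFrame M W₁ U W₂ η μ δ) {ω ω' : Lin W₁ W₂} (h : ω ≠ ω') :
    classInner (η ω) (η ω') = 0 := by
  rw [F.fam.orthonormal, if_neg h]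

theorem IsFrame.eta_inner_self (F : IsFrame M W₁ U W₂ η μ δ) (ω : Lin W₁ W₂) :
    classInner (η ω) (η ω) = 1 := by
  rw [F.fam.orthonormal, if_pos rfl]

theorem IsFrame.eta_gen (F : IsFrame M W₁ U W₂ η μ δ) (ω : Lin W₁ W₂) :
    IsGeneralizedCharacter G (η ω) := (eta_sirr F.fam ω).isGen

theorem IsXCoh.ne_mu (F : IsFrame M W₁ U W₂ η μ δ) {X : Finset (↥M → ℂ)}
    {τ₁ : (↥M → ℂ) → G → ℂ} (hX : IsXCoh M W₁ X τ₁) {ζ : ↥M → ℂ} (hζ : ζ ∈ X) (ω : Lin W₁ W₂) :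
    ζ ≠ μ ω := by
  classical
  rcases F.SM_cases (hX.sub hζ) with h | ⟨ψ, h1, h2, h3⟩
  · exact h.2 ω
  · exfalso
    have h4 := classInner_self_of_irr (hX.irr ζ hζ)
    rw [h3, F.col_inner h1 h1, if_pos rfl] at h4
    have h5 : Nat.card W₁ = 1 := by exact_mod_cast h4
    have := F.three_le_W₁
    omega

theorem IsXCoh.inner_mu (F : IsFrame M W₁ U W₂ η μ δ) {X : Finset (↥M → ℂ)}
    {τ₁ : (↥M → ℂ) → G → ℂ} (hX : IsXCoh M W₁ X τ₁) {ζ : ↥M → ℂ} (hζ : ζ ∈ X) (ω : Lin W₁ W₂) :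
    classInner ζ (μ ω) = 0 ∧ classInner (μ ω) ζ = 0 :=
  ⟨classInner_of_irr_ne (hX.irr ζ hζ) (F.irr ω) (hX.ne_mu F hζ ω),
    classInner_of_irr_ne (F.irr ω) (hX.irr ζ hζ) (hX.ne_mu F hζ ω).symm⟩

theorem IsXCoh.off (F : IsFrame M W₁ U W₂ η μ δ) {X : Finset (↥M → ℂ)}
    {τ₁ : (↥M → ℂ) → G → ℂ} (hX : IsXCoh M W₁ X τ₁) {ζ : ↥M → ℂ} (hζ : ζ ∈ X) {x : ↥M}
    (hx : x ∉ commutator ↥M) : ζ x = 0 :=
  F.vanish ζ (hX.irr ζ hζ) (fun ω => hX.ne_mu F hζ ω) x hx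

theorem IsXCoh.mem_span {X : Finset (↥M → ℂ)}
    {τ₁ : (↥M → ℂ) → G → ℂ} (_hX : IsXCoh M W₁ X τ₁) {ζ : ↥M → ℂ} (hζ : ζ ∈ X) :
    ζ ∈ zspan (X : Set (↥M → ℂ)) := zspan_mem hζ

theorem IsXCoh.sub_mem {X : Finset (↥M → ℂ)}
    {τ₁ : (↥M → ℂ) → G → ℂ} (hX : IsXCoh M W₁ X τ₁) {ζ χ : ↥M → ℂ} (hζ : ζ ∈ X) (hχ : χ ∈ X) :
    ζ - χ ∈ zspanOn (X : Set (↥M → ℂ)) ({1}ᶜ : Set ↥M) := by
  rw [zspanOn_one]
  exact ⟨zspan_sub (zspan_mem hζ) (zspan_mem hχ), by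
    rw [Pi.sub_apply, hX.deg ζ hζ, hX.deg χ hχ, sub_self]⟩

theorem IsXCoh.tau_sub {X : Finset (↥M → ℂ)}
    {τ₁ : (↥M → ℂ) → G → ℂ} (hX : IsXCoh M W₁ X τ₁) {ζ χ : ↥M → ℂ} (hζ : ζ ∈ X) (hχ : χ ∈ X) :
    tauM M (ζ - χ) = τ₁ ζ - τ₁ χ := by
  rw [← hX.coh.2 _ (hX.sub_mem hζ hχ), hX.coh.sub (zspan_mem hζ) (zspan_mem hχ)]

theorem IsXCoh.supp_sub (F : IsFrame M W₁ U W₂ η μ δ) {X : Finset (↥M → ℂ)}
    {τ₁ : (↥M → ℂ) → G → ℂ} (hX : IsXCoh M W₁ X τ₁) {ζ χ : ↥M → ℂ} (hζ : ζ ∈ X) (hχ : χ ∈ X) :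
    SuppOn (typeA M) (ζ - χ) :=
  F.span_supp (zspanOn_mono hX.sub (hX.sub_mem hζ hχ))

theorem SuppOn.mono {M : Subgroup G} {A B : Set G} (h : A ⊆ B) {α : ↥M → ℂ} (hα : SuppOn A α) :
    SuppOn B α := fun x hx => hα x (fun h' => hx (h h'))

theorem SuppOn.A0 {M : Subgroup G} {α : ↥M → ℂ} (hα : SuppOn (typeA M) α) :
    SuppOn (typeA0 M) α := hα.mono A_sub_A0

theorem IsXCoh.classFun {X : Finset (↥M → ℂ)}
    {τ₁ : (↥M → ℂ) → G → ℂ} (hX : IsXCoh M W₁ X τ₁) {ζ : ↥M → ℂ} (hζ : ζ ∈ X) :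
    IsClassFunction ↥M ζ := irr_classFun (hX.irr ζ hζ)

section tau1

variable (F : IsFrame M W₁ U W₂ η μ δ) {X : Finset (↥M → ℂ)} {τ₁ : (↥M → ℂ) → G → ℂ}
  (hX : IsXCoh M W₁ X τ₁) {ζ : ↥M → ℂ} (hζ : ζ ∈ X)

include F hX hζ

theorem IsXCoh.t1 : SIrr (τ₁ ζ) ∧ τ₁ (conjFun ζ) = conjFun (τ₁ ζ) ∧
    (∀ ω, classInner (τ₁ ζ) (η ω) = 0) :=
  F.coh_irr hX.sub (fun χ hχ => hX.conj_mem χ hχ) hX.coh hζ (hX.irr ζ hζ)

theorem IsXCoh.t1_eta (ω : Lin W₁ W₂) : classInner (τ₁ ζ) (η ω) = 0 ∧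
    classInner (η ω) (τ₁ ζ) = 0 := by
  have h := (hX.t1 F hζ).2.2 ω
  refine ⟨h, ?_⟩
  rw [← classInner_conj_symm, h, map_zero]

theorem IsXCoh.t1_self : classInner (τ₁ ζ) (τ₁ ζ) = 1 := (hX.t1 F hζ).1.norm

theorem IsXCoh.t1_V {v : G} (hv : v ∈ Vset W₁ W₂) : τ₁ ζ v = 0 :=
  vanish_V F.hW F.fam (isGen_classFun (hX.t1 F hζ).1.isGen) (hX.t1 F hζ).2.2 v hv

omit F in
theorem IsXCoh.t1_inner {χ : ↥M → ℂ} (hχ : χ ∈ X) :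
    classInner (τ₁ ζ) (τ₁ χ) = classInner ζ χ :=
  hX.coh.inner (zspan_mem hζ) (zspan_mem hχ)

omit F in
theorem IsXCoh.inner_ne {χ : ↥M → ℂ} (hχ : χ ∈ X) (hne : ζ ≠ χ) : classInner ζ χ = 0 :=
  classInner_of_irr_ne (hX.irr ζ hζ) (hX.irr χ hχ) hne

end tau1

/-! ### Bessel -/

section bessel

variable (F : IsFrame M W₁ U W₂ η μ δ) {X : Finset (↥M → ℂ)} {τ₁ : (↥M → ℂ) → G → ℂ}
  (hX : IsXCoh M W₁ X τ₁) (D : G → ℂ)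

/-- the orthonormal family -/
noncomputable def besselFam (η : Lin W₁ W₂ → G → ℂ) (τ₁ : (↥M → ℂ) → G → ℂ) :
    (↥M → ℂ) ⊕ Lin W₁ W₂ → G → ℂ := Sum.elim τ₁ η

open Classical in
noncomputable def besselSet (W₁ W₂ : Subgroup G) (X : Finset (↥M → ℂ)) :
    Finset ((↥M → ℂ) ⊕ Lin W₁ W₂) :=
  haveI := Fintype.ofFinite (Lin W₁ W₂)
  X.disjSum Finset.univ

include F hX in
open Classical in
theorem bessel_orth : ∀ i ∈ besselSet W₁ W₂ X, ∀ j ∈ besselSet W₁ W₂ X,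
    classInner (besselFam η τ₁ i) (besselFam η τ₁ j) = if i = j then ((1 : ℝ) : ℂ) else 0 := by
  intro i hi j hj
  simp only [besselSet, Finset.mem_disjSum] at hi hj
  rcases hi with ⟨χ, hχ, rfl⟩ | ⟨ω, -, rfl⟩ <;> rcases hj with ⟨χ', hχ', rfl⟩ | ⟨ω', -, rfl⟩
  · simp only [besselFam, Sum.elim_inl, Sum.inl.injEq]
    rw [hX.t1_inner hχ hχ', classInner_irr (hX.irr χ hχ) (hX.irr χ' hχ')]
    simp
  · simp only [besselFam, Sum.elim_inl, Sum.elim_inr, reduceCtorEq, if_false]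
    exact (hX.t1_eta F hχ ω').1
  · simp only [besselFam, Sum.elim_inl, Sum.elim_inr, reduceCtorEq, if_false]
    exact (hX.t1_eta F hχ' ω).2
  · simp only [besselFam, Sum.elim_inr, Sum.inr.injEq]
    rw [F.fam.orthonormal]
    simp

include F hX in
theorem grid_bessel : ∑ χ ∈ X, ‖classInner D (τ₁ χ)‖ ^ 2 +
    ∑ φ ∈ idxI W₁ W₂, ∑ ψ ∈ idxJ W₁ W₂, ‖classInner D (η (φ * ψ))‖ ^ 2 ≤
      (classInner D D).re := by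
  classical
  have h := bessel_le (besselSet W₁ W₂ X) (besselFam η τ₁) (fun _ => 1) (fun _ _ => one_ne_zero)
    (bessel_orth F hX) D
  letI := Fintype.ofFinite (Lin W₁ W₂)
  simp only [besselSet, Finset.sum_disjSum, besselFam, Sum.elim_inl, Sum.elim_inr, div_one] at h
  rwa [sum_lin F.hW (fun ω => ‖classInner D (η ω)‖ ^ 2)] at h

include F hX in
theorem grid_bessel_eq (h : ∑ χ ∈ X, ‖classInner D (τ₁ χ)‖ ^ 2 +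
    ∑ φ ∈ idxI W₁ W₂, ∑ ψ ∈ idxJ W₁ W₂, ‖classInner D (η (φ * ψ))‖ ^ 2 =
      (classInner D D).re) : D = ∑ χ ∈ X, classInner D (τ₁ χ) • τ₁ χ +
    ∑ φ ∈ idxI W₁ W₂, ∑ ψ ∈ idxJ W₁ W₂, classInner D (η (φ * ψ)) • η (φ * ψ) := by
  classical
  letI := Fintype.ofFinite (Lin W₁ W₂)
  have h1 := bessel_eq_case (besselSet W₁ W₂ X) (besselFam η τ₁) (fun _ => 1)
    (fun _ _ => one_ne_zero) (bessel_orth F hX) D (by
    simp only [besselSet, Finset.sum_disjSum, besselFam, Sum.elim_inl, Sum.elim_inr, div_one]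
    rw [sum_lin F.hW (fun ω => ‖classInner D (η ω)‖ ^ 2)]
    exact h)
  simp only [besselSet, Finset.sum_disjSum, besselFam, Sum.elim_inl, Sum.elim_inr,
    Complex.ofReal_one, div_one] at h1
  rwa [sum_lin F.hW (fun ω => classInner D (η ω) • η ω)] at h1

end bessel

end Cfsg.Agent.PF
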