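import Cfsg.Agent.PF.SecC4

set_option autoImplicit false

/-! PF (10.5) -/

namespace Cfsg.Agent.PF

open Subgroup
open Cfsg.Agent.H3
open Cfsg.Agent.H21 (mulComm_iff exists_ne_one)

universe u
variable {G : Type u} [Group G] [Fintype G] {M W₁ U W₂ : Subgroup G} [Fintype ↥M]
  {η : Lin W₁ W₂ → G → ℂ} {μ : Lin W₁ W₂ → ↥M → ℂ} {δ : Lin W₁ W₂ → ℤ} {d : ℕ} {e n : ℤ}

section

variable (T : IsTen M W₁ U W₂ η μ δ d e n) {X : Finset (↥M → ℂ)}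
    {τ₁ : (↥M → ℂ) → G → ℂ} (hX : IsXCoh M W₁ X τ₁) {ζ : ↥M → ℂ} (hζ : ζ ∈ X)

include T in
theorem IsTen.e_sq : e * e = 1 := by
  rcases T.sign with h | h <;> rw [h] <;> rfl

include T in
theorem IsTen.e_sqC : (e : ℂ) * e = 1 := by exact_mod_cast T.e_sq

omit [Fintype G] [Fintype ↥M] in
theorem tauM_add (α β : ↥M → ℂ) : tauM M (α + β) = tauM M α + tauM M β := dade_add α β
omit [Fintype G] [Fintype ↥M] in
theorem tauM_sub (α β : ↥M → ℂ) : tauM M (α - β) = tauM M α - tauM M β := dade_sub α β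
omit [Fintype G] [Fintype ↥M] in
theorem tauM_smul (c : ℂ) (α : ↥M → ℂ) : tauM M (c • α) = c • tauM M α := dade_smul c α
omit [Fintype G] [Fintype ↥M] in
theorem tauM_conj (α : ↥M → ℂ) : tauM M (conjFun α) = conjFun (tauM M α) := dade_conj α
omit [Fintype G] [Fintype ↥M] in
theorem tauM_sum {ι : Type*} (s : Finset ι) (f : ι → ↥M → ℂ) :
    tauM M (∑ i ∈ s, f i) = ∑ i ∈ s, tauM M (f i) := by
  classical
  induction s using Finset.induction with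
  | empty =>
    have := tauM_smul (M := M) 0 0
    simpa using this
  | insert a s ha ih => rw [Finset.sum_insert ha, Finset.sum_insert ha, tauM_add, ih]

omit [Fintype ↥M] in
theorem complIn_W (hW : IsSelfNormalizingCyclic W₁ W₂) : IsComplIn W₁ W₂ (W₁ ⊔ W₂) := by
  refine H21.complIn_of_sup ?_ hW.2.2.1 rfl
  have h1 : W₂ ≤ centralizer (W₁ : Set G) := by
    intro x hx
    exact H21.mem_cent_iff.2 fun y hy => (hW.2.2.2.1 y hy x hx).symm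
  exact h1.trans (H21.cent_le_nz W₁)

omit [Fintype ↥M] in
theorem V_not_mem (hP : IsTypePWith M W₁ U W₂) {v : G} (hv : v ∈ Vset W₁ W₂) :
    v ∉ ⁅M, M⁆ := by
  intro h
  obtain ⟨a, ha, b, hb, e⟩ := (complIn_W hP.selfNormalizing).2.2.2 v hv.1
  have h1 : a = v * b⁻¹ := by rw [e]; group
  have h2 : a ∈ ⁅M, M⁆ ⊓ W₁ := ⟨by rw [h1]; exact Subgroup.mul_mem _ h (Subgroup.inv_mem _ (hP.W₂_le' hb)), ha⟩
  rw [hP.W₁_compl.2.2.1, Subgroup.mem_bot] at h2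
  apply hv.2.2
  rw [e, h2, one_mul]
  exact hb

omit [Fintype G] [Fintype ↥M] in
theorem conj_int (m : ℤ) : (starRingEnd ℂ) (m : ℂ) = m := by simp

include T hX hζ

theorem IsTen.alph_gen (φ ψ : Lin W₁ W₂) : IsGeneralizedCharacter ↥M (alph μ e n ζ φ ψ) := by
  unfold alph
  exact isGen_sub (isGen_sub (isGen_of_irr (T.F.irr _))
    (isGen_intCast_smul e (isGen_of_irr (T.F.irr _))))
    (isGen_intCast_smul n (isGen_of_irr (hX.irr ζ hζ)))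

theorem IsTen.alph_supp {φ ψ : Lin W₁ W₂} (hφ : IsI W₁ W₂ φ) (hψ : IsJ W₁ W₂ ψ) (h1 : ψ ≠ 1) :
    IsGeneralizedCharacter ↥M (alph μ e n ζ φ ψ) ∧ SuppOn (typeA0 M) (alph μ e n ζ φ ψ) := by
  have F := T.F
  have hgen := T.alph_gen hX hζ φ ψ
  refine ⟨hgen, F.supp_A0 (isGen_classFun hgen) ?_ ?_⟩
  · intro w hw hw1
    have hw1' : (w : G) ≠ 1 := fun e => hw1 (Subtype.ext e)
    have hw2 : (w : G) ∉ W₂ := by
      intro h'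
      have : (w : G) ∈ W₁ ⊓ W₂ := ⟨hw, h'⟩
      rw [F.hP.selfNormalizing.2.2.1] at this
      exact hw1' this
    have hwK : w ∉ commutator ↥M := by
      intro h'
      have h7 : (w : G) ∈ ⁅M, M⁆ ⊓ W₁ := ⟨mem_commC_iff.1 h', hw⟩
      rw [F.hP.W₁_compl.2.2.1] at h7
      exact hw1' h7
    have e1 := F.apply_W (φ * ψ) ⟨w, Subgroup.mem_sup_left hw⟩ w.2 hw2
    have e2 := F.apply_W φ ⟨w, Subgroup.mem_sup_left hw⟩ w.2 hw2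
    have e3 := hX.off F hζ hwK
    rw [F.sign_congr φ ψ hφ, T.delta ψ (not_isI_J F.hW hψ h1)] at e1
    rw [F.sign_one φ hφ] at e2
    rw [MonoidHom.mul_apply, hψ ⟨w, _⟩ hw, mul_one] at e1
    show μ (φ * ψ) w - (e : ℂ) * μ φ w - (n : ℂ) * ζ w = 0
    have e1' : μ (φ * ψ) w = (e : ℂ) * (φ ⟨w, Subgroup.mem_sup_left hw⟩ : ℂ) := e1
    have e2' : μ φ w = (φ ⟨w, Subgroup.mem_sup_left hw⟩ : ℂ) := by
      have : μ φ w = ((1 : ℤ) : ℂ) * (φ ⟨w, Subgroup.mem_sup_left hw⟩ : ℂ) := e2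
      rw [this]; simp
    rw [e1', e2', e3]; ring
  · intro x hx hxA
    have hx1 : x = 1 := by
      by_contra hne
      apply hxA
      rw [F.A_eq T.typ]
      exact ⟨mem_commC_iff.1 hx, fun e => hne (Subtype.ext e)⟩
    rw [hx1]
    show μ (φ * ψ) 1 - (e : ℂ) * μ φ 1 - (n : ℂ) * ζ 1 = 0
    have e2 : μ φ 1 = 1 := by
      have := F.deg_eq (ω := 1) hφ
      rw [lin_mul_one] at this
      rw [this, F.mu_one]
    rw [T.mu_one _ (not_isI_mul F.hW hφ hψ h1), e2, hX.deg ζ hζ]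
    have h3 : (n : ℂ) * (Nat.card W₁ : ℂ) = d - e := by exact_mod_cast T.hn
    rw [h3]; ring

/-- inner products of `α_ij` -/
theorem IsTen.alph_inner (φ ψ : Lin W₁ W₂) (β : ↥M → ℂ) :
    classInner (alph μ e n ζ φ ψ) β =
      classInner (μ (φ * ψ)) β - e * classInner (μ φ) β - n * classInner ζ β := by
  unfold alph
  rw [classInner_sub_left, classInner_sub_left, classInner_smul_left, classInner_smul_left]

theorem IsTen.alph_norm {φ ψ : Lin W₁ W₂} (hφ : IsI W₁ W₂ φ) (hψ : IsJ W₁ W₂ ψ) (h1 : ψ ≠ 1) :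
    classInner (alph μ e n ζ φ ψ) (alph μ e n ζ φ ψ) = 2 + (n : ℂ) ^ 2 := by
  have F := T.F
  have hne := mul_ne_left F.hW hφ hψ h1
  rw [T.alph_inner hX hζ]
  unfold alph
  simp only [classInner_sub_right, classInner_smul_right, conj_int]
  rw [F.mu_inner_self, F.mu_inner_self, F.mu_inner_ne hne, F.mu_inner_ne hne.symm,
    (hX.inner_mu F hζ _).1, (hX.inner_mu F hζ _).1, (hX.inner_mu F hζ _).2, (hX.inner_mu F hζ _).2,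
    classInner_self_of_irr (hX.irr ζ hζ)]
  linear_combination T.e_sqC

/-- `D'` as a function of the two indices -/
noncomputable def Dfun (η : Lin W₁ W₂ → G → ℂ) (μ : Lin W₁ W₂ → ↥M → ℂ) (e n : ℤ)
    (τ₁ : (↥M → ℂ) → G → ℂ) (ζ : ↥M → ℂ) (φ ψ : Lin W₁ W₂) : G → ℂ :=
  tauM M (alph μ e n ζ φ ψ) - (e : ℂ) • (η (φ * ψ) - η φ) + (n : ℂ) • τ₁ ζ

omit hX hζ in
/-- `τ(μ_ij - μ_ij')` -/
theorem IsTen.tau_col {φ ψ ψ' : Lin W₁ W₂} (hφ : IsI W₁ W₂ φ) (hψ : IsJ W₁ W₂ ψ) (h1 : ψ ≠ 1)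
    (hψ' : IsJ W₁ W₂ ψ') (h1' : ψ' ≠ 1) :
    SuppOn (typeA0 M) (μ (φ * ψ) - μ (φ * ψ')) ∧
      tauM M (μ (φ * ψ) - μ (φ * ψ')) = (e : ℂ) • (η (φ * ψ) - η (φ * ψ')) := by
  have F := T.F
  have n1 := not_isI_mul F.hW hφ hψ h1
  have n2 := not_isI_mul F.hW hφ hψ' h1'
  have := F.tau_mu_sub (ω := φ * ψ) (ω' := φ * ψ') (fun w hw => by
    rw [MonoidHom.mul_apply, MonoidHom.mul_apply, hψ w hw, hψ' w hw]) n1 n2
    (by rw [T.mu_one _ n1, T.mu_one _ n2]) (by rw [T.delta _ n1, T.delta _ n2])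
  rwa [T.delta _ n1] at this

omit hX hζ in
theorem Dfun_indep_j {φ ψ ψ' : Lin W₁ W₂} (hφ : IsI W₁ W₂ φ) (hψ : IsJ W₁ W₂ ψ) (h1 : ψ ≠ 1)
    (hψ' : IsJ W₁ W₂ ψ') (h1' : ψ' ≠ 1) :
    Dfun η μ e n τ₁ ζ φ ψ = Dfun η μ e n τ₁ ζ φ ψ' := by
  have h := (T.tau_col hφ hψ h1 hψ' h1').2
  have h2 : alph μ e n ζ φ ψ = alph μ e n ζ φ ψ' + (μ (φ * ψ) - μ (φ * ψ')) := by
    unfold alph; abel
  unfold Dfun
  rw [h2, tauM_add, h]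
  simp only [smul_sub]; abel

omit hX hζ in
theorem Dfun_indep_i {φ ψ : Lin W₁ W₂} (hφ : IsI W₁ W₂ φ) (hψ : IsJ W₁ W₂ ψ) (h1 : ψ ≠ 1) :
    Dfun η μ e n τ₁ ζ φ ψ = Dfun η μ e n τ₁ ζ 1 ψ := by
  have F := T.F
  have h := (F.tau_grid hφ hψ).2
  rw [T.delta ψ (not_isI_J F.hW hψ h1)] at h
  have h2 : alph μ e n ζ φ ψ = alph μ e n ζ 1 ψ +
      (e : ℂ) • ((e : ℂ) • (μ (φ * ψ) - μ ψ) - μ φ + μ 1) := by
    unfold alph
    rw [lin_one_mul, smul_add, smul_sub, smul_smul, T.e_sqC, one_smul]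
    abel
  unfold Dfun
  rw [h2, tauM_add, tauM_smul, h, lin_one_mul]
  have h3 : ∀ x : G → ℂ, x = ((e : ℂ) * e) • x := fun x => by rw [T.e_sqC, one_smul]
  simp only [smul_sub, smul_add]; abel

omit hX hζ in
theorem Dfun_indep {φ ψ φ' ψ' : Lin W₁ W₂} (hφ : IsI W₁ W₂ φ) (hψ : IsJ W₁ W₂ ψ) (h1 : ψ ≠ 1)
    (hφ' : IsI W₁ W₂ φ') (hψ' : IsJ W₁ W₂ ψ') (h1' : ψ' ≠ 1) :
    Dfun η μ e n τ₁ ζ φ ψ = Dfun η μ e n τ₁ ζ φ' ψ' := by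
  rw [Dfun_indep_i T hφ hψ h1, Dfun_indep_i T hφ' hψ' h1', Dfun_indep_j T IsI.one hψ h1 hψ' h1']

theorem Dfun_gen {φ ψ : Lin W₁ W₂} (hφ : IsI W₁ W₂ φ) (hψ : IsJ W₁ W₂ ψ) (h1 : ψ ≠ 1) :
    IsGeneralizedCharacter G (Dfun η μ e n τ₁ ζ φ ψ) := by
  have F := T.F
  obtain ⟨h2, h3⟩ := T.alph_supp hX hζ hφ hψ h1
  unfold Dfun
  exact isGen_add (isGen_sub (tau_gen F.hG F.hM h2 h3)
    (isGen_intCast_smul e (isGen_sub (F.eta_gen _) (F.eta_gen _))))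
    (isGen_intCast_smul n (hX.t1 F hζ).1.isGen)

theorem Dfun_vanish {φ ψ : Lin W₁ W₂} (hφ : IsI W₁ W₂ φ) (hψ : IsJ W₁ W₂ ψ) (h1 : ψ ≠ 1) :
    ∀ v ∈ Vset W₁ W₂, Dfun η μ e n τ₁ ζ φ ψ v = 0 := by
  have F := T.F
  intro v hv
  obtain ⟨h2, h3⟩ := T.alph_supp hX hζ hφ hψ h1
  have hvM : v ∈ M := F.W_le hv.1
  have e1 := F.tau_V (isGen_classFun h2) hv hvM
  have e2 := F.fam.eq_on (φ * ψ) ⟨v, hv.1⟩ hv.2.1 hv.2.2
  have e3 := F.fam.eq_on φ ⟨v, hv.1⟩ hv.2.1 hv.2.2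
  have e4 := F.apply_W (φ * ψ) ⟨v, hv.1⟩ hvM hv.2.2
  have e5 := F.apply_W φ ⟨v, hv.1⟩ hvM hv.2.2
  have e6 := hX.t1_V F hζ hv
  rw [T.delta _ (not_isI_mul F.hW hφ hψ h1)] at e4
  rw [F.sign_one φ hφ] at e5
  have e7 : ζ ⟨v, hvM⟩ = 0 := by
    apply hX.off F hζ
    intro h
    exact V_not_mem F.hP hv (mem_commC_iff.1 h)
  show tauM M (alph μ e n ζ φ ψ) v - (e : ℂ) * (η (φ * ψ) v - η φ v) + (n : ℂ) * τ₁ ζ v = 0
  rw [e1, e6]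
  show μ (φ * ψ) ⟨v, hvM⟩ - (e : ℂ) * μ φ ⟨v, hvM⟩ - (n : ℂ) * ζ ⟨v, hvM⟩ -
    (e : ℂ) * (η (φ * ψ) v - η φ v) + (n : ℂ) * 0 = 0
  have e2' : η (φ * ψ) v = ((φ * ψ) ⟨v, hv.1⟩ : ℂ) := e2
  have e3' : η φ v = (φ ⟨v, hv.1⟩ : ℂ) := e3
  have e4' : μ (φ * ψ) ⟨v, hvM⟩ = (e : ℂ) * ((φ * ψ) ⟨v, hv.1⟩ : ℂ) := e4
  have e5' : μ φ ⟨v, hvM⟩ = ((1 : ℤ) : ℂ) * (φ ⟨v, hv.1⟩ : ℂ) := e5
  rw [e2', e3', e4', e5', e7]; push_cast; ring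

end

end Cfsg.Agent.PF
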