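import Cfsg.Agent.PF.SecC5

set_option autoImplicit false

/-! PF (10.5) continued -/

namespace Cfsg.Agent.PF

open Subgroup
open Cfsg.Agent.H3
open Cfsg.Agent.H21 (mulComm_iff exists_ne_one)

universe u
variable {G : Type u} [Group G] [Fintype G] {M W₁ U W₂ : Subgroup G} [Fintype ↥M]
  {η : Lin W₁ W₂ → G → ℂ} {μ : Lin W₁ W₂ → ↥M → ℂ} {δ : Lin W₁ W₂ → ℤ} {d : ℕ} {e n : ℤ}

section

variable (T : IsTen M W₁ U W₂ η μ δ d e n) {X : Finset (↥M → ℂ)}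
    {τ₁ : (↥M → ℂ) → G → ℂ} (hX : IsXCoh M W₁ X τ₁) {ζ : ↥M → ℂ} (hζ : ζ ∈ X)

omit [Fintype G] [Fintype ↥M] in
theorem lin_inv_ne {ψ : Lin W₁ W₂} (h1 : ψ ≠ 1) : ψ⁻¹ ≠ 1 := by
  intro h
  apply h1
  ext w
  have h2 : (ψ w)⁻¹ = 1 := DFunLike.congr_fun h w
  rw [inv_eq_one.1 h2]; rfl

theorem conjFun_add' {Y : Type*} (a b : Y → ℂ) : conjFun (a + b) = conjFun a + conjFun b := by
  ext x; simp [conjFun]
theorem conjFun_sub' {Y : Type*} (a b : Y → ℂ) : conjFun (a - b) = conjFun a - conjFun b := by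
  ext x; simp [conjFun]
theorem conjFun_smul_int {Y : Type*} (m : ℤ) (a : Y → ℂ) :
    conjFun ((m : ℂ) • a) = (m : ℂ) • conjFun a := by
  ext x; simp [conjFun]

include T hX hζ

theorem Dfun_real {φ ψ : Lin W₁ W₂} (hφ : IsI W₁ W₂ φ) (hψ : IsJ W₁ W₂ ψ) (h1 : ψ ≠ 1) :
    conjFun (Dfun η μ e n τ₁ ζ φ ψ) = Dfun η μ e n τ₁ ζ φ ψ := by
  have F := T.F
  have h1' : ψ⁻¹ ≠ 1 := lin_inv_ne h1
  have key : conjFun (Dfun η μ e n τ₁ ζ φ ψ) = Dfun η μ e n τ₁ ζ φ⁻¹ ψ⁻¹ := by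
    have e1 : (φ * ψ)⁻¹ = φ⁻¹ * ψ⁻¹ := mul_inv φ ψ
    have e2 : conjFun (alph μ e n ζ φ ψ) = alph μ e n ζ φ⁻¹ ψ⁻¹ + (n : ℂ) • (ζ - conjFun ζ) := by
      unfold alph
      rw [conjFun_sub', conjFun_sub', conjFun_smul_int, conjFun_smul_int, F.conj_mu, F.conj_mu, e1,
        smul_sub]
      abel
    have e3 : tauM M (ζ - conjFun ζ) = τ₁ ζ - conjFun (τ₁ ζ) := by
      rw [hX.tau_sub hζ (hX.conj_mem ζ hζ), (hX.t1 F hζ).2.1]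
    unfold Dfun
    rw [conjFun_add', conjFun_sub', conjFun_smul_int, conjFun_smul_int, conjFun_sub',
      F.conj_eta, F.conj_eta, ← tauM_conj, e2, tauM_add, tauM_smul, e3, e1, smul_sub]
    abel
  rw [key, Dfun_indep T hφ.inv hψ.inv h1' hφ hψ h1]

/-- expression of `τ α_ij` -/
theorem tau_alph {φ ψ φ₀ ψ₀ : Lin W₁ W₂} (hφ : IsI W₁ W₂ φ) (hψ : IsJ W₁ W₂ ψ) (h1 : ψ ≠ 1)
    (hφ₀ : IsI W₁ W₂ φ₀) (hψ₀ : IsJ W₁ W₂ ψ₀) (h1₀ : ψ₀ ≠ 1) :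
    tauM M (alph μ e n ζ φ ψ) = (e : ℂ) • (η (φ * ψ) - η φ) - (n : ℂ) • τ₁ ζ +
      Dfun η μ e n τ₁ ζ φ₀ ψ₀ := by
  rw [← Dfun_indep T hφ hψ h1 hφ₀ hψ₀ h1₀]
  unfold Dfun; abel

theorem Dfun_inX {φ ψ : Lin W₁ W₂} (hφ : IsI W₁ W₂ φ) (hψ : IsJ W₁ W₂ ψ) (h1 : ψ ≠ 1)
    {χ : ↥M → ℂ} (hχ : χ ∈ X) : classInner (Dfun η μ e n τ₁ ζ φ ψ) (τ₁ χ) =
      classInner (Dfun η μ e n τ₁ ζ φ ψ) (τ₁ ζ) := by
  have F := T.F
  obtain ⟨h2, h3⟩ := T.alph_supp hX hζ hφ hψ h1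
  have e1 : classInner (tauM M (alph μ e n ζ φ ψ)) (τ₁ χ - τ₁ ζ) =
      - n * classInner ζ (χ - ζ) := by
    rw [← hX.tau_sub hχ hζ, tau_inner F.hG F.hM (isGen_classFun h2) h3
      (classFun_sub (hX.classFun hχ) (hX.classFun hζ)) (hX.supp_sub F hχ hζ).A0,
      T.alph_inner hX hζ]
    simp only [classInner_sub_right]
    rw [(hX.inner_mu F hχ _).2, (hX.inner_mu F hζ _).2, (hX.inner_mu F hχ _).2,
      (hX.inner_mu F hζ _).2]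
    ring
  have e2 : classInner (τ₁ ζ) (τ₁ χ - τ₁ ζ) = classInner ζ (χ - ζ) := by
    rw [classInner_sub_right, classInner_sub_right, hX.t1_inner hζ hχ, hX.t1_inner hζ hζ]
  have e3 : ∀ ω, classInner (η ω) (τ₁ χ - τ₁ ζ) = 0 := fun ω => by
    rw [classInner_sub_right, (hX.t1_eta F hχ ω).2, (hX.t1_eta F hζ ω).2, sub_self]
  have e4 : classInner (Dfun η μ e n τ₁ ζ φ ψ) (τ₁ χ - τ₁ ζ) = 0 := by
    unfold Dfun
    rw [classInner_add_left, classInner_sub_left, classInner_smul_left, classInner_smul_left,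
      classInner_sub_left, e1, e2, e3, e3]
    ring
  rw [classInner_sub_right] at e4
  exact sub_eq_zero.1 e4

theorem Dfun_one {φ ψ : Lin W₁ W₂} (hφ : IsI W₁ W₂ φ) (hψ : IsJ W₁ W₂ ψ) (h1 : ψ ≠ 1) :
    classInner (Dfun η μ e n τ₁ ζ φ ψ) (η 1) = 0 := by
  have F := T.F
  obtain ⟨φ₁, hφ₁, hφ₁1⟩ := exists_I F
  rw [Dfun_indep T hφ hψ h1 hφ₁ hψ h1]
  obtain ⟨h2, h3⟩ := T.alph_supp hX hζ hφ₁ hψ h1
  have e1 : classInner (tauM M (alph μ e n ζ φ₁ ψ)) (η 1) = 0 := by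
    rw [F.fam.map_one, tau_inner_one F.hG F.hM (isGen_classFun h2) h3, ← F.mu_one,
      T.alph_inner hX hζ, F.mu_inner_ne (mul_ne_J F.hW hφ₁ hψ IsJ.one hφ₁1),
      F.mu_inner_ne hφ₁1, (hX.inner_mu F hζ _).1]
    ring
  unfold Dfun
  rw [classInner_add_left, classInner_sub_left, classInner_smul_left, classInner_smul_left,
      classInner_sub_left, e1, F.eta_inner_ne (mul_ne_J F.hW hφ₁ hψ IsJ.one hφ₁1),
      F.eta_inner_ne hφ₁1, (hX.t1_eta F hζ _).1]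
  ring

theorem Dfun_col {φ ψ : Lin W₁ W₂} (hφ : IsI W₁ W₂ φ) (hψ : IsJ W₁ W₂ ψ) (h1 : ψ ≠ 1)
    {ψ₁ ψ₂ : Lin W₁ W₂} (hψ₁ : IsJ W₁ W₂ ψ₁) (h11 : ψ₁ ≠ 1) (hψ₂ : IsJ W₁ W₂ ψ₂) (h12 : ψ₂ ≠ 1) :
    classInner (Dfun η μ e n τ₁ ζ φ ψ) (η ψ₁) = classInner (Dfun η μ e n τ₁ ζ φ ψ) (η ψ₂) := by
  have F := T.F
  obtain ⟨φ₁, hφ₁, hφ₁1⟩ := exists_I F
  rw [Dfun_indep T hφ hψ h1 hφ₁ hψ h1]
  obtain ⟨h2, h3⟩ := T.alph_supp hX hζ hφ₁ hψ h1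
  obtain ⟨h4, h5⟩ := T.tau_col (φ := 1) IsI.one hψ₁ h11 hψ₂ h12
  rw [lin_one_mul, lin_one_mul] at h4 h5
  have e1 : classInner (tauM M (alph μ e n ζ φ₁ ψ)) (η ψ₁ - η ψ₂) = 0 := by
    have e2 : classInner (tauM M (alph μ e n ζ φ₁ ψ)) (tauM M (μ ψ₁ - μ ψ₂)) = 0 := by
      rw [tau_inner F.hG F.hM (isGen_classFun h2) h3
        (classFun_sub (irr_classFun (F.irr _)) (irr_classFun (F.irr _))) h4,
        T.alph_inner hX hζ]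
      simp only [classInner_sub_right]
      rw [F.mu_inner_ne (mul_ne_J F.hW hφ₁ hψ hψ₁ hφ₁1),
        F.mu_inner_ne (mul_ne_J F.hW hφ₁ hψ hψ₂ hφ₁1), F.mu_inner_ne (I_ne_J F.hW hφ₁ hψ₁ hφ₁1),
        F.mu_inner_ne (I_ne_J F.hW hφ₁ hψ₂ hφ₁1), (hX.inner_mu F hζ _).1, (hX.inner_mu F hζ _).1]
      ring
    rw [h5, classInner_smul_right, conj_int] at e2
    have he : (e : ℂ) ≠ 0 := by
      intro h
      have := T.e_sqC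
      rw [h] at this; simp at this
    exact (mul_eq_zero.1 e2).resolve_left he
  rw [← sub_eq_zero, ← classInner_sub_right]
  unfold Dfun
  rw [classInner_add_left, classInner_sub_left, classInner_smul_left, classInner_smul_left,
      classInner_sub_left, e1]
  simp only [classInner_sub_right]
  rw [F.eta_inner_ne (mul_ne_J F.hW hφ₁ hψ hψ₁ hφ₁1),
    F.eta_inner_ne (mul_ne_J F.hW hφ₁ hψ hψ₂ hφ₁1), F.eta_inner_ne (I_ne_J F.hW hφ₁ hψ₁ hφ₁1),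
    F.eta_inner_ne (I_ne_J F.hW hφ₁ hψ₂ hφ₁1), (hX.t1_eta F hζ _).1, (hX.t1_eta F hζ _).1]
  ring

omit T hX hζ in
/-- the sum over a row of the grid -/
theorem row_sum (F : IsFrame M W₁ U W₂ η μ δ) {D : G → ℂ} {r : Lin W₁ W₂ → ℤ} {c : ℤ}
    (hrow : ∀ φ, IsI W₁ W₂ φ → classInner D (η φ) = r φ)
    (hgrid : ∀ φ ψ, IsI W₁ W₂ φ → IsJ W₁ W₂ ψ → ψ ≠ 1 →
      classInner D (η (φ * ψ)) = (r φ + c : ℤ)) {φ : Lin W₁ W₂} (hφ : IsI W₁ W₂ φ) :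
    ∑ ψ ∈ idxJ W₁ W₂, ‖classInner D (η (φ * ψ))‖ ^ 2 =
      ((r φ ^ 2 + ((Nat.card W₂ : ℤ) - 1) * (r φ + c) ^ 2 : ℤ) : ℝ) := by
  classical
  have h1 : (1 : Lin W₁ W₂) ∈ idxJ W₁ W₂ := mem_idxJ.2 IsJ.one
  rw [← Finset.add_sum_erase _ _ h1, lin_mul_one, hrow φ hφ]
  have h2 : ∀ ψ ∈ (idxJ W₁ W₂).erase 1, ‖classInner D (η (φ * ψ))‖ ^ 2 =
      (((r φ + c) ^ 2 : ℤ) : ℝ) := by
    intro ψ hψ
    rw [Finset.mem_erase, mem_idxJ] at hψ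
    rw [hgrid φ ψ hφ hψ.2 hψ.1, Complex.norm_intCast]
    push_cast
    rw [sq_abs]
  rw [Finset.sum_congr rfl h2, Finset.sum_const, Finset.card_erase_of_mem h1, card_idxJ F.hW,
    Complex.norm_intCast, sq_abs, nsmul_eq_mul]
  have h3 : 1 ≤ Nat.card W₂ := Nat.card_pos
  push_cast [Nat.cast_sub h3]
  ring

/-- (10.5) -/
theorem ten5 : ∃ (D : G → ℂ) (a c : ℤ) (r : Lin W₁ W₂ → ℤ),
    TenD M W₁ W₂ η μ e n X τ₁ ζ D a c r := by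
  have F := T.F
  obtain ⟨ψ₀, hψ₀, h1₀⟩ := exists_J F
  set D := Dfun η μ e n τ₁ ζ 1 ψ₀ with hD
  have hgen : IsGeneralizedCharacter G D := Dfun_gen T hX hζ IsI.one hψ₀ h1₀
  have hr : ∀ ω, ∃ m : ℤ, classInner D (η ω) = m := fun ω =>
    classInner_gen_int hgen (F.eta_gen ω)
  choose r hr using hr
  obtain ⟨a, ha⟩ := classInner_gen_int hgen (hX.t1 F hζ).1.isGen
  have hvan := Dfun_vanish T hX hζ IsI.one hψ₀ h1₀
  have hreal := Dfun_real T hX hζ IsI.one hψ₀ h1₀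
  have hr1 : r 1 = 0 := by
    have := Dfun_one T hX hζ IsI.one hψ₀ h1₀
    rw [← hD, hr] at this
    exact_mod_cast this
  have hgrid : ∀ φ ψ, IsI W₁ W₂ φ → IsJ W₁ W₂ ψ → ψ ≠ 1 →
      classInner D (η (φ * ψ)) = (r φ + r ψ₀ : ℤ) := by
    intro φ ψ hφ hψ h1
    have e1 := grid_add F.fam (isGen_classFun hgen) hvan hφ hψ
    rw [hr 1, hr1, hr φ, Dfun_col T hX hζ IsI.one hψ₀ h1₀ hψ h1 hψ₀ h1₀, ← hD, hr ψ₀] at e1
    rw [Int.cast_zero, add_zero] at e1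
    rw [e1]; push_cast; rfl
  have heq : ∀ φ ψ, IsI W₁ W₂ φ → IsJ W₁ W₂ ψ → ψ ≠ 1 →
      tauM M (alph μ e n ζ φ ψ) = (e : ℂ) • (η (φ * ψ) - η φ) - (n : ℂ) • τ₁ ζ + D :=
    fun φ ψ hφ hψ h1 => tau_alph T hX hζ hφ hψ h1 IsI.one hψ₀ h1₀
  have hnorm : classInner D D = ((2 * n * a - 2 * r ψ₀ * e : ℤ) : ℂ) := by
    obtain ⟨φ, hφ, hφ1⟩ := exists_I F
    obtain ⟨h2, h3⟩ := T.alph_supp hX hζ hφ hψ₀ h1₀
    have e1 := tau_inner F.hG F.hM (isGen_classFun h2) h3 (isGen_classFun h2) h3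
    rw [T.alph_norm hX hζ hφ hψ₀ h1₀, heq φ ψ₀ hφ hψ₀ h1₀] at e1
    have e2 : classInner (η (φ * ψ₀)) D = (r φ + r ψ₀ : ℤ) := by
      rw [← classInner_conj_symm, hgrid φ ψ₀ hφ hψ₀ h1₀, conj_int]
    have e3 : classInner (η φ) D = (r φ : ℤ) := by
      rw [← classInner_conj_symm, hr, conj_int]
    have e4 : classInner (τ₁ ζ) D = a := by
      rw [← classInner_conj_symm, ha, conj_int]
    have hne := mul_ne_left F.hW hφ hψ₀ h1₀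
    simp only [classInner_add_left, classInner_sub_left, classInner_add_right,
      classInner_sub_right, classInner_smul_left, classInner_smul_right, conj_int,
      F.eta_inner_self, F.eta_inner_ne hne, F.eta_inner_ne hne.symm, (hX.t1_eta F hζ _).1,
      (hX.t1_eta F hζ _).2, hX.t1_self F hζ, e2, e3, e4, hr φ, ha, hgrid φ ψ₀ hφ hψ₀ h1₀] at e1
    have e5 := T.e_sqC
    push_cast at e1 ⊢
    linear_combination e1 - 2 * e5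
  refine ⟨D, a, r ψ₀, r, hgen, hreal, hvan, heq, ?_, fun φ _ => hr φ, hgrid, hr1, ?_, hnorm, ?_⟩
  · intro χ hχ
    rw [hD, Dfun_inX T hX hζ IsI.one hψ₀ h1₀ hχ, ← hD, ha]
  · intro φ hφ
    have e1 : classInner D (η φ⁻¹) = (starRingEnd ℂ) (classInner D (η φ)) := by
      rw [← F.conj_eta, ← classInner_conjFun, hreal]
    rw [hr, hr, conj_int] at e1
    exact_mod_cast e1
  · have h1 := grid_bessel F hX D
    have h2 : ∑ χ ∈ X, ‖classInner D (τ₁ χ)‖ ^ 2 = (((X.card : ℤ) * a ^ 2 : ℤ) : ℝ) := by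
      have : ∀ χ ∈ X, ‖classInner D (τ₁ χ)‖ ^ 2 = (((a : ℤ) ^ 2 : ℤ) : ℝ) := by
        intro χ hχ
        rw [hD, Dfun_inX T hX hζ IsI.one hψ₀ h1₀ hχ, ← hD, ha, Complex.norm_intCast, sq_abs]
        push_cast; rfl
      rw [Finset.sum_congr rfl this, Finset.sum_const, nsmul_eq_mul]
      push_cast; rfl
    have h3 : ∑ φ ∈ idxI W₁ W₂, ∑ ψ ∈ idxJ W₁ W₂, ‖classInner D (η (φ * ψ))‖ ^ 2 =
        ((∑ φ ∈ idxI W₁ W₂, (r φ ^ 2 + ((Nat.card W₂ : ℤ) - 1) * (r φ + r ψ₀) ^ 2) : ℤ) : ℝ) := by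
      rw [Int.cast_sum]
      refine Finset.sum_congr rfl fun φ hφ => ?_
      exact row_sum F (fun φ _ => hr φ) hgrid (mem_idxI.1 hφ)
    rw [h2, h3, hnorm, Complex.intCast_re] at h1
    exact_mod_cast h1

end

end Cfsg.Agent.PF
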