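import Cfsg.Agent.PF.SecC6

set_option autoImplicit false

/-! PF section 10: `Γ = τ(μ_0 - ζ)`. -/

namespace Cfsg.Agent.PF

open Subgroup
open Cfsg.Agent.H3
open Cfsg.Agent.H21 (mulComm_iff exists_ne_one)

universe u
variable {G : Type u} [Group G] [Fintype G] {M W₁ U W₂ : Subgroup G} [Fintype ↥M]
  {η : Lin W₁ W₂ → G → ℂ} {μ : Lin W₁ W₂ → ↥M → ℂ} {δ : Lin W₁ W₂ → ℤ} {d : ℕ} {e n : ℤ}

theorem inv_one_lin : (1 : Lin W₁ W₂)⁻¹ = 1 := by
  ext w; simp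

/-- `D' = 0` as soon as its norm is `0` -/
theorem TenD.eq_zero {X : Finset (↥M → ℂ)} {τ₁ : (↥M → ℂ) → G → ℂ} {ζ : ↥M → ℂ} {D : G → ℂ}
    {a c : ℤ} {r : Lin W₁ W₂ → ℤ} (h : TenD M W₁ W₂ η μ e n X τ₁ ζ D a c r)
    (ha : a = 0) (hc : c = 0) : D = 0 :=
  eq_zero_of_norm' (by rw [h.norm, ha, hc]; simp)

theorem IsFrame.col_gen (F : IsFrame M W₁ U W₂ η μ δ) (ω : Lin W₁ W₂) :
    IsGeneralizedCharacter ↥M (colI μ ω) :=
  isGen_sum _ _ fun _ _ => isGen_of_irr (F.irr _)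

theorem IsFrame.eta_col_gen (F : IsFrame M W₁ U W₂ η μ δ) (ω : Lin W₁ W₂) :
    IsGeneralizedCharacter G (colI η ω) :=
  isGen_sum _ _ fun _ _ => F.eta_gen _

theorem IsFrame.col_one (F : IsFrame M W₁ U W₂ η μ δ) (ω : Lin W₁ W₂) :
    colI μ ω 1 = (Nat.card W₁ : ℂ) * μ ω 1 := F.col_on ω (one_mem _)

theorem inner_symm_int {D E : G → ℂ} {m : ℤ} (h : classInner D E = m) : classInner E D = m := by
  rw [← classInner_conj_symm, h, conj_int]

section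

variable (T : IsTen M W₁ U W₂ η μ δ d e n) {X : Finset (↥M → ℂ)}
    {τ₁ : (↥M → ℂ) → G → ℂ} (hX : IsXCoh M W₁ X τ₁) {ζ : ↥M → ℂ} (hζ : ζ ∈ X)

include T hX hζ

theorem gam_supp : SuppOn (typeA M) (colI μ 1 - ζ) := by
  have F := T.F
  intro x hx
  by_cases hK : x ∈ commutator ↥M
  · have hx1 : x = 1 := by
      by_contra hne
      apply hx
      rw [F.A_eq T.typ]
      exact ⟨mem_commC_iff.1 hK, fun e => hne (Subtype.ext e)⟩
    rw [hx1, Pi.sub_apply, F.col_one, F.mu_one, hX.deg ζ hζ]; simp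
  · rw [Pi.sub_apply, F.col_off 1 hK, hX.off F hζ hK, sub_zero]

theorem gam_gen : IsGeneralizedCharacter ↥M (colI μ 1 - ζ) :=
  isGen_sub (T.F.col_gen 1) (isGen_of_irr (hX.irr ζ hζ))

omit hζ in
theorem col_inner_X {χ : ↥M → ℂ} (hχ : χ ∈ X) (ω : Lin W₁ W₂) :
    classInner (colI μ ω) χ = 0 ∧ classInner χ (colI μ ω) = 0 := by
  have F := T.F
  constructor
  · rw [colI, classInner_sum_left]
    exact Finset.sum_eq_zero fun φ _ => (hX.inner_mu F hχ _).2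
  · rw [colI, classInner_sum_right]
    exact Finset.sum_eq_zero fun φ _ => (hX.inner_mu F hχ _).1

/-- inner products of `μ_0 - ζ` -/
theorem gam_inner (β : ↥M → ℂ) : classInner (colI μ 1 - ζ) β =
    classInner (colI μ 1) β - classInner ζ β := classInner_sub_left _ _ _

theorem gam_tau {β : ↥M → ℂ} (hβ : IsClassFunction ↥M β) (hs : SuppOn (typeA0 M) β) :
    classInner (tauM M (colI μ 1 - ζ)) (tauM M β) =
      classInner (colI μ 1) β - classInner ζ β := by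
  rw [tau_inner T.F.hG T.F.hM (isGen_classFun (gam_gen T hX hζ)) (gam_supp T hX hζ).A0 hβ hs,
    classInner_sub_left]

open Classical in
/-- properties of `Γ = τ(μ_0 - ζ)` -/
theorem tenG : ∃ (Γ : G → ℂ) (b s : ℤ) (g : Lin W₁ W₂ → ℤ),
    TenG M W₁ W₂ η μ e n X τ₁ ζ Γ b s g := by
  have F := T.F
  obtain ⟨ψ₀, hψ₀, h1₀⟩ := exists_J F
  set Γ := tauM M (colI μ 1 - ζ) with hΓ
  have hs := gam_supp T hX hζ
  have hg0 := gam_gen T hX hζ
  have hgen : IsGeneralizedCharacter G Γ := tau_gen F.hG F.hM hg0 hs.A0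
  have hr : ∀ ω, ∃ m : ℤ, classInner Γ (η ω) = m := fun ω =>
    classInner_gen_int hgen (F.eta_gen ω)
  choose g hg using hr
  obtain ⟨b', hb'⟩ := classInner_gen_int hgen (hX.t1 F hζ).1.isGen
  have hvan : ∀ v ∈ Vset W₁ W₂, Γ v = 0 := fun v hv => F.tau_V_zero (isGen_classFun hg0) hs hv
  have hreal : conjFun (Γ + τ₁ ζ) = Γ + τ₁ ζ := by
    have e3 : tauM M (ζ - conjFun ζ) = τ₁ ζ - conjFun (τ₁ ζ) := by
      rw [hX.tau_sub hζ (hX.conj_mem ζ hζ), (hX.t1 F hζ).2.1]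
    have e4 : conjFun (colI μ 1 - ζ) = (colI μ 1 - ζ) + (ζ - conjFun ζ) := by
      rw [conjFun_sub', F.col_conj, inv_one_lin]; abel
    rw [conjFun_add', hΓ, ← tauM_conj, e4, tauM_add, e3]; abel
  have hg1 : g 1 = 1 := by
    have e1 : classInner Γ (η 1) = 1 := by
      rw [F.fam.map_one, hΓ, tau_inner_one F.hG F.hM (isGen_classFun hg0) hs.A0, ← F.mu_one,
        gam_inner T hX hζ]
      have e2 := F.col_inner_mu (φ := 1) (ψ := 1) (ψ' := 1) IsI.one IsJ.one IsJ.one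
      rw [lin_mul_one, if_pos rfl] at e2
      rw [e2, (hX.inner_mu F hζ _).1, sub_zero]
    rw [hg] at e1
    exact_mod_cast e1
  have hcolJ : ∀ ψ ψ', IsJ W₁ W₂ ψ → ψ ≠ 1 → IsJ W₁ W₂ ψ' → ψ' ≠ 1 → g ψ = g ψ' := by
    intro ψ ψ' hψ h1 hψ' h1'
    obtain ⟨h4, h5⟩ := T.tau_col (φ := 1) IsI.one hψ h1 hψ' h1'
    rw [lin_one_mul, lin_one_mul] at h4 h5
    have e2 : classInner Γ (tauM M (μ ψ - μ ψ')) = 0 := by
      rw [hΓ, gam_tau T hX hζ (classFun_sub (irr_classFun (F.irr _)) (irr_classFun (F.irr _))) h4]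
      simp only [classInner_sub_right]
      have e3 := F.col_inner_mu (φ := 1) (ψ := 1) (ψ' := ψ) IsI.one IsJ.one hψ
      have e4 := F.col_inner_mu (φ := 1) (ψ := 1) (ψ' := ψ') IsI.one IsJ.one hψ'
      rw [lin_one_mul, if_neg (Ne.symm h1)] at e3
      rw [lin_one_mul, if_neg (Ne.symm h1')] at e4
      rw [e3, e4, (hX.inner_mu F hζ _).1, (hX.inner_mu F hζ _).1]
      ring
    rw [h5, classInner_smul_right, conj_int, classInner_sub_right, hg, hg] at e2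
    have he : (e : ℂ) ≠ 0 := by
      intro h
      have := T.e_sqC
      rw [h] at this; simp at this
    have e6 := (mul_eq_zero.1 e2).resolve_left he
    have e7 := sub_eq_zero.1 e6
    exact_mod_cast e7
  have hgrid : ∀ φ ψ, IsI W₁ W₂ φ → IsJ W₁ W₂ ψ → ψ ≠ 1 →
      classInner Γ (η (φ * ψ)) = (g φ + (g ψ₀ - 1) : ℤ) := by
    intro φ ψ hφ hψ h1
    have e1 := grid_add F.fam (isGen_classFun hgen) hvan hφ hψ
    rw [hg 1, hg1, hg φ, hg ψ, hcolJ ψ ψ₀ hψ h1 hψ₀ h1₀] at e1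
    push_cast at e1 ⊢
    linear_combination e1
  have hinX : ∀ χ ∈ X, χ ≠ ζ → classInner Γ (τ₁ χ) = (b' + 1 : ℤ) := by
    intro χ hχ hne
    have e1 : classInner Γ (τ₁ χ - τ₁ ζ) = 1 := by
      rw [← hX.tau_sub hχ hζ, hΓ, gam_tau T hX hζ (classFun_sub (hX.classFun hχ)
        (hX.classFun hζ)) (hX.supp_sub F hχ hζ).A0]
      simp only [classInner_sub_right]
      rw [(col_inner_X T hX hχ 1).1, (col_inner_X T hX hζ 1).1, hX.inner_ne hζ hχ hne.symm,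
        classInner_self_of_irr (hX.irr ζ hζ)]
      ring
    rw [classInner_sub_right, hb'] at e1
    push_cast
    linear_combination e1
  have hnorm : classInner Γ Γ = ((Nat.card W₁ + 1 : ℤ) : ℂ) := by
    rw [hΓ, gam_tau T hX hζ (isGen_classFun hg0) hs.A0]
    simp only [classInner_sub_right]
    have e2 := F.col_inner (ψ := 1) (ψ' := 1) IsJ.one IsJ.one
    rw [if_pos rfl] at e2
    rw [e2, (col_inner_X T hX hζ 1).1, (col_inner_X T hX hζ 1).2,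
      classInner_self_of_irr (hX.irr ζ hζ)]
    push_cast; ring
  refine ⟨Γ, b' + 1, g ψ₀ - 1, g, hs, rfl, hgen, hreal, hvan, hinX, by rw [hb']; push_cast; ring,
    fun φ _ => hg φ, hgrid, hg1, ?_, ?_, hnorm, ?_⟩
  · intro φ hφ
    have e0 : ∀ ω, classInner (Γ + τ₁ ζ) (η ω) = g ω := by
      intro ω
      rw [classInner_add_left, hg, (hX.t1_eta F hζ _).1, add_zero]
    have e1 : classInner (Γ + τ₁ ζ) (η φ⁻¹) = (starRingEnd ℂ) (classInner (Γ + τ₁ ζ) (η φ)) := by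
      rw [← F.conj_eta, ← classInner_conjFun, hreal]
    rw [e0, e0, conj_int] at e1
    exact_mod_cast e1
  · intro φ ψ hφ hψ h1
    obtain ⟨h2, h3⟩ := T.alph_supp hX hζ hφ hψ h1
    rw [hΓ, gam_tau T hX hζ (isGen_classFun h2) h3]
    unfold alph
    simp only [classInner_sub_right, classInner_smul_right, conj_int]
    have e3 := F.col_inner_mu (φ := φ) (ψ := 1) (ψ' := ψ) hφ IsJ.one hψ
    have e4 := F.col_inner_mu (φ := φ) (ψ := 1) (ψ' := 1) hφ IsJ.one IsJ.one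
    rw [if_neg (Ne.symm h1)] at e3
    rw [lin_mul_one, if_pos rfl] at e4
    rw [e3, e4, (col_inner_X T hX hζ 1).1, (hX.inner_mu F hζ _).1, (hX.inner_mu F hζ _).1,
      classInner_self_of_irr (hX.irr ζ hζ)]
    push_cast; ring
  · have h1 := grid_bessel F hX Γ
    have h2 : ∑ χ ∈ X, ‖classInner Γ (τ₁ χ)‖ ^ 2 =
        ((((X.card : ℤ) - 1) * (b' + 1) ^ 2 + (b' + 1 - 1) ^ 2 : ℤ) : ℝ) := by
      rw [← Finset.add_sum_erase _ _ hζ]
      have : ∀ χ ∈ X.erase ζ, ‖classInner Γ (τ₁ χ)‖ ^ 2 = (((b' + 1) ^ 2 : ℤ) : ℝ) := by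
        intro χ hχ
        rw [Finset.mem_erase] at hχ
        rw [hinX χ hχ.2 hχ.1, Complex.norm_intCast, sq_abs]
        push_cast; rfl
      rw [Finset.sum_congr rfl this, Finset.sum_const, nsmul_eq_mul, hb',
        Finset.card_erase_of_mem hζ, Complex.norm_intCast, sq_abs]
      have h5 : 1 ≤ X.card := Finset.card_pos.2 ⟨ζ, hζ⟩
      push_cast [Nat.cast_sub h5]
      ring
    have h3 : ∑ φ ∈ idxI W₁ W₂, ∑ ψ ∈ idxJ W₁ W₂, ‖classInner Γ (η (φ * ψ))‖ ^ 2 =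
        ((∑ φ ∈ idxI W₁ W₂, (g φ ^ 2 + ((Nat.card W₂ : ℤ) - 1) * (g φ + (g ψ₀ - 1)) ^ 2) : ℤ)
          : ℝ) := by
      rw [Int.cast_sum]
      refine Finset.sum_congr rfl fun φ hφ => ?_
      exact row_sum F (fun φ _ => hg φ) hgrid (mem_idxI.1 hφ)
    rw [h2, h3, hnorm, Complex.intCast_re] at h1
    exact_mod_cast h1

end

end Cfsg.Agent.PF
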