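import Cfsg.Agent.PF.SecC7

set_option autoImplicit false

/-! PF section 10: consequences of `D' = 0` and `Γ = Σ η_i0 - τ₁ ζ`. -/

namespace Cfsg.Agent.PF

open Subgroup
open Cfsg.Agent.H3
open Cfsg.Agent.H21 (mulComm_iff exists_ne_one)

universe u
variable {G : Type u} [Group G] [Fintype G] {M W₁ U W₂ : Subgroup G} [Fintype ↥M]
  {η : Lin W₁ W₂ → G → ℂ} {μ : Lin W₁ W₂ → ↥M → ℂ} {δ : Lin W₁ W₂ → ℤ} {d : ℕ} {e n : ℤ}

section

variable (T : IsTen M W₁ U W₂ η μ δ d e n) {X : Finset (↥M → ℂ)}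
    {τ₁ : (↥M → ℂ) → G → ℂ} (hX : IsXCoh M W₁ X τ₁) {ζ : ↥M → ℂ} (hζ : ζ ∈ X)

include T hX hζ

theorem eta_col_inner_t1 (ω : Lin W₁ W₂) : classInner (colI η ω) (τ₁ ζ) = 0 ∧
    classInner (τ₁ ζ) (colI η ω) = 0 := by
  have F := T.F
  constructor
  · rw [colI, classInner_sum_left]
    exact Finset.sum_eq_zero fun φ _ => (hX.t1_eta F hζ _).2
  · rw [colI, classInner_sum_right]
    exact Finset.sum_eq_zero fun φ _ => (hX.t1_eta F hζ _).1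

/-- `Γ = Σ_i η_i0 - τ₁ ζ` as soon as the coefficients are right -/
theorem TenG.eq_of {Γ : G → ℂ}
    {b s : ℤ} {g : Lin W₁ W₂ → ℤ} (h : TenG M W₁ W₂ η μ e n X τ₁ ζ Γ b s g)
    (hb : b = 0) (hg : ∀ φ, IsI W₁ W₂ φ → g φ = 1) : Γ = colI η 1 - τ₁ ζ := by
  classical
  have F := T.F
  rw [← sub_eq_zero]
  apply eq_zero_of_norm'
  have e1 : classInner Γ (colI η 1) = Nat.card W₁ := by
    rw [colI, classInner_sum_right]
    have : ∀ φ ∈ idxI W₁ W₂, classInner Γ (η (φ * 1)) = 1 := by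
      intro φ hφ
      rw [lin_mul_one, h.row φ (mem_idxI.1 hφ), hg φ (mem_idxI.1 hφ)]; simp
    rw [Finset.sum_congr rfl this, Finset.sum_const, card_idxI F.hW]; simp
  have e2 : classInner (colI η 1) Γ = Nat.card W₁ := by
    rw [← classInner_conj_symm, e1]; simp
  have e3 : classInner Γ (τ₁ ζ) = -1 := by rw [h.inXζ, hb]; simp
  have e4 : classInner (τ₁ ζ) Γ = -1 := by
    rw [← classInner_conj_symm, e3]; simp
  have e5 := F.eta_col_inner (ψ := 1) (ψ' := 1) IsJ.one IsJ.one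
  rw [if_pos rfl] at e5
  simp only [classInner_sub_left, classInner_sub_right]
  rw [h.norm, e1, e2, e3, e4, e5, hX.t1_self F hζ, (eta_col_inner_t1 T hX hζ 1).1,
    (eta_col_inner_t1 T hX hζ 1).2]
  push_cast; ring

omit hX hζ in
theorem sum_alph (φψ : Lin W₁ W₂) (ζ : ↥M → ℂ) :
    ∑ φ ∈ idxI W₁ W₂, alph μ e n ζ φ φψ =
      colI μ φψ - (e : ℂ) • colI μ 1 - ((n * Nat.card W₁ : ℤ) : ℂ) • ζ := by
  unfold alph colI
  rw [Finset.sum_sub_distrib, Finset.sum_sub_distrib, ← Finset.smul_sum, Finset.sum_const,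
    card_idxI T.F.hW]
  congr 1
  · congr 2
    refine Finset.sum_congr rfl fun φ _ => by rw [lin_mul_one]
  · rw [← Nat.cast_smul_eq_nsmul ℂ, smul_smul]
    push_cast
    rw [mul_comm]

/-- from `τ α_ij = δ(η_ij - η_i0) - n τ₁ ζ` and `Γ = Σ_i η_i0 - τ₁ ζ` -/
theorem ten_col {a c : ℤ} {r : Lin W₁ W₂ → ℤ}
    (hD : TenD M W₁ W₂ η μ e n X τ₁ ζ 0 a c r)
    (hΓ : tauM M (colI μ 1 - ζ) = colI η 1 - τ₁ ζ) {ψ : Lin W₁ W₂} (hψ : IsJ W₁ W₂ ψ)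
    (h1 : ψ ≠ 1) :
    tauM M (colI μ ψ - (d : ℂ) • ζ) = (e : ℂ) • colI η ψ - (d : ℂ) • τ₁ ζ := by
  have F := T.F
  have hn : (n : ℂ) * (Nat.card W₁ : ℂ) = d - e := by exact_mod_cast T.hn
  have e1 : colI μ ψ - (d : ℂ) • ζ =
      ∑ φ ∈ idxI W₁ W₂, alph μ e n ζ φ ψ + (e : ℂ) • (colI μ 1 - ζ) := by
    rw [sum_alph T]
    have : (d : ℂ) = ((n * Nat.card W₁ : ℤ) : ℂ) + e := by push_cast; rw [hn]; ring
    rw [this, smul_sub, add_smul]; abel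
  have e2 : ∀ φ ∈ idxI W₁ W₂, tauM M (alph μ e n ζ φ ψ) =
      (e : ℂ) • η (φ * ψ) - (e : ℂ) • η (φ * 1) - (n : ℂ) • τ₁ ζ := by
    intro φ hφ
    rw [hD.eq φ ψ (mem_idxI.1 hφ) hψ h1, add_zero, smul_sub, lin_mul_one]
  rw [e1, tauM_add, tauM_smul, hΓ, tauM_sum, Finset.sum_congr rfl e2, Finset.sum_sub_distrib,
    Finset.sum_sub_distrib, ← Finset.smul_sum, ← Finset.smul_sum, Finset.sum_const,
    card_idxI T.F.hW, ← Nat.cast_smul_eq_nsmul ℂ, smul_smul, mul_comm, hn]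
  have : (d : ℂ) - e = (d : ℂ) - e := rfl
  change (e : ℂ) • colI η ψ - (e : ℂ) • colI η 1 - ((d : ℂ) - e) • τ₁ ζ +
    (e : ℂ) • (colI η 1 - τ₁ ζ) = _
  rw [sub_smul, smul_sub]; abel

/-- then `X ∪ {μ_j | j ≠ 0}` is coherent -/
theorem ten_cols_coh (h : ∀ ψ, IsJ W₁ W₂ ψ → ψ ≠ 1 →
      tauM M (colI μ ψ - (d : ℂ) • ζ) = (e : ℂ) • colI η ψ - (d : ℂ) • τ₁ ζ) :
    ∃ τ₂, CohMap ((X : Set (↥M → ℂ)) ∪ {χ | ∃ ψ, IsJ W₁ W₂ ψ ∧ ψ ≠ 1 ∧ χ = colI μ ψ})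
      (tauM M) τ₂ ∧ (∀ χ ∈ X, τ₂ χ = τ₁ χ) ∧
      ∀ ψ, IsJ W₁ W₂ ψ → ψ ≠ 1 → τ₂ (colI μ ψ) = (e : ℂ) • colI η ψ := by
  classical
  have F := T.F
  obtain ⟨R, hR, -⟩ := F.cohSys
  have key : ∀ A : Finset (Lin W₁ W₂), A ⊆ (idxJ W₁ W₂).erase 1 →
      ∃ τ₂, CohMap ((X : Set (↥M → ℂ)) ∪ {χ | ∃ ψ ∈ A, χ = colI μ ψ})
        (tauM M) τ₂ ∧ (∀ χ ∈ X, τ₂ χ = τ₁ χ) ∧
        ∀ ψ ∈ A, τ₂ (colI μ ψ) = (e : ℂ) • colI η ψ := by
    intro A
    induction A using Finset.induction with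
    | empty =>
      intro _
      refine ⟨τ₁, ?_, fun _ _ => rfl, by simp⟩
      have : (X : Set (↥M → ℂ)) ∪ {χ | ∃ ψ ∈ (∅ : Finset (Lin W₁ W₂)), χ = colI μ ψ} = X := by
        ext χ; simp
      rw [this]
      exact hX.coh
    | insert ψ A hψA ih =>
      intro hA
      obtain ⟨τ₂, h2, h2X, h2A⟩ := ih (fun x hx => hA (Finset.mem_insert_of_mem hx))
      have hψm := hA (Finset.mem_insert_self ψ A)
      rw [Finset.mem_erase, mem_idxJ] at hψm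
      obtain ⟨h1, hψ⟩ := hψm
      have hAJ : ∀ ψ' ∈ A, IsJ W₁ W₂ ψ' ∧ ψ' ≠ 1 := by
        intro ψ' hψ'
        have := hA (Finset.mem_insert_of_mem hψ')
        rw [Finset.mem_erase, mem_idxJ] at this
        exact ⟨this.2, this.1⟩
      set S : Set (↥M → ℂ) := (X : Set (↥M → ℂ)) ∪ {χ | ∃ ψ ∈ A, χ = colI μ ψ} with hS
      have hins : (X : Set (↥M → ℂ)) ∪ {χ | ∃ ψ' ∈ insert ψ A, χ = colI μ ψ'} =
          insert (colI μ ψ) S := by
        ext χ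
        simp only [hS, Set.mem_union, Set.mem_setOf_eq, Set.mem_insert_iff, Finset.mem_insert]
        constructor
        · rintro (h | ⟨ψ', rfl | h', rfl⟩)
          · exact Or.inr (Or.inl h)
          · exact Or.inl rfl
          · exact Or.inr (Or.inr ⟨ψ', h', rfl⟩)
        · rintro (rfl | h | ⟨ψ', h', rfl⟩)
          · exact Or.inr ⟨ψ, Or.inl rfl, rfl⟩
          · exact Or.inl h
          · exact Or.inr ⟨ψ', Or.inr h', rfl⟩
      have hsub : insert (colI μ ψ) S ⊆ SM M ⊥ := by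
        intro χ hχ
        rcases hχ with rfl | h | ⟨ψ', h', rfl⟩
        · exact F.col_mem hψ h1
        · exact hX.sub h
        · exact F.col_mem (hAJ ψ' h').1 (hAJ ψ' h').2
      have hζS : ζ ∈ S := Or.inl hζ
      have hcol1 : colI μ ψ 1 = (d : ℤ) * ζ 1 := by
        rw [F.col_one, T.mu_one ψ (not_isI_J F.hW hψ h1), hX.deg ζ hζ]; push_cast; ring
      have hXval : (e : ℂ) • colI η ψ = tauM M (colI μ ψ - (d : ℤ) • ζ) + (d : ℤ) • τ₂ ζ := by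
        have e1 := h ψ hψ h1
        rw [zsmul_eq_smul, zsmul_eq_smul, h2X ζ hζ]
        have e2 : (((d : ℤ) : ℂ)) = (d : ℂ) := by simp
        rw [e2, e1]; abel
      obtain ⟨τ₃, h3, h3S, h3ψ⟩ := h2.insert (χ := colI μ ψ) (χ₁ := ζ) (a := d)
        (iso_mono hR.isometry (fun α hα => zspanOn_mono hsub hα)) (by
          intro φ hφ
          rcases hφ with hφ | ⟨ψ', h', rfl⟩
          · exact (col_inner_X T hX hφ ψ).1
          · rw [F.col_inner hψ (hAJ ψ' h').1, if_neg]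
            rintro rfl
            exact hψA h') (by
          rw [F.col_inner hψ hψ, if_pos rfl]
          exact_mod_cast Nat.card_pos.ne') hζS hcol1 hXval (by
          intro φ hφ
          rcases hφ with hφ | ⟨ψ', h', rfl⟩
          · rw [h2X φ hφ, classInner_smul_left, (eta_col_inner_t1 T hX hφ ψ).1, mul_zero]
          · rw [h2A ψ' h', classInner_smul_left, classInner_smul_right,
              F.eta_col_inner hψ (hAJ ψ' h').1, if_neg, mul_zero, mul_zero]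
            rintro rfl
            exact hψA h') (by
          rw [classInner_smul_left, classInner_smul_right, conj_int, F.col_inner hψ hψ, if_pos rfl,
            F.eta_col_inner hψ hψ, if_pos rfl, ← mul_assoc, T.e_sqC, one_mul])
      refine ⟨τ₃, by rw [hins]; exact h3, fun χ hχ => ?_, fun ψ' hψ' => ?_⟩
      · rw [h3S χ (zspan_mem (Or.inl hχ)), h2X χ hχ]
      · rcases Finset.mem_insert.1 hψ' with rfl | h'
        · exact h3ψ
        · rw [h3S _ (zspan_mem (Or.inr ⟨ψ', h', rfl⟩)), h2A ψ' h']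
  obtain ⟨τ₂, h2, h3, h4⟩ := key _ subset_rfl
  refine ⟨τ₂, ?_, h3, fun ψ hψ h1 => h4 ψ (Finset.mem_erase.2 ⟨h1, mem_idxJ.2 hψ⟩)⟩
  have : {χ : ↥M → ℂ | ∃ ψ, IsJ W₁ W₂ ψ ∧ ψ ≠ 1 ∧ χ = colI μ ψ} =
      {χ | ∃ ψ ∈ (idxJ W₁ W₂).erase 1, χ = colI μ ψ} := by
    ext χ
    simp only [Set.mem_setOf_eq, Finset.mem_erase, mem_idxJ]
    constructor
    · rintro ⟨ψ, a, b, c⟩; exact ⟨ψ, ⟨b, a⟩, c⟩
    · rintro ⟨ψ, ⟨b, a⟩, c⟩; exact ⟨ψ, a, b, c⟩
  rw [this]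
  exact h2

end

end Cfsg.Agent.PF
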