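import Cfsg.Agent.PF.FrobAct
import Cfsg.Agent.PF.TypesW
import Cfsg.Agent.H23.Coprime5
import Cfsg.Agent.S1387
import Cfsg.Agent.S1388

set_option autoImplicit false
set_option linter.all false

/-! PF section 11, group theoretic part 1.  (helper22) -/

namespace Cfsg.Agent.PF

open Subgroup
open Cfsg.Agent.L (cj nz SylIn)
open Cfsg.Agent.H14 (IsPiSub)
open Cfsg.Agent.OOT
open Cfsg.Agent.H21
open scoped Pointwise commutatorElement

universe u
variable {G : Type u} [Group G]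

/-- `H₀ = C_H(U)` -/
def HZ (M U : Subgroup G) : Subgroup G := fittingHallOf M ⊓ centralizer (U : Set G)

/-- `C = C_U(H)` -/
def CZ (M U : Subgroup G) : Subgroup G := U ⊓ centralizer (fittingHallOf M : Set G)

/-- hypotheses for the group theoretic part of PF section 11 -/
structure IsD1 (M W₁ U W₂ : Subgroup G) : Prop where
  h : IsTypePWith M W₁ U W₂
  hU : U ≠ ⊥
  hq : (Nat.card W₁).Prime
  hp : (Nat.card W₂).Prime
  odd : Odd (Nat.card M)

theorem HZ_le {M U : Subgroup G} : HZ M U ≤ fittingHallOf M := inf_le_left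
theorem CZ_le {M U : Subgroup G} : CZ M U ≤ U := inf_le_left

/-- normalizer helper: `K ≤ nz A`, `K ≤ nz B` imply `K ≤ nz ⁅A, B⁆`. -/
theorem le_nz_comm {K A B : Subgroup G} (hA : K ≤ nz A) (hB : K ≤ nz B) : K ≤ nz ⁅A, B⁆ := by
  intro x hx
  rw [L.mem_nz_iff, ← cj_commutator, L.mem_nz_iff.1 (hA hx), L.mem_nz_iff.1 (hB hx)]

theorem le_nz_cent {K A : Subgroup G} (hA : K ≤ nz A) : K ≤ nz (centralizer (A : Set G)) := by
  intro x hx
  rw [L.mem_nz_iff, cj_centralizer, L.mem_nz_iff.1 (hA hx)]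

theorem le_nz_inf {K A B : Subgroup G} (hA : K ≤ nz A) (hB : K ≤ nz B) : K ≤ nz (A ⊓ B) := by
  intro x hx
  rw [L.mem_nz_iff, cj_inf, L.mem_nz_iff.1 (hA hx), L.mem_nz_iff.1 (hB hx)]

theorem le_nz_sup {K A B : Subgroup G} (hA : K ≤ nz A) (hB : K ≤ nz B) : K ≤ nz (A ⊔ B) := by
  intro x hx
  rw [L.mem_nz_iff, cj_sup, L.mem_nz_iff.1 (hA hx), L.mem_nz_iff.1 (hB hx)]

theorem nz_of_der_le {A B : Subgroup G} (hBA : B ≤ A) (h : ⁅A, A⁆ ≤ B) : A ≤ nz B := by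
  refine H23.le_normalizer_of_conj_mem fun a ha b hb => ?_
  have : a * b * a⁻¹ = ⁅a, b⁆ * b := by rw [commutatorElement_def]; group
  rw [this]
  exact mul_mem (h (commutator_mem_commutator ha (hBA hb))) hb

theorem card_mul_relIndex' {A B : Subgroup G} (h : A ≤ B) :
    Nat.card A * A.relIndex B = Nat.card B := by
  have := Subgroup.relIndex_mul_relIndex ⊥ A B bot_le h
  rwa [relIndex_bot_left, relIndex_bot_left] at this

variable [Finite G]
variable {M W₁ U W₂ : Subgroup G}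

namespace IsD1

theorem W₁_nz_H (D : IsD1 M W₁ U W₂) : W₁ ≤ nz (fittingHallOf M) :=
  D.h.W₁_le.trans (le_normalizer_fhOf M)

theorem U_nz_H (D : IsD1 M W₁ U W₂) : U ≤ nz (fittingHallOf M) :=
  D.h.U_le.trans (le_normalizer_fhOf M)

theorem formula (D : IsD1 M W₁ U W₂) {X : Subgroup G} (hX : X ≤ fittingHallOf M)
    (hUX : U ≤ nz X) (hWX : W₁ ≤ nz X) :
    Nat.card ↥(X ⊓ centralizer ((U ⊔ W₁ : Subgroup G) : Set G)) ^ Nat.card W₁ * Nat.card X =
      Nat.card ↥(X ⊓ W₂) ^ Nat.card W₁ * Nat.card ↥(X ⊓ centralizer (U : Set G)) := by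
  have h := D.h
  have hcard : (Nat.card X).Coprime (Nat.card ↥(U ⊔ W₁)) := by
    rw [U_sup_W₁_card h]
    exact Nat.Coprime.mul_right
      (Nat.Coprime.coprime_dvd_left (Subgroup.card_dvd_of_le hX) h.coprime_HU)
      (Nat.Coprime.coprime_dvd_left (Subgroup.card_dvd_of_le hX) h.coprime_HW₁)
  have hsol : Group.IsSolvable X := by
    have := fhOf_nilpotent M
    exact H1.isSolvable_of_le hX inferInstance
  have key := Cfsg.Agent.S1545.result U W₁ X D.hU h.W₁_ne (U_inf_W₁ h)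
    (fun e he u hu => (Subgroup.mem_normalizer_iff.1 (h.U_normal he) _).1 hu)
    (fun e he he1 u hu hc => fix_W₁_U h he he1 hu hc)
    (fun x hx y hy => (Subgroup.mem_normalizer_iff.1 ((sup_le hUX hWX) hx) _).1 hy)
    (H1.inf_eq_bot_of_card_coprime hcard) hsol hcard
  rwa [inf_cent_W₁ h (hX.trans h.H_le')] at key

/-- `U` does not centralize `H` -/
theorem not_cent (D : IsD1 M W₁ U W₂) : ¬ U ≤ centralizer (fittingHallOf M : Set G) :=
  (S1388.result M W₁ U W₂ D.h).2 D.hU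

theorem HZ_ne (D : IsD1 M W₁ U W₂) : HZ M U ≠ fittingHallOf M := by
  intro e
  apply D.not_cent
  rw [le_cent_comm]
  rw [← e]
  exact inf_le_right

theorem fix_bot (D : IsD1 M W₁ U W₂) :
    fittingHallOf M ⊓ centralizer ((U ⊔ W₁ : Subgroup G) : Set G) = ⊥ := by
  have h := D.h
  set B := fittingHallOf M ⊓ centralizer ((U ⊔ W₁ : Subgroup G) : Set G) with hB
  have hBW : B ≤ W₂ := by
    have h1 : B ≤ fittingHallOf M ⊓ centralizer (W₁ : Set G) :=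
      inf_le_inf_left _ (Subgroup.centralizer_le (SetLike.coe_subset_coe.2 le_sup_right))
    rw [inf_cent_W₁ h h.H_le'] at h1
    exact h1.trans inf_le_right
  rcases (Nat.dvd_prime D.hp).1 (Subgroup.card_dvd_of_le hBW) with e | e
  · exact Subgroup.card_eq_one.1 e
  · exfalso
    have k := D.formula le_rfl D.U_nz_H D.W₁_nz_H
    rw [← hB, e, inf_eq_right.2 h.W₂_le_H] at k
    have hpos : 0 < Nat.card W₂ ^ Nat.card W₁ := pow_pos Nat.card_pos _
    have k2 := Nat.eq_of_mul_eq_mul_left hpos k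
    exact D.HZ_ne (Subgroup.eq_of_le_of_card_ge HZ_le k2.le)

/-- the order of an invariant subgroup of `H` -/
theorem card_inv (D : IsD1 M W₁ U W₂) {X : Subgroup G} (hX : X ≤ fittingHallOf M)
    (hUX : U ≤ nz X) (hWX : W₁ ≤ nz X) :
    Nat.card X =
      Nat.card ↥(X ⊓ W₂) ^ Nat.card W₁ * Nat.card ↥(X ⊓ centralizer (U : Set G)) := by
  have k := D.formula hX hUX hWX
  have hb : X ⊓ centralizer ((U ⊔ W₁ : Subgroup G) : Set G) = ⊥ := by
    rw [eq_bot_iff, ← D.fix_bot]; exact inf_le_inf_right _ hX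
  rw [hb] at k
  simpa using k

theorem card_H (D : IsD1 M W₁ U W₂) :
    Nat.card (fittingHallOf M) = Nat.card W₂ ^ Nat.card W₁ * Nat.card (HZ M U) := by
  have k := D.card_inv le_rfl D.U_nz_H D.W₁_nz_H
  rwa [inf_eq_right.2 D.h.W₂_le_H] at k

theorem between (D : IsD1 M W₁ U W₂) {X : Subgroup G} (hX : X ≤ fittingHallOf M)
    (hX0 : HZ M U ≤ X) (hUX : U ≤ nz X) (hWX : W₁ ≤ nz X) :
    X = HZ M U ∨ X = fittingHallOf M := by
  have k1 := D.card_inv hX hUX hWX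
  have e0 : X ⊓ centralizer (U : Set G) = HZ M U := by
    apply le_antisymm
    · exact inf_le_inf_right _ hX
    · exact le_inf hX0 inf_le_right
  rw [e0] at k1
  have hd : Nat.card ↥(X ⊓ W₂) ∣ Nat.card W₂ := Subgroup.card_dvd_of_le inf_le_right
  rcases (Nat.dvd_prime D.hp).1 hd with e | e
  · left
    rw [e, one_pow, one_mul] at k1
    exact (Subgroup.eq_of_le_of_card_ge hX0 k1.le).symm
  · right
    rw [e, ← D.card_H] at k1
    exact Subgroup.eq_of_le_of_card_ge hX k1.ge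

theorem derH_le (D : IsD1 M W₁ U W₂) : ⁅fittingHallOf M, fittingHallOf M⁆ ≤ HZ M U := by
  have hn := fhOf_nilpotent M
  have hU0 : U ≤ nz (HZ M U) :=
    le_nz_inf D.U_nz_H (le_nz_cent (L.le_nz U))
  have hW0 : W₁ ≤ nz (HZ M U) := le_nz_inf D.W₁_nz_H (le_nz_cent D.h.U_normal)
  have hle : HZ M U ⊔ ⁅fittingHallOf M, fittingHallOf M⁆ ≤ fittingHallOf M :=
    sup_le HZ_le (Subgroup.commutator_le_self _)
  rcases D.between hle le_sup_left (le_nz_sup hU0 (le_nz_comm D.U_nz_H D.U_nz_H))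
    (le_nz_sup hW0 (le_nz_comm D.W₁_nz_H D.W₁_nz_H)) with e | e
  · rw [← e]; exact le_sup_right
  · exact absurd (H23.eq_of_sup_commutator hn HZ_le e.ge) D.HZ_ne

theorem H_nz_HZ (D : IsD1 M W₁ U W₂) : fittingHallOf M ≤ nz (HZ M U) :=
  nz_of_der_le HZ_le D.derH_le

theorem U_nz_HZ (D : IsD1 M W₁ U W₂) : U ≤ nz (HZ M U) :=
  le_nz_inf D.U_nz_H (le_nz_cent (L.le_nz U))

theorem W₁_nz_HZ (D : IsD1 M W₁ U W₂) : W₁ ≤ nz (HZ M U) :=
  le_nz_inf D.W₁_nz_H (le_nz_cent D.h.U_normal)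

theorem M'_eq (D : IsD1 M W₁ U W₂) : fittingHallOf M ⊔ U = ⁅M, M⁆ := complIn_sup D.h.U_compl

theorem M_eq (D : IsD1 M W₁ U W₂) : fittingHallOf M ⊔ U ⊔ W₁ = M := by
  rw [D.M'_eq]; exact complIn_sup D.h.W₁_compl

theorem M_nz (D : IsD1 M W₁ U W₂) {X : Subgroup G} (h1 : fittingHallOf M ≤ nz X)
    (h2 : U ≤ nz X) (h3 : W₁ ≤ nz X) : M ≤ nz X := by
  conv_lhs => rw [← D.M_eq]
  exact sup_le (sup_le h1 h2) h3

theorem M_nz_HZ (D : IsD1 M W₁ U W₂) : M ≤ nz (HZ M U) :=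
  D.M_nz D.H_nz_HZ D.U_nz_HZ D.W₁_nz_HZ

theorem M_nz_H (D : IsD1 M W₁ U W₂) : M ≤ nz (fittingHallOf M) := le_normalizer_fhOf M

theorem H_nz_CZ (_D : IsD1 M W₁ U W₂) : fittingHallOf M ≤ nz (CZ M U) := by
  have : fittingHallOf M ≤ centralizer (CZ M U : Set G) := le_cent_comm.1 inf_le_right
  exact this.trans (cent_le_nz _)

theorem M_nz_CZ (D : IsD1 M W₁ U W₂) : M ≤ nz (CZ M U) :=
  D.M_nz D.H_nz_CZ (le_nz_inf (L.le_nz U) (le_nz_cent D.U_nz_H))
    (le_nz_inf D.h.U_normal (le_nz_cent D.W₁_nz_H))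

theorem M_nz_HC (D : IsD1 M W₁ U W₂) : M ≤ nz (fittingHallOf M ⊔ CZ M U) :=
  le_nz_sup D.M_nz_H D.M_nz_CZ

theorem M_nz_H₀C (D : IsD1 M W₁ U W₂) : M ≤ nz (HZ M U ⊔ CZ M U) :=
  le_nz_sup D.M_nz_HZ D.M_nz_CZ

theorem CZ_ne (D : IsD1 M W₁ U W₂) : CZ M U ≠ U := by
  intro e
  apply D.not_cent
  conv_lhs => rw [← e]
  exact inf_le_right

theorem derU_le (D : IsD1 M W₁ U W₂) : ⁅U, U⁆ ≤ CZ M U :=
  le_inf (Subgroup.commutator_le_self _) (S1388.result M W₁ U W₂ D.h).1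

theorem fitting (D : IsD1 M W₁ U W₂) : fittingOf M = fittingHallOf M ⊔ CZ M U :=
  S1387.result M W₁ U W₂ D.h

theorem der2_le (D : IsD1 M W₁ U W₂) : ⁅⁅M, M⁆, ⁅M, M⁆⁆ ≤ fittingHallOf M ⊔ CZ M U := by
  rw [← D.fitting, ← D.h.fitting_eq]
  exact D.h.derived_two_le

theorem HC_le (D : IsD1 M W₁ U W₂) : fittingHallOf M ⊔ CZ M U ≤ ⁅M, M⁆ :=
  sup_le D.h.H_le' (CZ_le.trans D.h.U_le')

theorem nil_HC (D : IsD1 M W₁ U W₂) : Group.IsNilpotent ↥(fittingHallOf M ⊔ CZ M U) := by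
  rw [← D.fitting]
  exact OOT.fittingOf_nilpotent M

/-! ### orders -/

theorem card_sup_of (D : IsD1 M W₁ U W₂) {A B : Subgroup G} (hA : A ≤ fittingHallOf M)
    (hB : B ≤ U) (hn : B ≤ nz A) : Nat.card ↥(A ⊔ B) = Nat.card A * Nat.card B := by
  have hc : (Nat.card A).Coprime (Nat.card B) :=
    Nat.Coprime.coprime_dvd_left (Subgroup.card_dvd_of_le hA)
      (Nat.Coprime.coprime_dvd_right (Subgroup.card_dvd_of_le hB) D.h.coprime_HU)
  have h1 := complIn_of_sup (A := A) (B := B) hn (H1.inf_eq_bot_of_card_coprime hc) rfl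
  exact (complIn_card h1).symm

theorem p_ne_q (D : IsD1 M W₁ U W₂) : Nat.card W₂ ≠ Nat.card W₁ := by
  intro e
  have h1 : (Nat.card W₂).Coprime (Nat.card W₁) :=
    Nat.Coprime.coprime_dvd_left (Subgroup.card_dvd_of_le D.h.W₂_le_H) D.h.coprime_HW₁
  rw [e] at h1
  exact D.hq.one_lt.ne' ((Nat.coprime_self _).1 h1)

theorem q_odd (D : IsD1 M W₁ U W₂) : Odd (Nat.card W₁) :=
  Odd.of_dvd_nat D.odd (Subgroup.card_dvd_of_le D.h.W₁_le)

theorem p_odd (D : IsD1 M W₁ U W₂) : Odd (Nat.card W₂) :=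
  Odd.of_dvd_nat D.odd (Subgroup.card_dvd_of_le D.h.W₂_le_M)

/-- the order of a `W₁`-invariant subgroup of `M'` modulo `q`. -/
theorem card_mod (D : IsD1 M W₁ U W₂) {X : Subgroup G} (hX : X ≤ ⁅M, M⁆) (hW : W₁ ≤ nz X) :
    Nat.card X ≡ Nat.card ↥(X ⊓ W₂) [MOD Nat.card W₁] := by
  haveI : Fact (Nat.card W₁).Prime := ⟨D.hq⟩
  have hP : IsPGroup (Nat.card W₁) W₁ := IsPGroup.of_card (n := 1) (by rw [pow_one])
  letI act : MulAction W₁ X :=
    { smul := fun a g => ⟨(a : G) * g * (a : G)⁻¹, H23.mem_normalizer_conj hW a.2 g.2⟩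
      one_smul := fun g => Subtype.ext (by
        show ((1 : W₁) : G) * g * ((1 : W₁) : G)⁻¹ = g
        simp)
      mul_smul := fun a b g => Subtype.ext (by
        show ((a * b : W₁) : G) * g * ((a * b : W₁) : G)⁻¹ = a * (b * g * (b : G)⁻¹) * (a : G)⁻¹
        simp [mul_assoc]) }
  have h1 := hP.card_modEq_card_fixedPoints X
  have h2 : Nat.card (MulAction.fixedPoints W₁ X) = Nat.card ↥(X ⊓ W₂) := by
    rw [← inf_cent_W₁ D.h hX]
    refine Nat.card_congr ⟨fun g => ⟨(g : X), ?_⟩, fun g => ⟨⟨(g : G), g.2.1⟩, ?_⟩, ?_, ?_⟩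
    · refine ⟨(g : X).2, mem_cent_iff.2 fun y hy => ?_⟩
      have h3 : y * ((g : X) : G) * y⁻¹ = (g : X) := congrArg Subtype.val (g.2 ⟨y, hy⟩)
      rw [mul_inv_eq_iff_eq_mul] at h3
      exact h3.symm
    · intro y
      apply Subtype.ext
      show (y : G) * (g : G) * (y : G)⁻¹ = g
      rw [mul_inv_eq_iff_eq_mul]
      exact (mem_cent_iff.1 g.2.2 y y.2).symm
    · intro g; rfl
    · intro g; rfl
  rw [h2] at h1
  exact h1

/-- `W₁`-invariant subgroups of `U` have order `≡ 1 mod 2q`. -/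
theorem card_mod_U (D : IsD1 M W₁ U W₂) {X : Subgroup G} (hX : X ≤ U) (hW : W₁ ≤ nz X) :
    Nat.card X ≡ 1 [MOD 2 * Nat.card W₁] := by
  have h1 := D.card_mod (hX.trans D.h.U_le') hW
  have h2 : X ⊓ W₂ = ⊥ := by
    rw [eq_bot_iff, ← D.h.U_compl.2.2.1]
    exact le_inf (inf_le_right.trans D.h.W₂_le_H) (inf_le_left.trans hX)
  rw [h2, Subgroup.card_bot] at h1
  have h3 : Odd (Nat.card X) :=
    Odd.of_dvd_nat D.odd (Subgroup.card_dvd_of_le (hX.trans D.h.U_le))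
  have h4 : Nat.card X ≡ 1 [MOD 2] := Nat.odd_iff.1 h3
  exact (Nat.modEq_and_modEq_iff_modEq_mul
    (Nat.coprime_two_left.2 D.q_odd)).1 ⟨h4, h1⟩

/-- indices of `W₁`-invariant subgroups of `M'` with the same intersection with `W₂`. -/
theorem relIndex_mod (D : IsD1 M W₁ U W₂) {X Y : Subgroup G} (hXY : X ≤ Y) (hY : Y ≤ ⁅M, M⁆)
    (hWX : W₁ ≤ nz X) (hWY : W₁ ≤ nz Y) (he : X ⊓ W₂ = Y ⊓ W₂) :
    X.relIndex Y ≡ 1 [MOD 2 * Nat.card W₁] := by
  have h1 := D.card_mod (hXY.trans hY) hWX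
  have h2 := D.card_mod hY hWY
  rw [← he] at h2
  have h3 : Nat.card X * X.relIndex Y = Nat.card Y := card_mul_relIndex' hXY
  have h5 : Nat.card X * X.relIndex Y ≡ Nat.card X * 1 [MOD Nat.card W₁] := by
    rw [h3, mul_one]; exact h2.trans h1.symm
  have hc : (Nat.card W₁).Coprime (Nat.card X) :=
    Nat.Coprime.coprime_dvd_right (Subgroup.card_dvd_of_le (hXY.trans hY)) D.h.coprime_W₁
  have h6 := Nat.ModEq.cancel_left_of_coprime hc h5
  have h7 : Odd (X.relIndex Y) := by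
    have : X.relIndex Y ∣ Nat.card Y := ⟨Nat.card X, by rw [← h3, mul_comm]⟩
    exact Odd.of_dvd_nat D.odd (this.trans (Subgroup.card_dvd_of_le
      (hY.trans (commutator_le_self M))))
  exact (Nat.modEq_and_modEq_iff_modEq_mul
    (Nat.coprime_two_left.2 D.q_odd)).1 ⟨Nat.odd_iff.1 h7, h6⟩

end IsD1

end Cfsg.Agent.PF
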