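import Cfsg.Agent.PF.SecD9

set_option autoImplicit false
set_option linter.all false

/-! PF section 11: (11.8) coherence part.  (helper22) -/

namespace Cfsg.Agent.PF

open Subgroup ComplexConjugate
open Cfsg.Agent.L (nz SylIn)
open Cfsg.Agent.H21
open Cfsg.Agent.H3
open scoped Pointwise commutatorElement

universe u
variable {G : Type u} [Group G]

variable [Fintype G] {M W₁ U W₂ : Subgroup G} [Fintype ↥M] {η : Lin W₁ W₂ → G → ℂ}
    {μ : Lin W₁ W₂ → ↥M → ℂ} {δ : Lin W₁ W₂ → ℤ}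

namespace IsD2

theorem col_one (D : IsD2 M W₁ U W₂ η μ δ) {n : ℤ} (T : IsTen M W₁ U W₂ η μ δ (uu M U) 1 n)
    {ψ : Lin W₁ W₂} (h : IsJ W₁ W₂ ψ) (h1 : ψ ≠ 1) :
    colI μ ψ 1 = ((Nat.card W₁ * uu M U : ℕ) : ℂ) := by
  rw [D.F.col_on ψ (one_mem _), T.mu_one ψ (not_isI_of_isJ h h1)]
  push_cast; rfl

/-- if `X ∪ {μ_j}` is coherent, we get a contradiction. -/
theorem false_of_cols (D : IsD2 M W₁ U W₂ η μ δ) {n : ℤ}
    (T : IsTen M W₁ U W₂ η μ δ (uu M U) 1 n) {X : Finset (↥M → ℂ)} {τ₁ : (↥M → ℂ) → G → ℂ}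
    (hX : IsXCoh M W₁ X τ₁) {ζ : ↥M → ℂ} (hζ : ζ ∈ X) {τ₂ : (↥M → ℂ) → G → ℂ}
    (h : CohMap ((X : Set (↥M → ℂ)) ∪ {χ | ∃ ψ, IsJ W₁ W₂ ψ ∧ ψ ≠ 1 ∧ χ = colI μ ψ})
      (tauM M) τ₂) : False := by
  classical
  apply D.not_coh_H₀C
  obtain ⟨R, hR⟩ := D.exists_R
  haveI := Fintype.ofFinite (IrrCharacter ↥(commutator ↥M))
  have D1 := D.D1
  have hM' : (⁅M, M⁆ : Subgroup G) ≤ M := commutator_le_self M
  set A : Subgroup ↥M := (HZ M U ⊔ CZ M U).subgroupOf M with hA
  haveI n1 : A.Normal := subgroupOf_normal D1.M_nz_H₀C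
  have hKn : (commutator ↥M).Normal := inferInstance
  -- the finset of columns
  let cols : Finset (↥M → ℂ) := ((idxJ W₁ W₂).erase 1).image (fun ψ => colI μ ψ)
  have hcols : ∀ χ, χ ∈ cols ↔ ∃ ψ, IsJ W₁ W₂ ψ ∧ ψ ≠ 1 ∧ χ = colI μ ψ := by
    intro χ
    simp only [cols, Finset.mem_image, Finset.mem_erase, mem_idxJ]
    constructor
    · rintro ⟨ψ, ⟨h1, h2⟩, rfl⟩; exact ⟨ψ, h2, h1, rfl⟩
    · rintro ⟨ψ, h1, h2, rfl⟩; exact ⟨ψ, ⟨h2, h1⟩, rfl⟩
  have hZeq : (↑(X ∪ cols) : Set (↥M → ℂ)) =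
      (X : Set (↥M → ℂ)) ∪ {χ | ∃ ψ, IsJ W₁ W₂ ψ ∧ ψ ≠ 1 ∧ χ = colI μ ψ} := by
    rw [Finset.coe_union]
    congr 1
    ext χ
    exact hcols χ
  have hSMb : inducedIrrAbove (commutator ↥M) ⊥ = SM M ⊥ := (D.SM_eq ⊥).symm
  have hXS : (↑(X ∪ cols) : Set (↥M → ℂ)) ⊆ inducedIrrAbove (commutator ↥M) ⊥ := by
    rw [hSMb, Finset.coe_union]
    apply Set.union_subset hX.sub
    intro χ hχ
    obtain ⟨ψ, h1, h2, rfl⟩ := (hcols χ).1 hχ
    exact D.F.col_mem h1 h2
  have hYS : (↑(Sa (K := commutator ↥M) A) : Set (↥M → ℂ)) ⊆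
      inducedIrrAbove (commutator ↥M) ⊥ := by
    rw [coe_Sa]; exact above_mono bot_le
  have hXc : ∀ φ ∈ X ∪ cols, conjFun φ ∈ X ∪ cols := by
    intro φ hφ
    rcases Finset.mem_union.1 hφ with hφ | hφ
    · exact Finset.mem_union_left _ (hX.conj_mem φ hφ)
    · apply Finset.mem_union_right
      obtain ⟨ψ, h1, h2, rfl⟩ := (hcols φ).1 hφ
      rw [hcols]
      exact ⟨ψ⁻¹, h1.inv, fun e => h2 (by
        rw [← inv_inv ψ, e]; exact inv_one (G := Lin W₁ W₂)), D.F.col_conj ψ⟩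
  have hinj : Set.InjOn (fun ψ => colI μ ψ) ((idxJ W₁ W₂).erase 1 : Finset (Lin W₁ W₂)) := by
    intro ψ hψ ψ' hψ' e
    rw [Finset.mem_coe, Finset.mem_erase, mem_idxJ] at hψ hψ'
    by_contra hne
    have h1 := D.F.col_inner hψ.2 hψ'.2
    rw [if_neg hne] at h1
    have h2 := D.F.col_inner hψ'.2 hψ'.2
    rw [if_pos rfl] at h2
    simp only at e
    rw [e, h2] at h1
    exact Nat.card_pos.ne' (by exact_mod_cast h1)
  have hq := D.q_ge
  have hp := D.p_ge
  have hu := u_gt D1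
  have hdgζ : dg ζ = Nat.card W₁ := dg_of_eq (hX.deg ζ hζ)
  have hind : (commutator ↥M).index = Nat.card W₁ := D.index_K
  obtain ⟨τ₃, h3, -⟩ := coh_extend hR (X ∪ cols) (Sa (K := commutator ↥M) A) hXS hYS hXc
    (fun φ hφ => mem_Sa.2 (conj_above (mem_Sa.1 hφ))) (by rw [hZeq]; exact h) (by
      intro S₁ hX1 hS1 hc hY
      obtain ⟨χ, hχY, hχ⟩ := Finset.not_subset.1 hY
      refine ⟨χ, hχY, hχ, ζ, hX1 (Finset.mem_union_left _ hζ), ?_, ?_⟩
      · obtain ⟨θ, hθ, -, -, rfl⟩ := mem_Sa.1 hχY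
        rw [hdgζ, dg_ind (irr_isChar hθ), hind]
        exact Dvd.intro _ rfl
      · obtain ⟨θ, hθ, -, hθB, rfl⟩ := mem_Sa.1 hχY
        have hdeg := deg_bound (K := commutator ↥M) (B := A)
          (C := (fittingHallOf M ⊔ CZ M U).subgroupOf M)
          (D := (fittingHallOf M ⊔ CZ M U).subgroupOf M) le_rfl (by
            rw [commutator_subOf]; exact Subgroup.comap_mono D1.HC_le) (by
            intro x hx y hy
            rw [mem_subgroupOf] at hx hy
            rw [hA, mem_subgroupOf]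
            exact der_HC_le D1 (commutator_mem_commutator hx hy)) hθ hθB
        have hrel : ((fittingHallOf M ⊔ CZ M U).subgroupOf M).relIndex (commutator ↥M) = uu M U := by
          rw [commutator_subOf, relIndex_subOf hM', index_HC D1]; rfl
        rw [relIndex_self, mul_one, hrel] at hdeg
        have hdeg' : dg θ ≤ uu M U := by
          by_contra hcon
          push Not at hcon
          have : uu M U ^ 2 < dg θ ^ 2 := Nat.pow_lt_pow_left hcon (by norm_num)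
          exact absurd hdeg (not_le.2 this)
        have h4 : ∑ φ ∈ cols, ((dg φ : ℝ) ^ 2 / nm φ) ≤ ∑ φ ∈ S₁, ((dg φ : ℝ) ^ 2 / nm φ) :=
          Finset.sum_le_sum_of_subset_of_nonneg (Finset.subset_union_right.trans hX1)
            fun _ _ _ => by positivity
        refine lt_of_lt_of_le ?_ h4
        have h5 : ∑ φ ∈ cols, ((dg φ : ℝ) ^ 2 / nm φ) =
            (Nat.card W₂ - 1 : ℕ) * ((Nat.card W₁ : ℝ) * (uu M U : ℝ) ^ 2) := by
          rw [Finset.sum_image hinj]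
          have h6 : ∀ ψ ∈ (idxJ W₁ W₂).erase 1, ((dg (colI μ ψ) : ℝ) ^ 2 / nm (colI μ ψ)) =
              (Nat.card W₁ : ℝ) * (uu M U : ℝ) ^ 2 := by
            intro ψ hψ
            rw [Finset.mem_erase, mem_idxJ] at hψ
            rw [dg_of_eq (D.col_one T hψ.2 hψ.1), nm_of_eq (n := Nat.card W₁) (by
              have := D.F.col_inner hψ.2 hψ.2
              rwa [if_pos rfl] at this)]
            have : (Nat.card W₁ : ℝ) ≠ 0 := by exact_mod_cast Nat.card_pos.ne'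
            push_cast
            field_simp
          rw [Finset.sum_congr rfl h6, Finset.sum_const, nsmul_eq_mul,
            Finset.card_erase_of_mem (mem_idxJ.2 IsJ.one), card_idxJ D.F.hW]
        rw [h5, hdgζ, dg_ind (irr_isChar hθ), hind]
        -- 2 * (q * dg θ) * q < (p - 1) * (q * u^2)
        have hun : uu M U ≡ 1 [MOD 2 * Nat.card W₁] := by
          refine D1.relIndex_mod CZ_le D1.h.U_le' (D1.h.W₁_le.trans D1.M_nz_CZ) D1.h.U_normal ?_
          have h6 : U ⊓ W₂ = ⊥ := by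
            rw [eq_bot_iff, ← D1.h.U_compl.2.2.1]
            exact le_inf (inf_le_right.trans D1.h.W₂_le_H) inf_le_left
          rw [h6, eq_bot_iff, ← h6]
          exact inf_le_inf_right _ CZ_le
        have hu1 : 1 < uu M U := hu
        have hubig : 2 * Nat.card W₁ + 1 ≤ uu M U := by
          have h7 : 2 * Nat.card W₁ ∣ uu M U - 1 := (Nat.modEq_iff_dvd' hu1.le).1 hun.symm
          have h8 := Nat.le_of_dvd (by omega) h7
          omega
        have h9 : 2 * (Nat.card W₁ * dg θ) * Nat.card W₁ <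
            (Nat.card W₂ - 1) * (Nat.card W₁ * uu M U ^ 2) := by
          have e1 : 2 ≤ Nat.card W₂ - 1 := by omega
          calc 2 * (Nat.card W₁ * dg θ) * Nat.card W₁
              ≤ 2 * (Nat.card W₁ * uu M U) * Nat.card W₁ := by gcongr
            _ < 2 * (Nat.card W₁ * uu M U) * uu M U := by
                apply Nat.mul_lt_mul_of_pos_left (by omega)
                positivity
            _ = 2 * (Nat.card W₁ * uu M U ^ 2) := by ring
            _ ≤ (Nat.card W₂ - 1) * (Nat.card W₁ * uu M U ^ 2) := Nat.mul_le_mul_right _ e1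
        exact_mod_cast h9)
  rw [D.SM_eq]
  have h5 : CohMap (inducedIrrAbove (commutator ↥M) A) (tauM M) τ₃ := by
    apply h3.mono
    rw [Finset.coe_union, coe_Sa]
    exact Set.subset_union_right
  obtain ⟨χ, hχ⟩ := exists_above hKn n1 (sub_lt M ((sup_le_sup_right HZ_le _).trans_lt (HC_lt D1)))
  exact h5.isCoherent (sys_nonzero hR (above_mono bot_le) hχ (conj_above hχ))

end IsD2

end Cfsg.Agent.PF
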