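import Cfsg.Agent.PF.SecD10

set_option autoImplicit false
set_option linter.all false

/-! PF section 11: (11.8) conclusion, and `p < q`.  (helper22) -/

namespace Cfsg.Agent.PF

open Subgroup ComplexConjugate
open Cfsg.Agent.L (nz SylIn)
open Cfsg.Agent.H21
open Cfsg.Agent.H3
open scoped Pointwise commutatorElement

universe u
variable {G : Type u} [Group G]

variable [Fintype G] {M W₁ U W₂ : Subgroup G} [Fintype ↥M] {η : Lin W₁ W₂ → G → ℂ}
    {μ : Lin W₁ W₂ → ↥M → ℂ} {δ : Lin W₁ W₂ → ℤ}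

theorem dconj_add {X : Type*} (a b : X → ℂ) : conjFun (a + b) = conjFun a + conjFun b := by
  ext x; simp [conjFun]

theorem dconj_sub {X : Type*} (a b : X → ℂ) : conjFun (a - b) = conjFun a - conjFun b := by
  ext x; simp [conjFun]

theorem dconj_zsmul {X : Type*} (n : ℤ) (a : X → ℂ) : conjFun (n • a) = n • conjFun a := by
  ext x; simp [conjFun]

/-- combinations of two conjugate characters vanishing at `1` -/
theorem span_pair {L : Type*} [Group L] {ζ α : L → ℂ} (hne : ζ 1 ≠ 0) (hr : conj (ζ 1) = ζ 1)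
    (h : α ∈ zspanOn ({ζ, conjFun ζ} : Set (L → ℂ)) ({1}ᶜ : Set L)) : conjFun α = -α := by
  rw [zspanOn_one] at h
  obtain ⟨h1, h2⟩ := h
  obtain ⟨m, β, hβ, rfl⟩ := zspan_insert h1
  obtain ⟨k, rfl⟩ := Submodule.mem_span_singleton.1 hβ
  rw [Pi.add_apply, Pi.smul_apply, Pi.smul_apply] at h2
  have h3 : conjFun ζ 1 = ζ 1 := hr
  rw [h3, ← add_smul, zsmul_eq_mul, mul_eq_zero] at h2
  have h4 : m + k = 0 := by exact_mod_cast h2.resolve_right hne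
  have h5 : k = -m := by omega
  subst h5
  rw [dconj_add, dconj_zsmul, dconj_zsmul, conjFun_conjFun]
  rw [neg_smul, neg_smul]; abel

namespace IsD2

theorem inner_tau_eta (D : IsD2 M W₁ U W₂ η μ δ) {X : Finset (↥M → ℂ)} {τ₁ : (↥M → ℂ) → G → ℂ}
    (hX : IsXCoh M W₁ X τ₁) {χ : ↥M → ℂ} (hχ : χ ∈ X) (ω : Lin W₁ W₂) :
    classInner (τ₁ χ) (η ω) = 0 :=
  (D.F.coh_irr hX.sub (fun χ h => hX.conj_mem χ h) hX.coh hχ (hX.irr χ hχ)).2.2 ω

theorem inner_eta_tau (D : IsD2 M W₁ U W₂ η μ δ) {X : Finset (↥M → ℂ)} {τ₁ : (↥M → ℂ) → G → ℂ}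
    (hX : IsXCoh M W₁ X τ₁) {χ : ↥M → ℂ} (hχ : χ ∈ X) (ω : Lin W₁ W₂) :
    classInner (η ω) (τ₁ χ) = 0 := by
  rw [← classInner_conj_symm, D.inner_tau_eta hX hχ, map_zero]

theorem inner_colI (D : IsD2 M W₁ U W₂ η μ δ) (f : G → ℂ) :
    classInner (colI η 1) f = ∑ φ ∈ idxI W₁ W₂, classInner (η φ) f := by
  unfold colI
  rw [classInner_sum_left]
  refine Finset.sum_congr rfl fun φ _ => ?_
  exact congrArg (fun z => classInner (η z) f) (mul_one φ)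

/-- (11.8), case `b = 0` -/
theorem pat_b0 (D : IsD2 M W₁ U W₂ η μ δ) {n : ℤ}
    (T : IsTen M W₁ U W₂ η μ δ (uu M U) 1 n) {X : Finset (↥M → ℂ)} {τ₁ : (↥M → ℂ) → G → ℂ}
    (hXn : (X.card : ℤ) = n)
    (hX : IsXCoh M W₁ X τ₁) {ζ : ↥M → ℂ} (hζ : ζ ∈ X) {Γ : G → ℂ} {b s : ℤ} {g : Lin W₁ W₂ → ℤ}
    (hΓ : TenG M W₁ W₂ η μ 1 n X τ₁ ζ Γ b s g) (hg : ∀ φ, IsI W₁ W₂ φ → g φ = 1) (hb : b = 0) :
    False := by
  classical
  have hΓeq := TenG.eq_of T hX hζ hΓ hb hg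
  obtain ⟨Dd, a, c, r, hD⟩ := ten5 T hX hζ
  obtain ⟨ψ, hψ, h1⟩ := D.exists_idxJ
  have hin := hΓ.inner 1 ψ IsI.one hψ h1
  rw [hD.eq 1 ψ IsI.one hψ h1, hΓeq] at hin
  have horth := D.F.fam.orthonormal
  have f1 : classInner (colI η 1) (η (1 * ψ)) = 0 := by
    rw [D.inner_colI]
    apply Finset.sum_eq_zero
    intro φ hφ
    rw [horth, if_neg]
    intro e
    have e' : φ = ψ := e.trans (one_mul ψ)
    rw [mem_idxI] at hφ
    exact not_isI_of_isJ hψ h1 (e' ▸ hφ)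
  have f2 : classInner (colI η 1) (η 1) = 1 := by
    rw [D.inner_colI, Finset.sum_eq_single 1]
    · rw [horth, if_pos rfl]
    · intro φ _ hne
      rw [horth, if_neg hne]
    · intro h; exact absurd one_mem_idxI h
  have f3 : classInner (colI η 1) (τ₁ ζ) = 0 := by
    rw [D.inner_colI]
    exact Finset.sum_eq_zero fun φ _ => D.inner_eta_tau hX hζ φ
  have f4 : classInner (colI η 1) Dd = ((∑ φ ∈ idxI W₁ W₂, r φ : ℤ) : ℂ) := by
    rw [D.inner_colI]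
    push_cast
    refine Finset.sum_congr rfl fun φ hφ => ?_
    rw [mem_idxI] at hφ
    rw [← classInner_conj_symm, hD.row φ hφ, map_intCast]
  have f5 : ∀ ω, classInner (τ₁ ζ) (η ω) = 0 := D.inner_tau_eta hX hζ
  have f6 : classInner (τ₁ ζ) (τ₁ ζ) = 1 := by
    rw [hX.coh.inner (zspan_mem hζ) (zspan_mem hζ), classInner_self_of_irr (hX.irr ζ hζ)]
  have f7 : classInner (τ₁ ζ) Dd = (a : ℂ) := by
    rw [← classInner_conj_symm, hD.inX ζ hζ, map_intCast]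
  rw [classInner_add_right, classInner_sub_right, classInner_smul_right, classInner_smul_right,
    classInner_sub_right, classInner_sub_left, classInner_sub_left, classInner_sub_left,
    classInner_sub_left, f1, f2, f3, f4, f5, f5, f6, f7] at hin
  have hsum : ∑ φ ∈ idxI W₁ W₂, r φ = a := by
    simp only [Int.cast_one, map_one, map_intCast] at hin
    have h3 : ((∑ φ ∈ idxI W₁ W₂, r φ : ℤ) : ℂ) = (a : ℂ) := by
      push_cast at hin ⊢
      linear_combination hin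
    exact_mod_cast h3
  have hbes := hD.bessel
  rw [hXn] at hbes
  obtain ⟨ha, hc⟩ := D.arith8 T.two_le hD.r_one hD.r_inv hsum (by linarith)
  have hD0 := hD.eq_zero ha hc
  subst hD0
  have hcol : ∀ ψ, IsJ W₁ W₂ ψ → ψ ≠ 1 → tauM M (colI μ ψ - ((uu M U : ℕ) : ℂ) • ζ) =
      ((1 : ℤ) : ℂ) • colI η ψ - ((uu M U : ℕ) : ℂ) • τ₁ ζ := by
    intro ψ hψ h1
    exact ten_col T hX hζ hD (by rw [hΓ.eq, hΓeq]) hψ h1
  obtain ⟨τ₂, h2, -, -⟩ := ten_cols_coh T hX hζ hcol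
  exact D.false_of_cols T hX hζ h2

/-- the twisted extension for `|X| = 2` -/
theorem twist (D : IsD2 M W₁ U W₂ η μ δ) {X : Finset (↥M → ℂ)} {τ₁ : (↥M → ℂ) → G → ℂ}
    (hX : IsXCoh M W₁ X τ₁) {ζ : ↥M → ℂ} (hXeq : (X : Set (↥M → ℂ)) = {ζ, conjFun ζ}) :
    IsXCoh M W₁ X (fun α => -τ₁ (conjFun α)) := by
  have hζ : ζ ∈ X := by
    have : ζ ∈ (X : Set (↥M → ℂ)) := by rw [hXeq]; simp
    exact this
  have hconj : ∀ α ∈ zspan (X : Set (↥M → ℂ)), conjFun α ∈ zspan (X : Set (↥M → ℂ)) := by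
    intro α hα
    refine zspan_induction (P := fun α => conjFun α ∈ zspan (X : Set (↥M → ℂ))) ?_ ?_ ?_ ?_ hα
    · intro χ hχ; exact zspan_mem (hX.conj_mem χ hχ)
    · have : conjFun (0 : ↥M → ℂ) = 0 := by ext x; simp [conjFun]
      rw [this]; exact zspan_zero
    · intro α β _ _ h1 h2
      rw [dconj_add]; exact zspan_add h1 h2
    · intro n α _ h1
      rw [dconj_zsmul]; exact zspan_smul n h1
  have hgen : ∀ α ∈ zspan (X : Set (↥M → ℂ)), IsGeneralizedCharacter ↥M α := by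
    intro α hα
    refine zspan_induction (P := fun α => IsGeneralizedCharacter ↥M α) ?_ isGen_zero ?_ ?_ hα
    · intro χ hχ; exact isGen_of_irr (hX.irr χ hχ)
    · intro α β _ _ h1 h2; exact isGen_add h1 h2
    · intro n α _ h1; exact isGen_zsmul n h1
  refine ⟨hX.sub, hX.irr, hX.deg, hX.conj_mem, ⟨?_, ?_, ?_, ?_⟩, ?_⟩
  · intro α hα β hβ
    show -τ₁ (conjFun (α + β)) = -τ₁ (conjFun α) + -τ₁ (conjFun β)
    rw [dconj_add, hX.coh.add (hconj α hα) (hconj β hβ)]; abel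
  · intro α hα n
    show -τ₁ (conjFun (n • α)) = n • (-τ₁ (conjFun α))
    rw [dconj_zsmul, hX.coh.smul n (hconj α hα), smul_neg]
  · intro α hα β hβ
    show classInner (-τ₁ (conjFun α)) (-τ₁ (conjFun β)) = classInner α β
    rw [classInner_neg_left, classInner_neg_right, neg_neg,
      hX.coh.inner (hconj α hα) (hconj β hβ), H3.classInner_conjFun]
    obtain ⟨m, hm⟩ := classInner_gen_int (hgen α hα) (hgen β hβ)
    rw [hm]; simp
  · intro α hα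
    exact isGen_neg (hX.coh.gen (hconj α hα))
  · intro α hα
    show -τ₁ (conjFun α) = tauM M α
    have h1 : ζ 1 ≠ 0 := by rw [hX.deg ζ hζ]; exact_mod_cast Nat.card_pos.ne'
    have h2 : conj (ζ 1) = ζ 1 := by rw [hX.deg ζ hζ]; simp
    have hα' := hα
    rw [hXeq] at hα'
    have e1 : -α = (-1 : ℤ) • α := by simp
    rw [span_pair h1 h2 hα', e1, hX.coh.smul (-1) (zspanOn_one.1 hα).1, hX.coh.2 α hα]
    simp

/-- (11.8) -/
theorem not_pattern (D : IsD2 M W₁ U W₂ η μ δ) {n : ℤ}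
    (T : IsTen M W₁ U W₂ η μ δ (uu M U) 1 n) {X : Finset (↥M → ℂ)} {τ₁ : (↥M → ℂ) → G → ℂ}
    (hXn : (X.card : ℤ) = n)
    (hX : IsXCoh M W₁ X τ₁) {ζ : ↥M → ℂ} (hζ : ζ ∈ X) {Γ : G → ℂ} {b s : ℤ} {g : Lin W₁ W₂ → ℤ}
    (hΓ : TenG M W₁ W₂ η μ 1 n X τ₁ ζ Γ b s g) : ¬ ∀ φ, IsI W₁ W₂ φ → g φ = 1 := by
  classical
  intro hg
  by_cases hb : b = 0
  · exact D.pat_b0 T hXn hX hζ hΓ hg hb
  have hbes := hΓ.bessel
  have hsum : ∑ φ ∈ idxI W₁ W₂, (g φ ^ 2 + ((Nat.card W₂ : ℤ) - 1) * (g φ + s) ^ 2) =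
      Nat.card W₁ * (1 + ((Nat.card W₂ : ℤ) - 1) * (1 + s) ^ 2) := by
    rw [Finset.sum_congr rfl (fun φ hφ => by rw [hg φ (mem_idxI.1 hφ)]), Finset.sum_const,
      card_idxI D.F.hW, nsmul_eq_mul]
    ring
  rw [hsum, hXn] at hbes
  have hp : (3 : ℤ) ≤ Nat.card W₂ := by exact_mod_cast D.p_ge
  have hq : (3 : ℤ) ≤ Nat.card W₁ := by exact_mod_cast D.q_ge
  have hn := T.two_le
  have h1 : (n - 1) * b ^ 2 + (b - 1) ^ 2 ≤ 1 := by
    have : 0 ≤ (Nat.card W₁ : ℤ) * (((Nat.card W₂ : ℤ) - 1) * (1 + s) ^ 2) := by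
      have : 0 ≤ (Nat.card W₂ : ℤ) - 1 := by omega
      positivity
    nlinarith
  have hb2 : 1 ≤ b ^ 2 := by
    have : 0 < b ^ 2 := by positivity
    omega
  have hb1 : b = 1 := by
    have h2 : (b - 1) ^ 2 ≤ 0 := by nlinarith
    have h3 : (b - 1) ^ 2 = 0 := le_antisymm h2 (sq_nonneg _)
    have := pow_eq_zero_iff (two_ne_zero) |>.1 h3
    omega
  have hn2 : n = 2 := by rw [hb1] at h1; omega
  have hXc : X.card = 2 := by rw [hn2] at hXn; exact_mod_cast hXn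
  have hne : conjFun ζ ≠ ζ := D.F.SM_conj_ne (hX.sub hζ)
  have hXeq' : X = {ζ, conjFun ζ} := by
    symm
    apply Finset.eq_of_subset_of_card_le
    · intro χ hχ
      rw [Finset.mem_insert, Finset.mem_singleton] at hχ
      rcases hχ with rfl | rfl
      · exact hζ
      · exact hX.conj_mem _ hζ
    · rw [hXc, Finset.card_pair hne.symm]
  have hXeq : (X : Set (↥M → ℂ)) = {ζ, conjFun ζ} := by rw [hXeq']; simp
  have hX' := D.twist hX hXeq
  obtain ⟨Γ', b', s', g', hΓ'⟩ := tenG T hX' hζ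
  have hΓΓ : Γ' = Γ := by rw [← hΓ'.eq, hΓ.eq]
  have hg' : ∀ φ, IsI W₁ W₂ φ → g' φ = 1 := by
    intro φ hφ
    have h2 := hΓ'.row φ hφ
    rw [hΓΓ, hΓ.row φ hφ, hg φ hφ] at h2
    exact_mod_cast h2.symm
  have hb' : b' = 0 := by
    have h2 := hΓ'.inX (conjFun ζ) (hX.conj_mem _ hζ) hne
    rw [hΓΓ] at h2
    simp only [conjFun_conjFun] at h2
    rw [classInner_neg_right, hΓ.inXζ, hb1] at h2
    have h3 : ((b' : ℤ) : ℂ) = 0 := by rw [← h2]; simp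
    exact_mod_cast h3
  exact D.pat_b0 T hXn hX' hζ hΓ' hg' hb'

/-- (11.9), first part: `s = 0` and `p Σ g² ≤ q`. -/
theorem s_zero (D : IsD2 M W₁ U W₂ η μ δ) {n : ℤ}
    (T : IsTen M W₁ U W₂ η μ δ (uu M U) 1 n) {X : Finset (↥M → ℂ)} {τ₁ : (↥M → ℂ) → G → ℂ}
    (hXn : (X.card : ℤ) = n)
    (hX : IsXCoh M W₁ X τ₁) {ζ : ↥M → ℂ} (hζ : ζ ∈ X) {Γ : G → ℂ} {b s : ℤ} {g : Lin W₁ W₂ → ℤ}
    (hΓ : TenG M W₁ W₂ η μ 1 n X τ₁ ζ Γ b s g) : s = 0 ∧
      (Nat.card W₂ : ℤ) * ∑ φ ∈ idxI W₁ W₂, g φ ^ 2 ≤ Nat.card W₁ := by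
  classical
  have hp : (3 : ℤ) ≤ Nat.card W₂ := by exact_mod_cast D.p_ge
  have hn := T.two_le
  have hbes := hΓ.bessel
  rw [hXn] at hbes
  have h1 : 1 ≤ (n - 1) * b ^ 2 + (b - 1) ^ 2 := by
    by_cases hb : b = 0
    · rw [hb]; norm_num
    · have hb2 : 1 ≤ b ^ 2 := by
        have : 0 < b ^ 2 := by positivity
        omega
      nlinarith [sq_nonneg (b - 1)]
  have h2 : ∑ φ ∈ idxI W₁ W₂, (g φ ^ 2 + ((Nat.card W₂ : ℤ) - 1) * (g φ + s) ^ 2) ≤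
      (Nat.card W₁ : ℤ) := by linarith
  have hs : s = 0 := by
    by_contra hs
    apply D.not_pattern T hXn hX hζ hΓ
    -- every term is at least one
    have hterm : ∀ x : ℤ, 1 ≤ x ^ 2 + ((Nat.card W₂ : ℤ) - 1) * (x + s) ^ 2 := by
      intro x
      by_cases hx : x = 0
      · rw [hx]
        have : 0 < s ^ 2 := by positivity
        nlinarith
      · have : 0 < x ^ 2 := by positivity
        nlinarith [sq_nonneg (x + s)]
    have hsum : ∑ φ ∈ idxI W₁ W₂, (g φ ^ 2 + ((Nat.card W₂ : ℤ) - 1) * (g φ + s) ^ 2 - 1) ≤ 0 := by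
      rw [Finset.sum_sub_distrib, Finset.sum_const, card_idxI D.F.hW]
      simp only [nsmul_eq_mul, mul_one]
      linarith
    have hz := (Finset.sum_eq_zero_iff_of_nonneg (fun φ _ => by have := hterm (g φ); omega)).1
      (le_antisymm hsum (Finset.sum_nonneg fun φ _ => by have := hterm (g φ); omega))
    have heach : ∀ φ, IsI W₁ W₂ φ → g φ ^ 2 ≤ 1 ∧ g φ = -s := by
      intro φ hφ
      have h3 := hz φ (mem_idxI.2 hφ)
      have h4 : 0 ≤ (g φ + s) ^ 2 := sq_nonneg _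
      have h5 : g φ ≠ 0 := by
        intro h0
        rw [h0] at h3
        have : 0 < s ^ 2 := by positivity
        nlinarith
      have h6 : 0 < g φ ^ 2 := by positivity
      have h7 : (g φ + s) ^ 2 = 0 := by nlinarith
      have h8 := pow_eq_zero_iff (two_ne_zero) |>.1 h7
      constructor
      · nlinarith
      · omega
    intro φ hφ
    have h3 := heach φ hφ
    have h4 := heach 1 IsI.one
    rw [hΓ.g_one] at h4
    omega
  refine ⟨hs, ?_⟩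
  rw [hs] at h2
  have h3 : ∑ φ ∈ idxI W₁ W₂, (g φ ^ 2 + ((Nat.card W₂ : ℤ) - 1) * (g φ + 0) ^ 2) =
      (Nat.card W₂ : ℤ) * ∑ φ ∈ idxI W₁ W₂, g φ ^ 2 := by
    rw [Finset.mul_sum]
    refine Finset.sum_congr rfl fun φ _ => ?_
    ring
  rw [h3] at h2
  exact h2

/-- `B = Σ g` is odd. -/
theorem odd_B (D : IsD2 M W₁ U W₂ η μ δ) {g : Lin W₁ W₂ → ℤ} (h1 : g 1 = 1)
    (hinv : ∀ φ, IsI W₁ W₂ φ → g φ⁻¹ = g φ) : Odd (∑ φ ∈ idxI W₁ W₂, g φ) := by
  classical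
  have h := D.even_sum (fun φ => if φ = 1 then 0 else g φ) (if_pos rfl) (by
    intro φ hφ
    by_cases h : φ = 1
    · subst h
      have : (1 : Lin W₁ W₂)⁻¹ = 1 := inv_one (G := Lin W₁ W₂)
      rw [this]
    · have : φ⁻¹ ≠ 1 := by
        intro e; apply h
        have := inv_inv φ
        rw [← this, e]; exact inv_one (G := Lin W₁ W₂)
      simp only [if_neg h, if_neg this]
      exact hinv φ hφ)
  have h2 : ∑ φ ∈ idxI W₁ W₂, g φ = (∑ φ ∈ idxI W₁ W₂, if φ = 1 then 0 else g φ) + 1 := by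
    rw [← Finset.add_sum_erase _ _ one_mem_idxI, ← Finset.add_sum_erase _ _ one_mem_idxI, h1,
      if_pos rfl, zero_add, add_comm]
    congr 1
    refine Finset.sum_congr rfl fun φ hφ => ?_
    rw [if_neg (Finset.ne_of_mem_erase hφ)]
  rw [h2]
  exact h.add_one

/-- `p < q` -/
theorem p_lt_q (D : IsD2 M W₁ U W₂ η μ δ) : Nat.card W₂ < Nat.card W₁ := by
  classical
  obtain ⟨n, T⟩ := D.exists_ten'
  obtain ⟨X, τ₁, hXS, hXc, hX⟩ := D.F.exists_X D.typ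
  have hXn := D.card_X T hXc
  have hne : X.Nonempty := by
    rw [← Finset.card_pos]
    have := T.two_le
    omega
  obtain ⟨ζ, hζ⟩ := hne
  obtain ⟨Γ, b, s, g, hΓ⟩ := tenG T hX hζ
  obtain ⟨-, h2⟩ := D.s_zero T hXn hX hζ hΓ
  have h3 : 1 ≤ ∑ φ ∈ idxI W₁ W₂, g φ ^ 2 := by
    rw [← Finset.add_sum_erase _ _ one_mem_idxI, hΓ.g_one]
    have : 0 ≤ ∑ φ ∈ (idxI W₁ W₂).erase 1, g φ ^ 2 := Finset.sum_nonneg fun φ _ => sq_nonneg _
    omega
  have h4 : (Nat.card W₂ : ℤ) ≤ Nat.card W₁ := by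
    have : (0 : ℤ) ≤ Nat.card W₂ := by positivity
    nlinarith
  have h5 : Nat.card W₂ ≤ Nat.card W₁ := by exact_mod_cast h4
  exact lt_of_le_of_ne h5 D.D1.p_ne_q

end IsD2

end Cfsg.Agent.PF
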