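import Cfsg.Agent.PF.SecD11
import Cfsg.Agent.PF.BBB
import Cfsg.Agent.S1502

set_option autoImplicit false
set_option linter.all false

/-! PF section 11: (11.9), conclusion.  (helper22) -/

namespace Cfsg.Agent.PF

open Subgroup ComplexConjugate
open Cfsg.Agent.L (nz SylIn)
open Cfsg.Agent.H21
open Cfsg.Agent.H3
open scoped Pointwise commutatorElement

universe u
variable {G : Type u} [Group G]

section

variable [Fintype G] {M W₁ U W₂ : Subgroup G} [Fintype ↥M] {η : Lin W₁ W₂ → G → ℂ}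
    {μ : Lin W₁ W₂ → ↥M → ℂ} {δ : Lin W₁ W₂ → ℤ}

namespace IsD2

theorem hbar (D : IsD2 M W₁ U W₂ η μ δ) : IsHbar M W₁ U W₂ (HZ M U) (CZ M U) (Nat.card W₂) :=
  exists_hbar_III D.F.hG D.F.hM D.F.hP D.ty

theorem inner_col_irr (D : IsD2 M W₁ U W₂ η μ δ) {χ : ↥M → ℂ} (hS : χ ∈ SM M ⊥)
    (hirr : IsIrrCharacter ↥M χ) (ω : Lin W₁ W₂) : classInner (colI μ ω) χ = 0 := by
  classical
  have hne : ∀ ω', χ ≠ μ ω' := by
    rcases D.F.SM_cases hS with h | ⟨ψ, hψ, h1, rfl⟩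
    · exact h.2
    · intro ω' e
      have h1 := classInner_self_of_irr hirr
      rw [D.F.col_inner hψ hψ, if_pos rfl] at h1
      have h2 : Nat.card W₁ = 1 := by exact_mod_cast h1
      exact absurd (Subgroup.card_eq_one.1 h2) D.F.hP.W₁_ne
  unfold colI
  rw [classInner_sum_left]
  apply Finset.sum_eq_zero
  intro φ _
  rw [classInner_irr (D.F.irr _) hirr, if_neg (fun h => hne _ h.symm)]

theorem sum_grid (D : IsD2 M W₁ U W₂ η μ δ) {Γ : G → ℂ} {g : Lin W₁ W₂ → ℤ} {ψ : Lin W₁ W₂}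
    (h : ∀ φ, IsI W₁ W₂ φ → classInner Γ (η (φ * ψ)) = (g φ : ℂ)) :
    classInner Γ (colI η ψ) = ((∑ φ ∈ idxI W₁ W₂, g φ : ℤ) : ℂ) := by
  unfold colI
  rw [classInner_sum_right]
  push_cast
  exact Finset.sum_congr rfl fun φ hφ => h φ (mem_idxI.1 hφ)

/-- the inner products of `Γ` with `σ φ`, `φ ∈ Y`, are equal. -/
theorem inner_const (D : IsD2 M W₁ U W₂ η μ δ) {ζ : ↥M → ℂ} {Γ : G → ℂ}
    (hsupp : SuppOn (typeA M) (colI μ 1 - ζ)) (hζirr : IsIrrCharacter ↥M ζ)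
    (hΓ : tauM M (colI μ 1 - ζ) = Γ) {α : ↥M → ℂ} (hα : α ∈ zspanOn (SM M ⊥) ({1}ᶜ : Set ↥M)) :
    classInner Γ (tauM M α) = classInner (colI μ 1 - ζ) α := by
  have hcl : ∀ ω, IsClassFunction ↥M (colI μ ω) := by
    intro ω
    have := isChar_ind (commutator ↥M) (irr_isChar (D.F.res_irr ω))
    rw [D.F.ind_res] at this
    exact isGen_classFun (isGen_of_char this)
  have hgen : IsGeneralizedCharacter ↥M α := by
    refine zspan_induction (P := fun α => IsGeneralizedCharacter ↥M α) ?_ isGen_zero ?_ ?_ hα.1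
    · intro χ hχ; exact isGen_of_char (D.F.SM_char hχ)
    · intro a b _ _ h1 h2; exact isGen_add h1 h2
    · intro n a _ h1; exact isGen_zsmul n h1
  rw [← hΓ]
  refine tau_inner D.F.hG D.F.hM ?_ ?_ (isGen_classFun hgen) ?_
  · intro x y
    rw [Pi.sub_apply, Pi.sub_apply, hcl 1 x y, irr_classFun hζirr x y]
  · intro x hx; exact hsupp x (fun h => hx (A_sub_A0 h))
  · intro x hx; exact D.F.span_supp hα x (fun h => hx (A_sub_A0 h))

/-- the non-Galois case is impossible -/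
theorem not_nonGal (D : IsD2 M W₁ U W₂ η μ δ) {X Y U₁ : Subgroup G} {a : ℕ}
    (hn : IsNonGal M W₁ U (HZ M U) (CZ M U) X Y U₁ (Nat.card W₂) a) : False := by
  classical
  obtain ⟨n, T⟩ := D.exists_ten'
  obtain ⟨X₀, τ₁, hXS, hXc, hX⟩ := D.F.exists_X D.typ
  have hXn := D.card_X T hXc
  have hne : X₀.Nonempty := by
    rw [← Finset.card_pos]
    have := T.two_le
    omega
  obtain ⟨ζ, hζ⟩ := hne
  obtain ⟨Γ, b, s, g, hΓ⟩ := tenG T hX hζ
  obtain ⟨hs, h2⟩ := D.s_zero T hXn hX hζ hΓ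
  have hBodd := D.odd_B hΓ.g_one hΓ.g_inv
  obtain ⟨ψ, hψ, h1⟩ := D.exists_idxJ
  have hu : μ ψ 1 = ((CZ M U).relIndex U : ℂ) := T.mu_one ψ (not_isI_of_isJ hψ h1)
  obtain ⟨Y', σ, χ, hB, hYmem, -⟩ := D.hbar.nonGal_bridge D.F hn hψ h1 hu
  obtain ⟨ψ', ε, x, hψ', hx, heq⟩ := hB.tau_eq D.F
  set t := (CZ M U).relIndex U₁ with ht
  -- `ψ'` is a nontrivial J-index
  have hψ'J : IsJ W₁ W₂ ψ' ∧ ψ' ≠ 1 := by
    rcases hψ' with ⟨rfl, -⟩ | ⟨rfl, -⟩
    · exact ⟨hψ, h1⟩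
    · exact ⟨hψ.inv, fun e => h1 (by rw [← inv_inv ψ, e]; exact inv_one (G := Lin W₁ W₂))⟩
  have hε : ε = 1 ∨ ε = -1 := by
    have := D.F.sign ψ
    rcases hψ' with ⟨-, rfl⟩ | ⟨-, rfl⟩
    · exact this
    · omega
  -- `χ ≠ ζ`
  have hq := D.q_ge
  have hχdeg : χ 1 = (Nat.card W₁ * a : ℕ) := ((hYmem χ).1 hB.mem).2.2
  have hχirr := hB.Y_irr χ hB.mem
  have hχne : ∀ φ ∈ Y', φ ≠ ζ := by
    rintro φ hφ rfl
    have e1 := hX.deg φ hζ
    rw [((hYmem φ).1 hφ).2.2] at e1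
    have e2 : Nat.card W₁ * a = Nat.card W₁ := by exact_mod_cast e1
    have e3 : a = 1 := Nat.eq_of_mul_eq_mul_left (Nat.card_pos (α := W₁)) (by rw [e2, mul_one])
    have := hn.one_lt
    omega
  have hζirr := hX.irr ζ hζ
  have hζS := hX.sub hζ
  -- the two sides
  have hmem1 : colI μ ψ - (t : ℂ) • χ ∈ zspanOn (SM M ⊥) ({1}ᶜ : Set ↥M) := by
    rw [zspanOn_one]
    constructor
    · have : (t : ℂ) • χ = (t : ℤ) • χ := by rw [H3.zsmul_eq_smul]; simp
      rw [this]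
      exact zspan_sub (zspan_mem (D.F.col_mem hψ h1)) (zspan_smul _ (zspan_mem (hB.Y_mem χ hB.mem)))
    · rw [Pi.sub_apply, Pi.smul_apply, hB.deg]; simp
  have hin := D.inner_const hΓ.supp hζirr hΓ.eq hmem1
  have hrhs : classInner (colI μ 1 - ζ) (colI μ ψ - (t : ℂ) • χ) = 0 := by
    rw [classInner_sub_left, classInner_sub_right, classInner_sub_right, classInner_smul_right,
      classInner_smul_right, D.F.col_inner IsJ.one hψ, if_neg (Ne.symm h1),
      D.inner_col_irr (hB.Y_mem χ hB.mem) hχirr, ← classInner_conj_symm (colI μ ψ) ζ,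
      D.inner_col_irr hζS hζirr, classInner_irr hζirr hχirr, if_neg (Ne.symm (hχne χ hB.mem))]
    simp
  rw [hrhs, heq] at hin
  -- constant inner products
  have hYirr := hB.Y_irr
  have hconst : ∀ φ ∈ Y', classInner Γ (σ φ) = classInner Γ (σ χ) := by
    intro φ hφ
    have hm : φ - χ ∈ zspanOn (Y' : Set (↥M → ℂ)) ({1}ᶜ : Set ↥M) := by
      rw [zspanOn_one]
      exact ⟨zspan_sub (zspan_mem hφ) (zspan_mem hB.mem), by
        rw [Pi.sub_apply, hB.Y_deg φ hφ, sub_self]⟩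
    have hm' : φ - χ ∈ zspanOn (SM M ⊥) ({1}ᶜ : Set ↥M) :=
      zspanOn_mono (fun φ hφ => hB.Y_mem φ hφ) hm
    have e1 := D.inner_const hΓ.supp hζirr hΓ.eq hm'
    rw [← hB.coh.2 _ hm, hB.coh.sub (zspan_mem hφ) (zspan_mem hB.mem), classInner_sub_right,
      classInner_sub_left, classInner_sub_right, classInner_sub_right,
      D.inner_col_irr (hB.Y_mem χ hB.mem) hχirr, D.inner_col_irr (hB.Y_mem φ hφ) (hYirr φ hφ),
      classInner_irr hζirr hχirr, classInner_irr hζirr (hYirr φ hφ),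
      if_neg (Ne.symm (hχne χ hB.mem)), if_neg (Ne.symm (hχne φ hφ))] at e1
    simp only [sub_self] at e1
    exact sub_eq_zero.1 e1
  obtain ⟨s', hs'⟩ := classInner_gen_int hΓ.gen (hB.coh.gen (zspan_mem hB.mem))
  have hcol : classInner Γ (colI η ψ') = ((∑ φ ∈ idxI W₁ W₂, g φ : ℤ) : ℂ) := by
    refine D.sum_grid fun φ hφ => ?_
    rw [hΓ.grid φ ψ' hφ hψ'J.1 hψ'J.2, hs, add_zero]
  set B := ∑ φ ∈ idxI W₁ W₂, g φ with hBdef
  rw [classInner_add_right, classInner_sub_right, classInner_smul_right, classInner_smul_right,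
    classInner_smul_right, hcol, classInner_sum_right, Finset.sum_congr rfl hconst,
    Finset.sum_const, hs', nsmul_eq_mul] at hin
  have hint : ε * B - t * s' + x * (Y'.card * s') = 0 := by
    have : ((ε * B - t * s' + x * (Y'.card * s') : ℤ) : ℂ) = 0 := by
      push_cast
      simp only [map_intCast, map_natCast] at hin
      linear_combination hin
    exact_mod_cast this
  -- `|B| = t |s'|`
  have hdvd : (t : ℤ) ∣ B := by
    have h3 : (t : ℤ) ∣ ε * B := by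
      rcases hx with hx0 | ⟨hx1, hc⟩
      · rw [hx0] at hint
        exact ⟨s', by linarith⟩
      · rw [hx1, hc] at hint
        push_cast at hint
        exact ⟨-s', by linarith⟩
    rcases hε with rfl | rfl
    · simpa using h3
    · simpa using h3
  have hB0 : B ≠ 0 := by
    intro h0
    rw [h0] at hBodd
    simp at hBodd
  have htB : (t : ℤ) ≤ |B| := Int.le_of_dvd (abs_pos.2 hB0) ((dvd_abs _ _).2 hdvd)
  have hBle : |B| ≤ ∑ φ ∈ idxI W₁ W₂, g φ ^ 2 := by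
    refine (Finset.abs_sum_le_sum_abs _ _).trans (Finset.sum_le_sum fun φ _ => ?_)
    rw [← sq_abs]
    by_cases h : g φ = 0
    · rw [h]; simp
    · have : 1 ≤ |g φ| := Int.one_le_abs h
      nlinarith
  have hpt : (Nat.card W₂ : ℤ) * t ≤ Nat.card W₁ := by
    have : (0 : ℤ) ≤ Nat.card W₂ := by positivity
    calc (Nat.card W₂ : ℤ) * t ≤ Nat.card W₂ * ∑ φ ∈ idxI W₁ W₂, g φ ^ 2 :=
          mul_le_mul_of_nonneg_left (htB.trans hBle) this
      _ ≤ _ := h2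
  have hpt' : Nat.card W₂ * t ≤ Nat.card W₁ := by exact_mod_cast hpt
  -- `u = t a`
  have hua : (CZ M U).relIndex U = t * a := by
    have e1 := card_mul_relIndex' (CZ_le (M := M) (U := U))
    have e2 := card_mul_relIndex' hn.C_le
    have e3 := hn.card_U
    rw [← e1, ← e2, mul_assoc] at e3
    exact Nat.eq_of_mul_eq_mul_left Nat.card_pos e3
  have hup := D.hbar.u_lower D.F.oddM
  have hap : a ≤ Nat.card W₂ - 1 := Nat.le_of_dvd (by have := D.p_ge; omega) hn.dvd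
  rw [hua] at hup
  have h5 : t * a ≤ t * Nat.card W₂ := Nat.mul_le_mul_left _ (by omega)
  have h6 : t * Nat.card W₂ = Nat.card W₂ * t := mul_comm _ _
  omega

/-- Galois -/
theorem gal (D : IsD2 M W₁ U W₂ η μ δ) : IsGal M U (HZ M U) := by
  rcases D.hbar.dichotomy D.F.oddM with h | ⟨X, Y, U₁, a, h⟩
  · exact h
  · exact (D.not_nonGal h).elim

theorem U_cyclic (D : IsD2 M W₁ U W₂ η μ δ) : IsCyclic U := by
  obtain ⟨g, hg, hgen⟩ := D.hbar.gal_cyclic D.gal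
  have h1 : zpowers g = U := by
    apply H23.eq_of_sup_commutator D.F.hP.U_nilpotent (by rwa [zpowers_le])
    intro u hu
    obtain ⟨k, hk⟩ := hgen u hu
    rw [D.derU]
    have : u = u * (g ^ k)⁻¹ * g ^ k := by group
    rw [this]
    exact mul_mem (mem_sup_right hk) (mem_sup_left (Subgroup.pow_mem _ (mem_zpowers g) _))
  rw [← h1]
  infer_instance

theorem CZ_bot (D : IsD2 M W₁ U W₂ η μ δ) : CZ M U = ⊥ := by
  rw [← D.derU, commutator_eq_bot_iff_le_centralizer]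
  intro x hx
  exact mem_cent_iff.2 fun y hy => (comm_of_cyclic D.U_cyclic _ hx _ hy)

theorem main (D : IsD2 M W₁ U W₂ η μ δ) :
    (Nat.card W₂).Prime ∧ Nat.card W₂ < Nat.card W₁ ∧
    IsElementaryAbelian (Nat.card W₂) (fittingHallOf M) ∧
    Nat.card (fittingHallOf M) = Nat.card W₂ ^ Nat.card W₁ ∧
    U ⊓ centralizer (fittingHallOf M : Set G) = ⊥ ∧
    IsCyclic U ∧
    (∀ u ∈ U, u ≠ 1 → ∀ x ∈ fittingHallOf M, u * x = x * u → x = 1) ∧
    ∀ X : Subgroup G, X ≤ fittingHallOf M → U ≤ nz X → X = ⊥ ∨ X = fittingHallOf M := by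
  have hZ : HZ M U = ⊥ := D.D3.HZ_bot
  refine ⟨D.hp, D.p_lt_q, D.D3.struct.1, D.D3.struct.2, D.CZ_bot, D.U_cyclic, ?_, ?_⟩
  · intro u hu hu1 x hx hux
    have h1 := D.hbar.gal_free D.gal hu (by rw [D.CZ_bot, Subgroup.mem_bot]; exact hu1) hx (by
      rw [hux, mul_inv_cancel_right, mul_inv_cancel]; exact one_mem _)
    rw [hZ, Subgroup.mem_bot] at h1
    exact h1
  · intro X hX hUX
    have := D.gal X (by rw [hZ]; exact bot_le) hX hUX
    rwa [hZ] at this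

end IsD2

end

/-- the frame for a maximal subgroup of type III or IV -/
theorem exists_D2 [Fintype G] (hG : IsMinSimpleOddOrder G) {M W₁ U W₂ : Subgroup G} [Fintype ↥M]
    (hM : IsCoatom M) (h : IsTypePWith M W₁ U W₂) (ty : IsOfTypeIII M ∨ IsOfTypeIV M) :
    ∃ η μ δ, IsD2 M W₁ U W₂ η μ δ := by
  have ty' : Typ345 M := by
    rcases ty with h | h
    · exact Or.inl h
    · exact Or.inr (Or.inl h)
  have hodd : Odd (Nat.card ↥(W₁ ⊔ W₂)) := by
    have h1 : Nat.card ↥(W₁ ⊔ W₂) ∣ Nat.card G := Subgroup.card_subgroup_dvd_card _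
    exact Odd.of_dvd_nat hG.1 h1
  obtain ⟨η, hη⟩ := Cfsg.Agent.S1502.result W₁ W₂ h.selfNormalizing hodd
  obtain ⟨μ, δ, F⟩ := exists_frame hG hM h hη
  exact ⟨η, μ, δ, F, ty, card_W₂_prime hG hM h ty', ten8 F ty'⟩

theorem typeIII_IV_main [Finite G] (hG : IsMinSimpleOddOrder G) {M W₁ U W₂ : Subgroup G}
    (hM : IsCoatom M) (h : IsTypePWith M W₁ U W₂) (ty : IsOfTypeIII M ∨ IsOfTypeIV M) :
    (Nat.card W₂).Prime ∧ Nat.card W₂ < Nat.card W₁ ∧
    IsElementaryAbelian (Nat.card W₂) (fittingHallOf M) ∧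
    Nat.card (fittingHallOf M) = Nat.card W₂ ^ Nat.card W₁ ∧
    U ⊓ centralizer (fittingHallOf M : Set G) = ⊥ ∧
    IsCyclic U ∧
    (∀ u ∈ U, u ≠ 1 → ∀ x ∈ fittingHallOf M, u * x = x * u → x = 1) ∧
    ∀ X : Subgroup G, X ≤ fittingHallOf M → U ≤ nz X → X = ⊥ ∨ X = fittingHallOf M := by
  haveI := Fintype.ofFinite G
  haveI := Fintype.ofFinite ↥M
  obtain ⟨η, μ, δ, D⟩ := exists_D2 hG hM h ty
  exact D.main

/-- PF (11.9) -/
theorem no_typeIV [Finite G] (hG : IsMinSimpleOddOrder G) {M : Subgroup G} (hM : IsCoatom M) :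
    ¬ IsOfTypeIV M := by
  intro hIV
  obtain ⟨W₁, U, W₂, h, -⟩ := id hIV
  have h1 := typeIII_IV_main hG hM h (Or.inr hIV)
  have h2 := typeIV_of (OOT.coatom_sol hG hM) h hIV
  apply h2.2.2.2.1
  rw [mulComm_iff]
  exact comm_of_cyclic h1.2.2.2.2.2.1

end Cfsg.Agent.PF
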