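import Cfsg.Agent.PF.SecD1
import Cfsg.Agent.PF.BBA
import Cfsg.Agent.S1517
import Cfsg.Agent.S1519
import Cfsg.Agent.S1520

set_option autoImplicit false
set_option linter.all false

/-! PF section 11, (11.3)-(11.6).  (helper22) -/

namespace Cfsg.Agent.PF

open Subgroup
open Cfsg.Agent.L (cj nz SylIn)
open Cfsg.Agent.H21
open Cfsg.Agent.H3
open scoped Pointwise commutatorElement

universe u
variable {G : Type u} [Group G]

/-- hypotheses for PF section 11 -/
structure IsD2 [Fintype G] (M W₁ U W₂ : Subgroup G) [Fintype ↥M] (η : Lin W₁ W₂ → G → ℂ)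
    (μ : Lin W₁ W₂ → ↥M → ℂ) (δ : Lin W₁ W₂ → ℤ) : Prop where
  F : IsFrame M W₁ U W₂ η μ δ
  ty : IsOfTypeIII M ∨ IsOfTypeIV M
  hp : (Nat.card W₂).Prime
  ncoh : ¬ IsCoherent (SM M ⊥) {1}ᶜ (tauM M)

theorem subgroupOf_normal {A M : Subgroup G} (h : M ≤ nz A) : (A.subgroupOf M).Normal := by
  refine ⟨fun n hn g => ?_⟩
  rw [mem_subgroupOf] at hn ⊢
  have h1 : (g : G) ∈ nz A := h g.2
  exact (Subgroup.mem_normalizer_iff.1 h1 _).1 hn

theorem relIndex_subOf {A B M : Subgroup G} (h : B ≤ M) :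
    (A.subgroupOf M).relIndex (B.subgroupOf M) = A.relIndex B := by
  exact Subgroup.relIndex_subgroupOf h

theorem index_subOf {A M : Subgroup G} : (A.subgroupOf M).index = A.relIndex M := rfl

theorem commutator_subOf (M : Subgroup G) : commutator ↥M = (⁅M, M⁆ : Subgroup G).subgroupOf M := by
  have h := map_subtype_commutator M
  rw [← h]
  ext x
  simp [mem_subgroupOf]

theorem sup_subOf {A B M : Subgroup G} (hA : A ≤ M) (hB : B ≤ M) :
    (A ⊔ B).subgroupOf M = A.subgroupOf M ⊔ B.subgroupOf M := Subgroup.subgroupOf_sup hA hB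

theorem comm_subOf {A B M : Subgroup G} (hA : A ≤ M) (hB : B ≤ M) :
    ⁅A.subgroupOf M, B.subgroupOf M⁆ = (⁅A, B⁆ : Subgroup G).subgroupOf M := by
  have h := Subgroup.map_commutator (A.subgroupOf M) (B.subgroupOf M) M.subtype
  rw [subgroupOf_map_subtype, subgroupOf_map_subtype, inf_eq_left.2 hA, inf_eq_left.2 hB] at h
  rw [← h]
  ext x
  simp [mem_subgroupOf]

variable [Fintype G] {M W₁ U W₂ : Subgroup G} [Fintype ↥M] {η : Lin W₁ W₂ → G → ℂ}
    {μ : Lin W₁ W₂ → ↥M → ℂ} {δ : Lin W₁ W₂ → ℤ}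

namespace IsD2

theorem sol (D : IsD2 M W₁ U W₂ η μ δ) : Group.IsSolvable M := OOT.coatom_sol D.F.hG D.F.hM

theorem hIII (D : IsD2 M W₁ U W₂ η μ δ) : U ≠ ⊥ ∧ (Nat.card W₁).Prime := by
  rcases D.ty with h | h
  · have := typeIII_of D.sol D.F.hP h
    exact ⟨this.1, this.2.1⟩
  · have := typeIV_of D.sol D.F.hP h
    exact ⟨this.1, this.2.1⟩

theorem D1 (D : IsD2 M W₁ U W₂ η μ δ) : IsD1 M W₁ U W₂ where
  h := D.F.hP
  hU := D.hIII.1
  hq := D.hIII.2
  hp := D.hp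
  odd := D.F.oddM

theorem ty' (D : IsD2 M W₁ U W₂ η μ δ) : IsOfTypeIII M ∨ IsOfTypeIV M ∨ IsOfTypeV M := by
  rcases D.ty with h | h
  · exact Or.inl h
  · exact Or.inr (Or.inl h)

theorem SM_eq (D : IsD2 M W₁ U W₂ η μ δ) (A : Subgroup ↥M) :
    SM M A = inducedIrrAbove (commutator ↥M) A := D.F.SM_eq D.ty' A

theorem index_K (D : IsD2 M W₁ U W₂ η μ δ) : (commutator ↥M).index = Nat.card W₁ := by
  rw [commutator_subOf, index_subOf, complIn_relIndex_left D.F.hP.W₁_compl]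

theorem sol_K (D : IsD2 M W₁ U W₂ η μ δ) : Group.IsSolvable ↥(commutator ↥M) := by
  have := D.sol
  infer_instance

/-- the coherence system -/
theorem exists_R (D : IsD2 M W₁ U W₂ η μ δ) :
    ∃ R, IsCoherenceSystem (inducedIrrAbove (commutator ↥M) ⊥) (tauM M) R := by
  obtain ⟨R, h, -, -⟩ := D.F.cohSys
  rw [D.SM_eq] at h
  exact ⟨R, h⟩

theorem pq_big {p q : ℕ} (hp : p.Prime) (hq : q.Prime) (hpo : Odd p) (hqo : Odd q) (hne : p ≠ q) :
    4 * q ^ 2 + 1 < p ^ q := by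
  have hp3 : 3 ≤ p := by
    have := hp.two_le
    rcases hpo with ⟨k, rfl⟩; omega
  have hq3 : 3 ≤ q := by
    have := hq.two_le
    rcases hqo with ⟨k, rfl⟩; omega
  rcases eq_or_ne q 3 with rfl | hq'
  · have : 5 ≤ p := by
      rcases hpo with ⟨k, rfl⟩; omega
    calc 4 * 3 ^ 2 + 1 < 5 ^ 3 := by norm_num
      _ ≤ p ^ 3 := Nat.pow_le_pow_left this 3
  · have hq5 : 5 ≤ q := by
      rcases hqo with ⟨k, rfl⟩; omega
    have key : ∀ n : ℕ, 5 ≤ n → 4 * n ^ 2 + 1 < 3 ^ n := by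
      intro n hn
      induction n, hn using Nat.le_induction with
      | base => norm_num
      | succ n hn ih =>
        rw [pow_succ 3 n]
        nlinarith
    exact (key q hq5).trans_le (Nat.pow_le_pow_left hp3 q)

theorem card_HC (D : IsD1 M W₁ U W₂) :
    Nat.card ↥(fittingHallOf M ⊔ CZ M U) = Nat.card (fittingHallOf M) * Nat.card (CZ M U) :=
  D.card_sup_of le_rfl CZ_le ((CZ_le.trans D.U_nz_H))

theorem card_H₀C (D : IsD1 M W₁ U W₂) :
    Nat.card ↥(HZ M U ⊔ CZ M U) = Nat.card (HZ M U) * Nat.card (CZ M U) :=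
  D.card_sup_of HZ_le CZ_le (CZ_le.trans D.U_nz_HZ)

theorem relIndex_HC (D : IsD1 M W₁ U W₂) :
    (HZ M U ⊔ CZ M U).relIndex (fittingHallOf M ⊔ CZ M U) = Nat.card W₂ ^ Nat.card W₁ := by
  have h1 := card_mul_relIndex' (sup_le_sup_right (HZ_le (M := M) (U := U)) (CZ M U))
  rw [card_HC D, card_H₀C D, D.card_H] at h1
  have h2 : 0 < Nat.card (HZ M U) * Nat.card (CZ M U) := Nat.mul_pos Nat.card_pos Nat.card_pos
  apply Nat.eq_of_mul_eq_mul_left h2
  rw [h1]; ring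

/-- (11.3) -/
theorem not_coh_H₀C (D : IsD2 M W₁ U W₂ η μ δ) :
    ¬ IsCoherent (SM M ((HZ M U ⊔ CZ M U).subgroupOf M)) {1}ᶜ (tauM M) := by
  intro hcoh
  apply D.ncoh
  obtain ⟨R, hR⟩ := D.exists_R
  rw [D.SM_eq] at hcoh ⊢
  have D1 := D.D1
  have hHCM : fittingHallOf M ⊔ CZ M U ≤ M := D1.HC_le.trans (commutator_le_self M)
  haveI n1 : ((HZ M U ⊔ CZ M U).subgroupOf M).Normal := subgroupOf_normal D1.M_nz_H₀C
  haveI n2 : ((fittingHallOf M ⊔ CZ M U).subgroupOf M).Normal := subgroupOf_normal D1.M_nz_HC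
  have hnil : Group.IsNilpotent ↥((fittingHallOf M ⊔ CZ M U).subgroupOf M) := by
    have := D1.nil_HC
    exact Group.nilpotent_of_mulEquiv (Subgroup.subgroupOfEquivOfLe hHCM).symm
  refine Cfsg.Agent.S1520.result (commutator ↥M) D.sol_K (tauM M) R hR ⊥
    ((HZ M U ⊔ CZ M U).subgroupOf M) ((fittingHallOf M ⊔ CZ M U).subgroupOf M) bot_le
    (Subgroup.comap_mono (sup_le_sup_right HZ_le _)) ?_ inferInstance hcoh ?_
  · rw [commutator_subOf]
    exact Subgroup.comap_mono D1.HC_le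
  · rw [D.index_K, relIndex_subOf hHCM, relIndex_HC D1]
    exact pq_big D.hp D1.hq D1.p_odd D1.q_odd D1.p_ne_q

theorem index_HC (D : IsD1 M W₁ U W₂) :
    (fittingHallOf M ⊔ CZ M U).relIndex ⁅M, M⁆ = (CZ M U).relIndex U := by
  have h1 := card_mul_relIndex' D.HC_le
  have h2 := card_mul_relIndex' (CZ_le (M := M) (U := U))
  rw [card_HC D, ← D.h.card_M', ← h2, mul_assoc] at h1
  exact Nat.eq_of_mul_eq_mul_left Nat.card_pos (Nat.eq_of_mul_eq_mul_left Nat.card_pos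
    (by rw [h1]))

theorem der_HC_le (D : IsD1 M W₁ U W₂) :
    ⁅fittingHallOf M ⊔ CZ M U, fittingHallOf M ⊔ CZ M U⁆ ≤ HZ M U ⊔ CZ M U := by
  set N := HZ M U ⊔ CZ M U with hN
  have hH : fittingHallOf M ≤ nz N := (fhOf_le M).trans D.M_nz_H₀C
  have hC : CZ M U ≤ nz N := (CZ_le.trans D.h.U_le).trans D.M_nz_H₀C
  have key : ∀ A B : Subgroup G, A ≤ fittingHallOf M ∨ A ≤ CZ M U → 
      B ≤ fittingHallOf M ∨ B ≤ CZ M U → ⁅A, B⁆ ≤ N := by
    have hHC : ∀ A B : Subgroup G, A ≤ fittingHallOf M → B ≤ CZ M U → ⁅A, B⁆ = ⊥ := by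
      intro A B hA hB
      rw [commutator_eq_bot_iff_le_centralizer]
      exact hA.trans (le_cent_comm.1 (hB.trans inf_le_right))
    intro A B hA hB
    rcases hA with hA | hA <;> rcases hB with hB | hB
    · exact ((commutator_mono hA hB).trans D.derH_le).trans le_sup_left
    · rw [hHC A B hA hB]; exact bot_le
    · rw [commutator_comm, hHC B A hB hA]; exact bot_le
    · exact ((commutator_mono hA hB).trans (Subgroup.commutator_le_self _)).trans le_sup_right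
  have e1 : fittingHallOf M ⊔ CZ M U ≤ H23.centMod (fittingHallOf M ⊔ CZ M U) N := by
    have h2 : ∀ A : Subgroup G, (A = fittingHallOf M ∨ A = CZ M U) →
        fittingHallOf M ⊔ CZ M U ≤ H23.centMod A N := by
      intro A hA
      have hA' : A ≤ fittingHallOf M ∨ A ≤ CZ M U := hA.imp Eq.le Eq.le
      refine sup_le ?_ ?_
      · rw [H23.le_centMod_iff hH]; exact key _ _ (Or.inl le_rfl) hA'
      · rw [H23.le_centMod_iff hC]; exact key _ _ (Or.inr le_rfl) hA'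
    refine sup_le ?_ ?_
    · rw [H23.le_centMod_iff hH, commutator_comm, ← H23.le_centMod_iff (sup_le hH hC)]
      exact h2 _ (Or.inl rfl)
    · rw [H23.le_centMod_iff hC, commutator_comm, ← H23.le_centMod_iff (sup_le hH hC)]
      exact h2 _ (Or.inr rfl)
  rwa [H23.le_centMod_iff (sup_le hH hC)] at e1

theorem u_gt (D : IsD1 M W₁ U W₂) : 1 < (CZ M U).relIndex U := by
  have h1 : (CZ M U).relIndex U ≠ 1 := by
    intro e
    exact D.CZ_ne (le_antisymm CZ_le (relIndex_eq_one.1 e))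
  have h2 : (CZ M U).relIndex U ≠ 0 := by
    intro e
    have h3 := card_mul_relIndex' (CZ_le (M := M) (U := U))
    rw [e, mul_zero] at h3
    exact Nat.card_pos.ne h3
  omega

/-- (11.4) -/
theorem coh_bound (D : IsD2 M W₁ U W₂ η μ δ) {A : Subgroup G} (hA : A < ⁅M, M⁆) (hn : M ≤ nz A)
    (hcoh : IsCoherent (SM M (A.subgroupOf M)) {1}ᶜ (tauM M)) :
    A.relIndex ⁅M, M⁆ ≤ 2 * Nat.card W₁ * (CZ M U).relIndex U + 1 := by
  by_contra hlt
  push Not at hlt
  apply D.not_coh_H₀C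
  obtain ⟨R, hR⟩ := D.exists_R
  rw [D.SM_eq] at hcoh ⊢
  have D1 := D.D1
  have hM' : (⁅M, M⁆ : Subgroup G) ≤ M := commutator_le_self M
  have hHCM : fittingHallOf M ⊔ CZ M U ≤ M := D1.HC_le.trans hM'
  haveI n0 : (A.subgroupOf M).Normal := subgroupOf_normal hn
  haveI n1 : ((HZ M U ⊔ CZ M U).subgroupOf M).Normal := subgroupOf_normal D1.M_nz_H₀C
  haveI n2 : ((fittingHallOf M ⊔ CZ M U).subgroupOf M).Normal := subgroupOf_normal D1.M_nz_HC
  have hsup : HZ M U ⊔ CZ M U ≤ fittingHallOf M ⊔ CZ M U := sup_le_sup_right HZ_le _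
  have hHCne : fittingHallOf M ⊔ CZ M U < ⁅M, M⁆ := by
    refine lt_of_le_of_ne D1.HC_le fun e => ?_
    have h1 := u_gt D1
    rw [← index_HC D1, e, relIndex_self] at h1
    exact lt_irrefl _ h1
  have lt_sub : ∀ {B : Subgroup G}, B < ⁅M, M⁆ → B.subgroupOf M < commutator ↥M := by
    intro B hB
    rw [commutator_subOf]
    refine lt_of_le_of_ne (Subgroup.comap_mono hB.le) fun e => hB.ne ?_
    have h1 := congrArg (Subgroup.map M.subtype) e
    rwa [subgroupOf_map_subtype, subgroupOf_map_subtype, inf_eq_left.2 hM',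
      inf_eq_left.2 (hB.le.trans hM')] at h1
  refine Cfsg.Agent.S1519.result (commutator ↥M) D.sol_K (tauM M) R hR (A.subgroupOf M)
    ((HZ M U ⊔ CZ M U).subgroupOf M) ((fittingHallOf M ⊔ CZ M U).subgroupOf M)
    ((fittingHallOf M ⊔ CZ M U).subgroupOf M) (lt_sub hA) (lt_sub (hsup.trans_lt hHCne))
    (Subgroup.comap_mono hsup) le_rfl (lt_sub hHCne).le ?_ hcoh ?_
  · intro x hx y hy
    rw [mem_subgroupOf] at hx hy ⊢
    exact der_HC_le D1 (commutator_mem_commutator hx hy)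
  · rw [relIndex_self, mul_one, index_subOf, commutator_subOf, relIndex_subOf hM']
    have e1 : (fittingHallOf M ⊔ CZ M U).relIndex M = (CZ M U).relIndex U * Nat.card W₁ := by
      rw [← index_HC D1, ← Subgroup.relIndex_mul_relIndex _ _ _ D1.HC_le hM',
        complIn_relIndex_left D.F.hP.W₁_compl]
    rw [e1]
    have h3 : 2 * Nat.card W₁ * (CZ M U).relIndex U < A.relIndex ⁅M, M⁆ - 1 := by omega
    calc 4 * ((CZ M U).relIndex U * Nat.card W₁) ^ 2
        = (2 * Nat.card W₁ * (CZ M U).relIndex U) ^ 2 := by ring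
      _ < (A.relIndex ⁅M, M⁆ - 1) ^ 2 := Nat.pow_lt_pow_left h3 (by norm_num)

end IsD2

end Cfsg.Agent.PF
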