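import Cfsg.Agent.PF.SecD2
import Cfsg.Agent.H3.IndCoh3

set_option autoImplicit false
set_option linter.all false

/-! PF section 11, (11.5), (11.6).  (helper22) -/

namespace Cfsg.Agent.PF

open Subgroup
open Cfsg.Agent.L (cj nz SylIn)
open Cfsg.Agent.H21
open Cfsg.Agent.H3
open scoped Pointwise commutatorElement

universe u
variable {G : Type u} [Group G]

/-- degree of an irreducible character with `K'` in the kernel -/
theorem dg_eq_one_of_der {L : Type u} [Group L] [Fintype L] {K : Subgroup L} {B : Subgroup L}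
    (hB : ⁅K, K⁆ ≤ B) {θ : K → ℂ} (hθ : IsIrrCharacter K θ)
    (h : ∀ a : K, (a : L) ∈ B → θ a = θ 1) : dg θ = 1 := by
  have h1 := deg_bound (K := K) (B := B) (C := K) (D := K) le_rfl le_rfl
    (fun x hx y hy => hB (commutator_mem_commutator hx hy)) hθ h
  rw [relIndex_self] at h1
  have h2 := dg_pos hθ
  nlinarith

variable [Fintype G] {M W₁ U W₂ : Subgroup G} [Fintype ↥M] {η : Lin W₁ W₂ → G → ℂ}
    {μ : Lin W₁ W₂ → ↥M → ℂ} {δ : Lin W₁ W₂ → ℤ}

namespace IsD2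

/-- members of `S(B)`, `M'' ≤ B`, have degree `q`. -/
theorem deg_der (D : IsD2 M W₁ U W₂ η μ δ) {B : Subgroup ↥M}
    (hB : ⁅commutator ↥M, commutator ↥M⁆ ≤ B) {χ : ↥M → ℂ}
    (h : χ ∈ inducedIrrAbove (commutator ↥M) B) : χ 1 = (Nat.card W₁ : ℂ) := by
  obtain ⟨θ, hθ, -, h2, rfl⟩ := h
  rw [dg_eq (isChar_ind _ (irr_isChar hθ)), dg_ind (irr_isChar hθ), dg_eq_one_of_der hB hθ h2,
    D.index_K, mul_one]

theorem der_subOf (D : IsD2 M W₁ U W₂ η μ δ) :
    ⁅commutator ↥M, commutator ↥M⁆ = (⁅⁅M, M⁆, ⁅M, M⁆⁆ : Subgroup G).subgroupOf M := by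
  rw [commutator_subOf, comm_subOf (commutator_le_self M) (commutator_le_self M)]

theorem HC_lt (D : IsD1 M W₁ U W₂) : fittingHallOf M ⊔ CZ M U < ⁅M, M⁆ := by
  refine lt_of_le_of_ne D.HC_le fun e => ?_
  have h1 := u_gt D
  rw [← index_HC D, e, relIndex_self] at h1
  exact lt_irrefl _ h1

theorem sub_lt (M : Subgroup G) {B : Subgroup G} (hB : B < ⁅M, M⁆) :
    B.subgroupOf M < commutator ↥M := by
  have hM' : (⁅M, M⁆ : Subgroup G) ≤ M := commutator_le_self M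
  rw [commutator_subOf]
  refine lt_of_le_of_ne (Subgroup.comap_mono hB.le) fun e => hB.ne ?_
  have h1 := congrArg (Subgroup.map M.subtype) e
  rwa [subgroupOf_map_subtype, subgroupOf_map_subtype, inf_eq_left.2 hM',
    inf_eq_left.2 (hB.le.trans hM')] at h1

/-- `S(B)` is coherent if `M'' ≤ B < M'`. -/
theorem coh_der (D : IsD2 M W₁ U W₂ η μ δ) {B : Subgroup G} (hn : M ≤ nz B)
    (h1 : ⁅⁅M, M⁆, ⁅M, M⁆⁆ ≤ B) (h2 : B < ⁅M, M⁆) :
    IsCoherent (SM M (B.subgroupOf M)) {1}ᶜ (tauM M) := by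
  obtain ⟨R, hR⟩ := D.exists_R
  rw [D.SM_eq]
  haveI n0 : (B.subgroupOf M).Normal := subgroupOf_normal hn
  have hle : ⁅commutator ↥M, commutator ↥M⁆ ≤ B.subgroupOf M := by
    rw [D.der_subOf]; exact Subgroup.comap_mono h1
  refine Cfsg.Agent.S1517.result _ (tauM M) R (sys_mono hR (above_mono bot_le)
    (exists_above (inferInstance : (commutator ↥M).Normal) n0 (sub_lt M h2))
    (fun φ hφ => conj_above hφ)) ?_
  intro φ hφ ψ hψ
  rw [D.deg_der hle hφ, D.deg_der hle hψ]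

theorem nz_M'' (M : Subgroup G) : M ≤ nz (⁅⁅M, M⁆, ⁅M, M⁆⁆ : Subgroup G) :=
  le_nz_comm (le_nz_commutator M) (le_nz_commutator M)

/-- (11.5) -/
theorem M''_eq (D : IsD2 M W₁ U W₂ η μ δ) :
    (⁅⁅M, M⁆, ⁅M, M⁆⁆ : Subgroup G) = fittingHallOf M ⊔ CZ M U := by
  have D1 := D.D1
  have hle := D1.der2_le
  have hlt : (⁅⁅M, M⁆, ⁅M, M⁆⁆ : Subgroup G) < ⁅M, M⁆ := hle.trans_lt (HC_lt D1)
  have h1 := D.coh_bound hlt (nz_M'' M) (D.coh_der (nz_M'' M) le_rfl hlt)
  have h2 := Subgroup.relIndex_mul_relIndex _ _ _ hle D1.HC_le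
  rw [index_HC D1] at h2
  rw [← h2] at h1
  have hW2 : W₂ ≤ ⁅⁅M, M⁆, ⁅M, M⁆⁆ := D1.h.W₂_le.trans inf_le_right
  have h3 := D1.relIndex_mod hle D1.HC_le (D1.h.W₁_le.trans (nz_M'' M))
    (D1.h.W₁_le.trans D1.M_nz_HC) (by
      rw [inf_eq_right.2 hW2, inf_eq_right.2 (hW2.trans hle)])
  have hu := u_gt D1
  have hq := D1.hq.pos
  set r := (⁅⁅M, M⁆, ⁅M, M⁆⁆ : Subgroup G).relIndex (fittingHallOf M ⊔ CZ M U) with hr
  set uu := (CZ M U).relIndex U
  set q := Nat.card W₁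
  have h4 : r < 2 * q + 1 := by
    by_contra hcon
    push Not at hcon
    have : (2 * q + 1) * uu ≤ r * uu := Nat.mul_le_mul_right _ hcon
    have : (2 * q + 1) * uu = 2 * q * uu + uu := by ring
    omega
  have h6 : r ≠ 0 := by
    intro e
    have h7 := card_mul_relIndex' hle
    rw [← hr, e, mul_zero] at h7
    exact Nat.card_pos.ne h7
  have h5 : r = 1 := by
    have h8 : r % (2 * q) = 1 % (2 * q) := h3
    rw [Nat.mod_eq_of_lt (by omega : 1 < 2 * q)] at h8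
    rcases Nat.lt_or_ge r (2 * q) with h9 | h9
    · rwa [Nat.mod_eq_of_lt h9] at h8
    · have : r = 2 * q := by omega
      rw [this, Nat.mod_self] at h8
      omega
  exact le_antisymm hle (relIndex_eq_one.1 h5)

/-- `[H, U] H' ⊔ U' = H ⊔ C` -/
theorem split (D : IsD2 M W₁ U W₂ η μ δ) :
    ⁅fittingHallOf M, U⁆ ⊔ ⁅fittingHallOf M, fittingHallOf M⁆ = fittingHallOf M ∧ ⁅U, U⁆ = CZ M U := by
  have D1 := D.D1
  set H := fittingHallOf M with hH
  set N : Subgroup G := ⁅H, U⁆ ⊔ ⁅H, H⁆ with hN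
  have hNH : N ≤ H := sup_le (H23.commutator_le_of_le_normalizer D1.U_nz_H)
    (Subgroup.commutator_le_self _)
  have hUN : U ≤ nz N := le_nz_sup (le_nz_comm D1.U_nz_H (L.le_nz U)) (le_nz_comm D1.U_nz_H D1.U_nz_H)
  have hHN : H ≤ nz N := nz_of_der_le hNH le_sup_right
  have hUU : ⁅U, U⁆ ≤ U := Subgroup.commutator_le_self _
  set T : Subgroup G := N ⊔ ⁅U, U⁆ with hT
  have hHT : H ≤ nz T := by
    -- `[H, T] ≤ N`
    refine H23.le_normalizer_of_conj_mem fun a ha g hg => ?_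
    have hgM : g ∈ H23.centMod H N := by
      have h1 : N ≤ H23.centMod H N := by
        rw [H23.le_centMod_iff (hNH.trans hHN)]
        exact (commutator_mono hNH le_rfl).trans le_sup_right
      have h2 : ⁅U, U⁆ ≤ H23.centMod H N := by
        rw [H23.le_centMod_iff (hUU.trans hUN), commutator_comm]
        exact (commutator_mono le_rfl hUU).trans le_sup_left
      exact (sup_le h1 h2) hg
    have h3 : ⁅g, a⁆ ∈ N := hgM.2 a ha
    have : a * g * a⁻¹ = ⁅g, a⁆⁻¹ * g := by rw [commutatorElement_def]; group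
    rw [this]
    exact mul_mem (mem_sup_left (inv_mem h3)) hg
  have hUT : U ≤ nz T := le_nz_sup hUN (nz_of_der_le hUU le_rfl)
  have hHC : H ≤ H23.centMod H T := by
    rw [H23.le_centMod_iff hHT]; exact le_sup_right.trans le_sup_left
  have hUH : U ≤ H23.centMod H T := by
    rw [H23.le_centMod_iff hUT, commutator_comm]; exact le_sup_left.trans le_sup_left
  have hHU : H ≤ H23.centMod U T := by
    rw [H23.le_centMod_iff hHT]; exact le_sup_left.trans le_sup_left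
  have hUU' : U ≤ H23.centMod U T := by
    rw [H23.le_centMod_iff hUT]; exact le_sup_right
  have e1 : ⁅⁅M, M⁆, ⁅M, M⁆⁆ ≤ T := by
    rw [← D1.M'_eq, ← hH]
    rw [← H23.le_centMod_iff (sup_le hHT hUT)]
    refine sup_le ?_ ?_
    · rw [H23.le_centMod_iff hHT, commutator_comm, ← H23.le_centMod_iff (sup_le hHT hUT)]
      exact sup_le hHC hUH
    · rw [H23.le_centMod_iff hUT, commutator_comm, ← H23.le_centMod_iff (sup_le hHT hUT)]
      exact sup_le hHU hUU'
  rw [D.M''_eq, ← hH] at e1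
  have e2 := Subgroup.card_le_of_le e1
  rw [hT, D1.card_sup_of hNH hUU (hUU.trans hUN), hH, card_HC D1, ← hH] at e2
  have c1 : Nat.card N ≤ Nat.card H := Subgroup.card_le_of_le hNH
  have c2 : Nat.card ↥(⁅U, U⁆ : Subgroup G) ≤ Nat.card (CZ M U) := Subgroup.card_le_of_le D1.derU_le
  have p1 : 0 < Nat.card (CZ M U) := Nat.card_pos
  have p2 : 0 < Nat.card N := Nat.card_pos
  constructor
  · refine Subgroup.eq_of_le_of_card_ge hNH ?_
    have h1 : Nat.card H * Nat.card (CZ M U) ≤ Nat.card N * Nat.card (CZ M U) :=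
      e2.trans (Nat.mul_le_mul_left _ c2)
    exact Nat.le_of_mul_le_mul_right h1 p1
  · refine Subgroup.eq_of_le_of_card_ge D1.derU_le ?_
    have h1 : Nat.card N * Nat.card (CZ M U) ≤ Nat.card N * Nat.card ↥(⁅U, U⁆ : Subgroup G) :=
      (Nat.mul_le_mul_right _ c1).trans e2
    exact Nat.le_of_mul_le_mul_left h1 p2

/-- (11.6) `[H, U] = H`. -/
theorem commHU (D : IsD2 M W₁ U W₂ η μ δ) : ⁅fittingHallOf M, U⁆ = fittingHallOf M :=
  H23.eq_of_sup_commutator (fhOf_nilpotent M)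
    (H23.commutator_le_of_le_normalizer D.D1.U_nz_H) D.split.1.ge

theorem derU (D : IsD2 M W₁ U W₂ η μ δ) : ⁅U, U⁆ = CZ M U := D.split.2

end IsD2

end Cfsg.Agent.PF
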