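import Cfsg.Agent.PF.SecD1
import Cfsg.Agent.H23.Coprime3
import Cfsg.Agent.H3.Core4
import Cfsg.Agent.H3.Basic2

set_option autoImplicit false
set_option linter.all false

/-! PF section 11, group theoretic part 2: (11.7).  (helper22) -/

namespace Cfsg.Agent.PF

open Subgroup
open Cfsg.Agent.L (cj nz SylIn)
open Cfsg.Agent.H21
open scoped Pointwise commutatorElement

universe u
variable {G : Type u} [Group G]

/-- `U` acts irreducibly on `H / C_H(U)` -/
def GalD (M U : Subgroup G) : Prop :=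
  ∀ X : Subgroup G, HZ M U ≤ X → X ≤ fittingHallOf M → U ≤ nz X →
    X = HZ M U ∨ X = fittingHallOf M

theorem cj_iSup' {ι : Sort*} (g : G) (X : ι → Subgroup G) : cj g (⨆ i, X i) = ⨆ i, cj g (X i) :=
  Subgroup.map_iSup _ _

theorem U_nz_cj {U W E : Subgroup G} (hW : W ≤ nz U) (hL : U ≤ nz E) {w : G} (hw : w ∈ W) :
    U ≤ nz (cj w E) := by
  rw [L.nz_cj, ← L.mem_nz_iff.1 (hW hw)]
  exact L.cj_mono hL

/-- the partial products `E E^g ... E^(g^(k-1))` -/
def chn (N E : Subgroup G) (g : G) : ℕ → Subgroup G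
  | 0 => N
  | (k + 1) => chn N E g k ⊔ cj (g ^ k) E

theorem le_chn {N E : Subgroup G} {g : G} (k : ℕ) : N ≤ chn N E g k := by
  induction k with
  | zero => exact le_rfl
  | succ k ih => exact ih.trans le_sup_left

theorem chn_mono {N E : Subgroup G} {g : G} {m k : ℕ} (h : m ≤ k) : chn N E g m ≤ chn N E g k := by
  induction h with
  | refl => exact le_rfl
  | step _ ih => exact ih.trans le_sup_left

theorem cj_le_chn {N E : Subgroup G} {g : G} {m k : ℕ} (h : m < k) :
    cj (g ^ m) E ≤ chn N E g k := le_sup_right.trans (chn_mono (Nat.succ_le_of_lt h))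

variable [Finite G]
variable {M W₁ U W₂ : Subgroup G}

namespace IsD1

theorem W₂_not_le (D : IsD1 M W₁ U W₂) : ¬ W₂ ≤ HZ M U := by
  intro hle
  have h1 : W₂ ≤ fittingHallOf M ⊓ centralizer ((U ⊔ W₁ : Subgroup G) : Set G) := by
    refine le_inf D.h.W₂_le_H ?_
    rw [le_cent_comm]
    refine sup_le ?_ ?_
    · rw [le_cent_comm]; exact hle.trans inf_le_right
    · intro x hx
      exact mem_cent_iff.2 fun y hy => (W₂_comm D.h hx hy).symm ▸ rfl
  rw [D.fix_bot, le_bot_iff] at h1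
  exact D.h.selfNormalizing.2.1 h1

theorem exists_gen (D : IsD1 M W₁ U W₂) : ∃ g ∈ W₁, ∀ w ∈ W₁, ∃ i < Nat.card W₁, w = g ^ i := by
  obtain ⟨g, hg⟩ := D.h.W₁_cyclic.exists_generator
  refine ⟨g, g.2, fun w hw => ?_⟩
  have h1 := hg ⟨w, hw⟩
  have ho : orderOf g = Nat.card W₁ := orderOf_eq_card_of_forall_mem_zpowers hg
  classical
  rw [mem_zpowers_iff_mem_range_orderOf, Finset.mem_image] at h1
  obtain ⟨i, hi, e⟩ := h1
  rw [Finset.mem_range, ho] at hi
  exact ⟨i, hi, (congrArg Subtype.val e).symm⟩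

/-- the product of the `W₁`-conjugates of a nontrivial `U`-invariant section is everything. -/
theorem chn_top (D : IsD1 M W₁ U W₂) {E : Subgroup G} (h0 : HZ M U ≤ E) (hne : E ≠ HZ M U)
    (hLH : E ≤ fittingHallOf M) (hUL : U ≤ nz E) {g : G} (hg : g ∈ W₁)
    (hgen : ∀ w ∈ W₁, ∃ i < Nat.card W₁, w = g ^ i) :
    chn (HZ M U) E g (Nat.card W₁) = fittingHallOf M := by
  have hcH : ∀ w ∈ W₁, cj w E ≤ fittingHallOf M := by
    intro w hw
    rw [← L.mem_nz_iff.1 (D.W₁_nz_H hw)]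
    exact L.cj_mono hLH
  have hle : ∀ k, chn (HZ M U) E g k ≤ fittingHallOf M := by
    intro k
    induction k with
    | zero => exact HZ_le
    | succ k ih => exact sup_le ih (hcH _ (pow_mem hg k))
  have hU : ∀ k, U ≤ nz (chn (HZ M U) E g k) := by
    intro k
    induction k with
    | zero => exact D.U_nz_HZ
    | succ k ih => exact le_nz_sup ih (U_nz_cj D.h.U_normal hUL (pow_mem hg k))
  have hbig : ∀ w ∈ W₁, cj w E ≤ chn (HZ M U) E g (Nat.card W₁) := by
    intro w hw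
    obtain ⟨i, hi, rfl⟩ := hgen w hw
    exact cj_le_chn hi
  have hle2 : ∀ (Y : Subgroup G), HZ M U ≤ Y → (∀ w ∈ W₁, cj w E ≤ Y) → ∀ k, chn (HZ M U) E g k ≤ Y := by
    intro Y hY hw k
    induction k with
    | zero => exact hY
    | succ k ih => exact sup_le ih (hw _ (pow_mem hg k))
  have hW : W₁ ≤ nz (chn (HZ M U) E g (Nat.card W₁)) := by
    intro w hw
    rw [L.mem_nz_iff]
    refine L.eq_of_le_of_card_le ?_ (by rw [L.card_cj])
    have h1 : chn (HZ M U) E g (Nat.card W₁) ≤ cj w⁻¹ (chn (HZ M U) E g (Nat.card W₁)) := by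
      refine hle2 _ ?_ ?_ _
      · have h9 := L.cj_mono (g := w⁻¹) (le_chn (N := HZ M U) (E := E) (g := g) (Nat.card W₁))
        rwa [L.mem_nz_iff.1 (D.W₁_nz_HZ (inv_mem hw))] at h9
      · intro v hv
        have h2 : cj v E = cj w⁻¹ (cj (w * v) E) := by rw [L.cj_cj]; congr 1; group
        rw [h2]
        exact L.cj_mono (hbig _ (mul_mem hw hv))
    have h3 := L.cj_mono (g := w) h1
    rwa [L.cj_cj, mul_inv_cancel, L.cj_one] at h3
  rcases D.between (hle _) (le_chn _) (hU _) hW with e | e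
  · exfalso
    apply hne
    apply le_antisymm _ h0
    rw [← e]
    have := hbig 1 (one_mem _)
    rwa [L.cj_one] at this
  · exact e

theorem chn_index (D : IsD1 M W₁ U W₂) {E : Subgroup G} (h0 : HZ M U ≤ E)
    (hLH : E ≤ fittingHallOf M) (hUL : U ≤ nz E)
    (hmin : ∀ X : Subgroup G, HZ M U ≤ X → X ≤ E → U ≤ nz X → X = HZ M U ∨ X = E)
    {g : G} (hg : g ∈ W₁) (k : ℕ) :
    ∃ j ≤ k, (HZ M U).relIndex (chn (HZ M U) E g k) = ((HZ M U).relIndex E) ^ j := by
  have hcH : ∀ w ∈ W₁, cj w E ≤ fittingHallOf M := by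
    intro w hw
    rw [← L.mem_nz_iff.1 (D.W₁_nz_H hw)]
    exact L.cj_mono hLH
  have hle : ∀ k, chn (HZ M U) E g k ≤ fittingHallOf M := by
    intro k
    induction k with
    | zero => exact HZ_le
    | succ k ih => exact sup_le ih (hcH _ (pow_mem hg k))
  have hU : ∀ k, U ≤ nz (chn (HZ M U) E g k) := by
    intro k
    induction k with
    | zero => exact D.U_nz_HZ
    | succ k ih => exact le_nz_sup ih (U_nz_cj D.h.U_normal hUL (pow_mem hg k))
  induction k with
  | zero => exact ⟨0, le_rfl, by rw [pow_zero]; exact relIndex_self _⟩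
  | succ k ih =>
    obtain ⟨j, hj, e⟩ := ih
    set X := chn (HZ M U) E g k with hX
    set E' := cj (g ^ k) E with hL'
    have hgk : g ^ k ∈ W₁ := pow_mem hg k
    have h0' : HZ M U ≤ E' := by
      rw [← L.mem_nz_iff.1 (D.W₁_nz_HZ hgk)]; exact L.cj_mono h0
    have hUL' : U ≤ nz E' := U_nz_cj D.h.U_normal hUL hgk
    have hr : (HZ M U).relIndex E' = (HZ M U).relIndex E := by
      have := L.relIndex_cj (g ^ k) (HZ M U) E
      rwa [L.mem_nz_iff.1 (D.W₁_nz_HZ hgk)] at this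
    have hmin' : X ⊓ E' = HZ M U ∨ X ⊓ E' = E' := by
      have h1 := hmin (cj (g ^ k)⁻¹ (X ⊓ E')) ?_ ?_ ?_
      · rcases h1 with h1 | h1
        · left
          have := congrArg (cj (g ^ k)) h1
          rwa [L.cj_cj, mul_inv_cancel, L.cj_one, L.mem_nz_iff.1 (D.W₁_nz_HZ hgk)] at this
        · right
          have := congrArg (cj (g ^ k)) h1
          rwa [L.cj_cj, mul_inv_cancel, L.cj_one] at this
      · rw [← L.mem_nz_iff.1 (D.W₁_nz_HZ (inv_mem hgk))]
        exact L.cj_mono (le_inf (le_chn _) h0')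
      · have := L.cj_mono (g := (g ^ k)⁻¹) (inf_le_right : X ⊓ E' ≤ E')
        rwa [hL', L.cj_inv_cj] at this
      · exact U_nz_cj D.h.U_normal (le_nz_inf (hU k) hUL') (inv_mem hgk)
    show ∃ j' ≤ k + 1, (HZ M U).relIndex (X ⊔ E') = _
    rcases hmin' with h1 | h1
    · refine ⟨j + 1, by omega, ?_⟩
      have hn : E' ≤ nz X := (hcH _ hgk).trans (nz_of_der_le (hle k) (D.derH_le.trans (le_chn _)))
      have h2 := H1.card_sup_mul_card_inf_of_le_normalizer hn
      rw [h1] at h2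
      have h3 := card_mul_relIndex' (h0'.trans (le_sup_right : E' ≤ X ⊔ E'))
      have h4 := card_mul_relIndex' h0'
      have h5 := card_mul_relIndex' (le_chn (N := HZ M U) (E := E) (g := g) k)
      rw [← hX, e] at h5
      rw [hr] at h4
      have hpos : 0 < Nat.card (HZ M U) := Nat.card_pos
      apply Nat.eq_of_mul_eq_mul_left hpos
      apply Nat.eq_of_mul_eq_mul_right hpos
      rw [h3, h2, ← h4, ← h5]
      ring
    · refine ⟨j, by omega, ?_⟩
      rw [sup_eq_left.2 (inf_eq_right.1 h1), e]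

/-- if `U` does not act irreducibly on `H / H₀`, there is an invariant `E` with `|E : H₀| = p`. -/
theorem exists_E (D : IsD1 M W₁ U W₂) (hg : ¬ GalD M U) :
    ∃ E : Subgroup G, HZ M U ≤ E ∧ E ≤ fittingHallOf M ∧ U ≤ nz E ∧
      (HZ M U).relIndex E = Nat.card W₂ := by
  classical
  unfold GalD at hg
  push Not at hg
  obtain ⟨X, hX0, hXH, hUX, hne0, hneH⟩ := hg
  -- a minimal one below X
  let S : Set (Subgroup G) := {Y | HZ M U ≤ Y ∧ Y ≤ X ∧ U ≤ nz Y ∧ Y ≠ HZ M U}
  have hSne : S.Nonempty := ⟨X, hX0, le_rfl, hUX, hne0⟩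
  obtain ⟨E, hE, hEmin⟩ := (Set.toFinite S).exists_minimal hSne
  obtain ⟨h0, hEX, hUE, hEne⟩ := hE
  have hEH : E ≤ fittingHallOf M := hEX.trans hXH
  have hmin : ∀ Y : Subgroup G, HZ M U ≤ Y → Y ≤ E → U ≤ nz Y → Y = HZ M U ∨ Y = E := by
    intro Y h1 h2 h3
    by_cases h4 : Y = HZ M U
    · exact Or.inl h4
    · right
      exact le_antisymm h2 (hEmin ⟨h1, h2.trans hEX, h3, h4⟩ h2)
  obtain ⟨g, hgW, hgen⟩ := D.exists_gen
  obtain ⟨j, hj, e⟩ := D.chn_index h0 hEH hUE hmin hgW (Nat.card W₁)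
  rw [D.chn_top h0 hEne hEH hUE hgW hgen] at e
  have hp := D.hp
  have hq := D.hq
  have h5 : (HZ M U).relIndex (fittingHallOf M) = Nat.card W₂ ^ Nat.card W₁ := by
    have h6 := card_mul_relIndex' (HZ_le (M := M) (U := U))
    rw [D.card_H, mul_comm] at h6
    exact Nat.eq_of_mul_eq_mul_right Nat.card_pos h6
  rw [h5] at e
  have hjne : j ≠ 0 := by
    rintro rfl
    rw [pow_zero] at e
    exact (Nat.one_lt_pow hq.ne_zero hp.one_lt).ne' e
  have hdvd : (HZ M U).relIndex E ∣ Nat.card W₂ ^ Nat.card W₁ := by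
    rw [e]; exact dvd_pow_self _ hjne
  obtain ⟨a, ha, e2⟩ := (Nat.dvd_prime_pow hp).1 hdvd
  rw [e2, ← pow_mul] at e
  have e3 := Nat.pow_right_injective hp.two_le e
  rcases (Nat.dvd_prime hq).1 (Dvd.intro j e3.symm) with h7 | h7
  · refine ⟨E, h0, hEH, hUE, ?_⟩
    rw [e2, h7, pow_one]
  · exfalso
    apply hneH
    apply le_antisymm hXH
    have h8 : (HZ M U).relIndex E = (HZ M U).relIndex (fittingHallOf M) := by rw [e2, h7, h5]
    have h9 := card_mul_relIndex' h0
    have h10 := card_mul_relIndex' (HZ_le (M := M) (U := U))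
    rw [h8, h10] at h9
    rw [Subgroup.eq_of_le_of_card_ge hEH h9.le] at hEX
    exact hEX

end IsD1

end Cfsg.Agent.PF
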