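import Cfsg.Agent.PF.SecD4
import Cfsg.Agent.H3.GoingDown

set_option autoImplicit false
set_option linter.all false

/-! PF section 11, group theoretic part 3: (11.7), Galois case.  (helper22) -/

namespace Cfsg.Agent.PF

open Subgroup
open Cfsg.Agent.L (cj nz SylIn)
open Cfsg.Agent.H21
open Cfsg.Agent.H3
open scoped Pointwise commutatorElement ComplexConjugate

universe u

section char

variable {P : Type u} [Group P]

theorem irr_mul_central {χ : P → ℂ} (hχ : IsIrrCharacter P χ) {z : P} (hz : z ∈ center P) (x : P) :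
    χ (x * z) * χ 1 = χ z * χ x := by
  obtain ⟨n, ρ, hirr, rfl⟩ := hχ
  haveI := hirr
  let T : Representation.IntertwiningMap ρ ρ :=
    ⟨ρ z, fun g => LinearMap.ext fun v => by
      show ρ z (ρ g v) = ρ g (ρ z v)
      rw [← Module.End.mul_apply, ← Module.End.mul_apply, ← map_mul, ← map_mul,
        Subgroup.mem_center_iff.mp hz g]⟩
  obtain ⟨c, hc⟩ := (Representation.IsIrreducible.algebraMap_intertwiningMap_bijective_of_isAlgClosed
    (ρ := ρ)).2 T
  have hc' : ρ z = c • LinearMap.id := by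
    have := congrArg (fun x : Representation.IntertwiningMap ρ ρ => x.toLinearMap) hc
    rw [Representation.IntertwiningMap.algebraMap_apply] at this
    exact this.symm
  have h1 : ρ.character (x * z) = c * ρ.character x := by
    show LinearMap.trace ℂ _ (ρ (x * z)) = c * LinearMap.trace ℂ _ (ρ x)
    rw [map_mul, hc', mul_smul_comm, map_smul, smul_eq_mul]
    rfl
  have h2 : ρ.character z = c * ρ.character 1 := by
    show LinearMap.trace ℂ _ (ρ z) = c * LinearMap.trace ℂ _ (ρ 1)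
    rw [hc', map_smul, smul_eq_mul, map_one]
    rfl
  rw [h1, h2]; ring

theorem irr_central_norm [Finite P] {χ : P → ℂ} (hχ : IsIrrCharacter P χ) {z : P} (hz : z ∈ center P) :
    χ z * conj (χ z) = χ 1 * χ 1 := by
  have h1 := irr_mul_central hχ hz z⁻¹
  rw [inv_mul_cancel] at h1
  have h2 : χ z⁻¹ = conj (χ z) := by
    obtain ⟨n, ρ, hirr, rfl⟩ := hχ
    exact rep_char_inv ρ z
  rw [h1, h2]

/-- an irreducible character vanishing off a central subgroup has degree `√|P : Z|`. -/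
theorem card_of_vanish [Finite P] {χ : P → ℂ} (hχ : IsIrrCharacter P χ) {Z : Subgroup P}
    (hZ : Z ≤ center P) (hv : ∀ x, x ∉ Z → χ x = 0) :
    ∃ d : ℕ, Nat.card P = Nat.card Z * d ^ 2 := by
  classical
  haveI := Fintype.ofFinite P
  obtain ⟨d, -, hd⟩ := irr_one_eq_nat hχ
  refine ⟨d, ?_⟩
  have h1 := classInner_self_of_irr hχ
  unfold classInner at h1
  have hP : (Nat.card P : ℂ) ≠ 0 := card_ne_zeroC
  have h2 : ∀ x : P, χ x * conj (χ x) = if x ∈ Z then (d : ℂ) ^ 2 else 0 := by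
    intro x
    split_ifs with h
    · rw [irr_central_norm hχ (hZ h), hd]; ring
    · rw [hv x h, zero_mul]
  rw [Finset.sum_congr rfl fun x _ => h2 x, ← sum_subgroup_eq Z (fun _ => (d : ℂ) ^ 2),
    Finset.sum_const, Finset.card_univ, nsmul_eq_mul, ← Nat.card_eq_fintype_card,
    inv_mul_eq_one₀ hP] at h1
  exact_mod_cast h1

theorem irr_vanish_of_comm {χ : P → ℂ} (hχ : IsIrrCharacter P χ) {x y : P}
    (hc : ⁅x⁻¹, y⁆ ∈ center P) (hne : χ ⁅x⁻¹, y⁆ ≠ χ 1) : χ x = 0 := by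
  have h1 := irr_mul_central hχ hc x
  have h2 : x * ⁅x⁻¹, y⁆ = y * x * y⁻¹ := by rw [commutatorElement_def]; group
  rw [h2, irr_classFun hχ x y] at h1
  have h3 : (χ 1 - χ ⁅x⁻¹, y⁆) * χ x = 0 := by linear_combination h1
  rcases mul_eq_zero.1 h3 with h | h
  · exact absurd (sub_eq_zero.1 h).symm hne
  · exact h

end char

variable {G : Type u} [Group G]

/-- `IsD1` with `[H, U] = H`. -/
structure IsD3 (M W₁ U W₂ : Subgroup G) : Prop extends IsD1 M W₁ U W₂ where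
  comm : ⁅fittingHallOf M, U⁆ = fittingHallOf M

variable [Finite G]
variable {M W₁ U W₂ : Subgroup G}

namespace IsD3

theorem HZ_eq (D : IsD3 M W₁ U W₂) : HZ M U = ⁅fittingHallOf M, fittingHallOf M⁆ := by
  apply le_antisymm _ D.toIsD1.derH_le
  have h1 := H23.commutator_inf_centralizer_le_derived D.toIsD1.U_nz_H D.h.coprime_HU.symm
  rwa [D.comm] at h1

theorem HZ_cent (D : IsD3 M W₁ U W₂) : ⁅fittingHallOf M, HZ M U⁆ = ⊥ := by
  have h1 : ⁅⁅fittingHallOf M, U⁆, HZ M U⁆ = ⊥ := by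
    apply commutator_commutator_eq_bot_of_rotate
    · have : ⁅U, HZ M U⁆ = ⊥ := by
        rw [commutator_comm, commutator_eq_bot_iff_le_centralizer]; exact inf_le_right
      rw [this, commutator_bot_left]
    · rw [commutator_eq_bot_iff_le_centralizer]
      have : ⁅HZ M U, fittingHallOf M⁆ ≤ HZ M U :=
        (commutator_mono HZ_le le_rfl).trans D.toIsD1.derH_le
      exact this.trans inf_le_right
  rwa [D.comm] at h1

theorem H_cent (D : IsD3 M W₁ U W₂) {x z : G} (hx : x ∈ fittingHallOf M) (hz : z ∈ HZ M U) :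
    x * z = z * x := by
  have h := commutator_mem_commutator hx hz
  rw [D.HZ_cent, Subgroup.mem_bot] at h
  exact commutatorElement_eq_one_iff_mul_comm.1 h

theorem U_cent (D : IsD3 M W₁ U W₂) {x z : G} (hx : x ∈ U) (hz : z ∈ HZ M U) :
    x * z = z * x := mem_cent_iff.1 hz.2 x hx |>.symm

theorem comm_mem (D : IsD3 M W₁ U W₂) {x y : G} (hx : x ∈ fittingHallOf M)
    (hy : y ∈ fittingHallOf M) : ⁅x, y⁆ ∈ HZ M U :=
  D.toIsD1.derH_le (commutator_mem_commutator hx hy)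

/-- commutators are multiplicative in the first variable -/
theorem comm_mul_left (D : IsD3 M W₁ U W₂) {x x' y : G} (hx : x ∈ fittingHallOf M)
    (hx' : x' ∈ fittingHallOf M) (hy : y ∈ fittingHallOf M) : ⁅x * x', y⁆ = ⁅x, y⁆ * ⁅x', y⁆ := by
  have h1 := D.H_cent hx (D.comm_mem hx' hy)
  have h2 : ⁅x * x', y⁆ = x * ⁅x', y⁆ * x⁻¹ * ⁅x, y⁆ := by
    simp only [commutatorElement_def]; group
  rw [h2, h1]
  have h3 := D.H_cent (D.toIsD1.derH_le.trans HZ_le (commutator_mem_commutator hx hy)) (D.comm_mem hx' hy)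
  rw [mul_assoc (⁅x', y⁆) x x⁻¹, mul_inv_cancel, mul_one, h3]

theorem comm_pow_left (D : IsD3 M W₁ U W₂) {x y : G} (hx : x ∈ fittingHallOf M)
    (hy : y ∈ fittingHallOf M) (n : ℕ) : ⁅x ^ n, y⁆ = ⁅x, y⁆ ^ n := by
  induction n with
  | zero => simp
  | succ n ih => rw [pow_succ, D.comm_mul_left (pow_mem hx n) hx hy, ih, pow_succ]

theorem comm_inv_right (D : IsD3 M W₁ U W₂) {x y : G} (hx : x ∈ fittingHallOf M)
    (hy : y ∈ fittingHallOf M) (n : ℕ) : ⁅x, y ^ n⁆ = ⁅x, y⁆ ^ n := by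
  have h1 := D.comm_pow_left hy hx n
  rw [← commutatorElement_inv, h1, ← inv_pow, commutatorElement_inv]

/-- `x ^ p ∈ H₀` -/
theorem pow_mem (D : IsD3 M W₁ U W₂) {x : G} (hx : x ∈ fittingHallOf M) :
    x ^ Nat.card W₂ ∈ HZ M U := by
  set p := Nat.card W₂
  set H := fittingHallOf M with hH
  -- multiplicativity modulo H₀
  haveI hN : ((HZ M U).subgroupOf H).Normal := by
    refine ⟨fun n hn g => ?_⟩
    rw [mem_subgroupOf] at hn ⊢
    show (g : G) * n * (g : G)⁻¹ ∈ HZ M U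
    rw [D.H_cent g.2 hn, mul_inv_cancel_right]; exact hn
  have hcomm : ∀ a b : ↥H ⧸ ((HZ M U).subgroupOf H), a * b = b * a := by
    intro a b
    obtain ⟨a, rfl⟩ := QuotientGroup.mk_surjective a
    obtain ⟨b, rfl⟩ := QuotientGroup.mk_surjective b
    rw [← QuotientGroup.mk_mul, ← QuotientGroup.mk_mul, QuotientGroup.eq, mem_subgroupOf]
    have h1 := D.comm_mem (inv_mem b.2) (inv_mem a.2)
    have h2 : (((a * b)⁻¹ * (b * a) : ↥H) : G) = ⁅(b : G)⁻¹, (a : G)⁻¹⁆ := by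
      simp only [commutatorElement_def, Subgroup.coe_mul, Subgroup.coe_inv]; group
    rw [h2]; exact h1
  let Om : Subgroup G :=
    { carrier := {x | x ∈ H ∧ x ^ p ∈ HZ M U}
      one_mem' := ⟨one_mem _, by rw [one_pow]; exact one_mem _⟩
      mul_mem' := by
        rintro a b ⟨ha, ha'⟩ ⟨hb, hb'⟩
        refine ⟨mul_mem ha hb, ?_⟩
        have e1 : (((⟨a, ha⟩ * ⟨b, hb⟩ : ↥H) ^ p : ↥H) : ↥H ⧸ ((HZ M U).subgroupOf H)) = 1 := by
          have k1 : (((⟨a, ha⟩ : ↥H) ^ p : ↥H) : ↥H ⧸ ((HZ M U).subgroupOf H)) = 1 :=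
            (QuotientGroup.eq_one_iff _).2 (show a ^ p ∈ HZ M U from ha')
          have k2 : (((⟨b, hb⟩ : ↥H) ^ p : ↥H) : ↥H ⧸ ((HZ M U).subgroupOf H)) = 1 :=
            (QuotientGroup.eq_one_iff _).2 (show b ^ p ∈ HZ M U from hb')
          rw [QuotientGroup.mk_pow] at k1 k2 ⊢
          rw [QuotientGroup.mk_mul, (show Commute _ _ from hcomm _ _).mul_pow, k1, k2, one_mul]
        rw [QuotientGroup.eq_one_iff, mem_subgroupOf] at e1
        exact e1
      inv_mem' := by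
        rintro a ⟨ha, ha'⟩
        exact ⟨inv_mem ha, by rw [inv_pow]; exact inv_mem ha'⟩ }
  have hO : Om ≤ H := fun x hx => hx.1
  have hO0 : HZ M U ≤ Om := fun x hx => ⟨HZ_le hx, Subgroup.pow_mem _ hx _⟩
  have hnz : ∀ {A : Subgroup G}, A ≤ nz H → A ≤ nz (HZ M U) → A ≤ nz Om := by
    intro A hA hA0 
    refine H23.le_normalizer_of_conj_mem fun a ha g hg => ?_
    refine ⟨H23.mem_normalizer_conj hA ha hg.1, ?_⟩
    rw [conj_pow]
    exact H23.mem_normalizer_conj hA0 ha hg.2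
  rcases D.toIsD1.between hO hO0 (hnz D.toIsD1.U_nz_H D.toIsD1.U_nz_HZ)
    (hnz D.toIsD1.W₁_nz_H D.toIsD1.W₁_nz_HZ) with e | e
  · exfalso
    apply D.toIsD1.W₂_not_le
    rw [← e]
    intro w hw
    refine ⟨D.h.W₂_le_H hw, ?_⟩
    have := pow_card_eq_one' (x := (⟨w, hw⟩ : W₂))
    have h2 : w ^ p = 1 := congrArg Subtype.val this
    rw [h2]; exact one_mem _
  · have : x ∈ Om := by rw [e]; exact hx
    exact this.2

theorem comm_pow_p (D : IsD3 M W₁ U W₂) {x y : G} (hx : x ∈ fittingHallOf M)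
    (hy : y ∈ fittingHallOf M) : ⁅x, y⁆ ^ Nat.card W₂ = 1 := by
  rw [← D.comm_pow_left hx hy]
  rw [commutatorElement_eq_one_iff_mul_comm]
  exact (D.H_cent hy (D.pow_mem hx)).symm

/-- Galois case of (11.7). -/
theorem abel_gal (D : IsD3 M W₁ U W₂) (hg : GalD M U) : 
    ⁅fittingHallOf M, fittingHallOf M⁆ = ⊥ := by
  classical
  by_contra hne
  set H := fittingHallOf M with hH
  have hex : ∃ x ∈ H, ∃ y ∈ H, ⁅x, y⁆ ≠ 1 := by
    by_contra hcon
    push Not at hcon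
    apply hne
    rw [eq_bot_iff, commutator_le]
    intro a ha b hb
    rw [Subgroup.mem_bot]; exact hcon a ha b hb
  obtain ⟨x₀, hx₀, y₀, hy₀, hc₀⟩ := hex
  -- a character separating
  have hZc : (HZ M U).subgroupOf H ≤ center ↥H := by
    intro z hz
    rw [Subgroup.mem_center_iff]
    intro g
    exact Subtype.ext (D.H_cent g.2 hz)
  have hsep : ¬ IsConj (⁅(⟨x₀, hx₀⟩ : ↥H), (⟨y₀, hy₀⟩ : ↥H)⁆) (1 : ↥H) := by
    intro h
    apply hc₀
    have := isConj_one_left.1 h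
    exact congrArg Subtype.val this
  rw [isConj_iff_irr] at hsep
  push Not at hsep
  obtain ⟨⟨χ, hχ⟩, hχ0⟩ := hsep
  have hcm : ∀ x y : ↥H, ⁅x, y⁆ ∈ center ↥H := fun x y => hZc (D.comm_mem x.2 y.2)
  have hχ1 : χ 1 ≠ 0 := irr_one_ne_zero hχ
  -- the radical
  let R : Subgroup G :=
    { carrier := {x | ∃ hx : x ∈ H, ∀ y : ↥H, χ ⁅(⟨x, hx⟩ : ↥H), y⁆ = χ 1}
      one_mem' := ⟨one_mem _, fun y => by
        congr 1
        exact commutatorElement_one_left y⟩
      mul_mem' := by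
        rintro a b ⟨ha, ha'⟩ ⟨hb, hb'⟩
        refine ⟨mul_mem ha hb, fun y => ?_⟩
        have e1 : ⁅(⟨a * b, mul_mem ha hb⟩ : ↥H), y⁆ = ⁅(⟨a, ha⟩ : ↥H), y⁆ * ⁅(⟨b, hb⟩ : ↥H), y⁆ :=
          Subtype.ext (D.comm_mul_left ha hb y.2)
        have e2 := irr_mul_central hχ (hcm (⟨b, hb⟩ : ↥H) y) ⁅(⟨a, ha⟩ : ↥H), y⁆
        rw [← e1, ha' y, hb' y] at e2
        exact mul_right_cancel₀ hχ1 e2
      inv_mem' := by
        rintro a ⟨ha, ha'⟩
        refine ⟨inv_mem ha, fun y => ?_⟩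
        have e1 : ⁅(⟨a⁻¹, inv_mem ha⟩ : ↥H), y⁆ * ⁅(⟨a, ha⟩ : ↥H), y⁆ = 1 := by
          have := D.comm_mul_left (inv_mem ha) ha y.2
          rw [inv_mul_cancel, commutatorElement_one_left] at this
          exact Subtype.ext this.symm
        have e2 := irr_mul_central hχ (hcm (⟨a, ha⟩ : ↥H) y) ⁅(⟨a⁻¹, inv_mem ha⟩ : ↥H), y⁆
        rw [e1, ha' y] at e2
        exact (mul_left_cancel₀ hχ1 e2).symm }
  have hR0 : HZ M U ≤ R := by
    intro z hz
    refine ⟨HZ_le hz, fun y => ?_⟩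
    congr 1
    apply Subtype.ext
    show ⁅z, (y : G)⁆ = 1
    rw [commutatorElement_eq_one_iff_mul_comm]
    exact (D.H_cent y.2 hz).symm
  have hRH : R ≤ H := fun x hx => hx.1
  have hUR : U ≤ nz R := by
    refine H23.le_normalizer_of_conj_mem fun a ha g hg => ?_
    obtain ⟨hgH, hg⟩ := hg
    refine ⟨H23.mem_normalizer_conj D.toIsD1.U_nz_H ha hgH, fun y => ?_⟩
    have hy' : a⁻¹ * (y : G) * a ∈ H := by
      have := H23.mem_normalizer_conj D.toIsD1.U_nz_H (inv_mem ha) y.2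
      simpa using this
    have e1 := hg ⟨_, hy'⟩
    rw [← e1]
    congr 1
    apply Subtype.ext
    show ⁅a * g * a⁻¹, (y : G)⁆ = ⁅g, a⁻¹ * (y : G) * a⁆
    have h1 := D.U_cent ha (D.comm_mem hgH hy')
    have h2 : ⁅a * g * a⁻¹, (y : G)⁆ = a * ⁅g, a⁻¹ * (y : G) * a⁆ * a⁻¹ := by
      simp only [commutatorElement_def]; group
    rw [h2, h1, mul_inv_cancel_right]
  rcases hg R hR0 hRH hUR with e | e
  · -- `χ` vanishes off `H₀`
    obtain ⟨d, hd⟩ := card_of_vanish hχ hZc (fun x hx => by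
      have hx1 : (x : G)⁻¹ ∉ R := by
        rw [e]
        intro h
        apply hx
        have := inv_mem h
        rw [inv_inv] at this
        exact this
      have hx2 : ∃ y : ↥H, χ ⁅x⁻¹, y⁆ ≠ χ 1 := by
        by_contra hcon
        push Not at hcon
        exact hx1 ⟨inv_mem x.2, hcon⟩
      obtain ⟨y, hy⟩ := hx2
      exact irr_vanish_of_comm hχ (hcm _ _) hy)
    rw [Nat.card_congr (Subgroup.subgroupOfEquivOfLe HZ_le).toEquiv, D.toIsD1.card_H, mul_comm] at hd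
    have h1 := Nat.eq_of_mul_eq_mul_left Nat.card_pos hd
    -- p ^ q = d ^ 2
    have hp := D.hp
    obtain ⟨a, -, ha⟩ := (Nat.dvd_prime_pow hp).1 (show d ∣ Nat.card W₂ ^ Nat.card W₁ from by
      rw [h1]; exact dvd_pow_self _ two_ne_zero)
    rw [ha, ← pow_mul] at h1
    have h2 : Nat.card W₁ = a * 2 := Nat.pow_right_injective hp.two_le h1
    obtain ⟨k, hk⟩ := D.toIsD1.q_odd
    omega
  · have : x₀ ∈ R := by rw [e]; exact hx₀
    obtain ⟨h1, h2⟩ := this
    exact hχ0 (h2 ⟨y₀, hy₀⟩)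

end IsD3

end Cfsg.Agent.PF
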