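import Cfsg.Agent.PF.SecD5

set_option autoImplicit false
set_option linter.all false

/-! PF section 11, group theoretic part 4: (11.7), non-Galois case.  (helper22) -/

namespace Cfsg.Agent.PF

open Subgroup
open Cfsg.Agent.L (cj nz SylIn)
open Cfsg.Agent.H21
open scoped Pointwise commutatorElement

universe u
variable {G : Type u} [Group G]

variable [Finite G]
variable {M W₁ U W₂ : Subgroup G}

theorem mem_sup_of_nz {A B : Subgroup G} (h : A ≤ nz B) {y : G} (hy : y ∈ B ⊔ A) :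
    ∃ b ∈ B, ∃ a ∈ A, y = b * a := by
  rw [← SetLike.mem_coe, Subgroup.coe_mul_of_right_le_normalizer_left _ _ h] at hy
  obtain ⟨b, hb, a, ha, e⟩ := hy
  exact ⟨b, hb, a, ha, e.symm⟩

namespace IsD3

/-- `E/H₀` of order `p` is generated by any `x ∈ E ∖ H₀` -/
theorem gen_E (D : IsD3 M W₁ U W₂) {E : Subgroup G} (h0 : HZ M U ≤ E) (hEH : E ≤ fittingHallOf M)
    (hp : (HZ M U).relIndex E = Nat.card W₂) {x : G} (hx : x ∈ E) (hx0 : x ∉ HZ M U) {y : G}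
    (hy : y ∈ E) : ∃ i : ℕ, ∃ h ∈ HZ M U, y = x ^ i * h := by
  have hzx : zpowers x ≤ nz (HZ M U) := by
    rw [zpowers_le]
    exact D.toIsD1.H_nz_HZ (hEH hx)
  have e1 : zpowers x ⊔ HZ M U = E := by
    have hle : zpowers x ⊔ HZ M U ≤ E := sup_le (by rwa [zpowers_le]) h0
    have h2 := Subgroup.relIndex_mul_relIndex (HZ M U) (zpowers x ⊔ HZ M U) E le_sup_right hle
    rw [hp] at h2
    rcases (Nat.dvd_prime D.hp).1 (Dvd.intro _ h2) with h3 | h3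
    · exfalso
      apply hx0
      exact (relIndex_eq_one.1 h3) (mem_sup_left (mem_zpowers x))
    · rw [h3] at h2
      have h4 : (zpowers x ⊔ HZ M U).relIndex E = 1 :=
        Nat.eq_of_mul_eq_mul_left D.hp.pos (by rw [h2, mul_one])
      exact le_antisymm hle (relIndex_eq_one.1 h4)
  rw [← e1, sup_comm] at hy
  obtain ⟨a, ha, b, hb, rfl⟩ : ∃ a ∈ zpowers x, ∃ b ∈ HZ M U, y = a * b := by
    rw [sup_comm] at hy
    have h5 : y⁻¹ ∈ HZ M U ⊔ zpowers x := by rw [sup_comm]; exact inv_mem hy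
    rw [sup_comm] at h5
    obtain ⟨b, hb, a, ha, e⟩ := mem_sup_of_nz hzx (sup_comm (zpowers x) (HZ M U) ▸ h5)
    exact ⟨a⁻¹, inv_mem ha, b⁻¹, inv_mem hb, by rw [← mul_inv_rev, ← e, inv_inv]⟩
  obtain ⟨i, rfl⟩ := (Submonoid.mem_powers_iff _ _).1 ((mem_powers_iff_mem_zpowers (x := x)).2 ha)
  exact ⟨i, _, hb, rfl⟩

theorem pow_mem_iff (D : IsD3 M W₁ U W₂) {x : G} (hx : x ∈ fittingHallOf M) (hx0 : x ∉ HZ M U)
    {i : ℕ} : x ^ i ∈ HZ M U ↔ Nat.card W₂ ∣ i := by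
  constructor
  · intro h
    by_contra hnd
    have hc : (Nat.card W₂).Coprime i := (Nat.Prime.coprime_iff_not_dvd D.hp).2 hnd
    apply hx0
    have h1 := D.pow_mem hx
    have h2 : x ^ (1 : ℤ) ∈ HZ M U := by
      rw [show (1 : ℤ) = ((Nat.card W₂).gcd i : ℤ) by rw [hc]; rfl, Nat.gcd_eq_gcd_ab, zpow_add,
        zpow_mul, zpow_mul, zpow_natCast, zpow_natCast]
      exact mul_mem (zpow_mem h1 _) (zpow_mem h _)
    rwa [zpow_one] at h2
  · rintro ⟨k, rfl⟩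
    rw [pow_mul]
    exact Subgroup.pow_mem _ (D.pow_mem hx) _

end IsD3

/-- The data for the non-Galois case -/
structure IsNG (M W₁ U W₂ E : Subgroup G) (x g : G) (k : G → ℕ) : Prop extends
    IsD3 M W₁ U W₂ where
  h0 : HZ M U ≤ E
  hEH : E ≤ fittingHallOf M
  hUE : U ≤ nz E
  hidx : (HZ M U).relIndex E = Nat.card W₂
  hx : x ∈ E
  hx0 : x ∉ HZ M U
  hg : g ∈ W₁
  hgen : ∀ w ∈ W₁, ∃ i < Nat.card W₁, w = g ^ i
  hk : ∀ u ∈ U, ∃ h ∈ HZ M U, u * x * u⁻¹ = x ^ k u * h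

namespace IsNG

variable {E : Subgroup G} {x g : G} {k : G → ℕ}

theorem exists_data (D : IsD3 M W₁ U W₂) (h : ¬ GalD M U) :
    ∃ E x g k, IsNG M W₁ U W₂ E x g k := by
  classical
  obtain ⟨E, h0, hEH, hUE, hidx⟩ := D.toIsD1.exists_E h
  obtain ⟨g, hg, hgen⟩ := D.toIsD1.exists_gen
  have h1 : ¬ E ≤ HZ M U := by
    intro hle
    rw [relIndex_eq_one.2 hle] at hidx
    exact D.hp.one_lt.ne hidx
  obtain ⟨x, hx, hx0⟩ := SetLike.not_le_iff_exists.1 h1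
  have hex : ∀ u, ∃ i : ℕ, u ∈ U → ∃ h ∈ HZ M U, u * x * u⁻¹ = x ^ i * h := by
    intro u
    by_cases hu : u ∈ U
    · obtain ⟨i, h, hh, e⟩ := D.gen_E h0 hEH hidx hx hx0 (H23.mem_normalizer_conj hUE hu hx)
      exact ⟨i, fun _ => ⟨h, hh, e⟩⟩
    · exact ⟨0, fun h => absurd h hu⟩
  choose k hk using hex
  exact ⟨E, x, g, k, ⟨D, h0, hEH, hUE, hidx, hx, hx0, hg, hgen, fun u hu => hk u hu⟩⟩

theorem xH (D : IsNG M W₁ U W₂ E x g k) : x ∈ fittingHallOf M := D.hEH D.hx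

/-- conjugates of `x` -/
theorem cxH (D : IsNG M W₁ U W₂ E x g k) {w : G} (hw : w ∈ W₁) :
    w * x * w⁻¹ ∈ fittingHallOf M := H23.mem_normalizer_conj D.toIsD1.W₁_nz_H hw D.xH

theorem wU (D : IsNG M W₁ U W₂ E x g k) {w u : G} (hw : w ∈ W₁) (hu : u ∈ U) :
    w⁻¹ * u * w ∈ U := by
  have := H23.mem_normalizer_conj D.h.U_normal (inv_mem hw) hu
  simpa using this

theorem uc (D : IsNG M W₁ U W₂ E x g k) {w u : G} (hw : w ∈ W₁) (hu : u ∈ U) :
    ∃ h ∈ HZ M U, u * (w * x * w⁻¹) * u⁻¹ = (w * x * w⁻¹) ^ k (w⁻¹ * u * w) * h := by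
  obtain ⟨h, hh, e⟩ := D.hk _ (D.wU hw hu)
  refine ⟨w * h * w⁻¹, H23.mem_normalizer_conj D.toIsD1.W₁_nz_HZ hw hh, ?_⟩
  have e1 : u * (w * x * w⁻¹) * u⁻¹ = w * (w⁻¹ * u * w * x * (w⁻¹ * u * w)⁻¹) * w⁻¹ := by group
  rw [e1, e, conj_pow]; group

theorem k_rel (D : IsNG M W₁ U W₂ E x g k) {w v : G} (hw : w ∈ W₁) (hv : v ∈ W₁)
    (hne : ⁅w * x * w⁻¹, v * x * v⁻¹⁆ ≠ 1) {u : G} (hu : u ∈ U) :
    (k (w⁻¹ * u * w) : ZMod (Nat.card W₂)) * k (v⁻¹ * u * v) = 1 := by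
  obtain ⟨h, hh, e⟩ := D.uc hw hu
  obtain ⟨h', hh', e'⟩ := D.uc hv hu
  set a := w * x * w⁻¹ with ha
  set b := v * x * v⁻¹ with hb
  have haH : a ∈ fittingHallOf M := D.cxH hw
  have hbH : b ∈ fittingHallOf M := D.cxH hv
  set i := k (w⁻¹ * u * w)
  set j := k (v⁻¹ * u * v)
  have h1 : ⁅a, b⁆ = ⁅a, b⁆ ^ (i * j) := by
    have e1 : u * ⁅a, b⁆ * u⁻¹ = ⁅a, b⁆ := by
      rw [D.toIsD3.U_cent hu (D.toIsD3.comm_mem haH hbH), mul_inv_cancel_right]
    have e2 : u * ⁅a, b⁆ * u⁻¹ = ⁅u * a * u⁻¹, u * b * u⁻¹⁆ := conjugate_commutatorElement _ _ _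
    have hai : a ^ i ∈ fittingHallOf M := Subgroup.pow_mem _ haH _
    have hbj : b ^ j ∈ fittingHallOf M := Subgroup.pow_mem _ hbH _
    have hbjh : b ^ j * h' ∈ fittingHallOf M := mul_mem hbj (HZ_le hh')
    have c1 : ⁅h, b ^ j * h'⁆ = 1 := by
      rw [commutatorElement_eq_one_iff_mul_comm]
      exact (D.toIsD3.H_cent hbjh hh).symm
    have c2 : ⁅h', a ^ i⁆ = 1 := by
      rw [commutatorElement_eq_one_iff_mul_comm]
      exact (D.toIsD3.H_cent hai hh').symm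
    have c3 : ⁅a ^ i, b ^ j * h'⁆ = ⁅a ^ i, b ^ j⁆ := by
      rw [← commutatorElement_inv, D.toIsD3.comm_mul_left hbj (HZ_le hh') hai, c2, mul_one,
        commutatorElement_inv]
    calc ⁅a, b⁆ = ⁅u * a * u⁻¹, u * b * u⁻¹⁆ := by rw [← e2, e1]
      _ = ⁅a, b⁆ ^ (i * j) := by
        rw [e, e', D.toIsD3.comm_mul_left hai (HZ_le hh) hbjh, c1, mul_one, c3,
          D.toIsD3.comm_pow_left haH hbj, D.toIsD3.comm_inv_right haH hbH, ← pow_mul, mul_comm j i]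
  have ho : orderOf ⁅a, b⁆ = Nat.card W₂ := by
    haveI : Fact (Nat.card W₂).Prime := ⟨D.hp⟩
    exact orderOf_eq_prime (D.toIsD3.comm_pow_p haH hbH) hne
  have h2 : i * j ≡ 1 [MOD Nat.card W₂] := by
    rw [← ho, ← pow_eq_pow_iff_modEq, pow_one]
    exact h1.symm
  have h3 := (ZMod.natCast_eq_natCast_iff _ _ _).2 h2
  push_cast at h3
  exact h3

/-- everything in `H` is a product of conjugates of `x` and an element of `H₀` : induction
principle for subgroups. -/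
theorem H_le (D : IsNG M W₁ U W₂ E x g k) {Y : Subgroup G} (h0 : HZ M U ≤ Y)
    (h : ∀ w ∈ W₁, w * x * w⁻¹ ∈ Y) : fittingHallOf M ≤ Y := by
  have hE : E ≠ HZ M U := by
    intro e; apply D.hx0; rw [← e]; exact D.hx
  rw [← D.toIsD1.chn_top D.h0 hE D.hEH D.hUE D.hg D.hgen]
  have key : ∀ j, chn (HZ M U) E g j ≤ Y := by
    intro j
    induction j with
    | zero => exact h0
    | succ j ih =>
      refine sup_le ih ?_
      refine L.cj_le_of_forall fun y hy => ?_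
      obtain ⟨i, z, hz, rfl⟩ := D.toIsD3.gen_E D.h0 D.hEH D.hidx D.hx D.hx0 hy
      have hgj : g ^ j ∈ W₁ := Subgroup.pow_mem _ D.hg _
      have e1 : g ^ j * (x ^ i * z) * (g ^ j)⁻¹ = (g ^ j * x * (g ^ j)⁻¹) ^ i * (g ^ j * z * (g ^ j)⁻¹) := by
        rw [conj_pow]; group
      rw [e1]
      exact mul_mem (Subgroup.pow_mem _ (h _ hgj) _)
        (h0 (H23.mem_normalizer_conj D.toIsD1.W₁_nz_HZ hgj hz))
  exact key _

/-- if all the commutators of conjugates of `x` vanish, `H` is abelian. -/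
theorem abel_of (D : IsNG M W₁ U W₂ E x g k)
    (h : ∀ w ∈ W₁, ∀ v ∈ W₁, ⁅w * x * w⁻¹, v * x * v⁻¹⁆ = 1) :
    ⁅fittingHallOf M, fittingHallOf M⁆ = ⊥ := by
  rw [commutator_eq_bot_iff_le_centralizer]
  have h0 : HZ M U ≤ centralizer (fittingHallOf M : Set G) := by
    intro z hz
    exact mem_cent_iff.2 fun y hy => (D.toIsD3.H_cent hy hz).symm
  refine D.H_le h0 fun w hw => ?_
  have h1 : fittingHallOf M ≤ centralizer ({w * x * w⁻¹} : Set G) := by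
    refine D.H_le ?_ fun v hv => ?_
    · intro z hz
      exact mem_cent_singleton.2 (D.toIsD3.H_cent (D.cxH hw) hz).symm
    · exact mem_cent_singleton.2 (commutatorElement_eq_one_iff_mul_comm.1 (h v hv w hw))
  exact mem_cent_iff.2 fun y hy => (mem_cent_singleton.1 (h1 hy)).symm

theorem k_ne (D : IsNG M W₁ U W₂ E x g k) {u : G} (hu : u ∈ U) :
    (k u : ZMod (Nat.card W₂)) ≠ 0 := by
  intro h
  rw [ZMod.natCast_eq_zero_iff] at h
  obtain ⟨z, hz, e⟩ := D.hk u hu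
  apply D.hx0
  have h1 : u * x * u⁻¹ ∈ HZ M U := by
    rw [e]
    exact mul_mem ((D.toIsD3.pow_mem_iff D.xH D.hx0).2 h) hz
  have h2 := H23.mem_normalizer_conj D.toIsD1.U_nz_HZ (inv_mem hu) h1
  have h3 : u⁻¹ * (u * x * u⁻¹) * u⁻¹⁻¹ = x := by group
  rwa [h3] at h2

/-- if two conjugates of `x` do not commute, the scalars square to one. -/
theorem k_sq (D : IsNG M W₁ U W₂ E x g k) {w v : G} (hw : w ∈ W₁) (hv : v ∈ W₁)
    (hne : ⁅w * x * w⁻¹, v * x * v⁻¹⁆ ≠ 1) {u : G} (hu : u ∈ U) :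
    (k u : ZMod (Nat.card W₂)) * k u = 1 := by
  haveI : Fact (Nat.card W₂).Prime := ⟨D.hp⟩
  set t := w⁻¹ * v with ht
  have htW : t ∈ W₁ := mul_mem (inv_mem hw) hv
  have r1 : ∀ u ∈ U, (k u : ZMod (Nat.card W₂)) * k (t⁻¹ * u * t) = 1 := by
    intro u hu
    have hu' : w * u * w⁻¹ ∈ U := H23.mem_normalizer_conj D.h.U_normal hw hu
    have h1 := D.k_rel hw hv hne hu'
    have e1 : w⁻¹ * (w * u * w⁻¹) * w = u := by group
    have e2 : v⁻¹ * (w * u * w⁻¹) * v = t⁻¹ * u * t := by rw [ht]; group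
    rwa [e1, e2] at h1
  have r2 : ∀ u ∈ U, (k u : ZMod (Nat.card W₂)) = k ((t ^ 2)⁻¹ * u * t ^ 2) := by
    intro u hu
    have h1 := r1 u hu
    have h2 := r1 _ (D.wU htW hu)
    have e1 : t⁻¹ * (t⁻¹ * u * t) * t = (t ^ 2)⁻¹ * u * t ^ 2 := by
      simp only [pow_two, mul_inv_rev, mul_assoc]
    rw [e1] at h2
    have h3 := D.k_ne (D.wU htW hu)
    apply mul_right_cancel₀ h3
    rw [h1, mul_comm, h2]
  have r3 : ∀ j : ℕ, ∀ u ∈ U, (k u : ZMod (Nat.card W₂)) = k ((t ^ (2 * j))⁻¹ * u * t ^ (2 * j)) := by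
    intro j
    induction j with
    | zero => intro u hu; simp
    | succ j ih =>
      intro u hu
      rw [r2 u hu, ih _ (D.wU (Subgroup.pow_mem _ htW 2) hu)]
      congr 2
      rw [show 2 * (j + 1) = 2 + 2 * j by ring, pow_add, mul_inv_rev]
      group
  obtain ⟨j, hj⟩ := D.toIsD1.q_odd
  have htq : t ^ (2 * j) = t⁻¹ := by
    have h1 : t ^ (2 * j + 1) = 1 := by
      rw [← hj]
      have := pow_card_eq_one' (x := (⟨t, htW⟩ : W₁))
      exact congrArg Subtype.val this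
    rw [pow_succ] at h1
    exact eq_inv_of_mul_eq_one_left h1
  have h4 := r3 j u hu
  rw [htq, inv_inv] at h4
  have hu' : t * u * t⁻¹ ∈ U := H23.mem_normalizer_conj D.h.U_normal htW hu
  have h5 := r1 _ hu'
  have e3 : t⁻¹ * (t * u * t⁻¹) * t = u := by group
  rw [e3, ← h4] at h5
  exact h5

/-- non-Galois case of (11.7) -/
theorem abel (D : IsNG M W₁ U W₂ E x g k) : ⁅fittingHallOf M, fittingHallOf M⁆ = ⊥ := by
  haveI : Fact (Nat.card W₂).Prime := ⟨D.hp⟩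
  by_cases hcom : ∀ w ∈ W₁, ∀ v ∈ W₁, ⁅w * x * w⁻¹, v * x * v⁻¹⁆ = 1
  · exact D.abel_of hcom
  exfalso
  push Not at hcom
  obtain ⟨w, hw, v, hv, hne⟩ := hcom
  have hsq : ∀ u ∈ U, (k u : ZMod (Nat.card W₂)) * k u = 1 := fun u hu => D.k_sq hw hv hne hu
  -- `u²` centralizes `x` modulo `H₀`
  have hx2 : ∀ u ∈ U, ⁅x, u * u⁆ ∈ HZ M U := by
    intro u hu
    obtain ⟨z, hz, e⟩ := D.hk u hu
    have h1 : k u * k u ≡ 1 [MOD Nat.card W₂] := by
      rw [← ZMod.natCast_eq_natCast_iff]; push_cast; exact hsq u hu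
    -- u u x u⁻¹ u⁻¹ = x ^ (k*k) * z'
    have e1 : (u * u) * x * (u * u)⁻¹ = (x ^ k u * z) ^ k u * z := by
      have : (u * u) * x * (u * u)⁻¹ = u * (u * x * u⁻¹) * u⁻¹ := by group
      rw [this, e]
      have h2 : u * (x ^ k u * z) * u⁻¹ = (u * x * u⁻¹) ^ k u * (u * z * u⁻¹) := by
        rw [conj_pow]; group
      rw [h2, e, D.toIsD3.U_cent hu hz, mul_inv_cancel_right]
    have hcz : Commute (x ^ k u) z := D.toIsD3.H_cent (Subgroup.pow_mem _ D.xH _) hz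
    rw [hcz.mul_pow, ← pow_mul] at e1
    have h3 : x ^ (k u * k u) * x⁻¹ ∈ HZ M U := by
      have h4 : 1 ≤ k u * k u := by
        rcases Nat.eq_zero_or_pos (k u) with h | h
        · exact absurd (by rw [h]; simp) (D.k_ne hu)
        · exact Nat.mul_pos h h
      have h5 : Nat.card W₂ ∣ k u * k u - 1 := (Nat.modEq_iff_dvd' h4).1 h1.symm
      have h6 : x ^ (k u * k u) * x⁻¹ = x ^ (k u * k u - 1) := by
        rw [mul_inv_eq_iff_eq_mul, ← pow_succ, Nat.sub_add_cancel h4]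
      rw [h6]
      exact (D.toIsD3.pow_mem_iff D.xH D.hx0).2 h5
    have h7 : ⁅x, u * u⁆ = ((u * u) * x * (u * u)⁻¹ * x⁻¹)⁻¹ := by
      simp only [commutatorElement_def, mul_inv_rev, inv_inv, mul_assoc]
    rw [h7, e1]
    apply inv_mem
    have hzz : z ^ k u * z ∈ HZ M U := mul_mem (Subgroup.pow_mem _ hz _) hz
    have h8 : x ^ (k u * k u) * z ^ k u * z * x⁻¹ = x ^ (k u * k u) * x⁻¹ * (z ^ k u * z) := by
      have := D.toIsD3.H_cent (inv_mem D.xH) hzz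
      rw [mul_assoc (x ^ (k u * k u)) x⁻¹, this, mul_assoc, mul_assoc, mul_assoc]
    rw [h8]
    exact mul_mem h3 hzz
  have hcx2 : ∀ w ∈ W₁, ∀ u ∈ U, ⁅w * x * w⁻¹, u * u⁆ ∈ HZ M U := by
    intro w hw u hu
    have h1 := hx2 _ (D.wU hw hu)
    have h2 := H23.mem_normalizer_conj D.toIsD1.W₁_nz_HZ hw h1
    have h3 : w * ⁅x, w⁻¹ * u * w * (w⁻¹ * u * w)⁆ * w⁻¹ = ⁅w * x * w⁻¹, u * u⁆ := by
      simp only [commutatorElement_def]; group
    rwa [h3] at h2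
  -- hence `u² ∈ C`
  have hsqC : ∀ u ∈ U, u * u ∈ CZ M U := by
    intro u hu
    set A := zpowers (u * u) with hA
    have hAU : A ≤ U := by rw [hA, zpowers_le]; exact mul_mem hu hu
    have h1 : fittingHallOf M ≤ H23.centMod A (HZ M U) := by
      refine D.H_le ?_ fun w hw => ?_
      · intro z hz
        refine ⟨L.le_nz _ hz, fun a ha => ?_⟩
        have h2 : ⁅z, a⁆ = 1 := by
          rw [commutatorElement_eq_one_iff_mul_comm]
          exact (D.toIsD3.U_cent (hAU ha) hz).symm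
        rw [h2]; exact one_mem _
      · refine ⟨D.toIsD1.H_nz_HZ (D.cxH hw), fun a ha => ?_⟩
        obtain ⟨i, rfl⟩ := mem_zpowers_iff.1 ha
        have h2 : (u * u) ^ i = u ^ i * u ^ i := (Commute.refl u).mul_zpow i
        rw [h2]
        exact hcx2 w hw _ (zpow_mem hu i)
    have h2 : ⁅fittingHallOf M, A⁆ ≤ HZ M U :=
      (H23.le_centMod_iff D.toIsD1.H_nz_HZ).1 h1
    have h3 := H23.le_centralizer_of_commutator_le (hAU.trans D.toIsD1.U_nz_H)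
      (Nat.Coprime.coprime_dvd_left (Subgroup.card_dvd_of_le hAU) D.h.coprime_HU.symm) h2
      (inf_le_right.trans (Subgroup.centralizer_le (SetLike.coe_subset_coe.2 hAU)))
    exact ⟨mul_mem hu hu, (le_cent_comm.1 h3) (mem_zpowers _)⟩
  apply D.toIsD1.CZ_ne
  apply le_antisymm CZ_le
  intro u hu
  have hodd : Odd (orderOf u) := by
    have h1 : orderOf u ∣ Nat.card U := by
      have := orderOf_dvd_natCard (⟨u, hu⟩ : U)
      rwa [Subgroup.orderOf_mk] at this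
    exact Odd.of_dvd_nat D.odd (h1.trans (Subgroup.card_dvd_of_le D.h.U_le))
  obtain ⟨j, hj⟩ := hodd
  have h1 : u = (u * u) ^ (j + 1) := by
    rw [← pow_two, ← pow_mul, show 2 * (j + 1) = (2 * j + 1) + 1 by ring, ← hj, pow_succ,
      pow_orderOf_eq_one, one_mul]
  rw [h1]
  exact Subgroup.pow_mem _ (hsqC u hu) _

end IsNG

namespace IsD3

/-- (11.7) -/
theorem abel (D : IsD3 M W₁ U W₂) : ⁅fittingHallOf M, fittingHallOf M⁆ = ⊥ := by
  by_cases h : GalD M U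
  · exact D.abel_gal h
  · obtain ⟨E, x, g, k, hE⟩ := IsNG.exists_data D h
    exact hE.abel

theorem HZ_bot (D : IsD3 M W₁ U W₂) : HZ M U = ⊥ := by rw [D.HZ_eq, D.abel]

theorem struct (D : IsD3 M W₁ U W₂) :
    IsElementaryAbelian (Nat.card W₂) (fittingHallOf M) ∧
      Nat.card (fittingHallOf M) = Nat.card W₂ ^ Nat.card W₁ := H_struct D.h D.hU D.hp D.HZ_bot

end IsD3

end Cfsg.Agent.PF
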