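import Cfsg.Agent.PF.SecD6
import Cfsg.Agent.PF.SecD3

set_option autoImplicit false
set_option linter.all false

/-! PF section 11: the degree of the `θ_j` is `u = |U : C|`.  (helper22) -/

namespace Cfsg.Agent.PF

open Subgroup
open Cfsg.Agent.L (cj nz SylIn)
open Cfsg.Agent.H21
open scoped Pointwise commutatorElement

universe u
variable {G : Type u} [Group G]

section grp

variable [Finite G]
variable {M W₁ U W₂ : Subgroup G}

/-- the fixed point formula for a `W₁`-invariant subgroup of `U` -/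
theorem IsD1.formula_T (D : IsD1 M W₁ U W₂) {T : Subgroup G} (hT : T ≤ U) (hT1 : T ≠ ⊥)
    (hWT : W₁ ≤ nz T) :
    Nat.card ↥(fittingHallOf M ⊓ centralizer ((T ⊔ W₁ : Subgroup G) : Set G)) ^ Nat.card W₁ *
      Nat.card (fittingHallOf M) =
      Nat.card W₂ ^ Nat.card W₁ * Nat.card ↥(fittingHallOf M ⊓ centralizer (T : Set G)) := by
  have h := D.h
  have hcTW : Nat.card ↥(T ⊔ W₁) = Nat.card T * Nat.card W₁ := by
    have h1 := complIn_of_sup (A := T) (B := W₁) hWT (by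
      rw [eq_bot_iff, ← U_inf_W₁ h]; exact inf_le_inf_right _ hT) rfl
    exact (complIn_card h1).symm
  have hcard : (Nat.card (fittingHallOf M)).Coprime (Nat.card ↥(T ⊔ W₁)) := by
    rw [hcTW]
    exact Nat.Coprime.mul_right
      (Nat.Coprime.coprime_dvd_right (Subgroup.card_dvd_of_le hT) h.coprime_HU) h.coprime_HW₁
  have hsol : Group.IsSolvable (fittingHallOf M) := by
    have := fhOf_nilpotent M
    infer_instance
  have key := Cfsg.Agent.S1545.result T W₁ (fittingHallOf M) hT1 h.W₁_ne (by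
      rw [eq_bot_iff, ← U_inf_W₁ h]; exact inf_le_inf_right _ hT)
    (fun e he u hu => (Subgroup.mem_normalizer_iff.1 (hWT he) _).1 hu)
    (fun e he he1 u hu hc => fix_W₁_U h he he1 (hT hu) hc)
    (fun x hx y hy => (Subgroup.mem_normalizer_iff.1
      ((sup_le (hT.trans D.U_nz_H) D.W₁_nz_H) hx) _).1 hy)
    (H1.inf_eq_bot_of_card_coprime hcard) hsol hcard
  rwa [inf_cent_W₁ h h.H_le', inf_eq_right.2 h.W₂_le_H] at key

/-- a `W₁`-invariant subgroup of `U` not centralizing `H` acts without fixed points, when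
`|H| = p^q`. -/
theorem IsD1.fix_T (D : IsD1 M W₁ U W₂)
    (hcH : Nat.card (fittingHallOf M) = Nat.card W₂ ^ Nat.card W₁)
    {T : Subgroup G} (hT : T ≤ U) (hTC : ¬ T ≤ CZ M U)
    (hWT : W₁ ≤ nz T) : fittingHallOf M ⊓ centralizer (T : Set G) = ⊥ := by
  have hT1 : T ≠ ⊥ := by rintro rfl; exact hTC bot_le
  have k := D.formula_T hT hT1 hWT
  set B := fittingHallOf M ⊓ centralizer ((T ⊔ W₁ : Subgroup G) : Set G) with hB
  have hBW : B ≤ W₂ := by
    have h1 : B ≤ fittingHallOf M ⊓ centralizer (W₁ : Set G) :=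
      inf_le_inf_left _ (Subgroup.centralizer_le (SetLike.coe_subset_coe.2 le_sup_right))
    rw [inf_cent_W₁ D.h D.h.H_le'] at h1
    exact h1.trans inf_le_right
  have hpos : 0 < Nat.card W₂ ^ Nat.card W₁ := pow_pos Nat.card_pos _
  rcases (Nat.dvd_prime D.hp).1 (Subgroup.card_dvd_of_le hBW) with e | e
  · rw [e, one_pow, one_mul, hcH] at k
    have k2 : Nat.card ↥(fittingHallOf M ⊓ centralizer (T : Set G)) = 1 := by
      apply Nat.eq_of_mul_eq_mul_left hpos
      rw [← k, mul_one]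
    exact Subgroup.card_eq_one.1 k2
  · exfalso
    rw [e] at k
    have k2 := Nat.eq_of_mul_eq_mul_left hpos k
    have k3 : fittingHallOf M ⊓ centralizer (T : Set G) = fittingHallOf M :=
      Subgroup.eq_of_le_of_card_ge inf_le_left k2.le
    apply hTC
    refine le_inf hT (le_cent_comm.1 ?_)
    rw [← k3]; exact inf_le_right

/-- a `W₁`-invariant linear character of `HC`, trivial on `C`, with stabilizer `HC` in `M'`. -/
theorem IsD1.exists_lam (D : IsD1 M W₁ U W₂)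
    (hcH : Nat.card (fittingHallOf M) = Nat.card W₂ ^ Nat.card W₁) :
    ∃ lam : ↥(fittingHallOf M ⊔ CZ M U) →* ℂˣ, lam ≠ 1 ∧
      (∀ c : ↥(fittingHallOf M ⊔ CZ M U), (c : G) ∈ CZ M U → lam c = 1) ∧
      (∀ w (_ : w ∈ W₁) (a b : ↥(fittingHallOf M ⊔ CZ M U)), (b : G) = w * a * w⁻¹ → lam b = lam a) ∧
      ∀ x ∈ (⁅M, M⁆ : Subgroup G), (∀ a b : ↥(fittingHallOf M ⊔ CZ M U), (b : G) = x * a * x⁻¹ →
        lam b = lam a) → x ∈ fittingHallOf M ⊔ CZ M U := by
  classical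
  set H := fittingHallOf M with hH
  set K := H ⊔ CZ M U with hK
  set N := ⁅H, W₁⁆ ⊔ CZ M U with hN
  have h := D.h
  have hHW : ⁅H, W₁⁆ ≤ H := H23.commutator_le_of_le_normalizer D.W₁_nz_H
  have hNK : N ≤ K := sup_le_sup_right hHW _
  have hKnil := D.nil_HC
  have hKsol : Group.IsSolvable ↥K := by
    have := D.nil_HC
    infer_instance
  -- `N ≠ K`
  have hCn : CZ M U ≤ nz ⁅H, W₁⁆ := by
    have : CZ M U ≤ centralizer ((⁅H, W₁⁆ : Subgroup G) : Set G) :=
      inf_le_right.trans (Subgroup.centralizer_le (SetLike.coe_subset_coe.2 hHW))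
    exact this.trans (cent_le_nz _)
  have hHWne : ⁅H, W₁⁆ ≠ H := by
    intro e
    have h1 := H23.commutator_inf_centralizer_le_derived D.W₁_nz_H h.coprime_HW₁.symm
    rw [← hH, e] at h1
    -- `C_H(W₁) = W₂ ≤ H'`; need `H' < ..`; use `HZ`
    have h2 : W₂ ≤ H ⊓ centralizer (W₁ : Set G) := by
      rw [inf_cent_W₁ h h.H_le']
      exact le_inf h.W₂_le_H le_rfl
    exact D.W₂_not_le ((h2.trans h1).trans D.derH_le)
  have hNneK : N ≠ K := by
    intro e
    have c1 := D.card_sup_of hHW (CZ_le (M := M) (U := U)) hCn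
    have c2 := D.card_sup_of le_rfl (CZ_le (M := M) (U := U)) (CZ_le.trans D.U_nz_H)
    rw [← hN, e, hK, hH, c2] at c1
    have c3 := Nat.eq_of_mul_eq_mul_right Nat.card_pos c1
    exact hHWne (Subgroup.eq_of_le_of_card_ge hHW (by rw [hH]; exact c3.le))
  have hHnz : H ≤ nz ⁅H, W₁⁆ := normalizer_commutator_ge_left _ _
  have hKnz : K ≤ nz N := by
    refine le_nz_sup (sup_le hHnz hCn) ?_
    exact sup_le D.H_nz_CZ (L.le_nz _)
  haveI hNn : (N.subgroupOf K).Normal := subgroupOf_normal hKnz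
  obtain ⟨lam, hlam, hlamN⟩ := Cfsg.Agent.H3.exists_linear hKsol hNn (by
    rw [Ne, subgroupOf_eq_top]
    intro hle
    exact hNneK (le_antisymm hNK hle))
  have hKM : W₁ ≤ nz K := h.W₁_le.trans D.M_nz_HC
  have lamN : ∀ a : ↥K, (a : G) ∈ N → lam a = 1 := fun a ha => hlamN a ha
  have lamH : ∀ w ∈ W₁, ∀ (a b : ↥K), (b : G) = w * a * w⁻¹ → lam b = lam a := by
    intro w hw a b e
    have hex : ∃ x ∈ H, ∃ c ∈ CZ M U, (a : G) = x * c :=
      mem_sup_of_nz (CZ_le.trans D.U_nz_H) a.2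
    obtain ⟨x, hx, c, hc, ea⟩ := hex
    have hd : (a⁻¹ * b : ↥K) ∈ N.subgroupOf K := by
      rw [mem_subgroupOf]
      show (a : G)⁻¹ * b ∈ N
      have hwc : w * c * w⁻¹ ∈ CZ M U := H23.mem_normalizer_conj (h.W₁_le.trans D.M_nz_CZ) hw hc
      have hx2 : x⁻¹ * (w * x * w⁻¹) ∈ ⁅H, W₁⁆ := by
        have : x⁻¹ * (w * x * w⁻¹) = ⁅x⁻¹, w⁆ := by rw [commutatorElement_def]; group
        rw [this]
        exact commutator_mem_commutator (inv_mem hx) hw
      have e2 : (a : G)⁻¹ * b = c⁻¹ * (x⁻¹ * (w * x * w⁻¹)) * (w * c * w⁻¹) := by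
        rw [e, ea]; group
      rw [e2]
      exact mul_mem (mul_mem (mem_sup_right (inv_mem hc)) (mem_sup_left hx2)) (mem_sup_right hwc)
    have h3 := hlamN _ hd
    rw [map_mul, map_inv, inv_mul_eq_one] at h3
    exact h3.symm
  refine ⟨lam, hlam, fun c hc => lamN c (mem_sup_right hc), fun w hw a b => lamH w hw a b, ?_⟩
  -- the stabilizer
  have hHK : H ≤ K := le_sup_left
  have hUK : U ≤ nz K := h.U_le.trans D.M_nz_HC
  let T : Subgroup G :=
    { carrier := {x | x ∈ U ∧ ∀ a b : ↥K, (b : G) = x * a * x⁻¹ → lam b = lam a}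
      one_mem' := ⟨one_mem _, fun a b e => by
        have : b = a := Subtype.ext (by simpa using e)
        rw [this]⟩
      mul_mem' := by
        rintro x y ⟨hx, hx'⟩ ⟨hy, hy'⟩
        refine ⟨mul_mem hx hy, fun a b e => ?_⟩
        have hm : y * (a : G) * y⁻¹ ∈ K := H23.mem_normalizer_conj hUK hy a.2
        rw [← hy' a ⟨_, hm⟩ rfl]
        apply hx'
        rw [e]; simp [mul_assoc]
      inv_mem' := by
        rintro x ⟨hx, hx'⟩
        refine ⟨inv_mem hx, fun a b e => ?_⟩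
        refine (hx' b a ?_).symm
        rw [e]; group }
  have hTU : T ≤ U := fun x hx => hx.1
  have hWT : W₁ ≤ nz T := by
    refine H23.le_normalizer_of_conj_mem fun w hw x hx => ?_
    refine ⟨H23.mem_normalizer_conj h.U_normal hw hx.1, fun a b e => ?_⟩
    have hm1 : w⁻¹ * (a : G) * w ∈ K := by
      have := H23.mem_normalizer_conj hKM (inv_mem hw) a.2
      simpa using this
    have hm2 : x * (w⁻¹ * (a : G) * w) * x⁻¹ ∈ K := H23.mem_normalizer_conj hUK hx.1 hm1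
    have e1 : lam a = lam ⟨_, hm1⟩ := lamH w hw ⟨_, hm1⟩ a (by simp [mul_assoc])
    have e2 : lam ⟨_, hm2⟩ = lam ⟨_, hm1⟩ := hx.2 _ _ rfl
    have e3 : lam b = lam ⟨_, hm2⟩ := lamH w hw ⟨_, hm2⟩ b (by rw [e]; simp [mul_assoc])
    rw [e3, e2, e1]
  have hTC : T ≤ CZ M U := by
    by_contra hcon
    have hfix := D.fix_T hcH hTU hcon hWT
    have h2 := H23.commutator_sup_centralizer (hTU.trans D.U_nz_H)
      (Nat.Coprime.coprime_dvd_left (Subgroup.card_dvd_of_le hTU) h.coprime_HU.symm)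
      (Or.inr (by have := fhOf_nilpotent M; infer_instance))
    rw [hfix, sup_bot_eq] at h2
    apply hlam
    -- `lam` is trivial on `[H, T] = H` and on `C`
    have h3 : ∀ a : ↥K, (a : G) ∈ H → lam a = 1 := by
      have h4 : H ≤ (lam.ker).map K.subtype := by
        rw [hH, ← h2, commutator_le]
        intro x hx t ht
        have hxK : x ∈ K := hHK hx
        have hm : t * x⁻¹ * t⁻¹ ∈ K := H23.mem_normalizer_conj hUK (hTU ht) (inv_mem hxK)
        refine ⟨⟨x, hxK⟩ * ⟨_, hm⟩, ?_, ?_⟩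
        · show lam _ = 1
          rw [map_mul, ht.2 (⟨x, hxK⟩⁻¹) ⟨_, hm⟩ rfl, map_inv, mul_inv_cancel]
        · show x * (t * x⁻¹ * t⁻¹) = ⁅x, t⁆
          rw [commutatorElement_def]; group
      intro a ha
      obtain ⟨b, hb, e⟩ := h4 ha
      have : b = a := Subtype.ext e
      rw [← this]; exact hb
    ext a
    have hex : ∃ x ∈ H, ∃ c ∈ CZ M U, (a : G) = x * c :=
      mem_sup_of_nz (CZ_le.trans D.U_nz_H) a.2
    obtain ⟨x, hx, c, hc, ea⟩ := hex
    have e1 : a = ⟨x, hHK hx⟩ * ⟨c, (le_sup_right : CZ M U ≤ K) hc⟩ := Subtype.ext ea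
    rw [e1, map_mul, h3 _ hx, lamN _ (mem_sup_right hc)]
    simp
  intro x hx hst
  rw [← D.M'_eq] at hx
  obtain ⟨y, hy, u, hu, rfl⟩ := mem_sup_of_nz D.U_nz_H hx
  have hyK : y ∈ K := hHK hy
  have huT : u ∈ T := by
    refine ⟨hu, fun a b e => ?_⟩
    have hm : y * (b : G) * y⁻¹ ∈ K := mul_mem (mul_mem hyK b.2) (inv_mem hyK)
    have e1 := hst a ⟨_, hm⟩ (by simp only; rw [e]; group)
    have e2 : (⟨_, hm⟩ : ↥K) = ⟨y, hyK⟩ * b * ⟨y, hyK⟩⁻¹ := rfl
    rw [e2, map_mul, map_mul, map_inv, mul_comm (lam ⟨y, hyK⟩), mul_inv_cancel_right] at e1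
    exact e1
  exact mul_mem hyK (mem_sup_right (hTC huT))

end grp

end Cfsg.Agent.PF
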