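import Cfsg.Agent.PF.SecD7

set_option autoImplicit false
set_option linter.all false

/-! PF section 11: the degree of the `θ_j` is `u = |U : C|`, part 2.  (helper22) -/

namespace Cfsg.Agent.PF

open Subgroup
open Cfsg.Agent.L (nz SylIn)
open Cfsg.Agent.H21
open Cfsg.Agent.H3
open scoped Pointwise commutatorElement

universe u
variable {G : Type u} [Group G]

variable [Fintype G] {M W₁ U W₂ : Subgroup G} [Fintype ↥M] {η : Lin W₁ W₂ → G → ℂ}
    {μ : Lin W₁ W₂ → ↥M → ℂ} {δ : Lin W₁ W₂ → ℤ}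

theorem mem_K_iff {x : ↥M} : x ∈ commutator ↥M ↔ (x : G) ∈ (⁅M, M⁆ : Subgroup G) := by
  rw [commutator_subOf, mem_subgroupOf]

namespace IsD2

theorem D3 (D : IsD2 M W₁ U W₂ η μ δ) : IsD3 M W₁ U W₂ := ⟨D.D1, D.commHU⟩

/-- there is a `θ_j`, `j ≠ 0`, of degree `u` with `C` in the kernel. -/
theorem exists_psi (D : IsD2 M W₁ U W₂ η μ δ) :
    ∃ ψ, IsJ W₁ W₂ ψ ∧ ψ ≠ 1 ∧ μ ψ 1 = ((CZ M U).relIndex U : ℂ) := by
  classical
  obtain ⟨lam, hlam, hlamC, hlamW, hlamS⟩ := D.D1.exists_lam D.D3.struct.2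
  haveI hKM : ((fittingHallOf M ⊔ CZ M U).subgroupOf M).Normal := subgroupOf_normal D.D1.M_nz_HC
  have hM' : (⁅M, M⁆ : Subgroup G) ≤ M := commutator_le_self M
  let B : Subgroup ↥(commutator ↥M) := ((fittingHallOf M ⊔ CZ M U).subgroupOf M).subgroupOf (commutator ↥M)
  haveI hB : B.Normal := inferInstance
  let β : B →* ↥(fittingHallOf M ⊔ CZ M U) :=
    { toFun := fun b => ⟨(((b : ↥(commutator ↥M)) : ↥M) : G), b.2⟩
      map_one' := rfl
      map_mul' := fun a b => rfl }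
  let φ : B →* ℂˣ := lam.comp β
  haveI : Fintype ↥(commutator ↥M) := Fintype.ofFinite _
  haveI : Fintype B := Fintype.ofFinite _
  have hidx : B.index = (CZ M U).relIndex U := by
    show ((fittingHallOf M ⊔ CZ M U).subgroupOf M).relIndex (commutator ↥M) = _
    rw [commutator_subOf, relIndex_subOf hM', ← index_HC D.D1]
  have hin : inertia hB (hf φ) ≤ B := by
    intro x hx
    rw [mem_inertia'] at hx
    have hxM : ((x : ↥M) : G) ∈ (⁅M, M⁆ : Subgroup G) := mem_K_iff.1 x.2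
    refine hlamS _ hxM fun a b e => ?_
    have haM : (a : G) ∈ (⁅M, M⁆ : Subgroup G) := D.D1.HC_le a.2
    have h1 := hx ⟨⟨⟨(a : G), hM' haM⟩, mem_K_iff.2 haM⟩, a.2⟩
    rw [hf_apply, hf_apply] at h1
    have h2 := Units.ext h1
    have e1 : b = β ⟨x * ⟨⟨(a : G), hM' haM⟩, mem_K_iff.2 haM⟩ * x⁻¹, by
      exact hB.conj_mem _ a.2 x⟩ := Subtype.ext e
    have e2 : a = β ⟨⟨⟨(a : G), hM' haM⟩, mem_K_iff.2 haM⟩, a.2⟩ := Subtype.ext rfl
    rw [e1]
    conv_rhs => rw [e2]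
    exact h2
  have hirr := isIrr_ind_of_inertia_eq hB (isIrr_hf φ) hin
  set θ := indFun B (hf φ) with hθ
  have hθ1 : θ 1 = ((CZ M U).relIndex U : ℂ) := by
    rw [hθ, indFun_one_apply, hf_at_one, mul_one, hidx]
  have hKn : (commutator ↥M).Normal := inferInstance
  -- `θ` is invariant under `W₁`
  have hinv : ∀ w : ↥M, (w : G) ∈ W₁ → w ∈ inertia hKn θ := by
    intro w hw
    rw [mem_inertia]
    ext p
    rw [H3.cj_apply]
    let α : ↥(commutator ↥M) → ↥(commutator ↥M) := fun x => ⟨w * x * w⁻¹, hKn.conj_mem x x.2 w⟩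
    have hα : Function.Bijective α := by
      rw [Fintype.bijective_iff_injective_and_card]
      refine ⟨?_, rfl⟩
      intro x y h
      have h1 : w * (x : ↥M) * w⁻¹ = w * y * w⁻¹ := congrArg Subtype.val h
      exact Subtype.ext (mul_left_cancel (mul_right_cancel h1))
    have hext : ∀ z, extendByZero B (hf φ) (α z) = extendByZero B (hf φ) z := by
      intro z
      by_cases hz : z ∈ B
      · have hz' : α z ∈ B := by
          show w * (z : ↥M) * w⁻¹ ∈ (fittingHallOf M ⊔ CZ M U).subgroupOf M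
          exact hKM.conj_mem _ hz w
        rw [extendByZero_mem _ _ hz, extendByZero_mem _ _ hz', hf_apply, hf_apply]
        congr 1
        exact hlamW w hw (β ⟨z, hz⟩) (β ⟨α z, hz'⟩) rfl
      · have hz' : α z ∉ B := by
          intro h
          apply hz
          have h1 : w⁻¹ * (w * (z : ↥M) * w⁻¹) * w⁻¹⁻¹ ∈ (fittingHallOf M ⊔ CZ M U).subgroupOf M := hKM.conj_mem _ h w⁻¹
          have h2 : w⁻¹ * (w * (z : ↥M) * w⁻¹) * w⁻¹⁻¹ = z := by group
          rw [h2] at h1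
          exact h1
        rw [extendByZero_not_mem _ _ hz, extendByZero_not_mem _ _ hz']
    rw [hθ]
    unfold indFun
    congr 1
    have h3 : (⟨w * p * w⁻¹, hKn.conj_mem p p.2 w⟩ : ↥(commutator ↥M)) = α p := rfl
    rw [h3]
    symm
    refine Fintype.sum_bijective α hα _ _ fun y => ?_
    rw [← hext]
    congr 1
    apply Subtype.ext
    show w * ((y : ↥M)⁻¹ * p * y) * w⁻¹ = (w * y * w⁻¹)⁻¹ * (w * p * w⁻¹) * (w * y * w⁻¹)
    group
  rcases D.F.dich θ hirr with ⟨ψ, hψ, e⟩ | ⟨h1, -⟩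
  · refine ⟨ψ, hψ, ?_, ?_⟩
    · rintro rfl
      have h2 := congrFun e 1
      rw [hθ1, D.F.mu_one] at h2
      simp only at h2
      have h3 : (CZ M U).relIndex U = 1 := by exact_mod_cast h2
      have := u_gt D.D1
      omega
    · rw [← hθ1, e]; rfl
  · exfalso
    have h2 := card_inertia_eq_norm hKn hirr
    rw [classInner_self_of_irr h1, mul_one] at h2
    have h3 : Nat.card (inertia hKn θ) = Nat.card (commutator ↥M) := by exact_mod_cast h2.symm
    have h4 : inertia hKn θ = commutator ↥M :=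
      (Subgroup.eq_of_le_of_card_ge (le_inertia hKn (irr_classFun hirr)) h3.le).symm
    obtain ⟨w, hw, hw1⟩ := exists_ne_one D.F.hP.W₁_ne
    have h5 : (⟨w, D.F.hP.W₁_le hw⟩ : ↥M) ∈ commutator ↥M := by
      rw [← h4]; exact hinv _ hw
    have h6 : w ∈ (⁅M, M⁆ : Subgroup G) ⊓ W₁ := ⟨mem_K_iff.1 h5, hw⟩
    rw [D.F.hP.W₁_compl.2.2.1, Subgroup.mem_bot] at h6
    exact hw1 h6

end IsD2

end Cfsg.Agent.PF
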