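import Cfsg.Agent.PF.SecD8
import Cfsg.Agent.PF.BBC

set_option autoImplicit false
set_option linter.all false

/-! PF section 11: (11.8) arithmetic part.  (helper22) -/

namespace Cfsg.Agent.PF

open Subgroup ComplexConjugate
open Cfsg.Agent.L (nz SylIn)
open Cfsg.Agent.H21
open Cfsg.Agent.H3
open scoped Pointwise commutatorElement

universe u
variable {G : Type u} [Group G]

variable [Fintype G] {M W₁ U W₂ : Subgroup G} [Fintype ↥M] {η : Lin W₁ W₂ → G → ℂ}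
    {μ : Lin W₁ W₂ → ↥M → ℂ} {δ : Lin W₁ W₂ → ℤ}

/-- `u = |U : C|` -/
noncomputable def uu (M U : Subgroup G) : ℕ := (CZ M U).relIndex U

theorem not_isI_of_isJ {W₁ W₂ : Subgroup G} {ψ : Lin W₁ W₂} (h : IsJ W₁ W₂ ψ) (h1 : ψ ≠ 1) :
    ¬ IsI W₁ W₂ ψ := by
  intro hI
  apply h1
  ext w
  have hle : (⊤ : Subgroup ↥(W₁ ⊔ W₂)) ≤ ψ.ker := by
    have e1 : (⊤ : Subgroup ↥(W₁ ⊔ W₂)) = (W₁.subgroupOf (W₁ ⊔ W₂)) ⊔ (W₂.subgroupOf (W₁ ⊔ W₂)) := by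
      rw [← Subgroup.subgroupOf_sup le_sup_left le_sup_right, subgroupOf_self]
    rw [e1]
    exact sup_le (fun x hx => h x hx) (fun x hx => hI x hx)
  have := hle (Subgroup.mem_top w)
  rw [MonoidHom.mem_ker] at this
  rw [this]; rfl

namespace IsD2

theorem typ (D : IsD2 M W₁ U W₂ η μ δ) : Typ345 M := D.ty'

theorem exists_idxJ (D : IsD2 M W₁ U W₂ η μ δ) : ∃ ψ, IsJ W₁ W₂ ψ ∧ ψ ≠ 1 := by
  obtain ⟨ψ, h1, h2, -⟩ := D.exists_psi
  exact ⟨ψ, h1, h2⟩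

theorem exists_ten' (D : IsD2 M W₁ U W₂ η μ δ) :
    ∃ n : ℤ, IsTen M W₁ U W₂ η μ δ (uu M U) 1 n := by
  obtain ⟨d, e, n, T⟩ := Cfsg.Agent.PF.exists_ten D.F D.typ
  obtain ⟨ψ, h1, h2, h3⟩ := D.exists_psi
  have h4 := T.mu_one ψ (not_isI_of_isJ h1 h2)
  rw [h3] at h4
  have h5 : uu M U = d := by exact_mod_cast h4
  have hum : uu M U ≡ 1 [MOD 2 * Nat.card W₁] := by
    refine D.D1.relIndex_mod CZ_le D.D1.h.U_le' (D.D1.h.W₁_le.trans D.D1.M_nz_CZ) D.D1.h.U_normal ?_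
    have h6 : U ⊓ W₂ = ⊥ := by
      rw [eq_bot_iff, ← D.D1.h.U_compl.2.2.1]
      exact le_inf (inf_le_right.trans D.D1.h.W₂_le_H) inf_le_left
    rw [h6, eq_bot_iff, ← h6]
    exact inf_le_inf_right _ CZ_le
  rcases T.sign with he | he
  · subst he; subst h5; exact ⟨n, T⟩
  · exfalso
    have h6 := T.hn
    rw [← h5, he] at h6
    have hq := D.D1.hq
    have hq3 : 3 ≤ Nat.card W₁ := by
      have := hq.two_le
      rcases D.D1.q_odd with ⟨k, hk⟩; omega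
    have h7 : (uu M U : ℤ) ≡ 1 [ZMOD (2 * Nat.card W₁ : ℕ)] := by
      exact_mod_cast (Int.natCast_modEq_iff.2 hum)
    rw [Int.modEq_iff_dvd] at h7
    obtain ⟨k, hk⟩ := h7
    push_cast at hk
    have h8 : (Nat.card W₁ : ℤ) ∣ 2 := by
      refine ⟨n + 2 * k, ?_⟩
      linarith
    have h9 := Int.le_of_dvd (by norm_num) h8
    omega

/-- `X = S(M'')` has `n` elements. -/
theorem card_X (D : IsD2 M W₁ U W₂ η μ δ) {n : ℤ} (T : IsTen M W₁ U W₂ η μ δ (uu M U) 1 n)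
    {X : Finset (↥M → ℂ)} (hc : X.card = (S2 M).ncard) : (X.card : ℤ) = n := by
  have h1 := D.F.S2_card
  rw [D.der_subOf, commutator_subOf, relIndex_subOf (commutator_le_self M), D.M''_eq,
    index_HC D.D1, ← hc] at h1
  have h2 := T.hn
  have h3 : ((X.card * Nat.card W₁ + 1 : ℕ) : ℤ) = uu M U := by exact_mod_cast h1
  push_cast at h3
  have hq : (Nat.card W₁ : ℤ) ≠ 0 := by exact_mod_cast Nat.card_pos.ne'
  apply mul_right_cancel₀ hq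
  rw [h2]; linarith

/-- a sum over the indices `i` of an even function with value `0` at `1` is even. -/
theorem even_sum (D : IsD2 M W₁ U W₂ η μ δ) (r : Lin W₁ W₂ → ℤ) (h1 : r 1 = 0)
    (hinv : ∀ φ, IsI W₁ W₂ φ → r φ⁻¹ = r φ) : Even (∑ φ ∈ idxI W₁ W₂, r φ) := by
  classical
  rw [← ZMod.intCast_eq_zero_iff_even]
  push_cast
  refine Finset.sum_involution (fun φ _ => φ⁻¹) ?_ ?_ ?_ ?_
  · intro φ hφ
    rw [mem_idxI] at hφ
    rw [hinv φ hφ]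
    exact CharTwo.add_self_eq_zero _
  · intro φ hφ hne
    apply inv_ne_self_lin D.F.oddW
    rintro rfl
    rw [h1] at hne
    exact hne (by simp)
  · intro φ hφ
    rw [mem_idxI] at hφ ⊢
    exact hφ.inv
  · intro φ hφ; exact inv_inv φ

theorem q_ge (D : IsD2 M W₁ U W₂ η μ δ) : 3 ≤ Nat.card W₁ := by
  have := D.D1.hq.two_le
  rcases D.D1.q_odd with ⟨k, hk⟩; omega

theorem p_ge (D : IsD2 M W₁ U W₂ η μ δ) : 3 ≤ Nat.card W₂ := by
  have := D.hp.two_le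
  rcases D.D1.p_odd with ⟨k, hk⟩; omega

theorem one_mem_idxI : (1 : Lin W₁ W₂) ∈ idxI W₁ W₂ := mem_idxI.2 IsI.one

/-- the arithmetic of (11.8) -/
theorem arith8 (D : IsD2 M W₁ U W₂ η μ δ) {n a c : ℤ} {r : Lin W₁ W₂ → ℤ} (hn : 2 ≤ n)
    (h1 : r 1 = 0) (hinv : ∀ φ, IsI W₁ W₂ φ → r φ⁻¹ = r φ)
    (hsum : ∑ φ ∈ idxI W₁ W₂, r φ = a)
    (hb : n * a ^ 2 + ∑ φ ∈ idxI W₁ W₂, (r φ ^ 2 + ((Nat.card W₂ : ℤ) - 1) * (r φ + c) ^ 2) ≤
      2 * n * a - 2 * c) : a = 0 ∧ c = 0 := by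
  classical
  have hp : (3 : ℤ) ≤ Nat.card W₂ := by exact_mod_cast D.p_ge
  set P : ℤ := (Nat.card W₂ : ℤ) - 1 with hP
  have hP2 : 2 ≤ P := by omega
  have hev : Even a := by rw [← hsum]; exact D.even_sum r h1 hinv
  have hsplit : ∑ φ ∈ idxI W₁ W₂, (r φ ^ 2 + P * (r φ + c) ^ 2) =
      P * c ^ 2 + ∑ φ ∈ (idxI W₁ W₂).erase 1, (r φ ^ 2 + P * (r φ + c) ^ 2) := by
    rw [← Finset.add_sum_erase _ _ one_mem_idxI, h1]; ring
  rw [hsplit] at hb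
  set S := ∑ φ ∈ (idxI W₁ W₂).erase 1, (r φ ^ 2 + P * (r φ + c) ^ 2) with hS
  have hterm : ∀ φ, 0 ≤ r φ ^ 2 + P * (r φ + c) ^ 2 := fun φ => by positivity
  have hS0 : 0 ≤ S := Finset.sum_nonneg fun φ _ => hterm φ
  have hc0 : 0 ≤ P * c ^ 2 + 2 * c := by
    have : 2 * c ^ 2 + 2 * c ≥ 0 := by nlinarith [sq_nonneg (2 * c + 1)]
    nlinarith [sq_nonneg c]
  have ha : a = 0 ∨ a = 2 := by
    have h2 : n * (a ^ 2 - 2 * a) ≤ 0 := by nlinarith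
    have h3 : a ^ 2 - 2 * a ≤ 0 := by
      by_contra hcon
      push Not at hcon
      have : 0 < n * (a ^ 2 - 2 * a) := Int.mul_pos (by omega) hcon
      omega
    have h4 : 0 ≤ a := by nlinarith
    have h5 : a ≤ 2 := by nlinarith
    obtain ⟨k, hk⟩ := hev
    omega
  -- the other terms
  have hne : ((idxI W₁ W₂).erase 1).Nonempty := by
    rw [← Finset.card_pos, Finset.card_erase_of_mem one_mem_idxI, card_idxI D.F.hW]
    have := D.q_ge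
    omega
  have hres : P * c ^ 2 + 2 * c + S ≤ 0 := by
    rcases ha with h | h
    · rw [h] at hb; linarith
    · rw [h] at hb; nlinarith
  have hSle : S = 0 := by linarith
  have hall : ∀ φ ∈ (idxI W₁ W₂).erase 1, r φ ^ 2 + P * (r φ + c) ^ 2 = 0 :=
    (Finset.sum_eq_zero_iff_of_nonneg fun φ _ => hterm φ).1 hSle
  obtain ⟨φ₀, hφ₀⟩ := hne
  have hr0 : ∀ φ ∈ (idxI W₁ W₂).erase 1, r φ = 0 := by
    intro φ hφ
    have h2 := hall φ hφ
    have h3 : 0 ≤ P * (r φ + c) ^ 2 := by positivity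
    have h4 : r φ ^ 2 = 0 := by nlinarith [sq_nonneg (r φ)]
    exact pow_eq_zero_iff (two_ne_zero) |>.1 h4
  have hc : c = 0 := by
    have h2 := hall φ₀ hφ₀
    rw [hr0 φ₀ hφ₀] at h2
    have h3 : c ^ 2 = 0 := by nlinarith [sq_nonneg c]
    exact pow_eq_zero_iff (two_ne_zero) |>.1 h3
  refine ⟨?_, hc⟩
  rw [← hsum, ← Finset.add_sum_erase _ _ one_mem_idxI, h1, Finset.sum_eq_zero hr0]; rfl

end IsD2

end Cfsg.Agent.PF
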