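import Cfsg.Agent.PF.TypesW
import Cfsg.Agent.PF.SuppW
import Cfsg.Agent.PF.Rows

/-! The lemmas on types are in `TypesW`, the printed rows S1380, S1385, S1391, S1540 in `Rows`,
S1537, S1538 in `SuppW`. -/
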